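import Mathlib

set_option autoImplicit false

namespace Groth.Agent.Lib.Helper95.DispLift

open Finset

section WittFrob

variable (p : ℕ) [hp : Fact p.Prime] {S : Type*} [CommRing S]

lemma constantCoeff_frobeniusPolyAux (n : ℕ) :
    MvPolynomial.constantCoeff (WittVector.frobeniusPolyAux p n) = 0 := by
  have h1 : MvPolynomial.aeval (0 : WittVector p ℤ).coeff (WittVector.frobeniusPoly p n) = 0 := by
    rw [← WittVector.coeff_frobenius, map_zero, WittVector.zero_coeff]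
  have h2 : (0 : WittVector p ℤ).coeff = 0 := by ext i; simp
  rw [h2, MvPolynomial.aeval_zero, WittVector.frobeniusPoly] at h1
  simpa [zero_pow hp.out.ne_zero, hp.out.ne_zero] using h1

lemma aeval_mem_of_constantCoeff_eq_zero {σ : Type*} (q : MvPolynomial σ ℤ)
    (hq : MvPolynomial.constantCoeff q = 0) (I : Ideal S) (x : σ → S) (hx : ∀ i, x i ∈ I) :
    MvPolynomial.aeval x q ∈ I := by
  rw [← Ideal.Quotient.eq_zero_iff_mem]
  have h1 := MvPolynomial.comp_aeval_apply (f := x) (Ideal.Quotient.mk I).toIntAlgHom q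
  have h2 : (fun i => (Ideal.Quotient.mk I).toIntAlgHom (x i)) = (0 : σ → S ⧸ I) := by
    ext i
    exact Ideal.Quotient.eq_zero_iff_mem.mpr (hx i)
  rw [h2, MvPolynomial.aeval_zero, hq, map_zero] at h1
  exact h1

lemma coeff_frobenius_eq (I : Ideal S) (x : WittVector p S) (hx : ∀ n, x.coeff n ∈ I) (n : ℕ) :
    ∃ g ∈ I, (WittVector.frobenius x).coeff n = x.coeff n ^ p + (p : S) * g := by
  refine ⟨MvPolynomial.aeval x.coeff (WittVector.frobeniusPolyAux p n),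
    aeval_mem_of_constantCoeff_eq_zero _ (constantCoeff_frobeniusPolyAux p n) I _ hx, ?_⟩
  rw [WittVector.coeff_frobenius, WittVector.frobeniusPoly]
  simp

lemma frobenius_coeff_mem (I : Ideal S) (x : WittVector p S) (hx : ∀ n, x.coeff n ∈ I) (n : ℕ) :
    (WittVector.frobenius x).coeff n ∈ I := by
  obtain ⟨g, hg, h⟩ := coeff_frobenius_eq p I x hx n
  rw [h]
  exact I.add_mem (I.pow_mem_of_mem (hx n) p hp.out.pos) (I.mul_mem_left _ hg)

lemma iterate_frobenius_coeff_mem (I : Ideal S) (k : ℕ) (x : WittVector p S)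
    (hx : ∀ n, x.coeff n ∈ I) (n : ℕ) : (WittVector.frobenius^[k] x).coeff n ∈ I := by
  induction k generalizing n with
  | zero => exact hx n
  | succ k ih =>
    rw [Function.iterate_succ_apply']
    exact frobenius_coeff_mem p I _ ih n

lemma iterate_frobenius_coeff_sub (k : ℕ) (x : WittVector p S) (n : ℕ) :
    (p : S) ∣ (WittVector.frobenius^[k] x).coeff n - x.coeff n ^ p ^ k := by
  induction k generalizing n with
  | zero => simp
  | succ k ih =>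
    rw [Function.iterate_succ_apply']
    obtain ⟨g, -, h⟩ := coeff_frobenius_eq p ⊤ (WittVector.frobenius^[k] x) (fun _ => trivial) n
    rw [h, pow_succ, pow_mul]
    have h1 := sub_dvd_pow_sub_pow ((WittVector.frobenius^[k] x).coeff n) (x.coeff n ^ p ^ k) p
    have h2 := (ih n).trans h1
    have e : (WittVector.frobenius^[k] x).coeff n ^ p + (p : S) * g - (x.coeff n ^ p ^ k) ^ p =
        ((WittVector.frobenius^[k] x).coeff n ^ p - (x.coeff n ^ p ^ k) ^ p) + (p : S) * g := by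
      ring
    rw [e]
    exact dvd_add h2 (dvd_mul_right _ _)

lemma frobenius_step (𝔞 : Ideal S) (j : ℕ) (hj : 1 ≤ j) (x : WittVector p S)
    (hx : ∀ n, x.coeff n ∈ 𝔞 ⊓ Ideal.span {(p : S) ^ j}) (n : ℕ) :
    (WittVector.frobenius x).coeff n ∈ 𝔞 ⊓ Ideal.span {(p : S) ^ (j + 1)} := by
  obtain ⟨g, hg, h⟩ := coeff_frobenius_eq p _ x hx n
  rw [h]
  obtain ⟨hxa, hxb⟩ := Ideal.mem_inf.mp (hx n)
  obtain ⟨hga, hgb⟩ := Ideal.mem_inf.mp hg
  refine Ideal.add_mem _ (Ideal.mem_inf.mpr ⟨?_, ?_⟩) (Ideal.mem_inf.mpr ⟨?_, ?_⟩)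
  · exact 𝔞.pow_mem_of_mem hxa p hp.out.pos
  · have h1 := hxb
    rw [Ideal.mem_span_singleton] at h1 ⊢
    have h2 : (p : S) ^ (j + 1) ∣ ((p : S) ^ j) ^ p := by
      rw [← pow_mul]
      apply pow_dvd_pow
      have := hp.out.two_le
      nlinarith
    exact h2.trans (pow_dvd_pow_of_dvd h1 p)
  · exact 𝔞.mul_mem_left _ hga
  · have h1 := hgb
    rw [Ideal.mem_span_singleton] at h1 ⊢
    rw [pow_succ']
    exact mul_dvd_mul_left _ h1

lemma iterate_frobenius_step (𝔞 : Ideal S) (m : ℕ) (x : WittVector p S)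
    (hx : ∀ n, x.coeff n ∈ 𝔞 ⊓ Ideal.span {(p : S) ^ 1}) (n : ℕ) :
    (WittVector.frobenius^[m] x).coeff n ∈ 𝔞 ⊓ Ideal.span {(p : S) ^ (m + 1)} := by
  induction m generalizing n with
  | zero => exact hx n
  | succ m ih =>
    rw [Function.iterate_succ_apply']
    exact frobenius_step p 𝔞 (m + 1) (by omega) _ ih n

theorem frobenius_iterate_eq_zero {R : Type*} [CommRing R] (φ : S →+* R)
    (hpn : IsNilpotent (p : S)) (N : ℕ) (hN : ∀ a : S, φ a = 0 → a ^ N = 0) :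
    ∃ K, ∀ x : WittVector p S, WittVector.map φ x = 0 → WittVector.frobenius^[K] x = 0 := by
  obtain ⟨M, hM⟩ := hpn
  obtain ⟨k, hk⟩ : ∃ k, N ≤ p ^ k := ⟨N, (Nat.lt_pow_self hp.out.one_lt).le⟩
  refine ⟨k + M, fun x hx => ?_⟩
  have hx' : ∀ n, x.coeff n ∈ RingHom.ker φ := by
    intro n
    have := congrArg (fun y => y.coeff n) hx
    simpa [WittVector.map_coeff] using this
  have h1 : ∀ n, (WittVector.frobenius^[k] x).coeff n ∈
      RingHom.ker φ ⊓ Ideal.span {(p : S) ^ 1} := by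
    intro n
    refine Ideal.mem_inf.mpr ⟨iterate_frobenius_coeff_mem p _ k x hx' n, ?_⟩
    rw [pow_one, Ideal.mem_span_singleton]
    have h2 := iterate_frobenius_coeff_sub p k x n
    have h3 : x.coeff n ^ p ^ k = 0 := by
      have := hN _ (hx' n)
      rw [← Nat.sub_add_cancel hk, pow_add, this, mul_zero]
    rwa [h3, sub_zero] at h2
  have h4 := iterate_frobenius_step p (RingHom.ker φ) M _ h1
  rw [add_comm k M, Function.iterate_add_apply]
  ext n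
  rw [WittVector.zero_coeff]
  have h5 := (Ideal.mem_inf.mp (h4 n)).2
  rw [Ideal.mem_span_singleton, pow_succ, hM, zero_mul] at h5
  exact zero_dvd_iff.mp h5

end WittFrob


section Abstract

variable {A : Type*} [CommRing A] (σ : A →+* A)
  {P₁ P₂ : Type*} [AddCommGroup P₁] [Module A P₁] [AddCommGroup P₂] [Module A P₂]
  {ι : Type*} (B : Module.Basis ι A P₁) (b : ι → P₁)
  (F₁ : P₁ →ₛₗ[σ] P₁) (F₂ : P₂ →ₛₗ[σ] P₂)

noncomputable def UU : (P₁ →ₗ[A] P₂) →+ (P₁ →ₗ[A] P₂) where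
  toFun ψ := B.constr A (fun i => F₂ (ψ (b i)))
  map_zero' := by
    apply B.ext
    intro i
    simp
  map_add' ψ ψ' := by
    apply B.ext
    intro i
    simp

lemma UU_basis (ψ : P₁ →ₗ[A] P₂) (i : ι) : UU σ B b F₂ ψ (B i) = F₂ (ψ (b i)) := by
  simp [UU]

lemma UU_apply (bb : Module.Basis ι A P₁) (hB : ∀ i, B i = F₁ (bb i)) (ψ : P₁ →ₗ[A] P₂) (x : P₁) :
    UU σ B bb F₂ ψ (F₁ x) = F₂ (ψ x) := by
  have h : (UU σ B bb F₂ ψ).comp F₁ = F₂.comp ψ := by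
    apply bb.ext
    intro i
    simp only [LinearMap.comp_apply]
    rw [← hB, UU_basis]
  exact LinearMap.congr_fun h x

lemma semilinear_mem (𝔡 𝔡' : Ideal A) (h : ∀ d ∈ 𝔡, σ d ∈ 𝔡') (y : P₂)
    (hy : y ∈ 𝔡 • (⊤ : Submodule A P₂)) : F₂ y ∈ 𝔡' • (⊤ : Submodule A P₂) := by
  refine Submodule.smul_induction_on hy ?_ ?_
  · intro d hd m _
    rw [map_smulₛₗ]
    exact Submodule.smul_mem_smul (h d hd) Submodule.mem_top
  · intro x y hx hy
    rw [map_add]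
    exact Submodule.add_mem _ hx hy

lemma UU_values (𝔡 𝔡' : Ideal A) (h : ∀ d ∈ 𝔡, σ d ∈ 𝔡') (ψ : P₁ →ₗ[A] P₂)
    (hψ : ∀ x, ψ x ∈ 𝔡 • (⊤ : Submodule A P₂)) (x : P₁) :
    UU σ B b F₂ ψ x ∈ 𝔡' • (⊤ : Submodule A P₂) := by
  rw [← B.linearCombination_repr x, Finsupp.linearCombination_apply, Finsupp.sum, map_sum]
  refine Submodule.sum_mem _ fun i _ => ?_
  rw [map_smul, UU_basis]
  exact Submodule.smul_mem _ _ (semilinear_mem σ F₂ 𝔡 𝔡' h _ (hψ _))

lemma UU_iterate_eq_zero (𝔠 : Ideal A) (h𝔠F : ∀ x ∈ 𝔠, σ x ∈ 𝔠) (m : ℕ) (ψ : P₁ →ₗ[A] P₂)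
    (hψ : ∀ x, ψ x ∈ (𝔠 ⊓ RingHom.ker (σ ^ m)) • (⊤ : Submodule A P₂)) :
    (UU σ B b F₂)^[m] ψ = 0 := by
  induction m generalizing ψ with
  | zero =>
    have h0 : 𝔠 ⊓ RingHom.ker (σ ^ 0) = ⊥ := by
      rw [eq_bot_iff]
      intro x hx
      have := (Ideal.mem_inf.mp hx).2
      rw [RingHom.mem_ker, pow_zero] at this
      exact this
    rw [h0, Submodule.bot_smul] at hψ
    ext x
    simpa using hψ x
  | succ m ih =>
    rw [Function.iterate_succ_apply]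
    apply ih
    apply UU_values σ B b F₂ (𝔠 ⊓ RingHom.ker (σ ^ (m + 1)))
    · intro d hd
      obtain ⟨h1, h2⟩ := Ideal.mem_inf.mp hd
      refine Ideal.mem_inf.mpr ⟨h𝔠F d h1, ?_⟩
      rw [RingHom.mem_ker] at h2 ⊢
      rw [pow_succ] at h2
      exact h2
    · exact hψ


theorem exists_lift (bb : Module.Basis ι A P₁)
    (hF₁ : LinearIndependent A (fun i => F₁ (bb i)) ∧
      Submodule.span A (Set.range fun i => F₁ (bb i)) = ⊤)
    (𝔠 : Ideal A) (h𝔠F : ∀ x ∈ 𝔠, σ x ∈ 𝔠) (K : ℕ) (hK : ∀ x ∈ 𝔠, σ^[K] x = 0)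
    (α₀ : P₁ →ₗ[A] P₂) (hα₀ : ∀ x, F₂ (α₀ x) - α₀ (F₁ x) ∈ 𝔠 • (⊤ : Submodule A P₂)) :
    ∃ α : P₁ →ₗ[A] P₂, (∀ x, α x - α₀ x ∈ 𝔠 • (⊤ : Submodule A P₂)) ∧
      ∀ x, F₂ (α x) = α (F₁ x) := by
  set B : Module.Basis ι A P₁ := Module.Basis.mk hF₁.1 hF₁.2.ge with hBdef
  have hB : ∀ i, B i = F₁ (bb i) := fun i => by simp [hBdef]
  set U := UU σ B bb F₂ with hU
  have hUap : ∀ ψ x, U ψ (F₁ x) = F₂ (ψ x) := UU_apply σ B F₁ F₂ bb hB
  set η : P₁ →ₗ[A] P₂ := U α₀ - α₀ with hη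
  have hηv : ∀ x, η x ∈ 𝔠 • (⊤ : Submodule A P₂) := by
    intro x
    rw [← B.linearCombination_repr x, Finsupp.linearCombination_apply, Finsupp.sum, map_sum]
    refine Submodule.sum_mem _ fun i _ => ?_
    rw [map_smul]
    refine Submodule.smul_mem _ _ ?_
    rw [hB, hη, LinearMap.sub_apply, hUap]
    exact hα₀ _
  have hE : 𝔠 ⊓ RingHom.ker (σ ^ K) = 𝔠 := by
    apply inf_eq_left.mpr
    intro x hx
    rw [RingHom.mem_ker, RingHom.coe_pow]
    exact hK x hx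
  have hiter : ∀ n x, (U^[n] η) x ∈ 𝔠 • (⊤ : Submodule A P₂) := by
    intro n
    induction n with
    | zero => exact hηv
    | succ n ih =>
      intro x
      rw [Function.iterate_succ_apply']
      exact UU_values σ B bb F₂ 𝔠 𝔠 h𝔠F _ ih x
  have hUK : U^[K] η = 0 :=
    UU_iterate_eq_zero σ B bb F₂ 𝔠 h𝔠F K η (by rw [hE]; exact hηv)
  set ω := ∑ n ∈ range K, U^[n] η with hω
  have hωU : ω - U ω = η := by
    rw [hω, map_sum, ← Finset.sum_sub_distrib]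
    have h1 : ∀ n, U (U^[n] η) = U^[n + 1] η :=
      fun n => (Function.iterate_succ_apply' U n η).symm
    simp only [h1]
    rw [Finset.sum_range_sub' (fun n => U^[n] η) K, hUK]
    simp
  refine ⟨α₀ + ω, ?_, ?_⟩
  · intro x
    simp only [LinearMap.add_apply, add_sub_cancel_left]
    rw [hω, LinearMap.sum_apply]
    exact Submodule.sum_mem _ fun n _ => hiter n x
  · intro x
    rw [← hUap]
    have h3 : U (α₀ + ω) = α₀ + ω := by
      rw [map_add]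
      have h1 : U α₀ = η + α₀ := by rw [hη]; abel
      have h2 : U ω = ω - η := by rw [← hωU]; abel
      rw [h1, h2]; abel
    rw [h3]

theorem unique_lift (bb : Module.Basis ι A P₁)
    (hF₁ : LinearIndependent A (fun i => F₁ (bb i)) ∧
      Submodule.span A (Set.range fun i => F₁ (bb i)) = ⊤)
    (𝔠 : Ideal A) (h𝔠F : ∀ x ∈ 𝔠, σ x ∈ 𝔠) (K : ℕ) (hK : ∀ x ∈ 𝔠, σ^[K] x = 0)
    (α α' : P₁ →ₗ[A] P₂) (hd : ∀ x, α x - α' x ∈ 𝔠 • (⊤ : Submodule A P₂))
    (hα : ∀ x, F₂ (α x) = α (F₁ x)) (hα' : ∀ x, F₂ (α' x) = α' (F₁ x)) : α = α' := by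
  set B : Module.Basis ι A P₁ := Module.Basis.mk hF₁.1 hF₁.2.ge with hBdef
  have hB : ∀ i, B i = F₁ (bb i) := fun i => by simp [hBdef]
  set U := UU σ B bb F₂ with hU
  have hUap : ∀ ψ x, U ψ (F₁ x) = F₂ (ψ x) := UU_apply σ B F₁ F₂ bb hB
  have hfix : ∀ ψ : P₁ →ₗ[A] P₂, (∀ x, F₂ (ψ x) = ψ (F₁ x)) → U ψ = ψ := by
    intro ψ hψ
    apply B.ext
    intro i
    rw [hB, hUap, hψ]
  have hE : 𝔠 ⊓ RingHom.ker (σ ^ K) = 𝔠 := by
    apply inf_eq_left.mpr
    intro x hx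
    rw [RingHom.mem_ker, RingHom.coe_pow]
    exact hK x hx
  have hδ : U (α - α') = α - α' := by rw [map_sub, hfix α hα, hfix α' hα']
  have hUK : U^[K] (α - α') = 0 :=
    UU_iterate_eq_zero σ B bb F₂ 𝔠 h𝔠F K (α - α') (by rw [hE]; exact hd)
  rw [Function.iterate_fixed hδ] at hUK
  exact sub_eq_zero.mp hUK

end Abstract

end Groth.Agent.Lib.Helper95.DispLift
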