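import Mathlib
import Groth.Prelude.Def_ResDeg
import Groth.Agent.Lib.Helper67.FiberStalk
import Groth.Agent.Lib.Helper55.SpecResidue
set_option autoImplicit false
universe u
open CategoryTheory CategoryTheory.Limits AlgebraicGeometry

namespace Groth.Agent.Lib.Helper95.Cyc1941GC

/-- algebra side: the residue degree of a maximal ideal of a finite algebra over a local ring
is the length of the quotient. -/
theorem finrank_residueField_map {A T : Type u} [CommRing A] [IsLocalRing A] [CommRing T]
    [Algebra A T] [Module.Finite A T]
    (n : Ideal T) [n.IsMaximal] (p : Ideal A) [p.IsPrime] (hp : p = n.comap (algebraMap A T)) :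
    letI := (Ideal.ResidueField.map p n (algebraMap A T) hp).toAlgebra
    Module.finrank p.ResidueField n.ResidueField = (Module.length A (T ⧸ n)).toNat := by
  letI := (Ideal.ResidueField.map p n (algebraMap A T) hp).toAlgebra
  haveI : p.IsMaximal := by
    rw [hp]; exact Ideal.isMaximal_comap_of_isIntegral_of_isMaximal n
  haveI : IsScalarTower A p.ResidueField n.ResidueField := IsScalarTower.of_algebraMap_eq (fun a => by
    change _ = Ideal.ResidueField.map p n (algebraMap A T) hp (algebraMap A p.ResidueField a)
    rw [Ideal.ResidueField.map_algebraMap, ← IsScalarTower.algebraMap_apply A T n.ResidueField])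
  have h1 : Module.length A (T ⧸ n) = Module.length A n.ResidueField := by
    let e : (T ⧸ n) ≃ₗ[A] n.ResidueField :=
      LinearEquiv.ofBijective ((IsScalarTower.toAlgHom A (T ⧸ n) n.ResidueField).toLinearMap)
        (Ideal.bijective_algebraMap_quotient_residueField n)
    exact e.length_eq
  have h2 : Module.length A n.ResidueField = Module.length p.ResidueField n.ResidueField :=
    Module.length_eq_of_surjective (Ideal.algebraMap_residueField_surjective p)
  rw [h1, h2, Module.length_eq_rank, Module.finrank, Cardinal.toNat_toENat]

theorem residueDegree_specMap_eq {A T : Type u} [CommRing A] [IsLocalRing A] [CommRing T] [Algebra A T] [Module.Finite A T] (n : PrimeSpectrum T) (hn : n.asIdeal.IsMaximal) : EGA4loc.residueDegree (Spec.map (CommRingCat.ofHom (algebraMap A T))) n = (Module.length A (T ⧸ n.asIdeal)).toNat := by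
  haveI := hn
  set φ : CommRingCat.of A ⟶ CommRingCat.of T := CommRingCat.ofHom (algebraMap A T) with hφ
  have key := Groth.Agent.Lib.Helper55.residueFieldMap_SpecMap φ n
  rw [← finrank_residueField_map n.asIdeal ((Spec.map φ) n).asIdeal rfl]
  unfold EGA4loc.residueDegree
  letI := ((Spec.map φ).residueFieldMap n).hom.toAlgebra
  letI := (Ideal.ResidueField.map ((Spec.map φ) n).asIdeal n.asIdeal (algebraMap A T) rfl).toAlgebra
  refine Algebra.finrank_eq_of_equiv_equiv
    (Scheme.Spec.residueFieldIso (CommRingCat.of A) ((Spec.map φ) n)).commRingCatIsoToRingEquiv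
    (Scheme.Spec.residueFieldIso (CommRingCat.of T) n).commRingCatIsoToRingEquiv ?_
  ext x
  have h := congrArg (fun ψ => ψ.hom ((Scheme.Spec.residueFieldIso (CommRingCat.of A) ((Spec.map φ) n)).hom.hom x)) key
  simp only [CommRingCat.hom_comp, CommRingCat.hom_ofHom, RingHom.comp_apply] at h
  have h0 : (Scheme.Spec.residueFieldIso (CommRingCat.of A) ((Spec.map φ) n)).inv.hom
      ((Scheme.Spec.residueFieldIso (CommRingCat.of A) ((Spec.map φ) n)).hom.hom x) = x := by
    have := congrArg (fun ψ => ψ.hom x) (Scheme.Spec.residueFieldIso (CommRingCat.of A) ((Spec.map φ) n)).hom_inv_id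
    simpa using this
  rw [h0] at h
  exact h.symm

end Groth.Agent.Lib.Helper95.Cyc1941GC
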