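import Mathlib.RingTheory.Spectrum.Prime.FreeLocus
import Mathlib.RingTheory.LocalRing.Module
import Mathlib.RingTheory.IsTensorProduct
import Mathlib.RingTheory.Artinian.Module
import Mathlib.RingTheory.Artinian.Ring
import Mathlib.RingTheory.Flat.FaithfullyFlat.Basic
import Mathlib.RingTheory.LocalRing.ResidueField.Ideal

set_option autoImplicit false
universe u v w
open TensorProduct Module

namespace Groth.Agent.Lib.Helper95.T1

attribute [local instance] Algebra.TensorProduct.rightAlgebra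

theorem finrank_quot_eq_rankAtStalk {S : Type u} {M : Type v} [CommRing S] [AddCommGroup M]
    [Module S M] [Module.Finite S M] [Module.Flat S M] (P : Ideal S) [hP : P.IsMaximal] :
    finrank (S ⧸ P) ((S ⧸ P) ⊗[S] M) = rankAtStalk M ⟨P, hP.isPrime⟩ := by
  letI := Ideal.Quotient.field P
  rw [rankAtStalk_eq]
  let e : P.ResidueField ⊗[S ⧸ P] ((S ⧸ P) ⊗[S] M) ≃ₗ[P.ResidueField] P.ResidueField ⊗[S] M :=
    AlgebraTensorModule.cancelBaseChange _ _ _ _ _
  change _ = finrank P.ResidueField (P.ResidueField ⊗[S] M)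
  rw [← e.finrank_eq]
  exact (Module.finrank_baseChange (R := P.ResidueField) (S := S ⧸ P)
    (M' := (S ⧸ P) ⊗[S] M)).symm

theorem rankAtStalk_tower {R : Type u} {C : Type v} {A : Type w} [CommRing R] [CommRing C]
    [CommRing A] [Algebra R C] [Algebra C A] [Algebra R A] [IsScalarTower R C A]
    [Module.Finite R C] [Module.Flat R C] [Module.Finite C A] [Module.Flat C A]
    [Module.Finite R A] [Module.Flat R A]
    (q : PrimeSpectrum R) (m : ℕ)
    (hm : ∀ 𝔭 : PrimeSpectrum C, 𝔭.comap (algebraMap R C) = q → rankAtStalk (R := C) A 𝔭 = m) :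
    rankAtStalk (R := R) A q = m * rankAtStalk (R := R) C q := by
  let k := q.asIdeal.ResidueField
  haveI : IsArtinianRing (k ⊗[R] C) := IsArtinianRing.of_finite k (k ⊗[R] C)
  have rk : ∀ P : MaximalSpectrum (k ⊗[R] C),
      finrank ((k ⊗[R] C) ⧸ P.1) (((k ⊗[R] C) ⧸ P.1) ⊗[k ⊗[R] C] ((k ⊗[R] C) ⊗[C] A)) = m := by
    intro P
    haveI := P.2
    rw [finrank_quot_eq_rankAtStalk, rankAtStalk_baseChange]
    apply hm
    apply PrimeSpectrum.ext
    simp only [PrimeSpectrum.comap_asIdeal]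
    rw [Ideal.comap_comap]
    have hcomp : (algebraMap C (k ⊗[R] C)).comp (algebraMap R C) =
        (algebraMap k (k ⊗[R] C)).comp (algebraMap R k) := by
      ext a
      simp only [RingHom.comp_apply]
      rw [← IsScalarTower.algebraMap_apply, ← IsScalarTower.algebraMap_apply]
    rw [hcomp, ← Ideal.comap_comap]
    have hbot : (P.1).comap (algebraMap k (k ⊗[R] C)) = ⊥ := by
      have hne : (P.1).comap (algebraMap k (k ⊗[R] C)) ≠ ⊤ :=
        (Ideal.comap_isPrime _ _).ne_top
      exact (Ideal.eq_bot_or_top _).resolve_right hne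
    rw [hbot, ← RingHom.ker_eq_comap_bot]
    exact Ideal.ker_algebraMap_residueField q.asIdeal
  obtain ⟨b⟩ := nonempty_basis_of_flat_of_finrank_eq (k ⊗[R] C) ((k ⊗[R] C) ⊗[C] A) m rk
  rw [rankAtStalk_eq, rankAtStalk_eq]
  change finrank k (k ⊗[R] A) = m * finrank k (k ⊗[R] C)
  let e : (k ⊗[R] C) ⊗[C] A ≃ₗ[k] k ⊗[R] A :=
    Algebra.IsPushout.cancelBaseChange R k C (k ⊗[R] C) A
  rw [← e.finrank_eq, (b.equivFun.restrictScalars k).finrank_eq, Module.finrank_pi_fintype]
  simp

end Groth.Agent.Lib.Helper95.T1
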