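import Mathlib.RingTheory.Flat.FaithfullyFlat.Basic
import Mathlib.RingTheory.Flat.FaithfullyFlat.Algebra

set_option autoImplicit false
universe u v w
open TensorProduct Module

namespace Groth.Agent.Lib.Helper95.T2

theorem flat_of_faithfullyFlat_of_flat {R : Type u} {C : Type v} {A : Type w} [CommRing R]
    [CommRing C] [CommRing A] [Algebra R C] [Algebra C A] [Algebra R A] [IsScalarTower R C A]
    [Module.FaithfullyFlat C A] [Module.Flat R A] : Module.Flat R C := by
  rw [Module.Flat.iff_lTensor_preserves_injective_linearMap]
  intro N P _ _ _ _ f hf
  have h1 : Function.Injective (f.baseChange C) := by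
    rw [← FaithfullyFlat.lTensor_injective_iff_injective C A]
    have h2 : LinearMap.lTensor A (f.baseChange C) =
        ((AlgebraTensorModule.cancelBaseChange R C C A P).symm.toLinearMap.restrictScalars C) ∘ₗ
          ((AlgebraTensorModule.map (LinearMap.id : A →ₗ[C] A) f)) ∘ₗ
          ((AlgebraTensorModule.cancelBaseChange R C C A N).toLinearMap) := by
      ext a n
      simp
    rw [h2]
    simp only [LinearMap.coe_comp, LinearMap.coe_restrictScalars, LinearEquiv.coe_coe,
      EmbeddingLike.comp_injective, EquivLike.injective_comp]
    exact Module.Flat.lTensor_preserves_injective_linearMap (M := A) f hf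
  exact h1

end Groth.Agent.Lib.Helper95.T2
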