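import Groth.Agent.Lib.Helper95.HG4
import Groth.Agent.Lib.Helper95.T1
import Groth.Agent.Lib.Helper95.T2
import Mathlib.RingTheory.Flat.FaithfullyFlat.Algebra
import Mathlib.RingTheory.Spectrum.Prime.Topology

set_option autoImplicit false
universe u v
open TensorProduct Module

namespace Groth.Agent.Lib.Helper95.HG5

open Groth.Agent.Lib.Helper95.HG1 Groth.Agent.Lib.Helper95.HG2 Groth.Agent.Lib.Helper95.HG3
open Groth.Agent.Lib.Helper95.HG4

variable (R : Type u) {A : Type v} [CommRing R] [CommRing A] [HopfAlgebra R A] (I : Ideal A)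
  [I.IsHopfIdeal R]

noncomputable abbrev Cs : Subring A :=
  RingHom.eqLocus (algebraMap A (A ⊗[R] (A ⧸ I))) (ρ R I).toRingHom

omit [I.IsHopfIdeal R] in
theorem algebraMap_mem (r : R) : algebraMap R A r ∈ Cs R I := by
  change algebraMap A (A ⊗[R] (A ⧸ I)) (algebraMap R A r) = ρ R I (algebraMap R A r)
  rw [AlgHom.commutes, ← IsScalarTower.algebraMap_apply]

@[reducible] noncomputable def algRC : Algebra R (Cs R I) :=
  ((algebraMap R A).codRestrict (Cs R I) (algebraMap_mem R I)).toAlgebra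

attribute [local instance] algRC

omit [I.IsHopfIdeal R] in
theorem isScalarTower : IsScalarTower R (Cs R I) A := IsScalarTower.of_algebraMap_eq (fun r => rfl)

attribute [local instance] isScalarTower

omit [I.IsHopfIdeal R] in
theorem mem_Cs (a : A) : a ∈ Cs R I ↔ (a ⊗ₜ[R] (1 : A ⧸ I) : A ⊗[R] (A ⧸ I)) = ρ R I a := Iff.rfl

noncomputable def ρC : A →ₗ[Cs R I] A ⊗[R] (A ⧸ I) where
  toFun := ρ R I
  map_add' := map_add _
  map_smul' := fun c a => by
    change ρ R I ((c : A) * a) = c • ρ R I a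
    rw [map_mul, ← (mem_Cs R I c.1).mp c.2]
    exact (Algebra.smul_def (c : A) (ρ R I a)).symm

omit [I.IsHopfIdeal R] in
theorem ρC_apply (a : A) : ρC R I a = ρ R I a := rfl

noncomputable def Ψ : A ⊗[Cs R I] A →ₗ[A] A ⊗[R] (A ⧸ I) :=
  AlgebraTensorModule.lift (LinearMap.toSpanSingleton A (A →ₗ[Cs R I] A ⊗[R] (A ⧸ I)) (ρC R I))

omit [I.IsHopfIdeal R] in
theorem Ψ_tmul (a' a : A) : Ψ R I (a' ⊗ₜ a) = a' • ρ R I a := by
  simp [Ψ, ρC_apply]

theorem Ψ_bijective [Module.Finite R A] [Module.Projective R A] [Module.Projective R (A ⧸ I)] :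
    Function.Bijective (Ψ R I) := by
  haveI : Module.Finite R (A ⧸ I) :=
    Module.Finite.of_surjective (Ideal.Quotient.mkₐ R I).toLinearMap
      (Ideal.Quotient.mkₐ_surjective R I)
  obtain ⟨-, hbij⟩ := HG3.main (ρ R I) (HG4.hco I) (HG4.hcounit I) (HG4.hfree I) (HG4.hint I)
  have h := hbij (((Ψ R I).restrictScalars (Cs R I)) ∘ₗ (TensorProduct.comm (Cs R I) A A).toLinearMap)
    (fun a a' => by
      simp only [LinearMap.coe_comp, LinearMap.coe_restrictScalars, LinearEquiv.coe_coe,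
        Function.comp_apply, TensorProduct.comm_tmul, Ψ_tmul]
      rw [mul_comm]
      exact Algebra.smul_def a' (ρ R I a))
  rw [LinearMap.coe_comp, LinearMap.coe_restrictScalars, LinearEquiv.coe_coe] at h
  exact (EquivLike.bijective_comp _ _).mp h

theorem main [IsNoetherianRing R] [Module.Finite R A] [Module.Projective R A]
    [Module.Projective R (A ⧸ I)] (q : PrimeSpectrum R) :
    rankAtStalk (R := R) A q =
      rankAtStalk (R := R) (A ⧸ I) q * rankAtStalk (R := R) (Cs R I) q := by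
  haveI : Module.Finite R (A ⧸ I) :=
    Module.Finite.of_surjective (Ideal.Quotient.mkₐ R I).toLinearMap
      (Ideal.Quotient.mkₐ_surjective R I)
  obtain ⟨⟨hfin, hflat, -⟩, -⟩ :=
    HG3.main (ρ R I) (HG4.hco I) (HG4.hcounit I) (HG4.hfree I) (HG4.hint I)
  haveI : Module.Finite (Cs R I) A := hfin
  haveI : Module.Flat (Cs R I) A := hflat
  haveI : Algebra.IsIntegral (Cs R I) A := HG4.hint I
  haveI : FaithfulSMul (Cs R I) A :=
    (faithfulSMul_iff_algebraMap_injective _ _).mpr Subtype.val_injective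
  have hsurj : Function.Surjective (PrimeSpectrum.comap (algebraMap (Cs R I) A)) :=
    Algebra.IsIntegral.comap_surjective _ _
  haveI : Module.FaithfullyFlat (Cs R I) A := Module.FaithfullyFlat.of_comap_surjective hsurj
  haveI : Module.Flat R (Cs R I) := T2.flat_of_faithfullyFlat_of_flat (A := A)
  haveI : Module.Finite R (Cs R I) :=
    Module.Finite.of_injective (IsScalarTower.toAlgHom R (Cs R I) A).toLinearMap
      Subtype.val_injective
  apply T1.rankAtStalk_tower
  intro 𝔭 h𝔭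
  obtain ⟨P, rfl⟩ := hsurj 𝔭
  have e := rankAtStalk_eq_of_equiv (LinearEquiv.ofBijective (Ψ R I) (Ψ_bijective R I))
  have h1 := congrFun e P
  rw [rankAtStalk_baseChange, rankAtStalk_baseChange] at h1
  rw [h1, ← h𝔭]
  rfl

omit [I.IsHopfIdeal R] in
theorem mem_equalizer_iff (a : A) :
    a ∈ AlgHom.equalizer
      ((Algebra.TensorProduct.map (AlgHom.id R A) (Ideal.Quotient.mkₐ R I)).comp
        (Bialgebra.comulAlgHom R A))
      (Algebra.TensorProduct.includeLeft : A →ₐ[R] A ⊗[R] (A ⧸ I)) ↔ a ∈ Cs R I := by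
  rw [mem_Cs, AlgHom.mem_equalizer]
  exact eq_comm

noncomputable def eqv : ↥(AlgHom.equalizer
      ((Algebra.TensorProduct.map (AlgHom.id R A) (Ideal.Quotient.mkₐ R I)).comp
        (Bialgebra.comulAlgHom R A))
      (Algebra.TensorProduct.includeLeft : A →ₐ[R] A ⊗[R] (A ⧸ I))) ≃ₗ[R] Cs R I where
  toFun x := ⟨x.1, (mem_equalizer_iff R I x.1).mp x.2⟩
  invFun y := ⟨y.1, (mem_equalizer_iff R I y.1).mpr y.2⟩
  map_add' _ _ := rfl
  map_smul' r x := Subtype.ext (Algebra.smul_def r x.1)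
  left_inv _ := rfl
  right_inv _ := rfl

theorem main' [IsNoetherianRing R] [Module.Finite R A] [Module.Projective R A]
    [Module.Projective R (A ⧸ I)] (q : PrimeSpectrum R) :
    rankAtStalk (R := R) A q =
      rankAtStalk (R := R) (A ⧸ I) q * rankAtStalk (R := R) (↥(AlgHom.equalizer
      ((Algebra.TensorProduct.map (AlgHom.id R A) (Ideal.Quotient.mkₐ R I)).comp
        (Bialgebra.comulAlgHom R A))
      (Algebra.TensorProduct.includeLeft : A →ₐ[R] A ⊗[R] (A ⧸ I)))) q := by
  rw [main R I q, rankAtStalk_eq_of_equiv (eqv R I)]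

end Groth.Agent.Lib.Helper95.HG5
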