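import Groth.Agent.Lib.Helper15.ProjCharpoly
import Mathlib.RingTheory.LocalRing.ResidueField.Ideal
import Mathlib.RingTheory.Ideal.GoingUp
import Mathlib.RingTheory.LocalRing.Module
import Mathlib.RingTheory.Support
import Mathlib.LinearAlgebra.Matrix.ToLinearEquiv
import Mathlib.RingTheory.TensorProduct.Basic

set_option autoImplicit false
universe u

open Polynomial TensorProduct

namespace Groth.Agent.Lib.Helper95.Q1

open Groth.Agent.Lib.Helper15.ProjCharpoly

variable {A B : Type u} [CommRing A] [CommRing B] [Algebra A B]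

noncomputable def dn (π : Pres A B) (y : B) : A :=
  (π.cp (LinearMap.mulLeft A (1 - y))).eval 1

theorem aeval_cp_elt (π : Pres A B) (z : B) :
    Polynomial.aeval z (π.cp (LinearMap.mulLeft A z)) = 0 := by
  have h1 : Polynomial.aeval (LinearMap.mulLeft A z) (π.cp (LinearMap.mulLeft A z)) = 0 :=
    π.aeval_cp _
  generalize π.cp (LinearMap.mulLeft A z) = Q at h1 ⊢
  have h3 : LinearMap.mulLeft A z = Algebra.lmul A B z := by
    ext w
    simp
  rw [h3, Polynomial.aeval_algHom_apply] at h1
  have := LinearMap.congr_fun h1 1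
  simpa using this

theorem dvd_dn (π : Pres A B) (y : B) : y ∣ algebraMap A B (dn π y) := by
  set Q := π.cp (LinearMap.mulLeft A (1 - y)) with hQ
  have h0 : (Q.map (algebraMap A B)).eval (1 - y) = 0 := by
    have := aeval_cp_elt π (1 - y)
    rwa [Polynomial.aeval_def, Polynomial.eval₂_eq_eval_map] at this
  have h1 := Polynomial.sub_dvd_eval_sub (1 - y) 1 (Q.map (algebraMap A B))
  rw [h0, Polynomial.eval_map, Polynomial.eval₂_at_one] at h1
  have h2 : (1 - y) - 1 = -y := by ring
  rw [h2, zero_sub, neg_dvd, dvd_neg] at h1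
  exact h1

theorem exists_prime_of_dn_mem (π : Pres A B) (y : B) (q : Ideal A) [q.IsPrime]
    (h : dn π y ∈ q) :
    ∃ r : Ideal B, r.IsPrime ∧ r.comap (algebraMap A B) = q ∧ y ∈ r := by
  let K := q.ResidueField
  let F := K ⊗[A] B
  have hf : IsBaseChange K (TensorProduct.mk A K B 1) := TensorProduct.isBaseChange A B K
  let π' : Pres K F := π.baseChange hf
  let yb : F := (1 : K) ⊗ₜ[A] y
  let φ' : F →ₗ[K] F := LinearMap.mulLeft K (1 - yb)
  have hφ : ∀ x, φ' (TensorProduct.mk A K B 1 x) =
      TensorProduct.mk A K B 1 (LinearMap.mulLeft A (1 - y) x) := by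
    intro x
    simp only [φ', yb, LinearMap.mulLeft_apply, TensorProduct.mk_apply]
    rw [sub_mul, sub_mul, TensorProduct.tmul_sub, Algebra.TensorProduct.tmul_mul_tmul]
    simp
  have hcp := Pres.baseChange_cp π hf (LinearMap.mulLeft A (1 - y)) φ' hφ
  have hev : (π'.cp φ').eval 1 = 0 := by
    change ((π.baseChange hf).cp φ').eval 1 = 0
    rw [hcp, Polynomial.eval_map, Polynomial.eval₂_at_one]
    exact Ideal.algebraMap_residueField_eq_zero.mpr h
  rw [Pres.cp, Matrix.eval_charpoly] at hev
  obtain ⟨v, hv0, hv⟩ := Matrix.exists_mulVec_eq_zero_iff.mpr hev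
  have hv' : π'.i (φ' (π'.p v)) = v := by
    have h1 : (Matrix.scalar (Fin π'.n) (1 : K) - π'.mat φ').mulVec v = v - π'.i (φ' (π'.p v)) := by
      rw [Matrix.sub_mulVec]
      congr 1
      · simp
      · rw [Pres.mat, LinearMap.toMatrix'_mulVec]
        rfl
    rw [h1, sub_eq_zero] at hv
    exact hv.symm
  set w : F := π'.p v with hw
  have hw1 : φ' w = w := by
    have := congrArg π'.p hv'
    rwa [π'.p_i] at this
  have hw0 : w ≠ 0 := by
    intro h0
    apply hv0
    rw [← hv', h0, map_zero, map_zero]
  have hyw : yb * w = 0 := by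
    have : (1 - yb) * w = w := hw1
    rw [sub_mul, one_mul, sub_eq_self] at this
    exact this
  have hnu : ¬ IsUnit yb := by
    intro hu
    apply hw0
    exact hu.mul_right_eq_zero.mp hyw
  obtain ⟨n, hnmax, hyn⟩ := exists_max_ideal_of_mem_nonunits hnu
  have hnp : n.IsPrime := hnmax.isPrime
  refine ⟨n.comap (Algebra.TensorProduct.includeRight : B →ₐ[A] F).toRingHom,
    Ideal.comap_isPrime _ _, ?_, ?_⟩
  · rw [Ideal.comap_comap]
    have hcomp : ((Algebra.TensorProduct.includeRight : B →ₐ[A] F).toRingHom).comp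
        (algebraMap A B) = (algebraMap K F).comp (algebraMap A K) := by
      ext a
      simp only [RingHom.comp_apply, AlgHom.toRingHom_eq_coe, RingHom.coe_coe,
        AlgHom.commutes]
      rw [← IsScalarTower.algebraMap_apply]
    rw [hcomp, ← Ideal.comap_comap]
    have hbot : n.comap (algebraMap K F) = ⊥ := by
      have hne : n.comap (algebraMap K F) ≠ ⊤ := (Ideal.comap_isPrime _ _).ne_top
      exact (Ideal.eq_bot_or_top _).resolve_right hne
    rw [hbot, ← RingHom.ker_eq_comap_bot]
    exact Ideal.ker_algebraMap_residueField q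
  · exact hyn

theorem not_mem_support_of_subsingleton {M : Type u} [AddCommGroup M] [Module A M]
    [Module.Finite A M] {K : Type u} [Field K] [Algebra A K] (q : Ideal A) [hqp : q.IsPrime]
    (hq : RingHom.ker (algebraMap A K) = q) (h : Subsingleton (K ⊗[A] M)) :
    (⟨q, hqp⟩ : PrimeSpectrum A) ∉ Module.support A M := by
  rw [Module.mem_support_iff_nontrivial_residueField_tensorProduct,
    not_nontrivial_iff_subsingleton]
  change Subsingleton (q.ResidueField ⊗[A] M)
  let ψ : q.ResidueField →+* K := Ideal.ResidueField.lift q (algebraMap A K) (by rw [hq])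
    (by
      intro a ha
      change IsUnit (algebraMap A K a)
      rw [isUnit_iff_ne_zero]
      intro h0
      apply ha
      rw [← hq]
      exact h0)
  let _ : Algebra q.ResidueField K := ψ.toAlgebra
  have : IsScalarTower A q.ResidueField K := IsScalarTower.of_algebraMap_eq' (by
    ext a
    change algebraMap A K a = ψ (algebraMap A q.ResidueField a)
    rw [Ideal.ResidueField.lift_algebraMap])
  let ec := TensorProduct.AlgebraTensorModule.cancelBaseChange A q.ResidueField K K M
  have : Subsingleton (K ⊗[q.ResidueField] (q.ResidueField ⊗[A] M)) :=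
    ec.toEquiv.subsingleton
  have hinj := Module.Flat.tensorProduct_mk_injective q.ResidueField
    (q.ResidueField ⊗[A] M) K
  exact hinj.subsingleton

theorem exists_smul_eq_zero_of_support {C : Type u} [CommRing C] [Algebra C A]
    [Algebra.IsIntegral C A] {M : Type u} [AddCommGroup M] [Module A M] [Module.Finite A M]
    (p : Ideal C) [p.IsPrime]
    (h : ∀ q : PrimeSpectrum A, q.asIdeal.comap (algebraMap C A) = p → q ∉ Module.support A M) :
    ∃ f : C, f ∉ p ∧ ∀ m : M, algebraMap C A f • m = 0 := by
  by_contra hcon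
  push Not at hcon
  have hle : (Module.annihilator A M).comap (algebraMap C A) ≤ p := by
    intro f hf
    by_contra hfp
    obtain ⟨m, hm⟩ := hcon f hfp
    apply hm
    exact Module.mem_annihilator.mp hf m
  obtain ⟨Q, hQI, hQp, hQc⟩ := Ideal.exists_ideal_over_prime_of_isIntegral p
    (Module.annihilator A M) hle
  apply h ⟨Q, hQp⟩ hQc
  rw [Module.support_eq_zeroLocus]
  exact hQI

end Groth.Agent.Lib.Helper95.Q1
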