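import Groth.Agent.Lib.Helper95.Q6

set_option autoImplicit false
universe u

open Polynomial TensorProduct

namespace Groth.Agent.Lib.Helper95.Q7

open Groth.Agent.Lib.Helper95.Q4 Groth.Agent.Lib.Helper95.Q6

variable {A B : Type u} [CommRing A] [CommRing B] [Algebra A B] (t : A →+* B)

theorem tensor_normal_form (f : A) (hf : algebraMap A B f = t f) {n : ℕ} (x : Fin n → A)
    (h1 : ∀ a : A, ∃ (k : ℕ) (c : Fin n → RingHom.eqLocus (algebraMap A B) t),
      f ^ k * a = ∑ i, (c i : A) * x i)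
    (z : A ⊗[RingHom.eqLocus (algebraMap A B) t] A) :
    ∃ (K : ℕ) (a : Fin n → A),
      ((⟨f, hf⟩ : RingHom.eqLocus (algebraMap A B) t) ^ K) • z =
        ∑ i, x i ⊗ₜ[RingHom.eqLocus (algebraMap A B) t] a i := by
  induction z using TensorProduct.induction_on with
  | zero => exact ⟨0, fun _ => 0, by simp⟩
  | tmul u v =>
    obtain ⟨k, c, hk⟩ := h1 u
    refine ⟨k, fun i => (c i : A) * v, ?_⟩
    rw [TensorProduct.smul_tmul']
    have : ((⟨f, hf⟩ : RingHom.eqLocus (algebraMap A B) t) ^ k) • u = f ^ k * u := rfl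
    rw [this, hk, TensorProduct.sum_tmul]
    refine Finset.sum_congr rfl fun i _ => ?_
    have h2 : (c i : A) * x i = (c i) • x i := rfl
    have h3 : (c i : A) * v = (c i) • v := rfl
    change ((c i : A) * x i) ⊗ₜ[RingHom.eqLocus (algebraMap A B) t] v =
      x i ⊗ₜ[RingHom.eqLocus (algebraMap A B) t] ((c i : A) * v)
    rw [h2, h3, TensorProduct.smul_tmul]
  | add y z hy hz =>
    obtain ⟨K1, a1, h1'⟩ := hy
    obtain ⟨K2, a2, h2'⟩ := hz
    refine ⟨K1 + K2, fun i => f ^ K2 * a1 i + f ^ K1 * a2 i, ?_⟩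
    rw [smul_add]
    have e1 : ((⟨f, hf⟩ : RingHom.eqLocus (algebraMap A B) t) ^ (K1 + K2)) • y =
        ((⟨f, hf⟩ : RingHom.eqLocus (algebraMap A B) t) ^ K2) •
          (((⟨f, hf⟩ : RingHom.eqLocus (algebraMap A B) t) ^ K1) • y) := by
      rw [smul_smul, ← pow_add, add_comm]
    have e2 : ((⟨f, hf⟩ : RingHom.eqLocus (algebraMap A B) t) ^ (K1 + K2)) • z =
        ((⟨f, hf⟩ : RingHom.eqLocus (algebraMap A B) t) ^ K1) •
          (((⟨f, hf⟩ : RingHom.eqLocus (algebraMap A B) t) ^ K2) • z) := by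
      rw [smul_smul, ← pow_add]
    rw [e1, e2, h1', h2', Finset.smul_sum, Finset.smul_sum, ← Finset.sum_add_distrib]
    refine Finset.sum_congr rfl fun i _ => ?_
    rw [TensorProduct.tmul_add]
    have e3 : ∀ (K : ℕ) (w : A), ((⟨f, hf⟩ : RingHom.eqLocus (algebraMap A B) t) ^ K) •
        (x i ⊗ₜ[RingHom.eqLocus (algebraMap A B) t] w) =
        x i ⊗ₜ[RingHom.eqLocus (algebraMap A B) t] (f ^ K * w) := by
      intro K w
      rw [← TensorProduct.tmul_smul]
      rfl
    rw [e3, e3]

theorem ring_main [Module.Finite A B] [Module.Projective A B] (e : B →+* A)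
    (hes : ∀ a, e (algebraMap A B a) = a) (het : ∀ a, e (t a) = a)
    (hc : ∀ (BB : Type u) [CommRing BB] (ιL ιR : B →+* BB),
      (∀ a, ιL (algebraMap A B a) = ιR (t a)) →
      ∃ c' : B →+* BB, (∀ a, c' (algebraMap A B a) = ιR (algebraMap A B a)) ∧
        (∀ a, c' (t a) = ιL (t a)))
    (hsurj : Submodule.span A (Set.range t) = ⊤)
    (hint : Algebra.IsIntegral (RingHom.eqLocus (algebraMap A B) t) A)
    (Nm : A → A) (hNinv : ∀ x, algebraMap A B (Nm x) = t (Nm x))
    (hNdvd : ∀ x, t x ∣ algebraMap A B (Nm x))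
    (hNprime : ∀ (x : A) (q : Ideal A), q.IsPrime → Nm x ∈ q →
      ∃ r : Ideal B, r.IsPrime ∧ r.comap (algebraMap A B) = q ∧ t x ∈ r) :
    ((RingHom.eqLocus (algebraMap A B) t).subtype.Finite ∧
      (RingHom.eqLocus (algebraMap A B) t).subtype.Flat ∧
      (RingHom.eqLocus (algebraMap A B) t).subtype.FinitePresentation) ∧
    (letI : Algebra (RingHom.eqLocus (algebraMap A B) t) B :=
      ((algebraMap A B).comp (RingHom.eqLocus (algebraMap A B) t).subtype).toAlgebra
     ∀ φ : A ⊗[RingHom.eqLocus (algebraMap A B) t] A →ₗ[RingHom.eqLocus (algebraMap A B) t] B,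
      (∀ a a' : A, φ (a ⊗ₜ[RingHom.eqLocus (algebraMap A B) t] a') = t a * algebraMap A B a') →
        Function.Bijective φ) := by
  let s : Set (RingHom.eqLocus (algebraMap A B) t) := {f | ∃ (n : ℕ) (x : Fin n → A),
    (∀ b : B, (f : A) • b ∈ Submodule.span A (Set.range fun i => t (x i))) ∧
    (∀ v : Fin n → A, Fintype.linearCombination A (fun i => t (x i)) v = 0 → (f : A) • v = 0)}
  have hs : Ideal.span s = ⊤ := by
    by_contra h
    obtain ⟨m, hm, hle⟩ := Ideal.exists_le_maximal _ h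
    have hmp : m.IsPrime := hm.isPrime
    obtain ⟨n, x, f, hfp, h1, h2⟩ :=
      local_basis t e hes het hc hsurj hint Nm hNinv hNdvd hNprime m
    exact hfp (hle (Ideal.subset_span ⟨n, x, h1, h2⟩))
  have key : ∀ r : s, ∃ (Rᵣ Sᵣ : Type u) (_ : CommRing Rᵣ) (_ : CommRing Sᵣ)
      (_ : Algebra (RingHom.eqLocus (algebraMap A B) t) Rᵣ) (_ : Algebra A Sᵣ)
      (_ : IsLocalization.Away r.val Rᵣ)
      (_ : IsLocalization.Away ((RingHom.eqLocus (algebraMap A B) t).subtype r.val) Sᵣ)
      (fᵣ : Rᵣ →+* Sᵣ)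
      (_ : fᵣ.comp (algebraMap (RingHom.eqLocus (algebraMap A B) t) Rᵣ) =
        (algebraMap A Sᵣ).comp (RingHom.eqLocus (algebraMap A B) t).subtype),
        fᵣ.Finite ∧ fᵣ.Flat ∧ fᵣ.FinitePresentation := by
    intro r
    obtain ⟨n, x, h1, h2⟩ := r.2
    exact (local_props t e (r.1 : A) r.1.2 hes het hc x h1 h2).1
  refine ⟨⟨?_, ?_, ?_⟩, ?_⟩
  · refine RingHom.finite_ofLocalizationSpan.ofIsLocalization RingHom.finite_respectsIso _ s hs
      (fun r => ?_)
    obtain ⟨R, S, i1, i2, i3, i4, i5, i6, fr, hcomm, hP⟩ := key r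
    exact ⟨R, S, i1, i2, i3, i4, i5, i6, fr, hcomm, hP.1⟩
  · refine RingHom.Flat.propertyIsLocal.ofLocalizationSpan.ofIsLocalization
      RingHom.Flat.respectsIso _ s hs (fun r => ?_)
    obtain ⟨R, S, i1, i2, i3, i4, i5, i6, fr, hcomm, hP⟩ := key r
    exact ⟨R, S, i1, i2, i3, i4, i5, i6, fr, hcomm, hP.2.1⟩
  · refine RingHom.finitePresentation_isLocal.ofLocalizationSpan.ofIsLocalization
      RingHom.finitePresentation_respectsIso _ s hs (fun r => ?_)
    obtain ⟨R, S, i1, i2, i3, i4, i5, i6, fr, hcomm, hP⟩ := key r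
    exact ⟨R, S, i1, i2, i3, i4, i5, i6, fr, hcomm, hP.2.2⟩
  · letI : Algebra (RingHom.eqLocus (algebraMap A B) t) B :=
      ((algebraMap A B).comp (RingHom.eqLocus (algebraMap A B) t).subtype).toAlgebra
    intro φ hφ
    have hsmB : ∀ (c : RingHom.eqLocus (algebraMap A B) t) (b : B),
        c • b = algebraMap A B (c : A) * b := fun _ _ => rfl
    constructor
    · rw [injective_iff_map_eq_zero]
      intro z hz
      by_contra hz0
      let I : Ideal (RingHom.eqLocus (algebraMap A B) t) :=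
        LinearMap.ker (LinearMap.toSpanSingleton (RingHom.eqLocus (algebraMap A B) t) _ z)
      have hI : I ≠ ⊤ := by
        intro h
        apply hz0
        have : (1 : RingHom.eqLocus (algebraMap A B) t) ∈ I := by rw [h]; trivial
        have h1 : (1 : RingHom.eqLocus (algebraMap A B) t) • z = 0 := this
        rwa [one_smul] at h1
      obtain ⟨m, hm, hle⟩ := Ideal.exists_le_maximal _ hI
      have hmp : m.IsPrime := hm.isPrime
      obtain ⟨n, x, f, hfp, h1, h2⟩ :=
        local_basis t e hes het hc hsurj hint Nm hNinv hNdvd hNprime m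
      have h3 := (local_props t e (f : A) f.2 hes het hc x h1 h2).2
      obtain ⟨K, a, hK⟩ := tensor_normal_form t (f : A) f.2 x h3 z
      have h4 : Fintype.linearCombination A (fun i => t (x i)) a = 0 := by
        have := congrArg φ hK
        rw [map_smul, hz, smul_zero, map_sum] at this
        rw [Fintype.linearCombination_apply, this]
        refine Finset.sum_congr rfl fun i _ => ?_
        rw [hφ, Algebra.smul_def, mul_comm]
      have h5 := h2 a h4
      have h6 : f ^ (K + 1) ∈ I := by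
        change (f ^ (K + 1)) • z = 0
        rw [pow_succ, mul_comm, mul_smul]
        change f • ((⟨(f : A), f.2⟩ : RingHom.eqLocus (algebraMap A B) t) ^ K • z) = 0
        rw [hK, Finset.smul_sum]
        refine Finset.sum_eq_zero fun i _ => ?_
        rw [← TensorProduct.tmul_smul]
        have : f • a i = (f : A) • a i := rfl
        rw [this]
        have := congrFun h5 i
        simp only [Pi.smul_apply, Pi.zero_apply] at this
        rw [this, TensorProduct.tmul_zero]
      exact hfp (hmp.mem_of_pow_mem _ (hle h6))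
    · intro b
      have hb : b ∈ Submodule.span A (Set.range t) := by rw [hsurj]; trivial
      obtain ⟨c, hcb⟩ := Finsupp.mem_span_range_iff_exists_finsupp.mp hb
      refine ⟨c.sum fun a' a => a' ⊗ₜ[RingHom.eqLocus (algebraMap A B) t] a, ?_⟩
      rw [map_finsuppSum, ← hcb]
      refine Finsupp.sum_congr fun a' _ => ?_
      rw [hφ, Algebra.smul_def, mul_comm]

end Groth.Agent.Lib.Helper95.Q7
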