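import Groth.Agent.S1879
import Groth.Agent.Lib.Helper72.GrpdAffine
import Groth.Agent.Lib.Helper95.Q7
import Mathlib.Algebra.Category.Ring.Epi

set_option autoImplicit false
universe u
open CategoryTheory CategoryTheory.Limits AlgebraicGeometry
open Grpd

namespace Groth.Agent.Lib.Helper95.Q8

open Groth.Agent.Lib.Helper15.ProjCharpoly Polynomial Groth.Agent.Lib.Helper72.GrpdAffine
open TensorProduct

theorem cp_invariant {S : Scheme.{u}} (G : Grpd.GroupoidScheme S) [IsAffine G.U] [IsAffine G.R]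
    (π : letI := G.s.appTop.hom.toAlgebra; Pres Γ(G.U, ⊤) Γ(G.R, ⊤)) (x : Γ(G.U, ⊤)) :
    letI := G.s.appTop.hom.toAlgebra
    (π.cp (LinearMap.mulLeft Γ(G.U, ⊤) (G.t.appTop.hom x))).map G.s.appTop.hom =
      (π.cp (LinearMap.mulLeft Γ(G.U, ⊤) (G.t.appTop.hom x))).map G.t.appTop.hom := by
  letI alg : Algebra Γ(G.U, ⊤) Γ(G.R, ⊤) := G.s.appTop.hom.toAlgebra
  set y : Γ(G.R, ⊤) := G.t.appTop.hom x with hy
  have P1 : IsPullback (pullback.fst G.s G.t) (pullback.snd G.s G.t) G.s G.t :=
    IsPullback.of_hasPullback _ _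
  have Q1 := isPushout_appTop_of_isPullback P1
  have Q2 := isPushout_appTop_of_isPullback (Groth.Agent.S1880.isPullback_c_snd G)
  have hct : G.c ≫ G.t = pullback.fst G.s G.t ≫ G.t := by
    rw [Groth.Agent.S1880.c_eq]
    unfold Groth.Agent.S1886.comp
    rw [G.comp_t]
  have e : G.c.appTop.hom y = (pullback.fst G.s G.t).appTop.hom y := by
    have := congrArg (fun φ => φ.appTop.hom x) hct
    simpa using this
  exact Groth.Agent.S1879.cp_of_two_pushouts Q2.flip Q1.flip π y e

theorem hsurj_of_mono {S : Scheme.{u}} (G : Grpd.GroupoidScheme S) [IsAffine G.U] [IsAffine G.R]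
    [IsFinite G.s] [Mono G.j] :
    letI := G.s.appTop.hom.toAlgebra
    Submodule.span Γ(G.U, ⊤) (Set.range G.t.appTop.hom) = ⊤ := by
  letI alg : Algebra Γ(G.U, ⊤) Γ(G.R, ⊤) := G.s.appTop.hom.toAlgebra
  let m : Γ(G.U, ⊤) ⊗[ℤ] Γ(G.U, ⊤) →+* Γ(G.R, ⊤) :=
    (Algebra.TensorProduct.productMap G.t.appTop.hom.toIntAlgHom
      G.s.appTop.hom.toIntAlgHom).toRingHom
  have hm : ∀ a a', m (a ⊗ₜ a') = G.t.appTop.hom a * G.s.appTop.hom a' := by
    intro a a'
    simp [m]
  have hfin : G.s.appTop.hom.Finite :=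
    ((HasAffineProperty.iff_of_isAffine (P := @IsFinite)).mp (inferInstance : IsFinite G.s)).2
  have hmfin : m.Finite := by
    have hcomp : G.s.appTop.hom = m.comp
        (Algebra.TensorProduct.includeRight : Γ(G.U, ⊤) →ₐ[ℤ] Γ(G.U, ⊤) ⊗[ℤ] Γ(G.U, ⊤)).toRingHom := by
      ext a
      simp [m]
    rw [hcomp] at hfin
    exact RingHom.Finite.of_comp_finite hfin
  have hepi : Epi (CommRingCat.ofHom m) := by
    refine ⟨fun {Z} g h w => ?_⟩
    have w' : ∀ z, g.hom (m z) = h.hom (m z) := by
      intro z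
      have := congrArg (fun φ => φ.hom z) w
      simpa using this
    have ht : g.hom.comp G.t.appTop.hom = h.hom.comp G.t.appTop.hom := by
      ext a
      have := w' (a ⊗ₜ 1)
      rw [hm, map_one, mul_one] at this
      exact this
    have hs : g.hom.comp G.s.appTop.hom = h.hom.comp G.s.appTop.hom := by
      ext a
      have := w' (1 ⊗ₜ a)
      rw [hm, map_one, one_mul] at this
      exact this
    have hj : ofGam (X := G.R) g.hom ≫ G.j = ofGam (X := G.R) h.hom ≫ G.j := by
      apply pullback.hom_ext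
      · rw [Category.assoc, Category.assoc, GroupoidScheme.j, pullback.lift_fst, ofGam_comp,
          ofGam_comp, ht]
      · rw [Category.assoc, Category.assoc, GroupoidScheme.j, pullback.lift_snd, ofGam_comp,
          ofGam_comp, hs]
    have := (cancel_mono G.j).mp hj
    have h2 := congrArg gam this
    rw [gam_ofGam, gam_ofGam] at h2
    exact CommRingCat.hom_ext h2
  have hsurj : Function.Surjective m := by
    have := (RingHom.surjective_iff_epi_and_finite (f := CommRingCat.ofHom m)).mpr ⟨hepi, hmfin⟩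
    exact this
  rw [eq_top_iff]
  rintro b -
  obtain ⟨z, rfl⟩ := hsurj b
  induction z using TensorProduct.induction_on with
  | zero => rw [map_zero]; exact Submodule.zero_mem _
  | tmul a a' =>
    rw [hm]
    have : G.t.appTop.hom a * G.s.appTop.hom a' = a' • G.t.appTop.hom a := by
      rw [Algebra.smul_def, mul_comm]
      rfl
    rw [this]
    exact Submodule.smul_mem _ _ (Submodule.subset_span ⟨a, rfl⟩)
  | add y z hy hz => rw [map_add]; exact Submodule.add_mem _ hy hz

end Groth.Agent.Lib.Helper95.Q8
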