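import Mathlib

set_option autoImplicit false

namespace Groth.Agent.Lib.Helper95.FiltProj

open Finset

variable {W : Type*} [CommRing W]

lemma lift_of_projective_quotient (J : Ideal W) {P : Type*} [AddCommGroup P] [Module W P]
    [Module.Projective (W ⧸ J) (P ⧸ J • (⊤ : Submodule W P))]
    {A B : Type*} [AddCommGroup A] [Module W A] [AddCommGroup B] [Module W B]
    (hA : ∀ j ∈ J, ∀ a : A, j • a = 0) (hB : ∀ j ∈ J, ∀ b : B, j • b = 0)
    (g : A →ₗ[W] B) (hg : Function.Surjective g) (f : P →ₗ[W] B) :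
    ∃ h : P →ₗ[W] A, g ∘ₗ h = f := by
  have hA' : Module.IsTorsionBySet W A J := fun x a => hA a a.2 x
  have hB' : Module.IsTorsionBySet W B J := fun x a => hB a a.2 x
  let _ : Module (W ⧸ J) A := hA'.module
  let _ : Module (W ⧸ J) B := hB'.module
  have hsurj : Function.Surjective (algebraMap W (W ⧸ J)) := Ideal.Quotient.mk_surjective
  let g' : A →ₗ[W ⧸ J] B := g.extendScalarsOfSurjective hsurj
  have hle : J • (⊤ : Submodule W P) ≤ LinearMap.ker f := by
    rw [Submodule.smul_le]
    intro j hj x _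
    rw [LinearMap.mem_ker, map_smul, hB j hj]
  let fbar : (P ⧸ J • (⊤ : Submodule W P)) →ₗ[W] B := (J • (⊤ : Submodule W P)).liftQ f hle
  let f' : (P ⧸ J • (⊤ : Submodule W P)) →ₗ[W ⧸ J] B := fbar.extendScalarsOfSurjective hsurj
  obtain ⟨h', hh'⟩ := Module.projective_lifting_property g' f' hg
  refine ⟨(h'.restrictScalars W) ∘ₗ (J • (⊤ : Submodule W P)).mkQ, ?_⟩
  ext x
  have := LinearMap.congr_fun hh' ((J • (⊤ : Submodule W P)).mkQ x)
  simpa [g', f', fbar] using this


lemma pi_mem_smul_top {r : ℕ} (J : Ideal W) (q : Fin r → W) :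
    q ∈ J • (⊤ : Submodule W (Fin r → W)) ↔ ∀ i, q i ∈ J := by
  constructor
  · intro h
    refine Submodule.smul_induction_on h ?_ ?_
    · intro j hj m _ i
      simpa using J.mul_mem_right _ hj
    · intro x y hx hy i
      simpa using J.add_mem (hx i) (hy i)
  · intro h
    have h1 : q = ∑ i, q i • (Pi.single i (1 : W) : Fin r → W) := by
      ext k
      simp [Finset.sum_apply, Pi.single_apply]
    rw [h1]
    exact Submodule.sum_mem _ fun i _ => Submodule.smul_mem_smul (h i) Submodule.mem_top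

section Main

variable (I : ℕ → Ideal W) (P : Type*) [AddCommGroup P] [Module W P]

lemma sup_smul_top_of_pow {U : Submodule W P} (J : Ideal W)
    (h : U ⊔ J • (⊤ : Submodule W P) = ⊤) (N : ℕ) :
    U ⊔ (J ^ N) • (⊤ : Submodule W P) = ⊤ := by
  induction N with
  | zero => simp
  | succ N ih =>
    rw [eq_top_iff]
    calc (⊤ : Submodule W P) = U ⊔ J • (⊤ : Submodule W P) := h.symm
      _ = U ⊔ J • (U ⊔ (J ^ N) • (⊤ : Submodule W P)) := by rw [ih]
      _ ≤ U ⊔ (J ^ (N + 1)) • (⊤ : Submodule W P) := by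
        rw [Submodule.smul_sup]
        refine sup_le le_sup_left (sup_le ?_ ?_)
        · exact le_sup_of_le_left Submodule.smul_le_right
        · rw [← Submodule.mul_smul, ← pow_succ']
          exact le_sup_right


lemma smul_quot_eq_zero {M : Type*} [AddCommGroup M] [Module W M] (J : Ideal W) (j : W)
    (hj : j ∈ J) (a : M ⧸ (J • ⊤ : Submodule W M)) : j • a = 0 := by
  obtain ⟨q, rfl⟩ := Submodule.mkQ_surjective _ a
  rw [← map_smul, Submodule.mkQ_apply, Submodule.Quotient.mk_eq_zero]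
  exact Submodule.smul_mem_smul hj Submodule.mem_top

lemma map_smul_top_le {M N : Type*} [AddCommGroup M] [Module W M] [AddCommGroup N] [Module W N]
    (J : Ideal W) (u : M →ₗ[W] N) :
    (J • ⊤ : Submodule W M) ≤ (J • ⊤ : Submodule W N).comap u := by
  rw [Submodule.smul_le]
  intro j hj x _
  rw [Submodule.mem_comap, map_smul]
  exact Submodule.smul_mem_smul hj Submodule.mem_top

lemma linearMap_eq_zero_of_mem_smul {M N : Type*} [AddCommGroup M] [Module W M]
    [AddCommGroup N] [Module W N] (J : Ideal W) (hN : ∀ j ∈ J, ∀ b : N, j • b = 0)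
    (f : M →ₗ[W] N) (y : M) (hy : y ∈ (J • ⊤ : Submodule W M)) : f y = 0 := by
  refine Submodule.smul_induction_on hy ?_ ?_
  · intro j hj m _
    rw [map_smul, hN j hj]
  · intro x y hx hy
    rw [map_add, hx, hy, add_zero]

lemma step {r : ℕ} (J J' : Ideal W) (hle : J' ≤ J) (k : ℕ) (hk : J ^ k ≤ J')
    [Module.Projective (W ⧸ J') (P ⧸ J' • (⊤ : Submodule W P))]
    (u : (Fin r → W) →ₗ[W] P)
    (s : P →ₗ[W] (Fin r → W) ⧸ (J • ⊤ : Submodule W (Fin r → W)))
    (hs : ∀ x, Submodule.mapQ _ _ u (map_smul_top_le J u) (s x) =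
      (J • ⊤ : Submodule W P).mkQ x) :
    ∃ s' : P →ₗ[W] (Fin r → W) ⧸ (J' • ⊤ : Submodule W (Fin r → W)),
      (∀ x, Submodule.mapQ _ _ u (map_smul_top_le J' u) (s' x) =
        (J' • ⊤ : Submodule W P).mkQ x) ∧
      ∀ x, Submodule.factor (Submodule.smul_mono_left hle) (s' x) = s x := by
  have hleQ : (J' • ⊤ : Submodule W (Fin r → W)) ≤ J • ⊤ := Submodule.smul_mono_left hle
  have hleP : (J' • ⊤ : Submodule W P) ≤ J • ⊤ := Submodule.smul_mono_left hle
  obtain ⟨t, ht⟩ := lift_of_projective_quotient J' (smul_quot_eq_zero J')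
    (fun j hj => smul_quot_eq_zero J j (hle hj)) (Submodule.factor hleQ)
    (Submodule.factor_surjective hleQ) s
  set U := Submodule.mapQ _ _ u (map_smul_top_le J' u) with hU
  set Un := Submodule.mapQ _ _ u (map_smul_top_le J u) with hUn
  set m := (J' • ⊤ : Submodule W P).mkQ with hm
  set ε : P →ₗ[W] (P ⧸ (J' • ⊤ : Submodule W P)) := U ∘ₗ t - m with hε
  have hnat : ∀ a, Submodule.factor hleP (U a) = Un (Submodule.factor hleQ a) := by
    intro a
    obtain ⟨q, rfl⟩ := Submodule.mkQ_surjective _ a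
    simp [hU, hUn]
  have htx : ∀ x, Submodule.factor hleQ (t x) = s x := fun x => LinearMap.congr_fun ht x
  have hkerε : (J' • ⊤ : Submodule W P) ≤ LinearMap.ker ε := by
    intro y hy
    rw [LinearMap.mem_ker]
    exact linearMap_eq_zero_of_mem_smul J' (smul_quot_eq_zero J') ε y hy
  have hkert : (J' • ⊤ : Submodule W P) ≤ LinearMap.ker t := by
    intro y hy
    rw [LinearMap.mem_ker]
    exact linearMap_eq_zero_of_mem_smul J' (smul_quot_eq_zero J') t y hy
  set tbar := (J' • ⊤ : Submodule W P).liftQ t hkert with htbar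
  set εbar : Module.End W (P ⧸ (J' • ⊤ : Submodule W P)) :=
    (J' • ⊤ : Submodule W P).liftQ ε hkerε with hεbar
  have claimA : ∀ z, εbar z ∈ (J • ⊤ : Submodule W (P ⧸ (J' • ⊤ : Submodule W P))) := by
    intro z
    obtain ⟨x, rfl⟩ := Submodule.mkQ_surjective _ z
    obtain ⟨y0, hy0⟩ := Submodule.mkQ_surjective (J' • ⊤ : Submodule W P) (ε x)
    have h1 : Submodule.factor hleP (ε x) = 0 := by
      rw [hε, LinearMap.sub_apply, LinearMap.comp_apply, map_sub, hnat, htx, hs, hm,
        Submodule.factor_mk, sub_self]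
    rw [← hy0, Submodule.factor_mk, Submodule.mkQ_apply, Submodule.Quotient.mk_eq_zero] at h1
    rw [hεbar, Submodule.mkQ_apply, Submodule.liftQ_apply, ← hy0]
    exact map_smul_top_le J (J' • ⊤ : Submodule W P).mkQ h1
  have claimC : ∀ i z, (εbar ^ i) z ∈
      ((J ^ i) • ⊤ : Submodule W (P ⧸ (J' • ⊤ : Submodule W P))) := by
    intro i
    induction i with
    | zero => intro z; simp
    | succ i ih =>
      intro z
      have h2 := ih z
      have h3 : (εbar ^ (i + 1)) z = εbar ((εbar ^ i) z) := by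
        rw [pow_succ' εbar i, Module.End.mul_apply]
      rw [h3]
      have hJ : J ^ (i + 1) = J ^ i * J := pow_succ J i
      rw [hJ]
      refine Submodule.smul_induction_on h2 ?_ ?_
      · intro c hc w _
        rw [map_smul, Submodule.mul_smul]
        exact Submodule.smul_mem_smul hc (claimA w)
      · intro a b ha hb
        rw [map_add]
        exact Submodule.add_mem _ ha hb
  have hεk : εbar ^ k = 0 := by
    ext z
    have h3 := Submodule.smul_mono_left (N := (⊤ : Submodule W (P ⧸ (J' • ⊤ : Submodule W P)))) hk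
      (claimC k (Submodule.Quotient.mk z))
    have h4 := linearMap_eq_zero_of_mem_smul J' (smul_quot_eq_zero J')
      (LinearMap.id : (P ⧸ (J' • ⊤ : Submodule W P)) →ₗ[W] _) _ h3
    simpa using h4
  set θ : Module.End W (P ⧸ (J' • ⊤ : Submodule W P)) := ∑ i ∈ range k, (-εbar) ^ i with hθ
  have hθ1 : (1 - (-εbar)) * θ = 1 := by
    have h7 : (-εbar) ^ k = 0 := by
      rw [neg_pow εbar k, hεk, mul_zero]
    rw [hθ, mul_neg_geom_sum, h7, sub_zero]
  have hUt : ∀ z, U (tbar z) = z + εbar z := by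
    intro z
    obtain ⟨x, rfl⟩ := Submodule.mkQ_surjective _ z
    rw [htbar, hεbar, Submodule.mkQ_apply, Submodule.liftQ_apply, Submodule.liftQ_apply, hε,
      LinearMap.sub_apply, LinearMap.comp_apply, hm, Submodule.mkQ_apply]
    abel
  have hθ2 : ∀ z, θ z + εbar (θ z) = z := by
    intro z
    have := LinearMap.congr_fun hθ1 z
    simpa [Module.End.mul_apply, sub_neg_eq_add] using this
  refine ⟨tbar ∘ₗ θ ∘ₗ m, ?_, ?_⟩
  · intro x
    rw [LinearMap.comp_apply, LinearMap.comp_apply, hUt, hθ2]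
  · intro x
    rw [LinearMap.comp_apply, LinearMap.comp_apply]
    have h5 : θ (m x) = m x - εbar (θ (m x)) := by
      rw [eq_sub_iff_add_eq, hθ2]
    rw [h5, map_sub, map_sub]
    have h6 : (Submodule.factor hleQ ∘ₗ tbar) (εbar (θ (m x))) = 0 :=
      linearMap_eq_zero_of_mem_smul J (smul_quot_eq_zero J) _ _ (claimA _)
    rw [LinearMap.comp_apply] at h6
    rw [h6, sub_zero, htbar, hm, Submodule.mkQ_apply, Submodule.liftQ_apply, htx]

lemma pi_complete {r : ℕ}
    (hcomp : ∀ w : ℕ → W, (∀ n, w (n + 1) - w n ∈ I n) → ∃ L, ∀ n, L - w n ∈ I n)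
    (q : ℕ → (Fin r → W))
    (hq : ∀ n, q (n + 1) - q n ∈ (I n • ⊤ : Submodule W (Fin r → W))) :
    ∃ L : Fin r → W, ∀ n, L - q n ∈ (I n • ⊤ : Submodule W (Fin r → W)) := by
  have h1 : ∀ i : Fin r, ∃ L : W, ∀ n, L - q n i ∈ I n := by
    intro i
    apply hcomp (fun n => q n i)
    intro n
    have := (pi_mem_smul_top (I n) _).mp (hq n) i
    simpa using this
  choose L hL using h1
  refine ⟨L, fun n => ?_⟩
  rw [pi_mem_smul_top]
  intro i
  simpa using hL i n

lemma pi_sep {r : ℕ} (hsep : ∀ w : W, (∀ n, w ∈ I n) → w = 0) (q : Fin r → W)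
    (hq : ∀ n, q ∈ (I n • ⊤ : Submodule W (Fin r → W))) : q = 0 := by
  ext i
  exact hsep _ fun n => (pi_mem_smul_top (I n) q).mp (hq n) i

theorem finite_projective_of_filtration
    (hanti : Antitone I)
    (hsep : ∀ w : W, (∀ n, w ∈ I n) → w = 0)
    (hcomp : ∀ w : ℕ → W, (∀ n, w (n + 1) - w n ∈ I n) → ∃ L, ∀ n, L - w n ∈ I n)
    (hnil : ∀ n, ∃ N, I 1 ^ N ≤ I n)
    (hPsep : ∀ x : P, (∀ n, x ∈ I n • (⊤ : Submodule W P)) → x = 0)
    [hfin : Module.Finite (W ⧸ I 1) (P ⧸ I 1 • (⊤ : Submodule W P))]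
    [hproj : ∀ n, Module.Projective (W ⧸ I n) (P ⧸ I n • (⊤ : Submodule W P))] :
    Module.Finite W P ∧ Module.Projective W P := by
  obtain ⟨r, g, hg⟩ := Module.Finite.exists_fin (R := W ⧸ I 1)
    (M := P ⧸ I 1 • (⊤ : Submodule W P))
  choose x hx using fun i => Submodule.mkQ_surjective (I 1 • (⊤ : Submodule W P)) (g i)
  set u : (Fin r → W) →ₗ[W] P := Fintype.linearCombination W x with hu
  have h1 : LinearMap.range u ⊔ I 1 • (⊤ : Submodule W P) = ⊤ := by
    rw [eq_top_iff]
    intro y _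
    have hy : (I 1 • (⊤ : Submodule W P)).mkQ y ∈ Submodule.span (W ⧸ I 1) (Set.range g) := by
      rw [hg]; trivial
    rw [Submodule.mem_span_range_iff_exists_fun] at hy
    obtain ⟨c, hc⟩ := hy
    choose c' hc' using fun i => Ideal.Quotient.mk_surjective (c i)
    have h2 : (I 1 • (⊤ : Submodule W P)).mkQ (u c') = (I 1 • (⊤ : Submodule W P)).mkQ y := by
      rw [← hc, hu, Fintype.linearCombination_apply, map_sum]
      refine Finset.sum_congr rfl fun i _ => ?_
      rw [← hc' i, ← hx i]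
      rfl
    have h3 : y - u c' ∈ I 1 • (⊤ : Submodule W P) := by
      rw [← Submodule.Quotient.mk_eq_zero, Submodule.Quotient.mk_sub]
      rw [Submodule.mkQ_apply, Submodule.mkQ_apply] at h2
      rw [h2, sub_self]
    have h4 : y = u c' + (y - u c') := by abel
    rw [h4]
    exact Submodule.add_mem_sup (LinearMap.mem_range_self u c') h3
  have h2 : ∀ n, LinearMap.range u ⊔ I n • (⊤ : Submodule W P) = ⊤ := by
    intro n
    obtain ⟨N, hN⟩ := hnil n
    have h3 := sup_smul_top_of_pow P (I 1) h1 N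
    apply top_le_iff.mp
    calc (⊤ : Submodule W P) = LinearMap.range u ⊔ (I 1 ^ N) • (⊤ : Submodule W P) := h3.symm
      _ ≤ LinearMap.range u ⊔ I n • (⊤ : Submodule W P) :=
        sup_le_sup_left (Submodule.smul_mono_left hN) _
  have hUsurj : ∀ n, Function.Surjective
      (Submodule.mapQ _ _ u (map_smul_top_le (I n) u)) := by
    intro n z
    obtain ⟨y, rfl⟩ := Submodule.mkQ_surjective _ z
    have hy : y ∈ LinearMap.range u ⊔ I n • (⊤ : Submodule W P) := by rw [h2 n]; trivial
    obtain ⟨a, ⟨q, rfl⟩, b, hb, rfl⟩ := Submodule.mem_sup.mp hy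
    refine ⟨Submodule.Quotient.mk q, ?_⟩
    rw [Submodule.mapQ_apply, Submodule.mkQ_apply, Submodule.Quotient.mk_add,
      (Submodule.Quotient.mk_eq_zero _).mpr hb, add_zero]
  let G : ℕ → Type _ := fun n =>
    {s : P →ₗ[W] (Fin r → W) ⧸ (I (n + 1) • ⊤ : Submodule W (Fin r → W)) //
      ∀ y, Submodule.mapQ _ _ u (map_smul_top_le (I (n + 1)) u) (s y) =
        (I (n + 1) • ⊤ : Submodule W P).mkQ y}
  have hbase : Nonempty (G 0) := by
    obtain ⟨s, hs⟩ := lift_of_projective_quotient (I (0 + 1)) (smul_quot_eq_zero (I (0 + 1)))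
      (smul_quot_eq_zero (I (0 + 1))) (Submodule.mapQ _ _ u (map_smul_top_le (I (0 + 1)) u))
      (hUsurj (0 + 1)) (I (0 + 1) • ⊤ : Submodule W P).mkQ
    exact ⟨⟨s, fun y => LinearMap.congr_fun hs y⟩⟩
  have hstep : ∀ n (s : G n), ∃ s' : G (n + 1), ∀ y,
      Submodule.factor (Submodule.smul_mono_left (hanti (Nat.le_succ (n + 1)))) (s'.1 y) =
        s.1 y := by
    intro n s
    obtain ⟨k, hk⟩ := hnil (n + 1 + 1)
    have hk' : I (n + 1) ^ k ≤ I (n + 1 + 1) :=
      (Ideal.pow_right_mono (hanti (show 1 ≤ n + 1 by omega)) k).trans hk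
    obtain ⟨s', h1, h2⟩ := step P (I (n + 1)) (I (n + 1 + 1)) (hanti (Nat.le_succ (n + 1)))
      k hk' u s.1 s.2
    exact ⟨⟨s', h1⟩, h2⟩
  choose next hnext using hstep
  let σ : ∀ n, G n := fun n => Nat.rec hbase.some (fun n s => next n s) n
  have hσ : ∀ n y, Submodule.factor (Submodule.smul_mono_left (hanti (Nat.le_succ (n + 1))))
      ((σ (n + 1)).1 y) = (σ n).1 y := fun n y => hnext n (σ n) y
  let s : ∀ n, P →ₗ[W] (Fin r → W) ⧸ (I n • ⊤ : Submodule W (Fin r → W)) := fun n =>
    (Submodule.factor (Submodule.smul_mono_left (hanti (Nat.le_succ n)))) ∘ₗ (σ n).1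
  have hs_good : ∀ n y, Submodule.mapQ _ _ u (map_smul_top_le (I n) u) (s n y) =
      (I n • ⊤ : Submodule W P).mkQ y := by
    intro n y
    obtain ⟨q, hq⟩ := Submodule.mkQ_surjective _ ((σ n).1 y)
    have h := (σ n).2 y
    simp only [s, LinearMap.comp_apply]
    rw [← hq] at h ⊢
    rw [Submodule.factor_mk, Submodule.mkQ_apply, Submodule.mapQ_apply]
    rw [Submodule.mkQ_apply, Submodule.mapQ_apply, Submodule.mkQ_apply, Submodule.Quotient.eq] at h
    rw [Submodule.mkQ_apply, Submodule.Quotient.eq]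
    exact Submodule.smul_mono_left (hanti (Nat.le_succ n)) h
  have hs_compat : ∀ n y, Submodule.factor (Submodule.smul_mono_left (hanti (Nat.le_succ n)))
      (s (n + 1) y) = s n y := by
    intro n y
    simp only [s, LinearMap.comp_apply]
    rw [← hσ n y]
  choose lift hlift using fun n (y : P) =>
    Submodule.mkQ_surjective (I n • ⊤ : Submodule W (Fin r → W)) (s n y)
  have hlift_diff : ∀ n y, lift (n + 1) y - lift n y ∈
      (I n • ⊤ : Submodule W (Fin r → W)) := by
    intro n y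
    rw [← Submodule.Quotient.eq, ← Submodule.mkQ_apply, ← Submodule.mkQ_apply, hlift n y,
      ← hs_compat n y, ← hlift (n + 1) y, Submodule.factor_mk]
  have hlim : ∀ y, ∃ L : Fin r → W, ∀ n,
      (I n • ⊤ : Submodule W (Fin r → W)).mkQ L = s n y := by
    intro y
    obtain ⟨L, hL⟩ := pi_complete I hcomp (fun n => lift n y) (fun n => hlift_diff n y)
    refine ⟨L, fun n => ?_⟩
    rw [← hlift n y, Submodule.mkQ_apply, Submodule.mkQ_apply, Submodule.Quotient.eq]
    exact hL n
  choose S hS using hlim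
  have huniq : ∀ a b : Fin r → W, (∀ n, (I n • ⊤ : Submodule W (Fin r → W)).mkQ a =
      (I n • ⊤ : Submodule W (Fin r → W)).mkQ b) → a = b := by
    intro a b h
    rw [← sub_eq_zero]
    apply pi_sep I hsep
    intro n
    rw [← Submodule.Quotient.eq, ← Submodule.mkQ_apply, ← Submodule.mkQ_apply]
    exact h n
  let Slin : P →ₗ[W] (Fin r → W) :=
    { toFun := S
      map_add' := fun a b => huniq _ _ (fun n => by rw [map_add, hS, hS, hS, map_add])
      map_smul' := fun c a => huniq _ _ (fun n => by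
        rw [RingHom.id_apply, map_smul, hS, hS, map_smul]) }
  have huS : u ∘ₗ Slin = LinearMap.id := by
    ext y
    simp only [LinearMap.comp_apply, LinearMap.id_apply]
    rw [← sub_eq_zero]
    apply hPsep
    intro n
    rw [← Submodule.Quotient.mk_eq_zero, Submodule.Quotient.mk_sub, sub_eq_zero]
    have := hs_good n y
    rw [← hS y n, Submodule.mkQ_apply, Submodule.mapQ_apply] at this
    exact this
  refine ⟨Module.Finite.of_surjective u ?_, Module.Projective.of_split Slin u huS⟩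
  intro y
  exact ⟨Slin y, LinearMap.congr_fun huS y⟩


lemma projective_quotient (J : Ideal W) [Module.Projective W P] :
    Module.Projective (W ⧸ J) (P ⧸ J • (⊤ : Submodule W P)) := by
  have e := (TensorProduct.quotTensorEquivQuotSMul P J).extendScalarsOfSurjective
    (S := W ⧸ J) Ideal.Quotient.mk_surjective
  exact Module.Projective.of_equiv e

lemma sep_of_projective (hsep : ∀ w : W, (∀ n, w ∈ I n) → w = 0) [hP : Module.Projective W P]
    (x : P) (hx : ∀ n, x ∈ I n • (⊤ : Submodule W P)) : x = 0 := by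
  obtain ⟨s, hs⟩ := Module.projective_def'.mp hP
  have h1 : s x = 0 := by
    ext a
    apply hsep
    intro n
    have := map_smul_top_le (I n) ((Finsupp.lapply a) ∘ₗ s) (hx n)
    rw [Submodule.mem_comap, smul_eq_mul, Ideal.mul_top] at this
    simpa using this
  have := LinearMap.congr_fun hs x
  simp only [LinearMap.comp_apply, h1, map_zero, LinearMap.id_apply] at this
  exact this.symm

end Main

end Groth.Agent.Lib.Helper95.FiltProj
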