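import Mathlib

set_option autoImplicit false

namespace Groth.Agent.Lib.Helper95.NewtonIdem

open Polynomial Finset

noncomputable def xs : ℕ → ℤ[X]
  | 0 => X
  | (k + 1) => 3 * (xs k) ^ 2 - 2 * (xs k) ^ 3

noncomputable def ds (k : ℕ) : ℤ[X] := (xs k) ^ 2 - xs k

lemma ds_succ (k : ℕ) : ds (k + 1) = (ds k) ^ 2 * (4 * ds k - 3) := by
  simp only [ds, xs]; ring

lemma xs_succ_sub (k : ℕ) : xs (k + 1) - xs k = ds k * (1 - 2 * xs k) := by
  simp only [ds, xs]; ring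

lemma ds_dvd (k : ℕ) : (ds 0) ^ (2 ^ k) ∣ ds k := by
  induction k with
  | zero => simp
  | succ k ih =>
    rw [ds_succ, pow_succ, pow_mul]
    exact Dvd.dvd.mul_right (pow_dvd_pow_of_dvd ih 2) _

lemma ds0_dvd_ds (k : ℕ) : ds 0 ∣ ds k :=
  (dvd_pow_self _ (by positivity)).trans (ds_dvd k)

lemma ds0_dvd_xs_sub (k : ℕ) : ds 0 ∣ xs k - xs 0 := by
  induction k with
  | zero => simp
  | succ k ih =>
    have h : xs (k + 1) - xs 0 = (xs (k + 1) - xs k) + (xs k - xs 0) := by ring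
    rw [h, xs_succ_sub]
    exact dvd_add (Dvd.dvd.mul_right (ds0_dvd_ds k) _) ih

variable {E : Type*} [Ring E]

theorem exists_idempotent (F : ℕ → AddSubgroup E)
    (hFl : ∀ n, ∀ a ∈ F n, ∀ b, b * a ∈ F n) (hFr : ∀ n, ∀ a ∈ F n, ∀ b, a * b ∈ F n)
    (hsep : ∀ x, (∀ n, x ∈ F n) → x = 0)
    (hcomp : ∀ y : ℕ → E, (∀ n, y (n + 1) - y n ∈ F n) → ∃ L, ∀ n, L - y n ∈ F n)
    (𝔍 : AddSubgroup E) (h𝔍r : ∀ a ∈ 𝔍, ∀ b, a * b ∈ 𝔍)
    (h𝔍closed : ∀ x, (∀ n, ∃ j ∈ 𝔍, x - j ∈ F n) → x ∈ 𝔍)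
    (x₀ : E) (hd𝔍 : x₀ ^ 2 - x₀ ∈ 𝔍) (hnil : ∀ n, ∃ N, (x₀ ^ 2 - x₀) ^ N ∈ F n) :
    ∃ e : E, e * e = e ∧ e - x₀ ∈ 𝔍 := by
  set ev : ℤ[X] →ₐ[ℤ] E := aeval x₀ with hev
  have hev0 : ev (ds 0) = x₀ ^ 2 - x₀ := by simp [hev, ds, xs]
  have hevx0 : ev (xs 0) = x₀ := by simp [hev, xs]
  choose N hN using hnil
  set K : ℕ → ℕ := fun n => ∑ j ∈ range (n + 1), N j with hK
  have hKN : ∀ n, N n ≤ K n := fun n => by
    simp only [hK, sum_range_succ]; omega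
  have hKmono : ∀ n, K n ≤ K (n + 1) := fun n => by
    simp only [hK]; rw [sum_range_succ _ (n + 1)]; omega
  have hdk : ∀ n k, K n ≤ k → ev (ds k) ∈ F n := by
    intro n k hk
    obtain ⟨c, hc⟩ := ds_dvd k
    have h1 : N n ≤ 2 ^ k := (hKN n).trans (hk.trans (Nat.lt_two_pow_self).le)
    have h2 : (ds 0) ^ (2 ^ k) = (ds 0) ^ (N n) * (ds 0) ^ (2 ^ k - N n) := by
      rw [← pow_add]; congr 1; omega
    rw [hc, h2, map_mul, map_mul, map_pow, hev0, mul_assoc]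
    exact hFr n _ (hN n) _
  have hstep : ∀ n k, K n ≤ k → ev (xs (k + 1)) - ev (xs k) ∈ F n := by
    intro n k hk
    rw [← map_sub, xs_succ_sub, map_mul]
    exact hFr n _ (hdk n k hk) _
  have hsteps : ∀ n k m, K n ≤ k → ev (xs (k + m)) - ev (xs k) ∈ F n := by
    intro n k m hk
    induction m with
    | zero => simp
    | succ m ih =>
      have h : ev (xs (k + (m + 1))) - ev (xs k) =
          (ev (xs (k + m + 1)) - ev (xs (k + m))) + (ev (xs (k + m)) - ev (xs k)) := by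
        rw [← add_assoc]; abel
      rw [h]
      exact (F n).add_mem (hstep n (k + m) (by omega)) ih
  obtain ⟨e, he⟩ := hcomp (fun n => ev (xs (K n))) (by
    intro n
    have h := hsteps n (K n) (K (n + 1) - K n) le_rfl
    have h2 : K n + (K (n + 1) - K n) = K (n + 1) := by have := hKmono n; omega
    rw [h2] at h
    exact h)
  refine ⟨e, ?_, ?_⟩
  · rw [← sub_eq_zero]
    apply hsep
    intro n
    set Y := ev (xs (K n)) with hY
    have h1 : e * e - e = e * (e - Y) + (e - Y) * Y - (e - Y) + (Y ^ 2 - Y) := by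
      noncomm_ring
    have h2 : Y ^ 2 - Y = ev (ds (K n)) := by simp [hY, ds]
    rw [h1, h2]
    refine (F n).add_mem ((F n).sub_mem ((F n).add_mem ?_ ?_) (he n)) (hdk n (K n) le_rfl)
    · exact hFl n _ (he n) _
    · exact hFr n _ (he n) _
  · apply h𝔍closed
    intro n
    refine ⟨ev (xs (K n)) - x₀, ?_, ?_⟩
    · obtain ⟨c, hc⟩ := ds0_dvd_xs_sub (K n)
      have h3 : ev (xs (K n)) - x₀ = ev (xs (K n) - xs 0) := by rw [map_sub, hevx0]
      rw [h3, hc, map_mul, hev0]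
      exact h𝔍r _ hd𝔍 _
    · have h4 : e - x₀ - (ev (xs (K n)) - x₀) = e - ev (xs (K n)) := by abel
      rw [h4]
      exact he n

end Groth.Agent.Lib.Helper95.NewtonIdem
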