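import Mathlib
import Groth.Agent.Lib.Helper95.NewtonIdem
import Groth.Agent.Lib.Helper95.FiltProj

set_option autoImplicit false

namespace Groth.Agent.Lib.Helper95.NormalDecomp

open Groth.Agent.Lib.Helper95.FiltProj Groth.Agent.Lib.Helper95.NewtonIdem

variable {W : Type*} [CommRing W] (J : Ideal W) (P : Type*) [AddCommGroup P] [Module W P]

def FF (n : ℕ) : AddSubgroup (Module.End W P) where
  carrier := {f | ∀ x, f x ∈ (J ^ n • ⊤ : Submodule W P)}
  add_mem' := by
    intro a b ha hb x
    rw [LinearMap.add_apply]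
    exact Submodule.add_mem _ (ha x) (hb x)
  zero_mem' := by
    intro x
    rw [LinearMap.zero_apply]
    exact Submodule.zero_mem _
  neg_mem' := by
    intro a ha x
    rw [LinearMap.neg_apply]
    exact Submodule.neg_mem _ (ha x)

lemma mem_FF (n : ℕ) (f : Module.End W P) :
    f ∈ FF J P n ↔ ∀ x, f x ∈ (J ^ n • ⊤ : Submodule W P) := Iff.rfl

lemma FF_left (n : ℕ) (a : Module.End W P) (ha : a ∈ FF J P n) (b : Module.End W P) :
    b * a ∈ FF J P n := by
  intro x
  rw [Module.End.mul_apply]
  exact map_smul_top_le (J ^ n) b (ha x)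

lemma FF_right (n : ℕ) (a : Module.End W P) (ha : a ∈ FF J P n) (b : Module.End W P) :
    a * b ∈ FF J P n := by
  intro x
  rw [Module.End.mul_apply]
  exact ha _

lemma map_mem_pow_succ (d : Module.End W P) (hd : d ∈ FF J P 1) (n : ℕ) (y : P)
    (hy : y ∈ (J ^ n • ⊤ : Submodule W P)) : d y ∈ (J ^ (n + 1) • ⊤ : Submodule W P) := by
  refine Submodule.smul_induction_on hy ?_ ?_
  · intro c hc z _
    rw [map_smul, pow_succ, Submodule.mul_smul]
    have := hd z
    rw [pow_one] at this
    exact Submodule.smul_mem_smul hc this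
  · intro a b ha hb
    rw [map_add]
    exact Submodule.add_mem _ ha hb

lemma pow_mem_FF (d : Module.End W P) (hd : d ∈ FF J P 1) (n : ℕ) : d ^ n ∈ FF J P n := by
  induction n with
  | zero => intro x; simp
  | succ n ih =>
    intro x
    have h : (d ^ (n + 1)) x = d ((d ^ n) x) := by
      rw [pow_succ' d n, Module.End.mul_apply]
    rw [h]
    exact map_mem_pow_succ J P d hd n _ (ih x)


section Complete

variable [IsAdicComplete J W]

include J in
lemma hsepW (w : W) (h : ∀ n, w ∈ J ^ n) : w = 0 := by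
  apply IsHausdorff.haus' (I := J)
  intro n
  rw [smul_eq_mul, Ideal.mul_top, SModEq.zero]
  exact h n

lemma hcompW (w : ℕ → W) (hw : ∀ n, w (n + 1) - w n ∈ J ^ n) :
    ∃ L, ∀ n, L - w n ∈ J ^ n := by
  obtain ⟨L, hL⟩ := IsPrecomplete.prec' (I := J) (M := W) w (by
    apply (AdicCompletion.isAdicCauchy_iff _ _ _).mpr
    intro k
    apply SModEq.symm
    rw [smul_eq_mul, Ideal.mul_top, SModEq.sub_mem]
    exact hw k)
  refine ⟨L, fun n => ?_⟩
  have := (hL n).symm
  rwa [smul_eq_mul, Ideal.mul_top, SModEq.sub_mem] at this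

variable [Module.Finite W P] [Module.Projective W P]

lemma hsepP (x : P) (h : ∀ n, x ∈ (J ^ n • ⊤ : Submodule W P)) : x = 0 :=
  sep_of_projective (fun n => J ^ n) P (hsepW J) x h

lemma FF_sep (f : Module.End W P) (h : ∀ n, f ∈ FF J P n) : f = 0 := by
  ext x
  exact hsepP J P (f x) (fun n => h n x)

lemma FF_complete (y : ℕ → Module.End W P) (hy : ∀ n, y (n + 1) - y n ∈ FF J P n) :
    ∃ L, ∀ n, L - y n ∈ FF J P n := by
  obtain ⟨r, g, hg⟩ := Module.Finite.exists_fin (R := W) (M := P)
  set π : (Fin r → W) →ₗ[W] P := Fintype.linearCombination W g with hπ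
  have hπsurj : Function.Surjective π := by
    rw [← LinearMap.range_eq_top, hπ, Fintype.range_linearCombination, hg]
  obtain ⟨i, hi⟩ := Module.projective_lifting_property π LinearMap.id hπsurj
  have hlim : ∀ x : P, ∃ ℓ : Fin r → W, ∀ n,
      ℓ - i (y n x) ∈ (J ^ n • ⊤ : Submodule W (Fin r → W)) := by
    intro x
    apply pi_complete (fun n => J ^ n) (hcompW J) (fun n => i (y n x))
    intro n
    have h1 : i (y (n + 1) x) - i (y n x) = i ((y (n + 1) - y n) x) := by
      rw [LinearMap.sub_apply, map_sub]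
    rw [h1]
    exact map_smul_top_le (J ^ n) i (hy n x)
  choose ℓ hℓ using hlim
  have hL : ∀ x n, π (ℓ x) - y n x ∈ (J ^ n • ⊤ : Submodule W P) := by
    intro x n
    have h1 : π (ℓ x) - y n x = π (ℓ x - i (y n x)) := by
      rw [map_sub]
      have := LinearMap.congr_fun hi (y n x)
      simp only [LinearMap.comp_apply, LinearMap.id_apply] at this
      rw [this]
    rw [h1]
    exact map_smul_top_le (J ^ n) π (hℓ x n)
  refine ⟨{ toFun := fun x => π (ℓ x), map_add' := ?_, map_smul' := ?_ }, fun n x => ?_⟩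
  · intro a b
    rw [← sub_eq_zero]
    apply hsepP J P
    intro n
    have h2 : π (ℓ (a + b)) - (π (ℓ a) + π (ℓ b)) =
        (π (ℓ (a + b)) - y n (a + b)) - (π (ℓ a) - y n a) - (π (ℓ b) - y n b) := by
      rw [map_add]; abel
    rw [h2]
    exact Submodule.sub_mem _ (Submodule.sub_mem _ (hL _ n) (hL _ n)) (hL _ n)
  · intro c a
    rw [RingHom.id_apply, ← sub_eq_zero]
    apply hsepP J P
    intro n
    have h2 : π (ℓ (c • a)) - c • π (ℓ a) =
        (π (ℓ (c • a)) - y n (c • a)) - c • (π (ℓ a) - y n a) := by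
      rw [map_smul, smul_sub]; abel
    rw [h2]
    exact Submodule.sub_mem _ (hL _ n) (Submodule.smul_mem _ _ (hL _ n))
  · rw [LinearMap.sub_apply]
    exact hL x n


theorem normal_decomposition (Q C : Submodule W P) (hQC : Q ⊔ C = ⊤)
    (hQC' : Q ⊓ C = J • (⊤ : Submodule W P)) :
    ∃ L T : Submodule W P, IsCompl L T ∧ Q = L ⊔ J • T := by
  have hJQ : J • (⊤ : Submodule W P) ≤ Q := hQC' ▸ inf_le_left
  set σ : (Q × C) →ₗ[W] P := Q.subtype.coprod C.subtype with hσ
  have hσsurj : Function.Surjective σ := by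
    rw [← LinearMap.range_eq_top, hσ, LinearMap.range_coprod, Submodule.range_subtype,
      Submodule.range_subtype, hQC]
  obtain ⟨s, hs⟩ := Module.projective_lifting_property σ LinearMap.id hσsurj
  have hsx : ∀ x : P, ((s x).1 : P) + ((s x).2 : P) = x := by
    intro x
    have := LinearMap.congr_fun hs x
    simpa [hσ] using this
  set x₀ : Module.End W P := Q.subtype ∘ₗ (LinearMap.fst W Q C) ∘ₗ s with hx₀
  have hx₀Q : ∀ x, x₀ x ∈ Q := fun x => by simp [hx₀]
  have hx₀C : ∀ x, x - x₀ x ∈ C := by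
    intro x
    have hx0eq : x₀ x = ((s x).1 : P) := by simp [hx₀]
    have h1 : x - x₀ x = ((s x).2 : P) := by
      rw [hx0eq, sub_eq_iff_eq_add, add_comm]
      exact (hsx x).symm
    rw [h1]
    exact (s x).2.2
  have hpow1 : (J ^ 1 • ⊤ : Submodule W P) = J • ⊤ := by rw [pow_one]
  have hd : x₀ ^ 2 - x₀ ∈ FF J P 1 := by
    intro x
    rw [hpow1, ← hQC']
    have h2 : (x₀ ^ 2 - x₀) x = -(x₀ (x - x₀ x)) := by
      rw [LinearMap.sub_apply, pow_two, Module.End.mul_apply, map_sub]; abel
    rw [h2]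
    refine Submodule.neg_mem _ ⟨hx₀Q _, ?_⟩
    have h3 : x₀ (x - x₀ x) = (x - x₀ x) - ((x - x₀ x) - x₀ (x - x₀ x)) := by abel
    rw [h3]
    exact Submodule.sub_mem _ (hx₀C x) (hx₀C _)
  obtain ⟨e, hee, hex⟩ := exists_idempotent (FF J P) (FF_left J P) (FF_right J P) (FF_sep J P)
    (FF_complete J P) (FF J P 1) (FF_right J P 1)
    (by
      intro x hx
      obtain ⟨j, hj, hxj⟩ := hx 1
      have : x = (x - j) + j := by abel
      rw [this]
      exact (FF J P 1).add_mem hxj hj)
    x₀ hd (fun n => ⟨n, pow_mem_FF J P _ hd n⟩)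
  have hex' : ∀ x, e x - x₀ x ∈ J • (⊤ : Submodule W P) := by
    intro x
    have := hex x
    rwa [hpow1, LinearMap.sub_apply] at this
  have heQ : ∀ x, e x ∈ Q := by
    intro x
    have h : e x = x₀ x + (e x - x₀ x) := by abel
    rw [h]
    exact Submodule.add_mem _ (hx₀Q x) (hJQ (hex' x))
  have hee' : ∀ x, e (e x) = e x := fun x => by
    have := LinearMap.congr_fun hee x
    simpa [Module.End.mul_apply] using this
  refine ⟨LinearMap.range e, LinearMap.ker e, ?_, ?_⟩
  · constructor
    · rw [Submodule.disjoint_def]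
      rintro x ⟨y, rfl⟩ hy
      rw [LinearMap.mem_ker, hee'] at hy
      exact hy
    · rw [codisjoint_iff, eq_top_iff]
      intro x _
      have h : x = e x + (x - e x) := by abel
      rw [h]
      refine Submodule.add_mem_sup ⟨x, rfl⟩ ?_
      rw [LinearMap.mem_ker, map_sub, hee', sub_self]
  · apply le_antisymm
    · intro q hq
      have h : q = e q + (q - e q) := by abel
      rw [h]
      refine Submodule.add_mem_sup ⟨q, rfl⟩ ?_
      have h1 : q - e q ∈ J • (⊤ : Submodule W P) := by
        have h2 : q - e q = (q - x₀ q) - (e q - x₀ q) := by abel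
        rw [h2]
        refine Submodule.sub_mem _ ?_ (hex' q)
        rw [← hQC']
        exact ⟨Submodule.sub_mem _ hq (hx₀Q q), hx₀C q⟩
      have h3 : q - e q = ((LinearMap.id : P →ₗ[W] P) - e) (q - e q) := by
        rw [LinearMap.sub_apply, LinearMap.id_apply, map_sub, hee', sub_self, sub_zero]
      rw [h3]
      have h4 : ∀ y ∈ (J • ⊤ : Submodule W P),
          ((LinearMap.id : P →ₗ[W] P) - e) y ∈ J • LinearMap.ker e := by
        intro y hy
        refine Submodule.smul_induction_on hy ?_ ?_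
        · intro c hc z _
          rw [map_smul]
          refine Submodule.smul_mem_smul hc ?_
          rw [LinearMap.mem_ker, LinearMap.sub_apply, LinearMap.id_apply, map_sub, hee', sub_self]
        · intro a b ha hb
          rw [map_add]
          exact Submodule.add_mem _ ha hb
      exact h4 _ h1
    · refine sup_le ?_ ?_
      · rintro x ⟨y, rfl⟩
        exact heQ y
      · exact (Submodule.smul_mono le_rfl le_top).trans hJQ

end Complete

end Groth.Agent.Lib.Helper95.NormalDecomp
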