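import Mathlib

set_option autoImplicit false

namespace Groth.Agent.Lib.Helper95.WittComplete

open Finset

section Abstract

variable {W : Type*} [CommRing W]

def T (π : W) (z : ℕ → W) (a m : ℕ) : W := ∑ i ∈ range m, π ^ i * z (a + i)

lemma f_sub (π : W) (f z : ℕ → W) (hz : ∀ n, f (n + 1) - f n = π ^ n * z n) (a m : ℕ) :
    f (a + m) - f a = π ^ a * T π z a m := by
  induction m with
  | zero => simp [T]
  | succ m ih =>
    have h1 : f (a + (m + 1)) - f a = (f (a + m + 1) - f (a + m)) + (f (a + m) - f a) := by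
      rw [← add_assoc]; ring
    rw [h1, hz, ih, T, T, sum_range_succ, pow_add]; ring

lemma T_sub_mem (π : W) (z : ℕ → W) (a m m' : ℕ) (h : m ≤ m') :
    T π z a m' - T π z a m ∈ Ideal.span {π ^ m} := by
  rw [T, T, ← Finset.sum_Ico_eq_sub _ h]
  refine Ideal.sum_mem _ fun i hi => ?_
  rw [Ideal.mem_span_singleton]
  exact Dvd.dvd.mul_right (pow_dvd_pow _ (mem_Ico.mp hi).1) _

lemma span_pow_le (π : W) {m m' : ℕ} (h : m ≤ m') :
    Ideal.span {π ^ m'} ≤ Ideal.span {π ^ m} := by
  rw [Ideal.span_singleton_le_span_singleton]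
  exact pow_dvd_pow _ h

theorem isAdicComplete_of_coarse (c : ℕ → Ideal W)
    (hsep : ∀ x, (∀ k, x ∈ c k) → x = 0)
    (hcomp : ∀ g : ℕ → W, (∀ k, g (k + 1) - g k ∈ c k) → ∃ L, ∀ k, L - g k ∈ c k)
    (π : W) (hπ : ∀ k, ∃ N, π ^ N ∈ c k) :
    IsAdicComplete (Ideal.span {π}) W := by
  choose N hN using hπ
  set M : ℕ → ℕ := fun k => ∑ j ∈ range (k + 1), N j with hM
  have hMN : ∀ k, N k ≤ M k := fun k => by
    simp only [hM, sum_range_succ]; omega
  have hMmono : ∀ k, M k ≤ M (k + 1) := fun k => by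
    simp only [hM]; rw [sum_range_succ _ (k + 1)]; omega
  have hMc : ∀ k x, x ∈ Ideal.span {π ^ M k} → x ∈ c k := by
    intro k x hx
    rw [Ideal.mem_span_singleton] at hx
    obtain ⟨y, rfl⟩ := hx
    have h1 : π ^ M k = π ^ N k * π ^ (M k - N k) := by
      rw [← pow_add]; congr 1; have := hMN k; omega
    rw [h1, mul_assoc]
    exact Ideal.mul_mem_right _ _ (hN k)
  refine { haus' := ?_, prec' := ?_ }
  · intro x hx
    apply hsep
    intro k
    have := hx (M k)
    rw [smul_eq_mul, Ideal.mul_top, SModEq.zero, Ideal.span_singleton_pow] at this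
    exact hMc k x this
  · intro f hf
    have hf' : ∀ n, ∃ z, f (n + 1) - f n = π ^ n * z := by
      intro n
      have := (hf (Nat.le_succ n)).symm
      rw [smul_eq_mul, Ideal.mul_top, SModEq.sub_mem, Ideal.span_singleton_pow,
        Ideal.mem_span_singleton] at this
      exact this
    choose z hz using hf'
    have hfs := f_sub π f z hz
    obtain ⟨L, hL⟩ := hcomp (fun k => f (M k)) (by
      intro k
      apply hMc
      have h2 : M (k + 1) = M k + (M (k + 1) - M k) := by have := hMmono k; omega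
      show f (M (k + 1)) - f (M k) ∈ _
      rw [h2, hfs, Ideal.mem_span_singleton]
      exact dvd_mul_right _ _)
    refine ⟨L, fun n => ?_⟩
    obtain ⟨s, hs⟩ := hcomp (fun k => T π z n (M k)) (by
      intro k
      apply hMc
      exact T_sub_mem π z n _ _ (hMmono k))
    have key : L - f n - π ^ n * s = 0 := by
      apply hsep
      intro k
      have e1 : L - f n - π ^ n * s = (L - f (M k)) - (f (M k + n) - f (M k))
          + (f (n + M k) - f n - π ^ n * T π z n (M k)) - π ^ n * (s - T π z n (M k)) := by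
        rw [add_comm (M k) n]; ring
      rw [e1, hfs n (M k), sub_self, add_zero]
      refine Ideal.sub_mem _ (Ideal.sub_mem _ (hL k) ?_) (Ideal.mul_mem_left _ _ (hs k))
      apply hMc
      rw [hfs, Ideal.mem_span_singleton]
      exact dvd_mul_right _ _
    rw [smul_eq_mul, Ideal.mul_top, SModEq.sub_mem, Ideal.span_singleton_pow,
      Ideal.mem_span_singleton]
    refine ⟨-s, ?_⟩
    have : L - f n = π ^ n * s := by rwa [sub_eq_zero] at key
    rw [mul_neg, ← this]; ring

end Abstract


section Witt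

variable (p : ℕ) [hp : Fact p.Prime] (R : Type*) [CommRing R]

noncomputable def phi (k : ℕ) :
    WittVector p R →+* TruncatedWittVector p k (R ⧸ Ideal.span {(p : R) ^ k}) :=
  (WittVector.truncate k).comp (WittVector.map (Ideal.Quotient.mk (Ideal.span {(p : R) ^ k})))

noncomputable def cc (k : ℕ) : Ideal (WittVector p R) := RingHom.ker (phi p R k)

lemma sub_mem_cc_iff (k : ℕ) (x y : WittVector p R) :
    x - y ∈ cc p R k ↔ ∀ i < k, (p : R) ^ k ∣ x.coeff i - y.coeff i := by
  rw [cc, RingHom.mem_ker, map_sub, sub_eq_zero, TruncatedWittVector.ext_iff]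
  constructor
  · intro h i hi
    have := h ⟨i, hi⟩
    simp only [phi, RingHom.comp_apply, WittVector.coeff_truncate, WittVector.map_coeff] at this
    rwa [Ideal.Quotient.eq, Ideal.mem_span_singleton] at this
  · intro h i
    simp only [phi, RingHom.comp_apply, WittVector.coeff_truncate, WittVector.map_coeff]
    rw [Ideal.Quotient.eq, Ideal.mem_span_singleton]
    exact h i i.2

lemma mem_cc_iff (k : ℕ) (x : WittVector p R) :
    x ∈ cc p R k ↔ ∀ i < k, (p : R) ^ k ∣ x.coeff i := by
  have := sub_mem_cc_iff p R k x 0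
  simpa using this

lemma coeff_p_pow_int (N : ℕ) :
    ∀ i ≤ N, (p : ℤ) ^ (N - i) ∣ ((p : WittVector p ℤ) ^ N).coeff i := by
  have hp0 : (p : ℤ) ≠ 0 := by exact_mod_cast hp.out.ne_zero
  intro i
  induction i using Nat.strong_induction_on with
  | _ i ih =>
    intro hi
    have hg : WittVector.ghostComponent i ((p : WittVector p ℤ) ^ N) = (p : ℤ) ^ N := by simp
    rw [WittVector.ghostComponent_apply, wittPolynomial_eq_sum_C_mul_X_pow, map_sum] at hg
    simp only [map_mul, map_pow, MvPolynomial.aeval_X, map_natCast] at hg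
    rw [sum_range_succ] at hg
    have hsum : (p : ℤ) ^ N ∣ ∑ j ∈ range i, (p : ℤ) ^ j *
        ((p : WittVector p ℤ) ^ N).coeff j ^ p ^ (i - j) := by
      refine dvd_sum fun j hj => ?_
      have hj' : j < i := mem_range.mp hj
      obtain ⟨b, hb⟩ := ih j hj' (by omega)
      rw [hb, mul_pow, ← pow_mul, ← mul_assoc]
      refine Dvd.dvd.mul_right ?_ _
      rw [← pow_add]
      apply pow_dvd_pow
      have h1 : 1 ≤ p ^ (i - j) := Nat.one_le_pow _ _ hp.out.pos
      calc N = j + (N - j) * 1 := by omega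
        _ ≤ j + (N - j) * p ^ (i - j) := by gcongr
    have h2 : (p : ℤ) ^ N ∣ (p : ℤ) ^ i * ((p : WittVector p ℤ) ^ N).coeff i := by
      have h5 : (p : ℤ) ^ N ∣ ∑ j ∈ range i, (p : ℤ) ^ j *
          ((p : WittVector p ℤ) ^ N).coeff j ^ p ^ (i - j) +
          (p : ℤ) ^ i * ((p : WittVector p ℤ) ^ N).coeff i ^ p ^ (i - i) := by rw [hg]
      have h3 := (dvd_add_right hsum).mp h5
      simpa using h3
    have h4 : (p : ℤ) ^ N = (p : ℤ) ^ i * (p : ℤ) ^ (N - i) := by
      rw [← pow_add]; congr 1; omega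
    rw [h4] at h2
    exact (mul_dvd_mul_iff_left (pow_ne_zero _ hp0)).mp h2

lemma coeff_p_pow (N i : ℕ) (hi : i ≤ N) :
    (p : R) ^ (N - i) ∣ ((p : WittVector p R) ^ N).coeff i := by
  have h1 : ((p : WittVector p R) ^ N) =
      WittVector.map (Int.castRingHom R) ((p : WittVector p ℤ) ^ N) := by
    simp [map_pow, map_natCast]
  rw [h1, WittVector.map_coeff]
  obtain ⟨b, hb⟩ := coeff_p_pow_int p N i hi
  rw [hb]
  simp

lemma p_pow_mem_cc (k : ℕ) : (p : WittVector p R) ^ (2 * k) ∈ cc p R k := by
  rw [mem_cc_iff]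
  intro i hi
  refine dvd_trans (pow_dvd_pow _ ?_) (coeff_p_pow p R (2 * k) i (by omega))
  omega

lemma cc_sep [IsHausdorff (Ideal.span {(p : R)}) R] (x : WittVector p R)
    (hx : ∀ k, x ∈ cc p R k) : x = 0 := by
  ext i
  rw [WittVector.zero_coeff]
  apply IsHausdorff.haus' (I := Ideal.span {(p : R)})
  intro n
  rw [smul_eq_mul, Ideal.mul_top, SModEq.zero, Ideal.span_singleton_pow,
    Ideal.mem_span_singleton]
  have := (mem_cc_iff p R (max n (i + 1)) x).mp (hx _) i (by omega)
  exact dvd_trans (pow_dvd_pow _ (le_max_left _ _)) this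

lemma cc_complete [IsPrecomplete (Ideal.span {(p : R)}) R] (g : ℕ → WittVector p R)
    (hg : ∀ k, g (k + 1) - g k ∈ cc p R k) : ∃ L, ∀ k, L - g k ∈ cc p R k := by
  have key : ∀ i : ℕ, ∃ ℓ : R, ∀ k, (p : R) ^ k ∣ ℓ - (g (max k (i + 1))).coeff i := by
    intro i
    obtain ⟨ℓ, hℓ⟩ := IsPrecomplete.prec' (I := Ideal.span {(p : R)}) (M := R)
      (fun k => (g (max k (i + 1))).coeff i) (by
        apply (AdicCompletion.isAdicCauchy_iff _ _ _).mpr
        intro k
        apply SModEq.symm
        rw [smul_eq_mul, Ideal.mul_top, SModEq.sub_mem, Ideal.span_singleton_pow,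
          Ideal.mem_span_singleton]
        by_cases hk : i + 1 ≤ k
        · rw [max_eq_left hk, max_eq_left (by omega)]
          exact (sub_mem_cc_iff p R k _ _).mp (hg k) i (by omega)
        · rw [max_eq_right (by omega), max_eq_right (by omega), sub_self]
          exact dvd_zero _)
    refine ⟨ℓ, fun k => ?_⟩
    have := (hℓ k).symm
    rwa [smul_eq_mul, Ideal.mul_top, SModEq.sub_mem, Ideal.span_singleton_pow,
      Ideal.mem_span_singleton] at this
  choose ℓ hℓ using key
  refine ⟨WittVector.mk p ℓ, fun k => ?_⟩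
  rw [sub_mem_cc_iff]
  intro i hi
  have := hℓ i k
  rwa [max_eq_left (by omega)] at this

theorem isAdicComplete_p [IsAdicComplete (Ideal.span {(p : R)}) R] :
    IsAdicComplete (Ideal.span {(p : WittVector p R)}) (WittVector p R) :=
  isAdicComplete_of_coarse (cc p R) (cc_sep p R) (cc_complete p R) _
    (fun k => ⟨2 * k, p_pow_mem_cc p R k⟩)


section JAdic

open WittVector

lemma verschiebung_mul_verschiebung (x y : WittVector p R) :
    verschiebung x * verschiebung y = (p : WittVector p R) * verschiebung (x * y) := by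
  rw [← verschiebung_mul_frobenius, frobenius_verschiebung]
  have h1 : x * (y * (p : WittVector p R)) = p • (x * y) := by
    rw [nsmul_eq_mul]; ring
  rw [h1, map_nsmul, nsmul_eq_mul]

lemma verschiebung_p_pow_mul (n : ℕ) (x : WittVector p R) :
    verschiebung ((p : WittVector p R) ^ n * x) = (p : WittVector p R) ^ n * verschiebung x := by
  have h1 : (p : WittVector p R) ^ n * x = (p ^ n) • x := by
    rw [nsmul_eq_mul]; push_cast; ring
  rw [h1, map_nsmul, nsmul_eq_mul]; push_cast; ring

noncomputable def JJ : Ideal (WittVector p R) :=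
  RingHom.ker (WittVector.constantCoeff : WittVector p R →+* R)

lemma mem_JJ_iff (x : WittVector p R) : x ∈ JJ p R ↔ ∃ y, x = verschiebung y := by
  rw [JJ, RingHom.mem_ker, constantCoeff_apply]
  constructor
  · intro h
    refine ⟨x.shift 1, ?_⟩
    have := eq_iterate_verschiebung (x := x) (n := 1) (by
      intro i hi
      have : i = 0 := by omega
      rw [this, h])
    simpa using this
  · rintro ⟨y, rfl⟩
    exact verschiebung_coeff_zero y

lemma JJ_sq_le : JJ p R * JJ p R ≤ Ideal.span {(p : WittVector p R)} * JJ p R := by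
  rw [Ideal.mul_le]
  intro a ha b hb
  obtain ⟨a', rfl⟩ := (mem_JJ_iff p R a).mp ha
  obtain ⟨b', rfl⟩ := (mem_JJ_iff p R b).mp hb
  rw [verschiebung_mul_verschiebung]
  exact Ideal.mul_mem_mul (Ideal.mem_span_singleton_self _) ((mem_JJ_iff p R _).mpr ⟨_, rfl⟩)

lemma p_JJ_le : Ideal.span {(p : WittVector p R)} * JJ p R ≤ JJ p R * JJ p R := by
  rw [Ideal.mul_le]
  intro a ha b hb
  rw [Ideal.mem_span_singleton] at ha
  obtain ⟨a', rfl⟩ := ha
  obtain ⟨b', rfl⟩ := (mem_JJ_iff p R b).mp hb
  have h1 : (p : WittVector p R) * a' * verschiebung b' =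
      (verschiebung 1 * verschiebung b') * a' := by
    rw [verschiebung_mul_verschiebung, one_mul]; ring
  rw [h1]
  exact Ideal.mul_mem_right _ _
    (Ideal.mul_mem_mul ((mem_JJ_iff p R _).mpr ⟨_, rfl⟩) ((mem_JJ_iff p R _).mpr ⟨_, rfl⟩))

lemma JJ_pow_succ (n : ℕ) :
    JJ p R ^ (n + 1) = Ideal.span {(p : WittVector p R) ^ n} * JJ p R := by
  induction n with
  | zero => simp [Ideal.span_singleton_one]
  | succ n ih =>
    rw [pow_succ, ih]
    apply le_antisymm
    · rw [mul_assoc]
      refine (Ideal.mul_mono_right (JJ_sq_le p R)).trans ?_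
      rw [← mul_assoc, Ideal.span_singleton_mul_span_singleton, ← pow_succ]
    · rw [pow_succ, ← Ideal.span_singleton_mul_span_singleton, mul_assoc, mul_assoc]
      exact Ideal.mul_mono_right (p_JJ_le p R)

lemma mem_JJ_pow_succ_iff (n : ℕ) (x : WittVector p R) :
    x ∈ JJ p R ^ (n + 1) ↔ ∃ y, x = (p : WittVector p R) ^ n * verschiebung y := by
  rw [JJ_pow_succ, Ideal.mem_span_singleton_mul]
  constructor
  · rintro ⟨z, hz, rfl⟩
    obtain ⟨y, rfl⟩ := (mem_JJ_iff p R z).mp hz
    exact ⟨y, rfl⟩
  · rintro ⟨y, rfl⟩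
    exact ⟨_, (mem_JJ_iff p R _).mpr ⟨y, rfl⟩, rfl⟩

theorem isAdicComplete_JJ [IsAdicComplete (Ideal.span {(p : R)}) R] :
    IsAdicComplete (JJ p R) (WittVector p R) := by
  have hW := isAdicComplete_p p R
  have hsepW : ∀ x : WittVector p R, (∀ m, (p : WittVector p R) ^ m ∣ x) → x = 0 := by
    intro x hx
    apply IsHausdorff.haus' (I := Ideal.span {(p : WittVector p R)})
    intro m
    rw [smul_eq_mul, Ideal.mul_top, SModEq.zero, Ideal.span_singleton_pow,
      Ideal.mem_span_singleton]
    exact hx m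
  have hcompW : ∀ g : ℕ → WittVector p R, (∀ m, (p : WittVector p R) ^ m ∣ g (m + 1) - g m) →
      ∃ L, ∀ m, (p : WittVector p R) ^ m ∣ L - g m := by
    intro g hg
    obtain ⟨L, hL⟩ := IsPrecomplete.prec' (I := Ideal.span {(p : WittVector p R)})
      (M := WittVector p R) g (by
        apply (AdicCompletion.isAdicCauchy_iff _ _ _).mpr
        intro k
        apply SModEq.symm
        rw [smul_eq_mul, Ideal.mul_top, SModEq.sub_mem, Ideal.span_singleton_pow,
          Ideal.mem_span_singleton]
        exact hg k)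
    refine ⟨L, fun m => ?_⟩
    have := (hL m).symm
    rwa [smul_eq_mul, Ideal.mul_top, SModEq.sub_mem, Ideal.span_singleton_pow,
      Ideal.mem_span_singleton] at this
  refine { haus' := ?_, prec' := ?_ }
  · intro x hx
    apply hsepW
    intro m
    have := hx (m + 1)
    rw [smul_eq_mul, Ideal.mul_top, SModEq.zero, mem_JJ_pow_succ_iff] at this
    obtain ⟨y, rfl⟩ := this
    exact dvd_mul_right _ _
  · intro f hf
    have hf' : ∀ n, ∃ z, f (n + 1 + 1) - f (n + 1) = (p : WittVector p R) ^ n * verschiebung z := by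
      intro n
      have := (hf (Nat.le_succ (n + 1))).symm
      rw [smul_eq_mul, Ideal.mul_top, SModEq.sub_mem, mem_JJ_pow_succ_iff] at this
      exact this
    choose z hz using hf'
    have hfs := f_sub (p : WittVector p R) (fun n => f (n + 1)) (fun n => verschiebung (z n)) hz
    have hVT : ∀ a m, T (p : WittVector p R) (fun n => verschiebung (z n)) a m =
        verschiebung (T (p : WittVector p R) z a m) := by
      intro a m
      simp only [T, map_sum, verschiebung_p_pow_mul]
    obtain ⟨L, hL⟩ := hcompW (fun n => f (n + 1)) (by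
      intro m
      show _ ∣ f (m + 1 + 1) - f (m + 1)
      rw [hz]; exact dvd_mul_right _ _)
    refine ⟨L, fun n => ?_⟩
    apply SModEq.symm
    rw [smul_eq_mul, Ideal.mul_top, SModEq.sub_mem]
    rcases n with _ | n
    · simp
    obtain ⟨s, hs⟩ := hcompW (fun m => T (p : WittVector p R) z n m) (by
      intro m
      have := T_sub_mem (p : WittVector p R) z n m (m + 1) (Nat.le_succ m)
      rwa [Ideal.mem_span_singleton] at this)
    rw [mem_JJ_pow_succ_iff]
    refine ⟨s, ?_⟩
    rw [← sub_eq_zero]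
    apply hsepW
    intro m
    have e1 : L - f (n + 1) - (p : WittVector p R) ^ n * verschiebung s =
        (L - f (n + m + 1)) + (f (n + m + 1) - f (n + 1)
          - (p : WittVector p R) ^ n * verschiebung (T (p : WittVector p R) z n m))
          - (p : WittVector p R) ^ n *
            (verschiebung s - verschiebung (T (p : WittVector p R) z n m)) := by ring
    have e2 : f (n + m + 1) - f (n + 1) =
        (p : WittVector p R) ^ n * verschiebung (T (p : WittVector p R) z n m) := by
      rw [← hVT]; exact hfs n m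
    rw [e1, e2, sub_self, add_zero]
    refine dvd_sub ((pow_dvd_pow _ (Nat.le_add_left m n)).trans (hL (n + m))) ?_
    refine Dvd.dvd.mul_left ?_ _
    obtain ⟨y, hy⟩ := hs m
    rw [← map_sub, hy, verschiebung_p_pow_mul]
    exact dvd_mul_right _ _

end JAdic

end Witt

end Groth.Agent.Lib.Helper95.WittComplete
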