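import Groth.Agent.Lib.Helper95.Q5
import Mathlib.RingTheory.RingHom.Finite
import Mathlib.RingTheory.RingHom.Flat
import Mathlib.RingTheory.RingHom.FinitePresentation
import Mathlib.RingTheory.Finiteness.ModuleFinitePresentation

set_option autoImplicit false
universe u

open Polynomial TensorProduct

namespace Groth.Agent.Lib.Helper95.Q6

open Groth.Agent.Lib.Helper95.Q5

variable {A B : Type u} [CommRing A] [CommRing B] [Algebra A B] (t : A →+* B) (e : B →+* A)
  (f : A) (hf : algebraMap A B f = t f)
  (A' B' : Type u) [CommRing A'] [CommRing B'] [Algebra A A'] [Algebra B B']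
  [IsLocalization.Away f A'] [IsLocalization.Away (algebraMap A B f) B']

theorem alg_mem (c : RingHom.eqLocus (algebraMap A B) t) :
    algebraMap A A' (c : A) ∈ RingHom.eqLocus (sL (B := B) f A' B') (tL t f hf A' B') := by
  change sL (B := B) f A' B' (algebraMap A A' c) = tL t f hf A' B' (algebraMap A A' c)
  rw [sL_alg, tL_alg, c.2]

noncomputable def algCE : RingHom.eqLocus (algebraMap A B) t →+*
    RingHom.eqLocus (sL (B := B) f A' B') (tL t f hf A' B') :=
  RingHom.codRestrict ((algebraMap A A').comp (RingHom.eqLocus (algebraMap A B) t).subtype)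
    (RingHom.eqLocus (sL (B := B) f A' B') (tL t f hf A' B')) (fun c => alg_mem t f hf A' B' c)

theorem algCE_coe (c : RingHom.eqLocus (algebraMap A B) t) :
    ((algCE t f hf A' B' c : RingHom.eqLocus (sL (B := B) f A' B') (tL t f hf A' B')) : A') =
      algebraMap A A' (c : A) := rfl

theorem isLocalization_E :
    letI := (algCE t f hf A' B').toAlgebra
    IsLocalization.Away (⟨f, hf⟩ : RingHom.eqLocus (algebraMap A B) t)
      (RingHom.eqLocus (sL (B := B) f A' B') (tL t f hf A' B')) := by
  letI := (algCE t f hf A' B').toAlgebra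
  have hst : sL (B := B) f A' B' (algebraMap A A' f) = tL t f hf A' B' (algebraMap A A' f) := by
    rw [sL_alg, tL_alg, hf]
  obtain ⟨u, hu⟩ := (IsLocalization.Away.algebraMap_isUnit (S := A') f).exists_right_inv
  have huE : u ∈ RingHom.eqLocus (sL (B := B) f A' B') (tL t f hf A' B') := by
    change sL (B := B) f A' B' u = tL t f hf A' B' u
    have h1 : sL (B := B) f A' B' (algebraMap A A' f) * sL (B := B) f A' B' u = 1 := by
      rw [← map_mul, hu, map_one]
    have h2 : tL t f hf A' B' (algebraMap A A' f) * tL t f hf A' B' u = 1 := by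
      rw [← map_mul, hu, map_one]
    calc sL (B := B) f A' B' u = sL (B := B) f A' B' u *
          (tL t f hf A' B' (algebraMap A A' f) * tL t f hf A' B' u) := by rw [h2, mul_one]
      _ = (sL (B := B) f A' B' (algebraMap A A' f) * sL (B := B) f A' B' u) *
          tL t f hf A' B' u := by rw [← hst]; ring
      _ = tL t f hf A' B' u := by rw [h1, one_mul]
  rw [IsLocalization.Away, isLocalization_iff]
  refine ⟨?_, ?_, ?_⟩
  · rintro ⟨_, k, rfl⟩
    have hunit : IsUnit (algCE t f hf A' B' ⟨f, hf⟩) := by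
      refine IsUnit.of_mul_eq_one ⟨u, huE⟩ ?_
      apply Subtype.ext
      exact hu
    change IsUnit (algCE t f hf A' B' (⟨f, hf⟩ ^ k))
    rw [map_pow]
    exact hunit.pow k
  · intro z
    obtain ⟨k, a, hka⟩ := IsLocalization.Away.surj f (z : A')
    have h1 := congrArg (sL (B := B) f A' B') hka
    have h2 := congrArg (tL t f hf A' B') hka
    rw [map_mul, map_pow, sL_alg, sL_alg] at h1
    rw [map_mul, map_pow, tL_alg, tL_alg, ← hf] at h2
    have hz : sL (B := B) f A' B' z = tL t f hf A' B' z := z.2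
    rw [hz, h2] at h1
    obtain ⟨j, hj⟩ := IsLocalization.Away.exists_of_eq (S := B') (algebraMap A B f) h1
    have hc : f ^ j * a ∈ RingHom.eqLocus (algebraMap A B) t := by
      change algebraMap A B (f ^ j * a) = t (f ^ j * a)
      rw [map_mul, map_mul, map_pow, map_pow, ← hf]
      exact hj.symm
    refine ⟨(⟨f ^ j * a, hc⟩, ⟨⟨f, hf⟩ ^ (k + j), k + j, rfl⟩), ?_⟩
    apply Subtype.ext
    change (z : A') * algebraMap A A' (f ^ (k + j)) = algebraMap A A' (f ^ j * a)
    rw [map_pow, pow_add, ← mul_assoc, hka, map_mul, map_pow, mul_comm]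
  · intro c c' hcc
    have h1 : algebraMap A A' (c : A) = algebraMap A A' (c' : A) := congrArg Subtype.val hcc
    obtain ⟨j, hj⟩ := IsLocalization.Away.exists_of_eq (S := A') f h1
    refine ⟨⟨⟨f, hf⟩ ^ j, j, rfl⟩, ?_⟩
    apply Subtype.ext
    exact hj

theorem local_props (hes : ∀ a, e (algebraMap A B a) = a) (het : ∀ a, e (t a) = a)
    (hc : ∀ (BB : Type u) [CommRing BB] (ιL ιR : B →+* BB),
      (∀ a, ιL (algebraMap A B a) = ιR (t a)) →
      ∃ c' : B →+* BB, (∀ a, c' (algebraMap A B a) = ιR (algebraMap A B a)) ∧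
        (∀ a, c' (t a) = ιL (t a)))
    {n : ℕ} (x : Fin n → A)
    (ha : ∀ b : B, f • b ∈ Submodule.span A (Set.range fun i => t (x i)))
    (hb : ∀ v : Fin n → A, Fintype.linearCombination A (fun i => t (x i)) v = 0 → f • v = 0) :
    (∃ (Rᵣ Sᵣ : Type u) (_ : CommRing Rᵣ) (_ : CommRing Sᵣ)
      (_ : Algebra (RingHom.eqLocus (algebraMap A B) t) Rᵣ) (_ : Algebra A Sᵣ)
      (_ : IsLocalization.Away (⟨f, hf⟩ : RingHom.eqLocus (algebraMap A B) t) Rᵣ)
      (_ : IsLocalization.Away ((RingHom.eqLocus (algebraMap A B) t).subtype ⟨f, hf⟩) Sᵣ)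
      (fᵣ : Rᵣ →+* Sᵣ)
      (_ : fᵣ.comp (algebraMap (RingHom.eqLocus (algebraMap A B) t) Rᵣ) =
        (algebraMap A Sᵣ).comp (RingHom.eqLocus (algebraMap A B) t).subtype),
        fᵣ.Finite ∧ fᵣ.Flat ∧ fᵣ.FinitePresentation) ∧
    (∀ a : A, ∃ (k : ℕ) (c : Fin n → RingHom.eqLocus (algebraMap A B) t),
      f ^ k * a = ∑ i, (c i : A) * x i) := by
  let A' := Localization.Away f
  let B' := Localization.Away (algebraMap A B f)
  letI algS : Algebra A' B' := (sL (B := B) f A' B').toAlgebra
  obtain ⟨b, hbb⟩ := exists_basisL t f hf A' B' x ha hb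
  let b₁ : Module.Basis (ULift.{u} (Fin n)) A' B' := b.reindex Equiv.ulift.symm
  obtain ⟨⟨b'', hb''⟩, -⟩ := Groth.Agent.Lib.Helper72.GrpdBasis.main' (sL (B := B) f A' B')
    (tL t f hf A' B') (eL (A := A) (B := B) e f A' B' hes) (hesL e f A' B' hes)
    (hetL t e f hf A' B' hes het) (fun i : ULift.{u} (Fin n) => algebraMap A A' (x i.down))
    (fun BB _ ιL ιR h => hcL t f hf A' B' hc BB ιL ιR h) b₁
    (fun i => by
      change b.reindex Equiv.ulift.symm i = _
      rw [Module.Basis.reindex_apply, hbb]
      rfl)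
  letI algCE' : Algebra (RingHom.eqLocus (algebraMap A B) t)
      (RingHom.eqLocus (sL (B := B) f A' B') (tL t f hf A' B')) := (algCE t f hf A' B').toAlgebra
  haveI hloc := isLocalization_E t f hf A' B'
  constructor
  · refine ⟨RingHom.eqLocus (sL (B := B) f A' B') (tL t f hf A' B'), A', inferInstance,
      inferInstance, algCE', inferInstance, hloc, ?_,
      algebraMap (RingHom.eqLocus (sL (B := B) f A' B') (tL t f hf A' B')) A', ?_, ?_, ?_, ?_⟩
    · change IsLocalization.Away f A'
      infer_instance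
    · rfl
    · rw [RingHom.finite_algebraMap]
      exact Module.Finite.of_basis b''
    · rw [RingHom.flat_algebraMap_iff]
      haveI := Module.Free.of_basis b''
      infer_instance
    · rw [RingHom.finitePresentation_algebraMap]
      haveI := Module.Free.of_basis b''
      haveI := Module.Finite.of_basis b''
      haveI : Module.FinitePresentation
          (RingHom.eqLocus (sL (B := B) f A' B') (tL t f hf A' B')) A' :=
        Module.finitePresentation_of_projective _ _
      infer_instance
  · intro a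
    obtain ⟨m, hm⟩ := IsLocalization.exist_integer_multiples
      (Submonoid.powers (⟨f, hf⟩ : RingHom.eqLocus (algebraMap A B) t)) Finset.univ
      (fun i => b''.repr (algebraMap A A' a) i)
    choose c hcc using fun i => hm i (Finset.mem_univ i)
    obtain ⟨l, hl⟩ := m.2
    have h1 : algebraMap A A' (f ^ l * a) =
        algebraMap A A' (∑ i : ULift.{u} (Fin n), (c i : A) * x i.down) := by
      rw [map_mul, map_pow, map_sum]
      conv_lhs => rw [← b''.sum_repr (algebraMap A A' a), Finset.mul_sum]
      refine Finset.sum_congr rfl fun i _ => ?_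
      have h2 := congrArg Subtype.val (hcc i)
      rw [hb'' i, map_mul, ← algCE_coe t f hf A' B' (c i)]
      change _ = ((algebraMap (RingHom.eqLocus (algebraMap A B) t)
        (RingHom.eqLocus (sL (B := B) f A' B') (tL t f hf A' B')) (c i) :
        RingHom.eqLocus (sL (B := B) f A' B') (tL t f hf A' B')) : A') * _
      rw [h2, ← hl]
      change _ = (algebraMap A A' ((⟨f, hf⟩ : RingHom.eqLocus (algebraMap A B) t) ^ l : _) *
        ((b''.repr (algebraMap A A' a) i : RingHom.eqLocus (sL (B := B) f A' B')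
          (tL t f hf A' B')) : A')) * _
      rw [mul_assoc]
      congr 1
      simp
    obtain ⟨j, hj⟩ := IsLocalization.Away.exists_of_eq (S := A') f h1
    refine ⟨j + l, fun i => ⟨f, hf⟩ ^ j * c ⟨i⟩, ?_⟩
    rw [pow_add, mul_assoc, hj, Finset.mul_sum]
    refine Fintype.sum_equiv Equiv.ulift _ _ fun i => ?_
    simp only [Equiv.ulift_apply, Subring.coe_mul, SubmonoidClass.coe_pow]
    ring

end Groth.Agent.Lib.Helper95.Q6
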