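import Mathlib
set_option autoImplicit false
universe u
open CategoryTheory CategoryTheory.Limits AlgebraicGeometry

namespace Groth.Agent.Lib.Helper95.ContrFIB

open AlgebraicGeometry.Scheme.Pullback

/-- a closed point of a scheme locally of finite type over `S` has residue field finite over the
residue field of its image. -/
theorem isFinite_SpecMap_residueFieldMap {S Y₁ : Scheme.{u}} (p₁ : Y₁ ⟶ S) [LocallyOfFiniteType p₁]
    (y₁ : Y₁) (hy₁ : IsClosed ({y₁} : Set Y₁)) : IsFinite (Spec.map (p₁.residueFieldMap y₁)) := by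
  haveI : IsClosedImmersion (Y₁.fromSpecResidueField y₁) :=
    isClosed_singleton_iff_isClosedImmersion.mp hy₁
  have h1 : LocallyOfFiniteType (Spec.map (p₁.residueFieldMap y₁) ≫ S.fromSpecResidueField (p₁ y₁)) := by
    rw [Scheme.Hom.SpecMap_residueFieldMap_fromSpecResidueField]
    infer_instance
  haveI : LocallyOfFiniteType (Spec.map (p₁.residueFieldMap y₁)) :=
    locallyOfFiniteType_of_comp _ (S.fromSpecResidueField (p₁ y₁))
  exact isFinite_iff_locallyOfFiniteType_of_jacobsonSpace.mpr inferInstance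

theorem finite_fiber_pullback {S Y₁ Y₂ : Scheme.{u}} (p₁ : Y₁ ⟶ S) (p₂ : Y₂ ⟶ S) [LocallyOfFiniteType p₁] (y₁ : Y₁) (hy₁ : IsClosed ({y₁} : Set Y₁)) (y₂ : Y₂) : {z : ↥(pullback p₁ p₂) | (pullback.fst p₁ p₂) z = y₁ ∧ (pullback.snd p₁ p₂) z = y₂}.Finite := by
  by_cases h : p₁ y₁ = p₂ y₂
  swap
  · convert Set.finite_empty
    ext z
    simp only [Set.mem_empty_iff_false, iff_false]
    rintro ⟨h1, h2⟩
    apply h
    rw [← h1, ← h2]
    exact congr($(pullback.condition (f := p₁) (g := p₂)) z)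
  let T₀ : Triplet p₁ p₂ := Triplet.mk' y₁ y₂ h
  have hfin : Finite (Spec T₀.tensor) := by
    have hpb := T₀.isPullback_SpecMap_tensor
    have hfa : IsFinite (Spec.map ((S.residueFieldCongr T₀.hx).inv ≫ p₁.residueFieldMap T₀.x)) := by
      rw [Spec.map_comp]
      haveI := isFinite_SpecMap_residueFieldMap p₁ y₁ hy₁
      exact MorphismProperty.comp_mem _ _ _ (isFinite_SpecMap_residueFieldMap p₁ y₁ hy₁) inferInstance
    have hfr : IsFinite (Spec.map T₀.tensorInr) :=
      MorphismProperty.of_isPullback hpb hfa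
    rw [IsFinite.SpecMap_iff] at hfr
    algebraize [T₀.tensorInr.hom]
    haveI : IsArtinianRing T₀.tensor := IsArtinianRing.of_finite (Y₂.residueField T₀.y) T₀.tensor
    exact inferInstanceAs (Finite (PrimeSpectrum T₀.tensor))
  have hr : Set.Finite (Set.range
      (fun q : Spec T₀.tensor => (carrierEquiv (f := p₁) (g := p₂)).symm ⟨T₀, q⟩)) :=
    Set.finite_range _
  refine hr.subset ?_
  rintro z ⟨h1, h2⟩
  have hT : Triplet.ofPoint z = T₀ := Triplet.ext h1 h2
  have hz := (carrierEquiv (f := p₁) (g := p₂)).symm_apply_apply z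
  have hfst : (carrierEquiv (f := p₁) (g := p₂) z).1 = Triplet.ofPoint z := rfl
  generalize hcz : carrierEquiv (f := p₁) (g := p₂) z = c at hz hfst
  obtain ⟨T, q⟩ := c
  have hT' : T = T₀ := hfst.trans hT
  subst hT'
  exact ⟨q, hz⟩

end Groth.Agent.Lib.Helper95.ContrFIB
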