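import Groth.Prelude.Def_Grpd
import Mathlib.Tactic

set_option autoImplicit false
universe u

namespace Groth.Agent.Lib.Helper95

open AlgebraicGeometry CategoryTheory CategoryTheory.Limits Grpd

variable {S : Scheme.{u}} (G : GroupoidScheme S)

noncomputable def gmul {T : Scheme.{u}} (α β : T ⟶ G.R) (h : α ≫ G.s = β ≫ G.t) : T ⟶ G.R :=
  pullback.lift α β h ≫ G.c

variable {G}

lemma gmul_congr {T : Scheme.{u}} {α α' β β' : T ⟶ G.R} (h : α ≫ G.s = β ≫ G.t)
    (hα : α = α') (hβ : β = β') :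
    gmul G α β h = gmul G α' β' (by rw [← hα, ← hβ]; exact h) := by
  subst hα hβ; rfl

@[reassoc]
lemma gmul_s {T : Scheme.{u}} (α β : T ⟶ G.R) (h : α ≫ G.s = β ≫ G.t) :
    gmul G α β h ≫ G.s = β ≫ G.s := G.comp_s α β h

@[reassoc]
lemma gmul_t {T : Scheme.{u}} (α β : T ⟶ G.R) (h : α ≫ G.s = β ≫ G.t) :
    gmul G α β h ≫ G.t = α ≫ G.t := G.comp_t α β h

lemma comp_gmul {T T' : Scheme.{u}} (f : T' ⟶ T) (α β : T ⟶ G.R) (h : α ≫ G.s = β ≫ G.t) :
    f ≫ gmul G α β h = gmul G (f ≫ α) (f ≫ β) (by rw [Category.assoc, Category.assoc, h]) := by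
  unfold gmul
  rw [← Category.assoc]
  congr 1
  apply pullback.hom_ext
  · rw [Category.assoc, pullback.lift_fst, pullback.lift_fst]
  · rw [Category.assoc, pullback.lift_snd, pullback.lift_snd]

lemma gmul_assoc {T : Scheme.{u}} (α β γ : T ⟶ G.R) (h₁ : α ≫ G.s = β ≫ G.t)
    (h₂ : β ≫ G.s = γ ≫ G.t) :
    gmul G (gmul G α β h₁) γ ((gmul_s α β h₁).trans h₂) =
      gmul G α (gmul G β γ h₂) (h₁.trans (gmul_t β γ h₂).symm) :=
  G.assoc α β γ h₁ h₂

lemma gmul_e {T : Scheme.{u}} (α : T ⟶ G.R) (ε : T ⟶ G.R) (hε : ε = α ≫ G.s ≫ G.e) :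
    gmul G α ε (by rw [hε, Category.assoc, Category.assoc, G.e_t, Category.comp_id]) = α := by
  subst hε
  exact G.comp_e α

lemma e_gmul {T : Scheme.{u}} (α : T ⟶ G.R) (ε : T ⟶ G.R) (hε : ε = α ≫ G.t ≫ G.e) :
    gmul G ε α (by rw [hε, Category.assoc, Category.assoc, G.e_s, Category.comp_id]) = α := by
  subst hε
  exact G.e_comp α

lemma gmul_i {T : Scheme.{u}} (α : T ⟶ G.R) :
    gmul G α (α ≫ G.i) (by rw [Category.assoc, G.i_t]) = α ≫ G.t ≫ G.e := G.comp_i α

lemma i_gmul {T : Scheme.{u}} (α : T ⟶ G.R) :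
    gmul G (α ≫ G.i) α (by rw [Category.assoc, G.i_s]) = α ≫ G.s ≫ G.e := G.i_comp α

lemma gmul_gmul_i {T : Scheme.{u}} (α β : T ⟶ G.R) (h : α ≫ G.s = β ≫ G.t) :
    gmul G (gmul G α β h) (β ≫ G.i) (by rw [gmul_s, Category.assoc, G.i_t]) = α := by
  rw [gmul_assoc α β (β ≫ G.i) h (by rw [Category.assoc, G.i_t])]
  have h1 := gmul_i (G := G) β
  rw [gmul_congr (G := G) (α := α) (α' := α) (β' := β ≫ G.t ≫ G.e) _ rfl h1]
  exact gmul_e α _ (by rw [reassoc_of% h])

lemma gmul_i_gmul {T : Scheme.{u}} (α β : T ⟶ G.R) (h : α ≫ G.s = β ≫ G.s) :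
    gmul G (gmul G α (β ≫ G.i) (by rw [Category.assoc, G.i_t, h])) β
      (by rw [gmul_s, Category.assoc, G.i_s]) = α := by
  rw [gmul_assoc α (β ≫ G.i) β (by rw [Category.assoc, G.i_t, h]) (by rw [Category.assoc, G.i_s])]
  have h1 := i_gmul (G := G) β
  rw [gmul_congr (G := G) (α := α) (α' := α) (β' := β ≫ G.s ≫ G.e) _ rfl h1]
  exact gmul_e α _ (by rw [reassoc_of% h])

lemma c_eq_gmul : G.c = gmul G (pullback.fst G.s G.t) (pullback.snd G.s G.t) pullback.condition := by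
  unfold gmul
  have : pullback.lift (pullback.fst G.s G.t) (pullback.snd G.s G.t) pullback.condition = 𝟙 _ := by
    apply pullback.hom_ext
    · rw [pullback.lift_fst, Category.id_comp]
    · rw [pullback.lift_snd, Category.id_comp]
  rw [this, Category.id_comp]

lemma isPullback_c_snd : IsPullback G.c (pullback.snd G.s G.t) G.s G.s := by
  have hcs : G.c ≫ G.s = pullback.snd G.s G.t ≫ G.s := by
    rw [c_eq_gmul, gmul_s]
  have cond' : pullback.fst G.s G.s ≫ G.s = (pullback.snd G.s G.s ≫ G.i) ≫ G.t := by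
    rw [Category.assoc, G.i_t]; exact pullback.condition
  let ψ : pullback G.s G.t ≅ pullback G.s G.s :=
    { hom := pullback.lift G.c (pullback.snd G.s G.t) hcs
      inv := pullback.lift (gmul G (pullback.fst G.s G.s) (pullback.snd G.s G.s ≫ G.i) cond')
        (pullback.snd G.s G.s) (by rw [gmul_s, Category.assoc, G.i_s])
      hom_inv_id := by
        apply pullback.hom_ext
        · rw [Category.assoc, pullback.lift_fst, Category.id_comp, comp_gmul]
          have e1 : pullback.lift G.c (pullback.snd G.s G.t) hcs ≫ pullback.fst G.s G.s =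
              gmul G (pullback.fst G.s G.t) (pullback.snd G.s G.t) pullback.condition := by
            rw [pullback.lift_fst]; exact c_eq_gmul
          have e2 : pullback.lift G.c (pullback.snd G.s G.t) hcs ≫ pullback.snd G.s G.s ≫ G.i =
              pullback.snd G.s G.t ≫ G.i := by
            rw [pullback.lift_snd_assoc]
          rw [gmul_congr _ e1 e2]
          exact gmul_gmul_i _ _ _
        · rw [Category.assoc, pullback.lift_snd, pullback.lift_snd, Category.id_comp]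
      inv_hom_id := by
        apply pullback.hom_ext
        · rw [Category.assoc, pullback.lift_fst, Category.id_comp]
          conv_lhs => rw [c_eq_gmul]
          rw [comp_gmul]
          have e1 : pullback.lift (gmul G (pullback.fst G.s G.s) (pullback.snd G.s G.s ≫ G.i) cond')
              (pullback.snd G.s G.s) (by rw [gmul_s, Category.assoc, G.i_s]) ≫ pullback.fst G.s G.t =
              gmul G (pullback.fst G.s G.s) (pullback.snd G.s G.s ≫ G.i) cond' := by
            rw [pullback.lift_fst]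
          have e2 : pullback.lift (gmul G (pullback.fst G.s G.s) (pullback.snd G.s G.s ≫ G.i) cond')
              (pullback.snd G.s G.s) (by rw [gmul_s, Category.assoc, G.i_s]) ≫ pullback.snd G.s G.t =
              pullback.snd G.s G.s := by
            rw [pullback.lift_snd]
          rw [gmul_congr _ e1 e2]
          exact gmul_i_gmul _ _ pullback.condition
        · rw [Category.assoc, pullback.lift_snd, pullback.lift_snd, Category.id_comp] }
  exact IsPullback.of_iso_pullback ⟨hcs⟩ ψ (pullback.lift_fst _ _ _) (pullback.lift_snd _ _ _)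

section Total

open Classical in
noncomputable def gm (G : GroupoidScheme S) {T : Scheme.{u}} (α β : T ⟶ G.R) : T ⟶ G.R :=
  if h : α ≫ G.s = β ≫ G.t then gmul G α β h else α

lemma gm_eq {T : Scheme.{u}} (α β : T ⟶ G.R) (h : α ≫ G.s = β ≫ G.t) :
    gm G α β = gmul G α β h := dif_pos h

lemma gm_s {T : Scheme.{u}} (α β : T ⟶ G.R) (h : α ≫ G.s = β ≫ G.t) :
    gm G α β ≫ G.s = β ≫ G.s := by rw [gm_eq α β h, gmul_s]

lemma gm_t {T : Scheme.{u}} (α β : T ⟶ G.R) (h : α ≫ G.s = β ≫ G.t) :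
    gm G α β ≫ G.t = α ≫ G.t := by rw [gm_eq α β h, gmul_t]

lemma gm_assoc {T : Scheme.{u}} (α β γ : T ⟶ G.R) (h₁ : α ≫ G.s = β ≫ G.t)
    (h₂ : β ≫ G.s = γ ≫ G.t) :
    gm G (gm G α β) γ = gm G α (gm G β γ) := by
  have e1 := gm_eq α β h₁
  have e2 := gm_eq β γ h₂
  rw [gm_eq (gm G α β) γ ((gm_s α β h₁).trans h₂),
    gm_eq α (gm G β γ) (h₁.trans (gm_t β γ h₂).symm)]
  rw [gmul_congr (G := G) _ e1 rfl, gmul_congr (G := G) _ rfl e2]
  exact gmul_assoc α β γ h₁ h₂

lemma comp_gm {T T' : Scheme.{u}} (f : T' ⟶ T) (α β : T ⟶ G.R) (h : α ≫ G.s = β ≫ G.t) :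
    f ≫ gm G α β = gm G (f ≫ α) (f ≫ β) := by
  rw [gm_eq α β h, gm_eq (f ≫ α) (f ≫ β) (by rw [Category.assoc, Category.assoc, h]), comp_gmul]

lemma gm_e {T : Scheme.{u}} (α ε : T ⟶ G.R) (hε : ε = α ≫ G.s ≫ G.e) : gm G α ε = α := by
  rw [gm_eq α ε (by rw [hε, Category.assoc, Category.assoc, G.e_t, Category.comp_id])]
  exact gmul_e α ε hε

lemma e_gm {T : Scheme.{u}} (α ε : T ⟶ G.R) (hε : ε = α ≫ G.t ≫ G.e) : gm G ε α = α := by
  rw [gm_eq ε α (by rw [hε, Category.assoc, Category.assoc, G.e_s, Category.comp_id])]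
  exact e_gmul α ε hε

lemma gm_i {T : Scheme.{u}} (α : T ⟶ G.R) : gm G α (α ≫ G.i) = α ≫ G.t ≫ G.e := by
  rw [gm_eq α (α ≫ G.i) (by rw [Category.assoc, G.i_t])]
  exact gmul_i α

lemma i_gm {T : Scheme.{u}} (α : T ⟶ G.R) : gm G (α ≫ G.i) α = α ≫ G.s ≫ G.e := by
  rw [gm_eq (α ≫ G.i) α (by rw [Category.assoc, G.i_s])]
  exact i_gmul α

lemma c_eq_gm : G.c = gm G (pullback.fst G.s G.t) (pullback.snd G.s G.t) := by
  rw [gm_eq _ _ pullback.condition]; exact c_eq_gmul

end Total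

end Groth.Agent.Lib.Helper95
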