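import Groth.Agent.Lib.Helper74.FtSub
import Groth.Agent.Lib.Helper40.SubSh8
set_option autoImplicit false
universe u
open CategoryTheory CategoryTheory.Limits AlgebraicGeometry TopologicalSpace Opposite
open Groth.Agent.Lib.Helper74.FtSub
noncomputable section

namespace Groth.Agent.Lib.Helper95.FtSubD3

theorem exists_ftSub_mem {Y : Scheme.{u}} [CompactSpace Y] [QuasiSeparatedSpace Y] (F : Y.Modules) [F.IsQuasicoherent] {U : Y.Opens} (hU : IsAffineOpen U) (m : Γ(F, U)) : ∃ (a : FtSub F) (e : Γ(a.E, U)), (a.ι.app U) e = m := by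
  obtain ⟨G, i, hmono, hq, hft, hmem⟩ :=
    Groth.Agent.Lib.Helper40.SSh.exists_ft_sub_of_fg_qcqs F hU (Submodule.span _ {m})
      (Submodule.fg_span_singleton m)
  obtain ⟨e, he⟩ := hmem m (Submodule.mem_span_singleton_self m)
  exact ⟨⟨G, i, hmono, hq, hft⟩, e, he⟩

end Groth.Agent.Lib.Helper95.FtSubD3
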