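import Groth.Agent.Lib.Helper83.Dk0
set_option autoImplicit false
open CliffordAlgebra Groth.Agent.Lib.Helper83.Cl2 Groth.Agent.Lib.Helper83.Cl5 Groth.Agent.Lib.Helper83.Cl6 Groth.Agent.Lib.Helper83.Dk Groth.Agent.Lib.Helper75.OrthSplit
universe u v

namespace Groth.Agent.Lib.Helper95.Dickson2

variable {R : Type u} [CommRing R]

/-- square of `p + z - 2pz` for commuting `p, z` with `p² = p - a`, `z² = z - b`. -/
theorem sq_aux {A : Type*} [Ring A] (p z a b : A) (hpz : p * z = z * p)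
    (ha : ∀ x, a * x = x * a) (hb : ∀ x, b * x = x * b)
    (hp : p * p = p - a) (hz : z * z = z - b) :
    (p + z - (p * z + p * z)) * (p + z - (p * z + p * z))
      = (p + z - (p * z + p * z)) - (a + b - (a * b + a * b + a * b + a * b)) := by
  obtain ⟨w, hw⟩ : ∃ w, p * z = w := ⟨_, rfl⟩
  have hzp : z * p = w := by rw [← hpz, hw]
  have hpw : p * w = w - a * z := by rw [← hw, ← mul_assoc, hp, sub_mul]
  have hwp : w * p = w - a * z := by rw [← hzp, mul_assoc, hp, mul_sub, hzp, ← ha]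
  have hzw : z * w = w - b * p := by rw [← hzp, ← mul_assoc, hz, sub_mul, hzp]
  have hwz : w * z = w - b * p := by rw [← hw, mul_assoc, hz, mul_sub, hw, ← hb]
  have hww : w * w = w - b * p - a * z + a * b := by
    have : w * w = p * (z * w) := by rw [← mul_assoc, hw]
    rw [this, hzw, mul_sub, hpw, ← mul_assoc, ← hb p, mul_assoc, hp, mul_sub, hb a]
    abel
  rw [hw]
  simp only [mul_add, add_mul, mul_sub, sub_mul]
  rw [hp, hw, hzp, hz, hpw, hwp, hzw, hwz, hww]
  abel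

/-- moving a vector through `p + z - 2pz`. -/
theorem comm_aux {A : Type*} [Ring A] (s p z p' z' : A) (hp : s * p = p' * s)
    (hz : s * z = z' * s) :
    s * (p + z - (p * z + p * z)) = (p' + z' - (p' * z' + p' * z')) * s := by
  have h : s * (p * z) = p' * z' * s := by
    rw [← mul_assoc, hp, mul_assoc, hz, ← mul_assoc]
  rw [mul_sub, mul_add, mul_add, hp, hz, h, sub_mul, add_mul, add_mul]

theorem zeta_plane {N : Type v} [AddCommGroup N] [Module R N] (q : QuadraticForm R N) (e₀ f₀ : N) (hef : QuadraticMap.polar q e₀ f₀ = 1) (hGG : IsUnit (Matrix.det (Matrix.of fun i j : Fin 2 => QuadraticMap.polar q ((![e₀, f₀] : Fin 2 → N) i) ((![e₀, f₀] : Fin 2 → N) j)))) (ζ' : CliffordAlgebra (q.comp (perp q ![e₀, f₀]).subtype)) (hζ' : Zeta _ ζ') : ∃ ζ, Zeta q ζ := by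
  obtain ⟨hev', hv', c₂, hc₂, hu₂⟩ := hζ'
  -- the plane part
  obtain ⟨P, hP⟩ : ∃ P, ι q e₀ * ι q f₀ = P := ⟨_, rfl⟩
  have hPev : P ∈ evenOdd q 0 := by
    rw [← hP]
    have h1 := SetLike.mul_mem_graded (ι_mem_evenOdd_one q e₀) (ι_mem_evenOdd_one q f₀)
    have h11 : (1 : ZMod 2) + 1 = 0 := by decide
    rwa [h11] at h1
  have hfe : ι q f₀ * ι q e₀ = 1 - P := by
    have := ι_mul_ι_add_swap (Q := q) e₀ f₀
    rw [hef, map_one, hP] at this
    rw [← this]; abel
  have heP : ι q e₀ * P = (1 - P) * ι q e₀ := by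
    rw [← hfe, ← hP, ← mul_assoc, ι_sq_scalar, mul_assoc, ι_sq_scalar, Algebra.commutes]
  have hfP : ι q f₀ * P = (1 - P) * ι q f₀ := by
    rw [← hfe, ← hP, ← mul_assoc]
  have hPP : P * P = P - algebraMap R _ (q e₀ * q f₀) := by
    have h1 : P * P = ι q e₀ * ((ι q f₀ * ι q e₀) * ι q f₀) := by
      rw [← hP]; simp only [mul_assoc]
    have h2 : ι q e₀ * (P * ι q f₀) = algebraMap R _ (q e₀ * q f₀) := by
      rw [← hP, ← mul_assoc, ← mul_assoc, ι_sq_scalar, mul_assoc, ι_sq_scalar,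
        ← map_mul (algebraMap R (CliffordAlgebra q))]
    rw [h1, hfe, sub_mul, one_mul, mul_sub, hP, h2]
  -- the complement part
  obtain ⟨Z', hZ'⟩ : ∃ Z', CliffordAlgebra.map (incl q ![e₀, f₀]) ζ' = Z' := ⟨_, rfl⟩
  have hZev : Z' ∈ evenOdd q 0 := by rw [← hZ']; exact map_mem_evenOdd _ _ _ hev'
  have hZinv : involute Z' = Z' := involute_eq_of_mem_even hZev
  have hZZ : Z' * Z' = Z' - algebraMap R _ c₂ := by
    rw [← hZ', ← map_mul, hc₂, map_sub, AlgHom.commutes]
  have hZy : ∀ y ∈ perp q ![e₀, f₀], ι q y * Z' = (1 - Z') * ι q y := by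
    intro y hy
    have h1 := hv' ⟨y, hy⟩
    have h2 := congrArg (CliffordAlgebra.map (incl q ![e₀, f₀])) h1
    rw [map_mul, map_mul, map_sub, map_one, map_apply_ι, hZ'] at h2
    exact h2
  have hZe : ι q e₀ * Z' = Z' * ι q e₀ := by
    have he := incl_comm q ![e₀, f₀] 0 ζ'
    simp only [Fin.isValue, Matrix.cons_val_zero] at he
    rw [hZ', hZinv] at he
    exact he
  have hZf : ι q f₀ * Z' = Z' * ι q f₀ := by
    have hf := incl_comm q ![e₀, f₀] 1 ζ'
    simp only [Fin.isValue, Matrix.cons_val_one] at hf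
    rw [hZ', hZinv] at hf
    exact hf
  have hPZ : P * Z' = Z' * P := by
    rw [← hP, mul_assoc, hZf, ← mul_assoc, hZe, mul_assoc]
  have hyP : ∀ y ∈ perp q ![e₀, f₀], ι q y * P = P * ι q y := by
    intro y hy
    have h0 : QuadraticMap.polar q y e₀ = 0 := (mem_perp_iff q ![e₀, f₀] y).mp hy 0
    have h1 : QuadraticMap.polar q y f₀ = 0 := (mem_perp_iff q ![e₀, f₀] y).mp hy 1
    rw [← hP, ← mul_assoc, ι_mul_ι_of_orth q h0, neg_mul, mul_assoc, ι_mul_ι_of_orth q h1,
      mul_neg, neg_neg, mul_assoc]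
  have hone : (1 : CliffordAlgebra q) - (P + Z' - (P * Z' + P * Z'))
      = (1 - P) + Z' - ((1 - P) * Z' + (1 - P) * Z') := by
    simp only [sub_mul, one_mul]; abel
  have hone' : (1 : CliffordAlgebra q) - (P + Z' - (P * Z' + P * Z'))
      = P + (1 - Z') - (P * (1 - Z') + P * (1 - Z')) := by
    simp only [mul_sub, mul_one]; abel
  refine ⟨P + Z' - (P * Z' + P * Z'), ?_, ?_, q e₀ * q f₀ + c₂ -
    (q e₀ * q f₀ * c₂ + q e₀ * q f₀ * c₂ + q e₀ * q f₀ * c₂ + q e₀ * q f₀ * c₂), ?_, ?_⟩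
  · have hPZev : P * Z' ∈ evenOdd q 0 := by
      have := SetLike.mul_mem_graded hPev hZev
      rwa [add_zero] at this
    exact Submodule.sub_mem _ (Submodule.add_mem _ hPev hZev) (Submodule.add_mem _ hPZev hPZev)
  · intro v
    obtain ⟨a, y, hy, rfl⟩ := exists_decomp q ![e₀, f₀] hGG v
    have he := comm_aux (ι q e₀) P Z' (1 - P) Z' heP hZe
    have hf := comm_aux (ι q f₀) P Z' (1 - P) Z' hfP hZf
    have hyy := comm_aux (ι q y) P Z' P (1 - Z') (hyP y hy) (hZy y hy)
    rw [← hone] at he hf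
    rw [← hone'] at hyy
    rw [Fin.sum_univ_two]
    simp only [Fin.isValue, Matrix.cons_val_zero, Matrix.cons_val_one]
    rw [map_add, map_add, map_smul, map_smul, add_mul, add_mul, mul_add, mul_add,
      smul_mul_assoc, smul_mul_assoc, mul_smul_comm, mul_smul_comm, he, hf, hyy]
  · rw [sq_aux P Z' (algebraMap R _ (q e₀ * q f₀)) (algebraMap R _ c₂) hPZ
      (fun x => Algebra.commutes _ x) (fun x => Algebra.commutes _ x) hPP hZZ]
    simp only [map_sub, map_add, map_mul]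
  · have hu₁ : IsUnit (1 - 4 * (q e₀ * q f₀)) := by
      have hdet : Matrix.det (Matrix.of fun i j : Fin 2 =>
          QuadraticMap.polar q ((![e₀, f₀] : Fin 2 → N) i) ((![e₀, f₀] : Fin 2 → N) j))
          = -(1 - 4 * (q e₀ * q f₀)) := by
        rw [Matrix.det_fin_two]
        simp only [Matrix.of_apply, Fin.isValue, Matrix.cons_val_zero, Matrix.cons_val_one]
        rw [QuadraticMap.polar_self, QuadraticMap.polar_self, hef,
          QuadraticMap.polar_comm q f₀ e₀, hef]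
        simp only [two_smul]
        ring
      rw [hdet] at hGG
      exact (IsUnit.neg_iff _).mp hGG
    have : (1 : R) - 4 * (q e₀ * q f₀ + c₂ -
        (q e₀ * q f₀ * c₂ + q e₀ * q f₀ * c₂ + q e₀ * q f₀ * c₂ + q e₀ * q f₀ * c₂))
        = (1 - 4 * (q e₀ * q f₀)) * (1 - 4 * c₂) := by ring
    rw [this]
    exact hu₁.mul hu₂

end Groth.Agent.Lib.Helper95.Dickson2
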