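import Mathlib
import Groth.Agent.S4875

set_option autoImplicit false
set_option linter.style.haveILetI false
universe u
open CategoryTheory CategoryTheory.Limits AlgebraicGeometry TensorProduct

namespace Groth.Agent.Lib.Helper95.SDFRC

section aux
variable {k : Type u} [Field k] {A R : Type u} [CommRing A] [Algebra k A] [CommRing R] [Algebra k R]

theorem range_mono {R₁ R₂ : Subalgebra k R} (h : R₁ ≤ R₂) :
    (Algebra.TensorProduct.map (AlgHom.id k A) R₁.val).range ≤
      (Algebra.TensorProduct.map (AlgHom.id k A) R₂.val).range := by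
  rintro _ ⟨x, rfl⟩
  refine ⟨Algebra.TensorProduct.map (AlgHom.id k A) (Subalgebra.inclusion h) x, ?_⟩
  induction x using TensorProduct.induction_on with
  | zero => simp
  | tmul a r => simp
  | add x y hx hy => simp only [map_add, hx, hy]

theorem exists_fg (x : A ⊗[k] R) : ∃ R₀ : Subalgebra k R, R₀.FG ∧
    x ∈ (Algebra.TensorProduct.map (AlgHom.id k A) R₀.val).range := by
  induction x using TensorProduct.induction_on with
  | zero => exact ⟨⊥, Subalgebra.fg_bot, zero_mem _⟩
  | tmul a r =>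
    refine ⟨Algebra.adjoin k {r}, Subalgebra.fg_adjoin_finset {r} |> (by simpa using ·),
      ⟨a ⊗ₜ ⟨r, Algebra.subset_adjoin (Set.mem_singleton r)⟩, by simp⟩⟩
  | add x y hx hy =>
    obtain ⟨R₁, h1, hx'⟩ := hx
    obtain ⟨R₂, h2, hy'⟩ := hy
    exact ⟨R₁ ⊔ R₂, h1.sup h2, add_mem (range_mono le_sup_left hx') (range_mono le_sup_right hy')⟩

end aux

theorem RC {k : Type u} [Field k] {A R : Type u} [CommRing A] [Algebra k A] [CommRing R] [Algebra k R] (b τ : A ⊗[k] R) {Λ : Type u} (C : Λ → Type u) [∀ i, CommRing (C i)] [∀ i, Algebra k (C i)] (ψ : ∀ i, A →ₐ[k] C i) (hSL : ∀ (g x : A), (∀ i, ∃ m : ℕ, ψ i g ^ m * ψ i x = 0) → ∃ m : ℕ, g ^ m * x = 0) (hvan : ∀ i, ∃ m : ℕ, (Algebra.TensorProduct.map (ψ i) (AlgHom.id k R) b) ^ m * Algebra.TensorProduct.map (ψ i) (AlgHom.id k R) τ = 0) : ∃ m : ℕ, b ^ m * τ = 0 := by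
  classical
  obtain ⟨R₁, h1, hb₁⟩ := exists_fg (A := A) b
  obtain ⟨R₂, h2, hτ₂⟩ := exists_fg (A := A) τ
  obtain ⟨R₀, hfg, hR1, hR2⟩ : ∃ R₀ : Subalgebra k R, R₀.FG ∧ R₁ ≤ R₀ ∧ R₂ ≤ R₀ :=
    ⟨R₁ ⊔ R₂, h1.sup h2, le_sup_left, le_sup_right⟩
  obtain ⟨b₀, hb₀⟩ := range_mono (A := A) hR1 hb₁
  obtain ⟨τ₀, hτ₀⟩ := range_mono (A := A) hR2 hτ₂
  replace hb₀ : Algebra.TensorProduct.map (AlgHom.id k A) R₀.val b₀ = b := hb₀
  replace hτ₀ : Algebra.TensorProduct.map (AlgHom.id k A) R₀.val τ₀ = τ := hτ₀
  haveI : Algebra.FiniteType k R₀ := (Subalgebra.fg_iff_finiteType R₀).mp hfg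
  haveI : Algebra.FinitePresentation k R₀ := Algebra.FinitePresentation.of_finiteType.mp inferInstance
  haveI : Algebra.FinitePresentation A (A ⊗[k] R₀) := inferInstance
  haveI : Module.Flat A (A ⊗[k] R₀) := inferInstance
  haveI : IsScalarTower A (A ⊗[k] R₀) (Localization.Away b₀) := inferInstance
  haveI : Algebra.FinitePresentation (A ⊗[k] R₀) (Localization.Away b₀) :=
    IsLocalization.Away.finitePresentation b₀
  haveI : Algebra.FinitePresentation A (Localization.Away b₀) :=
    Algebra.FinitePresentation.trans A (A ⊗[k] R₀) (Localization.Away b₀)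
  haveI : Module.Flat (A ⊗[k] R₀) (Localization.Away b₀) :=
    IsLocalization.flat (Localization.Away b₀) (Submonoid.powers b₀)
  haveI : Module.Flat A (Localization.Away b₀) :=
    Module.Flat.trans A (A ⊗[k] R₀) (Localization.Away b₀)
  obtain ⟨l, hl, hfree⟩ := Groth.Agent.S2591.result (A := A) (B := Localization.Away b₀)
    (Localization.Away b₀)
  have key : algebraMap (A ⊗[k] R₀) (Localization.Away b₀) τ₀ = 0 := by
    refine Groth.Agent.S4875.ringF (A := A) (Localization.Away b₀) l hl hfree C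
      (fun i => (ψ i).toRingHom) hSL _ ?_
    intro i R' _ α β hαβ
    letI : Algebra k R' := (α.comp (algebraMap k (C i))).toAlgebra
    let α' : C i →ₐ[k] R' := { α with commutes' := fun c => rfl }
    have hαβ' : ∀ a : A, α (ψ i a) = β (algebraMap (A ⊗[k] R₀) (Localization.Away b₀) (a ⊗ₜ 1)) := by
      intro a
      have := congrArg (fun f => f a) hαβ
      simp only [RingHom.comp_apply] at this
      rw [IsScalarTower.algebraMap_apply A (A ⊗[k] R₀) (Localization.Away b₀)] at this
      exact this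
    let δ : R₀ →ₐ[k] R' :=
      { (β.comp ((algebraMap (A ⊗[k] R₀) (Localization.Away b₀)).comp
          (Algebra.TensorProduct.includeRight : R₀ →ₐ[k] A ⊗[k] R₀).toRingHom)) with
        commutes' := fun c => by
          change β (algebraMap (A ⊗[k] R₀) (Localization.Away b₀) ((1 : A) ⊗ₜ (algebraMap k R₀ c))) =
            α (algebraMap k (C i) c)
          have hk : ((1 : A) ⊗ₜ[k] (algebraMap k R₀ c)) = (algebraMap k A c) ⊗ₜ[k] (1 : R₀) := by
            rw [Algebra.algebraMap_eq_smul_one, Algebra.algebraMap_eq_smul_one]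
            exact (TensorProduct.smul_tmul c 1 1).symm
          rw [← (ψ i).commutes c, hαβ', hk] }
    have hδ : ∀ r : R₀, δ r = β (algebraMap (A ⊗[k] R₀) (Localization.Away b₀) (1 ⊗ₜ r)) :=
      fun r => rfl
    have hγ : ∀ x : A ⊗[k] R₀, Algebra.TensorProduct.productMap α' δ
        (Algebra.TensorProduct.map (ψ i) (AlgHom.id k R₀) x) =
        β (algebraMap (A ⊗[k] R₀) (Localization.Away b₀) x) := by
      intro x
      induction x using TensorProduct.induction_on with
      | zero => simp
      | tmul a r =>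
        rw [Algebra.TensorProduct.map_tmul, Algebra.TensorProduct.productMap_apply_tmul, hδ]
        change α (ψ i a) * _ = _
        rw [hαβ', ← map_mul, ← map_mul, Algebra.TensorProduct.tmul_mul_tmul, mul_one, one_mul]
        rfl
      | add x y hx hy => simp only [map_add, hx, hy]
    obtain ⟨m, hm⟩ := hvan i
    have hinj : Function.Injective (Algebra.TensorProduct.map (AlgHom.id k (C i)) R₀.val) := by
      have := Module.Flat.lTensor_preserves_injective_linearMap (M := C i) R₀.val.toLinearMap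
        Subtype.val_injective
      intro x y hxy
      apply this
      exact hxy
    have hc : ∀ x : A ⊗[k] R₀, Algebra.TensorProduct.map (AlgHom.id k (C i)) R₀.val
        (Algebra.TensorProduct.map (ψ i) (AlgHom.id k R₀) x) =
        Algebra.TensorProduct.map (ψ i) (AlgHom.id k R)
          (Algebra.TensorProduct.map (AlgHom.id k A) R₀.val x) := by
      intro x
      induction x using TensorProduct.induction_on with
      | zero => simp
      | tmul a r => simp
      | add x y hx hy => simp only [map_add, hx, hy]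
    have h0 : (Algebra.TensorProduct.map (ψ i) (AlgHom.id k R₀) b₀) ^ m *
        Algebra.TensorProduct.map (ψ i) (AlgHom.id k R₀) τ₀ = 0 := by
      apply hinj
      rw [map_mul, map_pow, map_zero, hc, hc, hb₀, hτ₀]
      exact hm
    have h1 := congrArg (Algebra.TensorProduct.productMap α' δ) h0
    rw [map_mul, map_pow, map_zero, hγ, hγ] at h1
    have hu : IsUnit (β (algebraMap (A ⊗[k] R₀) (Localization.Away b₀) b₀)) :=
      (IsLocalization.Away.algebraMap_isUnit b₀).map β
    exact (hu.pow m).mul_right_eq_zero.mp h1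
  obtain ⟨⟨_, n, rfl⟩, hn⟩ := (IsLocalization.map_eq_zero_iff (Submonoid.powers b₀)
    (Localization.Away b₀) τ₀).mp key
  refine ⟨n, ?_⟩
  rw [← hb₀, ← hτ₀, ← map_pow, ← map_mul]
  rw [show b₀ ^ n * τ₀ = 0 from hn, map_zero]

end Groth.Agent.Lib.Helper95.SDFRC
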