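import Mathlib.LinearAlgebra.Eigenspace.Basic
import Mathlib.Tactic

set_option autoImplicit false

namespace Groth.Agent.Lib.Helper95.FilEigen

open Module

variable {k V : Type*} [Field k] [AddCommGroup V] [Module k V]

structure FilData (Ψ : V →ₗ[k] V) (Q : ℕ → Submodule k V) (a : ℕ → k) (d : ℕ) : Prop where
  anti : ∀ m n, m ≤ n → Q n ≤ Q m
  top : Q 0 = ⊤
  bot : Q (d + 1) = ⊥
  inj : Function.Injective a
  step : ∀ n, ∀ v ∈ Q n, Ψ v - a n • v ∈ Q (n + 1)

variable {Ψ : V →ₗ[k] V} {Q : ℕ → Submodule k V} {a : ℕ → k} {d : ℕ}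

lemma FilData.bot_of_le (h : FilData Ψ Q a d) {n : ℕ} (hn : d + 1 ≤ n) : Q n = ⊥ :=
  le_bot_iff.mp (h.bot ▸ h.anti _ _ hn)

lemma FilData.map_mem (h : FilData Ψ Q a d) {n : ℕ} {v : V} (hv : v ∈ Q n) : Ψ v ∈ Q n := by
  have h1 := h.step n v hv
  have : Ψ v = (Ψ v - a n • v) + a n • v := by abel
  rw [this]
  exact add_mem (h.anti _ _ (Nat.le_succ n) h1) (Submodule.smul_mem _ _ hv)

lemma FilData.eigen_step (h : FilData Ψ Q a d) {m n : ℕ} (hmn : n ≠ m) {v : V}
    (hv : Ψ v = a m • v) (hvn : v ∈ Q n) : v ∈ Q (n + 1) := by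
  have h1 := h.step n v hvn
  rw [hv, ← sub_smul] at h1
  have hc : a m - a n ≠ 0 := sub_ne_zero.mpr fun e => hmn (h.inj e).symm
  have := Submodule.smul_mem _ (a m - a n)⁻¹ h1
  rwa [smul_smul, inv_mul_cancel₀ hc, one_smul] at this

lemma FilData.eigen_le (h : FilData Ψ Q a d) (m : ℕ) : End.eigenspace Ψ (a m) ≤ Q m := by
  intro v hv
  rw [End.mem_eigenspace_iff] at hv
  have : ∀ n, n ≤ m → v ∈ Q n := by
    intro n
    induction n with
    | zero => intro _; rw [h.top]; trivial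
    | succ n ih =>
      intro hn
      exact h.eigen_step (by omega) hv (ih (by omega))
  exact this m le_rfl

lemma FilData.eigen_inf (h : FilData Ψ Q a d) (m : ℕ) :
    End.eigenspace Ψ (a m) ⊓ Q (m + 1) = ⊥ := by
  rw [eq_bot_iff]
  rintro v ⟨hv, hv'⟩
  rw [SetLike.mem_coe, End.mem_eigenspace_iff] at hv
  have : ∀ i, v ∈ Q (m + 1 + i) := by
    intro i
    induction i with
    | zero => exact hv'
    | succ i ih => exact h.eigen_step (n := m + 1 + i) (by omega) hv ih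
  have h2 := this d
  rwa [h.bot_of_le (by omega)] at h2

lemma FilData.surj (h : FilData Ψ Q a d) (m : ℕ) :
    ∀ i n, m < n → d + 1 ≤ n + i → ∀ r ∈ Q n, ∃ w ∈ Q n, Ψ w - a m • w = r := by
  intro i
  induction i with
  | zero =>
    intro n _ hn r hr
    rw [h.bot_of_le (by omega)] at hr
    rw [(Submodule.mem_bot k).mp hr]
    exact ⟨0, zero_mem _, by simp⟩
  | succ i ih =>
    intro n hmn hn r hr
    obtain ⟨w', hw', hw'2⟩ := ih (n + 1) (by omega) (by omega) _ (h.step n r hr)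
    have hc : a n - a m ≠ 0 := sub_ne_zero.mpr fun e => (by omega : n ≠ m) (h.inj e)
    refine ⟨(a n - a m)⁻¹ • (r - w'), Submodule.smul_mem _ _
      (sub_mem hr (h.anti _ _ (Nat.le_succ n) hw')), ?_⟩
    rw [map_smul, smul_comm (a m), ← smul_sub, map_sub]
    have : Ψ r - Ψ w' - a m • (r - w') = (a n - a m) • r := by
      have : Ψ w' = Ψ r - a n • r + a m • w' := by rw [← hw'2]; abel
      rw [this, sub_smul, smul_sub]; abel
    rw [this, smul_smul, inv_mul_cancel₀ hc, one_smul]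

lemma FilData.eigen_sup (h : FilData Ψ Q a d) (m : ℕ) :
    End.eigenspace Ψ (a m) ⊔ Q (m + 1) = Q m := by
  apply le_antisymm
  · exact sup_le (h.eigen_le m) (h.anti _ _ (Nat.le_succ m))
  · intro v hv
    obtain ⟨w, hw, hw2⟩ := h.surj m d (m + 1) (by omega) (by omega) _ (h.step m v hv)
    have : v = (v - w) + w := by abel
    rw [this]
    refine Submodule.add_mem_sup ?_ hw
    rw [End.mem_eigenspace_iff, map_sub, smul_sub]
    have : Ψ w = Ψ v - a m • v + a m • w := by rw [← hw2]; abel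
    rw [this]; abel

lemma FilData.iSup_eigen (h : FilData Ψ Q a d) :
    (⨆ m ∈ Finset.range (d + 1), End.eigenspace Ψ (a m)) = ⊤ := by
  have key : ∀ n, n ≤ d + 1 →
      (⨆ m ∈ Finset.range n, End.eigenspace Ψ (a m)) ⊔ Q n = ⊤ := by
    intro n
    induction n with
    | zero => intro _; simp [h.top]
    | succ n ih =>
      intro hn
      rw [Finset.range_add_one, Finset.iSup_insert, sup_comm (End.eigenspace Ψ (a n)), sup_assoc,
        h.eigen_sup n]
      exact ih (by omega)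
  have := key (d + 1) le_rfl
  rwa [h.bot, sup_bot_eq] at this

lemma FilData.eigen_le_eigen (h : FilData Ψ Q a d) {Ψ' : V →ₗ[k] V} {b : ℕ → k}
    (h' : FilData Ψ' Q b d) (hcomm : ∀ v, Ψ (Ψ' v) = Ψ' (Ψ v)) (m : ℕ) :
    End.eigenspace Ψ (a m) ≤ End.eigenspace Ψ' (b m) := by
  intro v hv
  have hvQ := h.eigen_le m hv
  rw [End.mem_eigenspace_iff] at hv ⊢
  have h1 : Ψ' v - b m • v ∈ End.eigenspace Ψ (a m) ⊓ Q (m + 1) := by
    refine ⟨?_, h'.step m v hvQ⟩
    rw [SetLike.mem_coe, End.mem_eigenspace_iff, map_sub, hcomm, hv, map_smul, map_smul, hv,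
      smul_sub, smul_comm (b m)]
  rw [h.eigen_inf m] at h1
  exact sub_eq_zero.mp ((Submodule.mem_bot k).mp h1)

end Groth.Agent.Lib.Helper95.FilEigen
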