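import Groth.Agent.S3292
import Groth.Agent.Lib.Helper95.FilEigen
import Mathlib.LinearAlgebra.TensorProduct.Basic

set_option autoImplicit false
universe u
open TensorProduct LambdaRing

namespace Groth.Agent.Lib.Helper95.AdamsEigen

open Groth.Agent.Lib.Helper95.FilEigen Groth.Agent.Lib.Helper95.GammaFil

variable {K : Type u} [CommRing K] [LambdaOps K]

noncomputable def QF (P : PosStructure K) (n : ℕ) : Submodule ℚ (ℚ ⊗[ℤ] K) :=
  Submodule.span ℚ ((fun x : K => (1 : ℚ) ⊗ₜ[ℤ] x) '' (gammaFiltration P n : Set K))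

lemma one_tmul_mem_QF (P : PosStructure K) {n : ℕ} {x : K} (hx : x ∈ gammaFiltration P n) :
    (1 : ℚ) ⊗ₜ[ℤ] x ∈ QF P n :=
  Submodule.subset_span ⟨x, hx, rfl⟩

lemma tmul_mem_QF (P : PosStructure K) {n : ℕ} {x : K} (hx : x ∈ gammaFiltration P n) (q : ℚ) :
    q ⊗ₜ[ℤ] x ∈ QF P n := by
  have : q ⊗ₜ[ℤ] x = q • ((1 : ℚ) ⊗ₜ[ℤ] x) := by
    rw [TensorProduct.smul_tmul', smul_eq_mul, mul_one]
  rw [this]
  exact Submodule.smul_mem _ _ (one_tmul_mem_QF P hx)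

lemma QF_anti (P : PosStructure K) (m n : ℕ) (h : m ≤ n) : QF P n ≤ QF P m :=
  Submodule.span_mono (Set.image_mono fun _ hx => gammaFiltration_anti P h hx)

lemma QF_zero (P : PosStructure K) : QF P 0 = ⊤ := by
  rw [eq_top_iff]
  intro v _
  clear * -
  induction v using TensorProduct.induction_on with
  | zero => exact zero_mem _
  | tmul q x => exact tmul_mem_QF P (by rw [gammaFiltration_zero]; trivial) q
  | add v w hv hw => exact add_mem hv hw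

lemma QF_bot (P : PosStructure K) {n : ℕ} (h : gammaFiltration P n = ⊥) : QF P n = ⊥ := by
  rw [eq_bot_iff]
  refine Submodule.span_le.mpr ?_
  rintro _ ⟨x, hx, rfl⟩
  rw [SetLike.mem_coe, h, AddSubgroup.mem_bot] at hx
  simp [hx]

omit [LambdaOps K] in
lemma one_tmul_natCast_pow_mul (j n : ℕ) (x : K) :
    (1 : ℚ) ⊗ₜ[ℤ] ((j : K) ^ n * x) = ((j : ℚ) ^ n) • ((1 : ℚ) ⊗ₜ[ℤ] x) := by
  have h1 : (j : K) ^ n * x = ((j : ℤ) ^ n) • x := by
    rw [zsmul_eq_mul]; push_cast; rfl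
  rw [h1, TensorProduct.tmul_smul, TensorProduct.smul_tmul', TensorProduct.smul_tmul',
    smul_eq_mul, mul_one, zsmul_eq_mul, mul_one]
  push_cast
  rfl

theorem filData (P : PosStructure K) (hK : HasSplitting K P) (d : ℕ)
    (hd : gammaFiltration P (d + 1) = ⊥) (j : ℕ) (hj : 2 ≤ j)
    (Ψ : ℚ ⊗[ℤ] K →ₗ[ℚ] ℚ ⊗[ℤ] K)
    (hΨ : ∀ x : K, Ψ (1 ⊗ₜ[ℤ] x) = 1 ⊗ₜ[ℤ] adams P j x) :
    FilData Ψ (QF P) (fun m => (j : ℚ) ^ m) d where
  anti := QF_anti P
  top := QF_zero P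
  bot := QF_bot P hd
  inj := by
    intro m n h
    have h' : j ^ m = j ^ n := by
      have h2 : (j : ℚ) ^ m = (j : ℚ) ^ n := h
      exact_mod_cast h2
    exact Nat.pow_right_injective hj h'
  step := by
    intro n v hv
    have : QF P n ≤ Submodule.comap (Ψ - ((j : ℚ) ^ n) • LinearMap.id) (QF P (n + 1)) := by
      refine Submodule.span_le.mpr ?_
      rintro _ ⟨x, hx, rfl⟩
      rw [SetLike.mem_coe, Submodule.mem_comap, LinearMap.sub_apply, LinearMap.smul_apply, LinearMap.id_apply, hΨ,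
        ← one_tmul_natCast_pow_mul, ← TensorProduct.tmul_sub]
      exact one_tmul_mem_QF P (Groth.Agent.S3292.result K P hK j (by omega) n x hx)
    have := this hv
    simpa using this

lemma comm_of_adams (P : PosStructure K) (hK : HasSplitting K P) (j l : ℕ)
    (Ψj Ψl : ℚ ⊗[ℤ] K →ₗ[ℚ] ℚ ⊗[ℤ] K)
    (hΨj : ∀ x : K, Ψj (1 ⊗ₜ[ℤ] x) = 1 ⊗ₜ[ℤ] adams P j x)
    (hΨl : ∀ x : K, Ψl (1 ⊗ₜ[ℤ] x) = 1 ⊗ₜ[ℤ] adams P l x) (v : ℚ ⊗[ℤ] K) :
    Ψj (Ψl v) = Ψl (Ψj v) := by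
  induction v using TensorProduct.induction_on with
  | zero => simp
  | tmul q x =>
    have : q ⊗ₜ[ℤ] x = q • ((1 : ℚ) ⊗ₜ[ℤ] x) := by
      rw [TensorProduct.smul_tmul', smul_eq_mul, mul_one]
    rw [this, map_smul, map_smul, map_smul, map_smul, hΨj, hΨl, hΨj, hΨl,
      Groth.Agent.Lib.Helper48.adams_adams P hK, Groth.Agent.Lib.Helper48.adams_adams P hK,
      mul_comm]
  | add v w hv hw => rw [map_add, map_add, map_add, map_add, hv, hw]

end Groth.Agent.Lib.Helper95.AdamsEigen
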