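import Groth.Agent.Lib.Helper95.CD1
import Mathlib.Algebra.Algebra.Epi

set_option autoImplicit false
universe u
open TensorProduct Module

namespace Groth.Agent.Lib.Helper95.BT1

open Groth.Agent.Lib.Helper95.HG4 Groth.Agent.Lib.Helper95.HG5 Groth.Agent.Lib.Helper95.HG6

section Ker

variable {R : Type u} [CommRing R] {A B : Type u} [CommRing A] [CommRing B] [HopfAlgebra R A]
  [HopfAlgebra R B] (φ : A →ₐc[R] B)

/-- the ideal of the kernel of the group homomorphism `Spec φ` -/
def I₀ : Ideal B := Ideal.map (φ : A →+* B) (RingHom.ker (Bialgebra.counitAlgHom R A))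

theorem sub_mem (a : A) : φ a - algebraMap R B (Coalgebra.counit (R := R) a) ∈ I₀ φ := by
  have h1 : a - algebraMap R A (Coalgebra.counit (R := R) a) ∈
      RingHom.ker (Bialgebra.counitAlgHom R A) := by
    rw [RingHom.mem_ker, map_sub, Bialgebra.counitAlgHom_apply, AlgHom.commutes]
    simp
  have h2 := Ideal.mem_map_of_mem (φ : A →+* B) h1
  have h3 : (φ : A →+* B) (a - algebraMap R A (Coalgebra.counit (R := R) a)) =
      φ a - algebraMap R B (Coalgebra.counit (R := R) a) := by
    rw [map_sub]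
    congr 1
    exact AlgHom.commutes (φ : A →ₐ[R] B) _
  rw [h3] at h2
  exact h2

theorem mk_φ (a : A) : Ideal.Quotient.mk (I₀ φ) (φ a) =
    algebraMap R (B ⧸ I₀ φ) (Coalgebra.counit (R := R) a) := by
  have := sub_mem φ a
  rw [← Ideal.Quotient.eq] at this
  rw [this]
  rfl

theorem le_of_forall {T : Type*} [CommRing T] (f : B →+* T)
    (h : ∀ a, Coalgebra.counit (R := R) a = 0 → f (φ a) = 0) : I₀ φ ≤ RingHom.ker f := by
  rw [I₀, Ideal.map_le_iff_le_comap]
  intro a ha
  rw [Ideal.mem_comap, RingHom.mem_ker]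
  exact h a ha

theorem map_counit_comul (a : A) :
    TensorProduct.map (Coalgebra.counit (R := R) (A := A)) (Coalgebra.counit (R := R) (A := A))
      (Coalgebra.comul (R := R) a) = (1 : R) ⊗ₜ[R] Coalgebra.counit (R := R) a := by
  have h1 : TensorProduct.map (Coalgebra.counit (R := R) (A := A)) (Coalgebra.counit (R := R) (A := A)) =
      LinearMap.lTensor R (Coalgebra.counit (R := R) (A := A)) ∘ₗ
        LinearMap.rTensor A (Coalgebra.counit (R := R) (A := A)) := by
    rw [LinearMap.lTensor_comp_rTensor]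
  rw [h1, LinearMap.comp_apply, Coalgebra.rTensor_counit_comul, LinearMap.lTensor_tmul]

theorem ππ_comul_φ (a : A) :
    Algebra.TensorProduct.map (Ideal.Quotient.mkₐ R (I₀ φ)) (Ideal.Quotient.mkₐ R (I₀ φ))
      (Coalgebra.comul (R := R) (φ a)) =
      algebraMap R _ (Coalgebra.counit (R := R) a) := by
  rw [← CoalgHomClass.map_comp_comul_apply φ a]
  let L : A ⊗[R] A →ₗ[R] (B ⧸ I₀ φ) ⊗[R] (B ⧸ I₀ φ) :=
    (Algebra.TensorProduct.map (Ideal.Quotient.mkₐ R (I₀ φ))
      (Ideal.Quotient.mkₐ R (I₀ φ))).toLinearMap ∘ₗ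
      TensorProduct.map (φ : A →ₗ[R] B) (φ : A →ₗ[R] B)
  let L' : A ⊗[R] A →ₗ[R] (B ⧸ I₀ φ) ⊗[R] (B ⧸ I₀ φ) :=
    Algebra.linearMap R _ ∘ₗ (TensorProduct.lid R R).toLinearMap ∘ₗ
      TensorProduct.map (Coalgebra.counit (R := R) (A := A)) (Coalgebra.counit (R := R) (A := A))
  have hL : L = L' := by
    apply TensorProduct.ext'
    intro x y
    simp only [L, L', LinearMap.comp_apply, TensorProduct.map_tmul, AlgHom.toLinearMap_apply,
      Algebra.TensorProduct.map_tmul, LinearEquiv.coe_coe, TensorProduct.lid_tmul,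
      Algebra.linearMap_apply]
    have hx : (Ideal.Quotient.mkₐ R (I₀ φ)) ((φ : A →ₗ[R] B) x) =
        algebraMap R _ (Coalgebra.counit (R := R) x) := mk_φ φ x
    have hy : (Ideal.Quotient.mkₐ R (I₀ φ)) ((φ : A →ₗ[R] B) y) =
        algebraMap R _ (Coalgebra.counit (R := R) y) := mk_φ φ y
    rw [hx, hy, Algebra.algebraMap_eq_smul_one (Coalgebra.counit (R := R) x),
      Algebra.algebraMap_eq_smul_one (Coalgebra.counit (R := R) y),
      Algebra.algebraMap_eq_smul_one (A := (B ⧸ I₀ φ) ⊗[R] (B ⧸ I₀ φ)),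
      ← TensorProduct.smul_tmul', TensorProduct.tmul_smul, smul_smul,
      Algebra.TensorProduct.one_def, smul_eq_mul]
  have h2 : L (Coalgebra.comul (R := R) a) = L' (Coalgebra.comul (R := R) a) := by rw [hL]
  simp only [L, L', LinearMap.comp_apply, LinearEquiv.coe_coe] at h2
  rw [map_counit_comul, TensorProduct.lid_tmul, one_smul] at h2
  exact h2

theorem counit_antipode' (a : A) :
    Coalgebra.counit (R := R) (HopfAlgebra.antipode R a) = Coalgebra.counit (R := R) a := by
  have := congrArg (fun f => f a) (AlgHom.counitAlgHom_comp_antipodeAlgHom (R := R) (A := A))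
  exact this

theorem isHopfIdeal : (I₀ φ).IsHopfIdeal R := by
  let π : B →ₐ[R] B ⧸ I₀ φ := Ideal.Quotient.mkₐ R (I₀ φ)
  let J : Submodule R B := (I₀ φ).restrictScalars R
  have hJ : ∀ x, x ∈ J ↔ π x = 0 := fun x => by
    change x ∈ I₀ φ ↔ Ideal.Quotient.mk (I₀ φ) x = 0
    exact Ideal.Quotient.eq_zero_iff_mem.symm
  let π' : (B ⧸ J) →ₗ[R] B ⧸ I₀ φ := J.liftQ π.toLinearMap (fun x hx => (hJ x).mp hx)
  have hπ' : Function.Injective π' := by
    rw [← LinearMap.ker_eq_bot, Submodule.ker_liftQ_eq_bot']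
    ext x
    rw [LinearMap.mem_ker]
    exact (hJ x)
  have hπ's : Function.Surjective π' := by
    intro y
    obtain ⟨x, rfl⟩ := Ideal.Quotient.mkₐ_surjective R (I₀ φ) y
    exact ⟨J.mkQ x, rfl⟩
  let e : (B ⧸ J) ≃ₗ[R] B ⧸ I₀ φ := LinearEquiv.ofBijective π' ⟨hπ', hπ's⟩
  have hinj : Function.Injective (TensorProduct.map π' π') :=
    (TensorProduct.congr e e).injective
  let ψ : B →ₐ[R] (B ⧸ I₀ φ) ⊗[R] (B ⧸ I₀ φ) :=
    (Algebra.TensorProduct.map π π).comp (Bialgebra.comulAlgHom R B)
  have hψ : I₀ φ ≤ RingHom.ker ψ.toRingHom := by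
    apply le_of_forall φ
    intro a ha
    change Algebra.TensorProduct.map π π (Coalgebra.comul (R := R) (φ a)) = 0
    rw [ππ_comul_φ, ha, map_zero]
  have hcoideal : J.IsCoideal := by
    constructor
    · intro x hx
      have h1 : I₀ φ ≤ RingHom.ker (Bialgebra.counitAlgHom R B : B →+* R) := by
        apply le_of_forall φ
        intro a ha
        change Coalgebra.counit (R := R) (φ a) = 0
        rw [CoalgHomClass.counit_comp_apply φ a, ha]
      exact h1 hx
    · intro x hx
      apply hinj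
      rw [map_zero, ← LinearMap.comp_apply, ← TensorProduct.map_comp]
      have h1 : π' ∘ₗ J.mkQ = π.toLinearMap := J.liftQ_mkQ _ _
      rw [h1]
      exact hψ hx
  exact { toIsCoideal := hcoideal
          antipode_mem := by
            intro x hx
            have h1 : I₀ φ ≤ RingHom.ker ((Ideal.Quotient.mk (I₀ φ)).comp
                (HopfAlgebra.antipodeAlgHom R B : B →+* B)) := by
              apply le_of_forall φ
              intro a ha
              change Ideal.Quotient.mk (I₀ φ) (HopfAlgebra.antipode R (φ a)) = 0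
              rw [← CD1.bialgHom_antipode φ a, mk_φ, counit_antipode', ha, map_zero]
            have h2 := h1 hx
            rw [RingHom.mem_ker] at h2
            exact Ideal.Quotient.eq_zero_iff_mem.mp h2 }

attribute [local instance] HG5.algRC HG5.isScalarTower

theorem φ_mem_Cs [(I₀ φ).IsHopfIdeal R] (a : A) : φ a ∈ HG5.Cs R (I₀ φ) := by
  rw [HG5.mem_Cs, HG4.ρ_apply, ← CoalgHomClass.map_comp_comul_apply φ a]
  let L : A ⊗[R] A →ₗ[R] B ⊗[R] (B ⧸ I₀ φ) :=
    (Algebra.TensorProduct.map (AlgHom.id R B) (Ideal.Quotient.mkₐ R (I₀ φ))).toLinearMap ∘ₗ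
      TensorProduct.map (φ : A →ₗ[R] B) (φ : A →ₗ[R] B)
  let L' : A ⊗[R] A →ₗ[R] B ⊗[R] (B ⧸ I₀ φ) :=
    TensorProduct.map (φ : A →ₗ[R] B) (Algebra.linearMap R (B ⧸ I₀ φ)) ∘ₗ
      LinearMap.lTensor A (Coalgebra.counit (R := R) (A := A))
  have hL : L = L' := by
    apply TensorProduct.ext'
    intro x y
    simp only [L, L', LinearMap.comp_apply, TensorProduct.map_tmul, AlgHom.toLinearMap_apply,
      Algebra.TensorProduct.map_tmul, LinearMap.lTensor_tmul, Algebra.linearMap_apply,
      AlgHom.coe_id, id_eq]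
    congr 1
    exact mk_φ φ y
  have h2 : L (Coalgebra.comul (R := R) a) = L' (Coalgebra.comul (R := R) a) := by rw [hL]
  simp only [L, L', LinearMap.comp_apply] at h2
  rw [Coalgebra.lTensor_counit_comul, TensorProduct.map_tmul, Algebra.linearMap_apply,
    map_one] at h2
  exact h2.symm

end Ker

section Conv

variable {R : Type u} [CommRing R] {H T : Type u} [CommRing H] [HopfAlgebra R H] [CommRing T]
  [Algebra R T]

open WithConv

theorem comp_one (h : H →ₐ[R] T) :
    h.comp (1 : WithConv (H →ₐ[R] H)).ofConv = (1 : WithConv (H →ₐ[R] T)).ofConv := by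
  apply AlgHom.ext
  intro x
  change h (algebraMap R H (Coalgebra.counit (R := R) x)) =
    algebraMap R T (Coalgebra.counit (R := R) x)
  rw [AlgHom.commutes]

theorem conv_inv_left (h : H →ₐ[R] T) :
    toConv (h.comp (HopfAlgebra.antipodeAlgHom R H)) * toConv h = 1 := by
  have h1 := AlgHom.comp_convMul_distrib h (toConv (HopfAlgebra.antipodeAlgHom R H))
    (toConv (AlgHom.id R H))
  rw [AlgHom.antipode_id_cancel, comp_one] at h1
  apply WithConv.ofConv_injective
  rw [h1]
  rfl

theorem conv_inv_right (h : H →ₐ[R] T) :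
    toConv h * toConv (h.comp (HopfAlgebra.antipodeAlgHom R H)) = 1 := by
  have hS1 : toConv (HopfAlgebra.antipodeAlgHom R H) * toConv (AlgHom.id R H) = 1 :=
    AlgHom.antipode_id_cancel
  have hS2 : toConv (AlgHom.id R H) * toConv (HopfAlgebra.antipodeAlgHom R H) = 1 := by
    have h0 : toConv (HopfAlgebra.antipodeAlgHom R H) = (toConv (AlgHom.id R H))⁻¹ :=
      eq_inv_of_mul_eq_one_left hS1
    rw [h0, mul_inv_cancel]
  have h1 := AlgHom.comp_convMul_distrib h (toConv (AlgHom.id R H))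
    (toConv (HopfAlgebra.antipodeAlgHom R H))
  rw [hS2, comp_one] at h1
  apply WithConv.ofConv_injective
  rw [h1]
  rfl

end Conv

section TPoint

variable {R : Type u} [CommRing R] {A B : Type u} [CommRing A] [CommRing B] [HopfAlgebra R A]
  [HopfAlgebra R B] (φ : A →ₐc[R] B) [Algebra A B] [IsScalarTower R A B]
  (hφ : ∀ a, algebraMap A B a = φ a) [(I₀ φ).IsHopfIdeal R]

attribute [local instance] HG5.algRC HG5.isScalarTower

omit [(I₀ φ).IsHopfIdeal R] in
open WithConv in
include hφ in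
theorem tmul_eq (c : B) (hc : c ∈ HG5.Cs R (I₀ φ)) :
    c ⊗ₜ[A] (1 : B) = (1 : B) ⊗ₜ[A] c := by
  let g : B →ₐ[R] B ⊗[A] B := Algebra.TensorProduct.includeLeft
  let g' : B →ₐ[R] B ⊗[A] B :=
    (Algebra.TensorProduct.includeRight : B →ₐ[A] B ⊗[A] B).restrictScalars R
  have hgg' : g.comp (φ : A →ₐ[R] B) = g'.comp (φ : A →ₐ[R] B) := by
    apply AlgHom.ext
    intro a
    change (φ a) ⊗ₜ[A] (1 : B) = (1 : B) ⊗ₜ[A] (φ a)
    rw [← hφ a, Algebra.algebraMap_eq_smul_one, TensorProduct.smul_tmul]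
  let ginv : WithConv (B →ₐ[R] B ⊗[A] B) := toConv (g.comp (HopfAlgebra.antipodeAlgHom R B))
  let n : WithConv (B →ₐ[R] B ⊗[A] B) := ginv * toConv g'
  have hmul : toConv g * n = toConv g' := by
    change toConv g * (ginv * toConv g') = toConv g'
    rw [← mul_assoc, conv_inv_right, one_mul]
  have hSφ : (HopfAlgebra.antipodeAlgHom R B).comp (φ : A →ₐ[R] B) =
      (φ : A →ₐ[R] B).comp (HopfAlgebra.antipodeAlgHom R A) := by
    apply AlgHom.ext
    intro a
    exact (CD1.bialgHom_antipode φ a).symm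
  have hnφ : n.ofConv.comp (φ : A →ₐ[R] B) = (1 : WithConv (A →ₐ[R] B ⊗[A] B)).ofConv := by
    have h1 := AlgHom.convMul_comp_bialgHom_distrib ginv (toConv g') φ
    change n.ofConv.comp (φ : A →ₐ[R] B) = _ at h1
    rw [h1]
    have h2 : ginv.ofConv.comp (φ : A →ₐ[R] B) =
        (g'.comp (φ : A →ₐ[R] B)).comp (HopfAlgebra.antipodeAlgHom R A) := by
      change (g.comp (HopfAlgebra.antipodeAlgHom R B)).comp (φ : A →ₐ[R] B) = _
      rw [AlgHom.comp_assoc, hSφ, ← AlgHom.comp_assoc, hgg']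
    rw [h2]
    change ofConv (toConv ((g'.comp (φ : A →ₐ[R] B)).comp (HopfAlgebra.antipodeAlgHom R A)) *
      toConv (g'.comp (φ : A →ₐ[R] B))) = _
    rw [conv_inv_left]
  have hn : ∀ a, n.ofConv (φ a) = algebraMap R (B ⊗[A] B) (Coalgebra.counit (R := R) a) := by
    intro a
    have := congrArg (fun f => f a) hnφ
    exact this
  have hnI : I₀ φ ≤ RingHom.ker n.ofConv.toRingHom := by
    apply le_of_forall φ
    intro a ha
    change n.ofConv (φ a) = 0
    rw [hn, ha, map_zero]
  let nbar : B ⧸ I₀ φ →ₐ[R] B ⊗[A] B := Ideal.Quotient.liftₐ (I₀ φ) n.ofConv (fun x hx => hnI hx)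
  have hnbar : nbar.comp (Ideal.Quotient.mkₐ R (I₀ φ)) = n.ofConv := Ideal.Quotient.liftₐ_comp _ _ _
  have h3 : g' c = (toConv g * n).ofConv c := by rw [hmul]
  have h4 : (toConv g * n).ofConv c =
      Algebra.TensorProduct.lift g nbar (fun _ _ => .all _ _) (HG4.ρ R (I₀ φ) c) := by
    rw [HG4.ρ_apply]
    have h5 := AlgHom.convMul_apply (toConv g) n c
    change (toConv g * n).ofConv c = _ at h5
    rw [h5]
    have h6 : Algebra.TensorProduct.lift (toConv g).ofConv n.ofConv (fun _ _ => .all _ _) =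
        (Algebra.TensorProduct.lift g nbar (fun _ _ => .all _ _)).comp
          (Algebra.TensorProduct.map (AlgHom.id R B) (Ideal.Quotient.mkₐ R (I₀ φ))) := by
      apply Algebra.TensorProduct.ext'
      intro x y
      simp only [Algebra.TensorProduct.lift_tmul, AlgHom.comp_apply,
        Algebra.TensorProduct.map_tmul, AlgHom.coe_id, id_eq]
      congr 1
    rw [h6]
    rfl
  rw [← (HG5.mem_Cs R (I₀ φ) c).mp hc, Algebra.TensorProduct.lift_tmul, map_one, mul_one] at h4
  have h7 : g' c = g c := h3.trans h4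
  exact h7.symm

end TPoint

section Rank

variable {R : Type u} [CommRing R] {M N : Type u} [AddCommGroup M] [AddCommGroup N] [Module R M]
  [Module R N] [Module.Finite R M] [Module.Projective R M] [Module.Finite R N]
  [Module.Projective R N]

theorem injective_of_surjective_of_rank_eq (f : M →ₗ[R] N) (hf : Function.Surjective f)
    (h : ∀ q, rankAtStalk (R := R) M q = rankAtStalk (R := R) N q) : Function.Injective f := by
  obtain ⟨s, hs⟩ := Module.projective_lifting_property f LinearMap.id hf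
  have hex : Function.Exact (LinearMap.ker f).subtype f := LinearMap.exact_subtype_ker_map f
  obtain ⟨e, he1, he2⟩ := hex.splitSurjectiveEquiv (Submodule.subtype_injective _) ⟨s, hs⟩
  have hsplit : (LinearMap.fst R (LinearMap.ker f) N ∘ₗ e.toLinearMap) ∘ₗ
      (LinearMap.ker f).subtype = LinearMap.id := by
    rw [he1]
    ext x
    simp
  haveI : Module.Finite R (LinearMap.ker f) :=
    Module.Finite.of_surjective (LinearMap.fst R (LinearMap.ker f) N ∘ₗ e.toLinearMap) (by
      intro k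
      exact ⟨(LinearMap.ker f).subtype k, LinearMap.congr_fun hsplit k⟩)
  haveI : Module.Projective R (LinearMap.ker f) :=
    Module.Projective.of_split _ _ hsplit
  have h1 : rankAtStalk (R := R) M = rankAtStalk (R := R) (LinearMap.ker f) +
      rankAtStalk (R := R) N := by
    rw [rankAtStalk_eq_of_equiv e, rankAtStalk_prod]
  have h2 : rankAtStalk (R := R) (LinearMap.ker f) = 0 := by
    ext q
    have := congrFun h1 q
    rw [Pi.add_apply, h q] at this
    simp only [Pi.zero_apply]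
    omega
  have h3 : Subsingleton (LinearMap.ker f) := rankAtStalk_eq_zero_iff_subsingleton.mp h2
  rw [← LinearMap.ker_eq_bot]
  exact Submodule.subsingleton_iff_eq_bot.mp h3

end Rank

section Main

variable (R : Type u) [CommRing R] [IsNoetherianRing R] {A B : Type u} [CommRing A] [CommRing B]
  [HopfAlgebra R A] [HopfAlgebra R B] [Module.Finite R A] [Module.Projective R A]
  [Module.Finite R B] [Module.Projective R B]
  (φ : A →ₐc[R] B) [Algebra A B] [IsScalarTower R A B] (hφ : ∀ a, algebraMap A B a = φ a)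
  [Module.Projective R (B ⧸ I₀ φ)]
  (d : ℕ) (hd0 : 0 < d) (hd : ∀ q, rankAtStalk (R := R) (B ⧸ I₀ φ) q = d)
  (hr : ∀ q, rankAtStalk (R := R) B q = d * rankAtStalk (R := R) A q)

attribute [local instance] HG5.algRC HG5.isScalarTower

include hφ hd0 hd hr in
theorem main : Module.Finite A B ∧ Module.FaithfullyFlat A B ∧
    ∀ p : PrimeSpectrum A, rankAtStalk (R := A) B p = d := by
  haveI := isHopfIdeal φ
  obtain ⟨hfinCB, hffCB⟩ := HG6.props R (I₀ φ)
  let φC : A →+* HG5.Cs R (I₀ φ) :=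
    (φ : A →+* B).codRestrict (HG5.Cs R (I₀ φ)) (φ_mem_Cs φ)
  letI : Algebra A (HG5.Cs R (I₀ φ)) := φC.toAlgebra
  haveI : IsScalarTower A (HG5.Cs R (I₀ φ)) B := IsScalarTower.of_algebraMap_eq (fun a => hφ a)
  haveI : IsScalarTower R A (HG5.Cs R (I₀ φ)) := IsScalarTower.of_algebraMap_eq (fun r =>
    Subtype.ext (AlgHom.commutes (φ : A →ₐ[R] B) r).symm)
  haveI : Module.Finite R (HG5.Cs R (I₀ φ)) :=
    Module.Finite.of_injective (IsScalarTower.toAlgHom R (HG5.Cs R (I₀ φ)) B).toLinearMap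
      Subtype.val_injective
  haveI : Module.Flat R (HG5.Cs R (I₀ φ)) := T2.flat_of_faithfullyFlat_of_flat (A := B)
  haveI : Module.Projective R (HG5.Cs R (I₀ φ)) := by
    haveI : Module.FinitePresentation R (HG5.Cs R (I₀ φ)) := Module.finitePresentation_of_finite R _
    exact Module.Flat.projective_of_finitePresentation
  haveI : Module.Finite A (HG5.Cs R (I₀ φ)) := Module.Finite.of_restrictScalars_finite R A _
  haveI : IsNoetherianRing (HG5.Cs R (I₀ φ)) := IsNoetherianRing.of_finite R _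
  obtain ⟨l, hl⟩ := CD0.exists_retraction (HG5.Cs R (I₀ φ)) (HG5.Cs R (I₀ φ)) B
  have hl' : ∀ c : HG5.Cs R (I₀ φ), l (c : B) = c := fun c => LinearMap.congr_fun hl c
  have hepi : Algebra.IsEpi A (HG5.Cs R (I₀ φ)) := by
    rw [Algebra.isEpi_iff_forall_one_tmul_eq]
    intro c
    have h1 := tmul_eq φ hφ c.1 c.2
    have h2 := congrArg (TensorProduct.map (l.restrictScalars A) (l.restrictScalars A)) h1
    rw [TensorProduct.map_tmul, TensorProduct.map_tmul, LinearMap.restrictScalars_apply,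
      LinearMap.restrictScalars_apply] at h2
    have h3 : l (1 : B) = 1 := hl' 1
    rw [hl' c, h3] at h2
    exact h2.symm
  have hsurj : Function.Surjective (algebraMap A (HG5.Cs R (I₀ φ))) :=
    Algebra.isEpi_iff_surjective_algebraMap_of_finite.mp hepi
  have hrank : ∀ q, rankAtStalk (R := R) A q = rankAtStalk (R := R) (HG5.Cs R (I₀ φ)) q := by
    intro q
    have h1 := HG5.main R (I₀ φ) q
    rw [hd q, hr q] at h1
    exact Nat.eq_of_mul_eq_mul_left hd0 h1
  have hinj : Function.Injective (algebraMap A (HG5.Cs R (I₀ φ))) :=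
    injective_of_surjective_of_rank_eq
      ((IsScalarTower.toAlgHom R A (HG5.Cs R (I₀ φ))).toLinearMap) hsurj hrank
  let eAC : A ≃ₗ[A] HG5.Cs R (I₀ φ) :=
    LinearEquiv.ofBijective (Algebra.linearMap A (HG5.Cs R (I₀ φ))) ⟨hinj, hsurj⟩
  haveI : Module.FaithfullyFlat A (HG5.Cs R (I₀ φ)) := Module.FaithfullyFlat.of_linearEquiv A A eAC.symm
  haveI : Module.Finite A B := Module.Finite.trans (HG5.Cs R (I₀ φ)) B
  haveI : Module.FaithfullyFlat A B := Module.FaithfullyFlat.trans A (HG5.Cs R (I₀ φ)) B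
  refine ⟨inferInstance, inferInstance, ?_⟩
  intro p
  haveI : Nontrivial A := p.nontrivial
  have hsurjSpec : Function.Surjective (PrimeSpectrum.comap (algebraMap (HG5.Cs R (I₀ φ)) B)) :=
    PrimeSpectrum.comap_surjective_of_faithfullyFlat
  have h1 := T1.rankAtStalk_tower (R := A) (C := HG5.Cs R (I₀ φ)) (A := B) p d (by
    intro 𝔭 _
    obtain ⟨P, rfl⟩ := hsurjSpec 𝔭
    have e := rankAtStalk_eq_of_equiv
      (LinearEquiv.ofBijective (HG5.Ψ R (I₀ φ)) (HG5.Ψ_bijective R (I₀ φ)))
    have h2 := congrFun e P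
    rw [rankAtStalk_baseChange, rankAtStalk_baseChange, hd] at h2
    exact h2)
  rw [h1, rankAtStalk_eq_of_equiv eAC.symm, rankAtStalk_self, Pi.one_apply, mul_one]

end Main

end Groth.Agent.Lib.Helper95.BT1
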