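import Groth.Agent.Lib.Helper95.BT1
import Groth.Agent.Lib.Helper59.GrpAffine
import Groth.Prelude.Def_AlgGrp
import Groth.Prelude.Def_Mor2
import Mathlib

set_option autoImplicit false
universe u
open CategoryTheory CategoryTheory.Limits AlgebraicGeometry MonoidalCategory CartesianMonoidalCategory
open MonObj Opposite

namespace Groth.Agent.Lib.Helper95.BT2

open Groth.Agent.Lib.Helper95.BT1

section Bridge

variable {R : Type u} [CommRing R] {A B : Type u} [CommRing A] [CommRing B] [HopfAlgebra R A]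
  [HopfAlgebra R B]

theorem exists_bialgHom
    (f : (Spec (CommRingCat.of B)).asOver (Spec (CommRingCat.of R)) ⟶
      (Spec (CommRingCat.of A)).asOver (Spec (CommRingCat.of R))) [hf : IsMonHom f] :
    ∃ φ : A →ₐc[R] B, f.left = Spec.map (CommRingCat.ofHom (φ : A →+* B)) := by
  let F : (bialgSpec (CommRingCat.of R)).obj (op (CommBialgCat.of (CommRingCat.of R) B)) ⟶
      (bialgSpec (CommRingCat.of R)).obj (op (CommBialgCat.of (CommRingCat.of R) A)) :=
    @Mon.Hom.mk _ _ _ _ _ f hf
  let ψ := (bialgSpec.fullyFaithful (R := CommRingCat.of R)).preimage F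
  have hψ : (bialgSpec (CommRingCat.of R)).map ψ = F :=
    (bialgSpec.fullyFaithful (R := CommRingCat.of R)).map_preimage F
  refine ⟨ψ.unop.hom, ?_⟩
  have h1 := congrArg (fun m => m.hom.left) hψ
  exact h1.symm

end Bridge

section Quot

variable {R : Type u} [CommRing R] {A B : Type u} [CommRing A] [CommRing B] [HopfAlgebra R A]
  [HopfAlgebra R B] (φ : A →ₐc[R] B)

theorem isPushout_quot :
    IsPushout (CommRingCat.ofHom (φ : A →+* B))
      (CommRingCat.ofHom (Bialgebra.counitAlgHom R A : A →+* R))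
      (CommRingCat.ofHom (Ideal.Quotient.mk (I₀ φ)))
      (CommRingCat.ofHom (algebraMap R (B ⧸ I₀ φ))) := by
  have hw : CommRingCat.ofHom (φ : A →+* B) ≫ CommRingCat.ofHom (Ideal.Quotient.mk (I₀ φ)) =
      CommRingCat.ofHom (Bialgebra.counitAlgHom R A : A →+* R) ≫
        CommRingCat.ofHom (algebraMap R (B ⧸ I₀ φ)) := by
    ext a
    exact mk_φ φ a
  refine ⟨⟨hw⟩, ⟨PushoutCocone.IsColimit.mk _ (fun s => CommRingCat.ofHom
    (Ideal.Quotient.lift (I₀ φ) s.inl.hom ?_)) ?_ ?_ ?_⟩⟩
  · intro x hx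
    have h1 : I₀ φ ≤ RingHom.ker s.inl.hom := by
      apply le_of_forall φ
      intro a ha
      have h2 := congrArg (fun m => m.hom a) s.condition
      simp only [CommRingCat.hom_comp, CommRingCat.hom_ofHom, RingHom.comp_apply] at h2
      refine Eq.trans h2 ?_
      change s.inr.hom (Coalgebra.counit (R := R) a) = 0
      rw [ha, map_zero]
    exact h1 hx
  · intro s
    ext b
    rfl
  · intro s
    ext r
    have h2 := congrArg (fun m => m.hom (algebraMap R A r)) s.condition
    simp only [CommRingCat.hom_comp, CommRingCat.hom_ofHom, RingHom.comp_apply] at h2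
    change s.inl.hom (algebraMap R B r) = s.inr.hom r
    have h3 : (φ : A →+* B) (algebraMap R A r) = algebraMap R B r :=
      AlgHom.commutes (φ : A →ₐ[R] B) r
    have h4 : (Bialgebra.counitAlgHom R A : A →+* R) (algebraMap R A r) = r :=
      AlgHom.commutes (Bialgebra.counitAlgHom R A) r
    rw [h3, h4] at h2
    exact h2
  · intro s m hm1 hm2
    apply CommRingCat.hom_ext
    apply Ideal.Quotient.ringHom_ext
    ext b
    have := congrArg (fun k => k.hom b) hm1
    exact this

theorem isPullback_quot :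
    IsPullback (Spec.map (CommRingCat.ofHom (Ideal.Quotient.mk (I₀ φ))))
      (Spec.map (CommRingCat.ofHom (algebraMap R (B ⧸ I₀ φ))))
      (Spec.map (CommRingCat.ofHom (φ : A →+* B)))
      (Spec.map (CommRingCat.ofHom (Bialgebra.counitAlgHom R A : A →+* R))) :=
  isPullback_SpecMap_of_isPushout _ _ _ _ (isPushout_quot φ)

theorem quot_props {N : Scheme.{u}} (a : N ⟶ Spec (CommRingCat.of B))
    (b : N ⟶ Spec (CommRingCat.of R))
    (hpb : IsPullback a b (Spec.map (CommRingCat.ofHom (φ : A →+* B)))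
      (Spec.map (CommRingCat.ofHom (Bialgebra.counitAlgHom R A : A →+* R))))
    [IsFinite b] [Flat b] (d : ℕ) (hb : ∀ y, b.finrank y = d) :
    Module.Finite R (B ⧸ I₀ φ) ∧ Module.Flat R (B ⧸ I₀ φ) ∧
      ∀ q : PrimeSpectrum R, Module.rankAtStalk (R := R) (B ⧸ I₀ φ) q = d := by
  let κ := (isPullback_quot φ).isoIsPullback _ _ hpb
  have hκ : κ.hom ≫ b = Spec.map (CommRingCat.ofHom (algebraMap R (B ⧸ I₀ φ))) :=
    IsPullback.isoIsPullback_hom_snd _ _ _ _
  have hfin : IsFinite (Spec.map (CommRingCat.ofHom (algebraMap R (B ⧸ I₀ φ)))) := by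
    rw [← hκ]; infer_instance
  have hflat : Flat (Spec.map (CommRingCat.ofHom (algebraMap R (B ⧸ I₀ φ)))) := by
    rw [← hκ]; infer_instance
  rw [IsFinite.SpecMap_iff] at hfin
  rw [Flat.SpecMap_iff] at hflat
  haveI h1 : Module.Finite R (B ⧸ I₀ φ) := RingHom.finite_algebraMap.mp hfin
  haveI h2 : Module.Flat R (B ⧸ I₀ φ) := (RingHom.flat_algebraMap_iff).mp hflat
  refine ⟨h1, h2, fun q => ?_⟩
  rw [← Scheme.Hom.finrank_SpecMap_algebraMap R (B ⧸ I₀ φ) q, ← hκ,
    Scheme.Hom.finrank_comp_left_of_isIso]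
  exact hb q

end Quot

section Core

variable {R : Type u} [CommRing R] [IsNoetherianRing R]

open Groth.Agent.Lib.Helper59 in
theorem core (N G Q : Over (Spec (CommRingCat.of R))) [GrpObj G] [GrpObj Q]
    (i : N ⟶ G) (p : G ⟶ Q) [IsMonHom p] (hk : AlgGrp.IsKernel i p)
    (d m : ℕ) (hd0 : 0 < d)
    (hN : Mor2.IsFinLocFreeOfDeg d N.hom) (hQ : Mor2.IsFinLocFreeOfDeg m Q.hom)
    (hG : Mor2.IsFinLocFreeOfDeg (d * m) G.hom) :
    Mor2.IsFinLocFreeOfDeg d p.left ∧ Surjective p.left := by
  obtain ⟨⟨hNfin, hNflat, hNfp⟩, hNrk⟩ := hN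
  obtain ⟨⟨hQfin, hQflat, hQfp⟩, hQrk⟩ := hQ
  obtain ⟨⟨hGfin, hGflat, hGfp⟩, hGrk⟩ := hG
  haveI : IsAffine G.left := isAffine_of_isAffineHom G.hom
  haveI : IsAffine Q.left := isAffine_of_isAffineHom Q.hom
  obtain ⟨B, _, _, eG, heG⟩ := GrpAffine.exists_hopf R G
  obtain ⟨A, _, _, eQ, heQ⟩ := GrpAffine.exists_hopf R Q
  haveI : Module.Finite R A := GrpAffine.finite_of_iso A Q eQ
  haveI : Module.Flat R A := GrpAffine.flat_of_iso A Q eQ
  haveI : Module.Finite R B := GrpAffine.finite_of_iso B G eG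
  haveI : Module.Flat R B := GrpAffine.flat_of_iso B G eG
  haveI : Module.Projective R A := by
    haveI : Module.FinitePresentation R A := Module.finitePresentation_of_finite R _
    exact Module.Flat.projective_of_finitePresentation
  haveI : Module.Projective R B := by
    haveI : Module.FinitePresentation R B := Module.finitePresentation_of_finite R _
    exact Module.Flat.projective_of_finitePresentation
  have hrkA : ∀ q, Module.rankAtStalk (R := R) A q = m := fun q =>
    (GrpAffine.rank_of_iso A Q eQ q).trans (hQrk q)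
  have hrkB : ∀ q, Module.rankAtStalk (R := R) B q = d * m := fun q =>
    (GrpAffine.rank_of_iso B G eG q).trans (hGrk q)
  let f : (Spec (CommRingCat.of B)).asOver (Spec (CommRingCat.of R)) ⟶
      (Spec (CommRingCat.of A)).asOver (Spec (CommRingCat.of R)) := eG.hom ≫ p ≫ eQ.inv
  haveI : IsMonHom f := inferInstance
  obtain ⟨φ, hφ⟩ := exists_bialgHom f
  letI : Algebra A B := (φ : A →+* B).toAlgebra
  haveI : IsScalarTower R A B := IsScalarTower.of_algebraMap_eq
    (fun r => (AlgHom.commutes (φ : A →ₐ[R] B) r).symm)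
  have hcommf : p.left ≫ eQ.inv.left =
      eG.inv.left ≫ Spec.map (CommRingCat.ofHom (φ : A →+* B)) := by
    have h1 : eG.inv ≫ f = p ≫ eQ.inv := by simp [f]
    have h2 : eG.inv.left ≫ f.left = p.left ≫ eQ.inv.left := congrArg Over.Hom.left h1
    exact h2.symm.trans (congrArg (fun k => eG.inv.left ≫ k) hφ)
  have hpbS : IsPullback i.left (toUnit N).left p.left η[Q].left := hk.map (Over.forget _)
  have hone : η[(Spec (CommRingCat.of A)).asOver (Spec (CommRingCat.of R))] ≫ eQ.hom = η[Q] :=
    IsMonHom.one_hom eQ.hom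
  have hcommg : η[Q].left ≫ eQ.inv.left =
      Spec.map (CommRingCat.ofHom (Bialgebra.counitAlgHom R A : A →+* R)) := by
    have h1 : η[Q] ≫ eQ.inv = η[(Spec (CommRingCat.of A)).asOver (Spec (CommRingCat.of R))] := by
      rw [← hone, Category.assoc, Iso.hom_inv_id, Category.comp_id]
    have h2 : η[Q].left ≫ eQ.inv.left =
        η[(Spec (CommRingCat.of A)).asOver (Spec (CommRingCat.of R))].left :=
      congrArg Over.Hom.left h1
    exact h2.trans one_spec_asOver_spec_left
  have hpb' : IsPullback (i.left ≫ eG.inv.left) (toUnit N).left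
      (Spec.map (CommRingCat.ofHom (φ : A →+* B)))
      (Spec.map (CommRingCat.ofHom (Bialgebra.counitAlgHom R A : A →+* R))) := by
    refine IsPullback.of_iso hpbS (Iso.refl _) ((Over.forget _).mapIso eG).symm (Iso.refl _)
      ((Over.forget _).mapIso eQ).symm ?_ ?_ ?_ ?_
    · exact (Category.id_comp _).symm
    · exact (Category.comp_id _).trans (Category.id_comp _).symm
    · exact hcommf
    · exact hcommg.trans (Category.id_comp _).symm
  haveI : IsFinite (toUnit N).left := hNfin
  haveI : Flat (toUnit N).left := hNflat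
  obtain ⟨hqfin, hqflat, hqrk⟩ := quot_props φ (i.left ≫ eG.inv.left) (toUnit N).left hpb' d hNrk
  haveI : Module.Finite R (B ⧸ I₀ φ) := hqfin
  haveI : Module.Flat R (B ⧸ I₀ φ) := hqflat
  haveI : Module.Projective R (B ⧸ I₀ φ) := by
    haveI : Module.FinitePresentation R (B ⧸ I₀ φ) := Module.finitePresentation_of_finite R _
    exact Module.Flat.projective_of_finitePresentation
  obtain ⟨hfinAB, hffAB, hrkAB⟩ := BT1.main R φ (fun _ => rfl) d hd0 hqrk
    (fun q => by rw [hrkB q, hrkA q])
  haveI : IsNoetherianRing A := IsNoetherianRing.of_finite R A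
  haveI : Module.FinitePresentation A B := Module.finitePresentation_of_finite A B
  haveI : Algebra.FinitePresentation A B :=
    Algebra.FinitePresentation.of_finitePresentation A B
  have hSfin : IsFinite (Spec.map (CommRingCat.ofHom (algebraMap A B))) :=
    (IsFinite.SpecMap_iff _).mpr (RingHom.finite_algebraMap.mpr inferInstance)
  have hSfs : Flat (Spec.map (CommRingCat.ofHom (algebraMap A B))) ∧
      Surjective (Spec.map (CommRingCat.ofHom (algebraMap A B))) :=
    (flat_and_surjective_SpecMap_iff _).mpr (RingHom.faithfullyFlat_algebraMap_iff.mpr inferInstance)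
  have hSfp : LocallyOfFinitePresentation (Spec.map (CommRingCat.ofHom (algebraMap A B))) :=
    (LocallyOfFinitePresentation.SpecMap_iff _).mpr
      (RingHom.finitePresentation_algebraMap.mpr inferInstance)
  let iG : Spec (CommRingCat.of B) ≅ G.left := (Over.forget _).mapIso eG
  let iQ : Spec (CommRingCat.of A) ≅ Q.left := (Over.forget _).mapIso eQ
  have hp : p.left = iG.inv ≫ Spec.map (CommRingCat.ofHom (algebraMap A B)) ≫ iQ.hom := by
    have h1 : eG.inv ≫ f ≫ eQ.hom = p := by simp [f]
    have h2 : eG.inv.left ≫ f.left ≫ eQ.hom.left = p.left := congrArg Over.Hom.left h1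
    exact h2.symm.trans (congrArg (fun k => iG.inv ≫ k ≫ iQ.hom) hφ)
  haveI := hSfin
  haveI := hSfs.1
  haveI := hSfs.2
  haveI := hSfp
  have hPfin : IsFinite p.left := by rw [hp]; infer_instance
  have hPflat : Flat p.left := by rw [hp]; infer_instance
  have hPfp : LocallyOfFinitePresentation p.left := by rw [hp]; infer_instance
  have hPsurj : Surjective p.left := by rw [hp]; infer_instance
  refine ⟨⟨⟨hPfin, hPflat, hPfp⟩, ?_⟩, hPsurj⟩
  intro y
  have hsq : IsPullback iG.hom (Spec.map (CommRingCat.ofHom (algebraMap A B))) p.left iQ.hom :=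
    IsPullback.of_horiz_isIso ⟨by rw [hp, Iso.hom_inv_id_assoc]⟩
  have h1 := Scheme.Hom.finrank_of_isPullback iG.hom
    (Spec.map (CommRingCat.ofHom (algebraMap A B))) p.left iQ.hom hsq (iQ.inv y)
  have h2 : iQ.hom (iQ.inv y) = y := by
    rw [← Scheme.Hom.comp_apply, Iso.inv_hom_id]
    rfl
  rw [h2] at h1
  rw [← h1, Scheme.Hom.finrank_SpecMap_algebraMap A B]
  exact hrkAB _

end Core

end Groth.Agent.Lib.Helper95.BT2
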