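import Mathlib

set_option autoImplicit false
universe u
open CategoryTheory Abelian IsLocalRing

namespace Groth.Agent.Lib.Helper95.BassGrM5

section
variable {R : Type u} [CommRing R] (𝒜 : ℤ → AddSubgroup R) [GradedRing 𝒜]

noncomputable def cp (x : R) (j : ℤ) : R := (DirectSum.decompose 𝒜 x j : R)

theorem cp_mem (x : R) (j : ℤ) : cp 𝒜 x j ∈ 𝒜 j := SetLike.coe_mem _

theorem cp_sub (x y : R) (j : ℤ) : cp 𝒜 (x - y) j = cp 𝒜 x j - cp 𝒜 y j := by
  simp [cp, DirectSum.decompose_sub]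

theorem cp_mul_left {u : R} {α : ℤ} (hu : u ∈ 𝒜 α) (x : R) (j : ℤ) :
    cp 𝒜 (u * x) j = u * cp 𝒜 x (j - α) := by
  have := DirectSum.coe_decompose_mul_add_of_left_mem 𝒜 (i := α) (j := j - α) (b := x) hu
  rw [add_sub_cancel] at this
  exact this

theorem mem_iff_cp {I : Ideal R} (hI : I.IsHomogeneous 𝒜) (x : R) :
    x ∈ I ↔ ∀ j, cp 𝒜 x j ∈ I := hI.mem_iff

theorem exists_bounds (I : Ideal R) (x : R) :
    ∃ (lo : ℤ) (n : ℕ), ∀ j, cp 𝒜 x j ∉ I → lo ≤ j ∧ j ≤ lo + n := by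
  classical
  set s : Finset ℤ := (DirectSum.decompose 𝒜 x).support with hs
  have hmem : ∀ j, cp 𝒜 x j ∉ I → j ∈ s := by
    intro j hj
    rw [hs, DFinsupp.mem_support_iff]
    intro h0
    apply hj
    have : cp 𝒜 x j = 0 := by rw [cp, h0]; rfl
    rw [this]; exact I.zero_mem
  by_cases hne : s.Nonempty
  · refine ⟨s.min' hne, (s.max' hne - s.min' hne).toNat, fun j hj => ?_⟩
    have h1 := Finset.min'_le s j (hmem j hj)
    have h2 := Finset.le_max' s j (hmem j hj)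
    refine ⟨h1, ?_⟩
    have : (0 : ℤ) ≤ s.max' hne - s.min' hne := by linarith
    rw [Int.toNat_of_nonneg this]
    linarith
  · refine ⟨0, 0, fun j hj => ?_⟩
    exact absurd ⟨j, hmem j hj⟩ hne

theorem exists_top (I : Ideal R) (hI : I.IsHomogeneous 𝒜) (x : R) (hx : x ∉ I) :
    ∃ β : ℤ, cp 𝒜 x β ∉ I ∧ ∀ j, cp 𝒜 x j ∉ I → j ≤ β := by
  classical
  set s : Finset ℤ := (DirectSum.decompose 𝒜 x).support.filter (fun j => cp 𝒜 x j ∉ I) with hs
  have hmem : ∀ j, cp 𝒜 x j ∉ I → j ∈ s := by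
    intro j hj
    rw [hs, Finset.mem_filter, DFinsupp.mem_support_iff]
    refine ⟨?_, hj⟩
    intro h0
    apply hj
    have : cp 𝒜 x j = 0 := by rw [cp, h0]; rfl
    rw [this]; exact I.zero_mem
  have hne : s.Nonempty := by
    by_contra hne
    apply hx
    rw [mem_iff_cp 𝒜 hI]
    intro j
    by_contra hj
    exact hne ⟨j, hmem j hj⟩
  refine ⟨s.max' hne, ?_, fun j hj => Finset.le_max' s j (hmem j hj)⟩
  have hsub : ∀ j ∈ s, cp 𝒜 x j ∉ I := by
    intro j hj
    rw [hs, Finset.mem_filter] at hj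
    exact hj.2
  exact hsub _ (Finset.max'_mem s hne)

end

theorem exists_gen {R : Type u} [CommRing R] (𝒜 : ℤ → AddSubgroup R) [GradedRing 𝒜] (p : Ideal R) [p.IsPrime] (hp : ¬ p.IsHomogeneous 𝒜) [(Ideal.homogeneousCore 𝒜 p).toIdeal.IsPrime] : ∃ a ∈ p, a ∉ (Ideal.homogeneousCore 𝒜 p).toIdeal ∧ ∀ b ∈ p, ∃ h c : R, h ∉ p ∧ h * b - c * a ∈ (Ideal.homogeneousCore 𝒜 p).toIdeal := by
  classical
  set q : Ideal R := (Ideal.homogeneousCore 𝒜 p).toIdeal with hq
  have hqI : q.IsHomogeneous 𝒜 := (Ideal.homogeneousCore 𝒜 p).isHomogeneous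
  have hqp : q ≤ p := Ideal.toIdeal_homogeneousCore_le 𝒜 p
  have hqprime : q.IsPrime := inferInstance
  have hhom : ∀ (u : R) (j : ℤ), u ∈ 𝒜 j → u ∉ q → u ∉ p := by
    intro u j hu huq hup
    exact huq (Ideal.mem_homogeneousCore_of_homogeneous_of_mem ⟨j, hu⟩ hup)
  have hex : ∃ x ∈ p, x ∉ q := by
    by_contra hcon
    push Not at hcon
    apply hp
    have : p = q := le_antisymm hcon hqp
    rw [this]; exact hqI
  let P : ℕ → Prop := fun m => ∃ x ∈ p, x ∉ q ∧ ∃ lo : ℤ, ∀ j, cp 𝒜 x j ∉ q → lo ≤ j ∧ j ≤ lo + m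
  have hP : ∃ m, P m := by
    obtain ⟨x, hxp, hxq⟩ := hex
    obtain ⟨lo, n, hb⟩ := exists_bounds 𝒜 q x
    exact ⟨n, x, hxp, hxq, lo, hb⟩
  obtain ⟨a, hap, haq, la, hla⟩ := Nat.find_spec hP
  set m := Nat.find hP with hm
  have hmin : ∀ x ∈ p, x ∉ q → ∀ (lo : ℤ) (n : ℕ),
      (∀ j, cp 𝒜 x j ∉ q → lo ≤ j ∧ j ≤ lo + n) → m ≤ n := by
    intro x hxp hxq lo n hb
    exact Nat.find_min' hP ⟨x, hxp, hxq, lo, hb⟩
  obtain ⟨α, hα, hαtop⟩ := exists_top 𝒜 q hqI a haq
  have hαp : cp 𝒜 a α ∉ p := hhom _ α (cp_mem 𝒜 a α) hα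
  refine ⟨a, hap, haq, ?_⟩
  have key : ∀ n : ℕ, ∀ b ∈ p, (∃ lb : ℤ, ∀ j, cp 𝒜 b j ∉ q → lb ≤ j ∧ j ≤ lb + n) →
      ∃ h c : R, h ∉ p ∧ h * b - c * a ∈ q := by
    intro n
    induction n using Nat.strong_induction_on with
    | _ n ih =>
      intro b hbp ⟨lb, hlb⟩
      by_cases hbq : b ∈ q
      · refine ⟨1, 0, ?_, ?_⟩
        · exact fun h1 => (Ideal.IsPrime.ne_top inferInstance) (p.eq_top_of_isUnit_mem h1 isUnit_one)
        · simpa using hbq
      obtain ⟨β, hβ, hβtop⟩ := exists_top 𝒜 q hqI b hbq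
      have hβ1 := hlb β hβ
      have hbnd : ∀ j, cp 𝒜 b j ∉ q → lb ≤ j ∧ j ≤ lb + ((β - lb).toNat : ℤ) := by
        intro j hj
        refine ⟨(hlb j hj).1, ?_⟩
        have : (0 : ℤ) ≤ β - lb := by linarith [hβ1.1]
        rw [Int.toNat_of_nonneg this]
        linarith [hβtop j hj]
      have hm1 : m ≤ (β - lb).toNat := hmin b hbp hbq lb _ hbnd
      have hm2 : (m : ℤ) ≤ β - lb := by
        have : (0 : ℤ) ≤ β - lb := by linarith [hβ1.1]
        calc (m : ℤ) ≤ ((β - lb).toNat : ℤ) := by exact_mod_cast hm1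
          _ = β - lb := Int.toNat_of_nonneg this
      have hα1 := hla α hα
      set b' : R := cp 𝒜 a α * b - cp 𝒜 b β * a with hb'
      have hb'p : b' ∈ p := p.sub_mem (p.mul_mem_left _ hbp) (p.mul_mem_left _ hap)
      have hcp' : ∀ j, cp 𝒜 b' j = cp 𝒜 a α * cp 𝒜 b (j - α) - cp 𝒜 b β * cp 𝒜 a (j - β) := by
        intro j
        rw [hb', cp_sub, cp_mul_left 𝒜 (cp_mem 𝒜 a α), cp_mul_left 𝒜 (cp_mem 𝒜 b β)]
      have hbnd' : ∀ j, cp 𝒜 b' j ∉ q → α + lb ≤ j ∧ j ≤ α + β - 1 := by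
        intro j hj
        rw [hcp'] at hj
        have hor : cp 𝒜 a α * cp 𝒜 b (j - α) ∉ q ∨ cp 𝒜 b β * cp 𝒜 a (j - β) ∉ q := by
          by_contra hcon
          push Not at hcon
          exact hj (q.sub_mem hcon.1 hcon.2)
        have hne : j ≠ α + β := by
          rintro rfl
          apply hj
          have e1 : α + β - α = β := by ring
          have e2 : α + β - β = α := by ring
          rw [e1, e2, mul_comm, sub_self]
          exact q.zero_mem
        have hrange : α + lb ≤ j ∧ j ≤ α + β := by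
          rcases hor with h1 | h1
          · have h2 : cp 𝒜 b (j - α) ∉ q := fun h => h1 (q.mul_mem_left _ h)
            have h3 := hlb _ h2
            have h4 := hβtop _ h2
            constructor <;> linarith [h3.1]
          · have h2 : cp 𝒜 a (j - β) ∉ q := fun h => h1 (q.mul_mem_left _ h)
            have h3 := hla _ h2
            have h4 := hαtop _ h2
            constructor
            · linarith [h3.1, hα1.2]
            · linarith
        refine ⟨hrange.1, ?_⟩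
        have := lt_of_le_of_ne hrange.2 hne
        linarith
      by_cases hb'q : b' ∈ q
      · refine ⟨cp 𝒜 a α, cp 𝒜 b β, hαp, ?_⟩
        exact hb'q
      · obtain ⟨γ, hγ, -⟩ := exists_top 𝒜 q hqI b' hb'q
        have hγ1 := hbnd' γ hγ
        have hpos : 1 ≤ β - lb := by linarith [hγ1.1, hγ1.2]
        have hn' : (β - lb - 1).toNat < n := by
          have h1 : β - lb ≤ n := by linarith [hβ1.2]
          have h2 : (0 : ℤ) ≤ β - lb - 1 := by linarith
          have h3 : ((β - lb - 1).toNat : ℤ) = β - lb - 1 := Int.toNat_of_nonneg h2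
          have : ((β - lb - 1).toNat : ℤ) < n := by rw [h3]; linarith
          exact_mod_cast this
        obtain ⟨h', c', hh', hc'⟩ := ih _ hn' b' hb'p ⟨α + lb, fun j hj => by
          have h2 : (0 : ℤ) ≤ β - lb - 1 := by linarith
          have := hbnd' j hj
          rw [Int.toNat_of_nonneg h2]
          constructor <;> linarith [this.1, this.2]⟩
        refine ⟨h' * cp 𝒜 a α, h' * cp 𝒜 b β + c', ?_, ?_⟩
        · intro hmem
          rcases (Ideal.IsPrime.mem_or_mem inferInstance hmem) with h | h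
          · exact hh' h
          · exact hαp h
        · have : h' * cp 𝒜 a α * b - (h' * cp 𝒜 b β + c') * a = h' * b' - c' * a := by
            rw [hb']; ring
          rw [this]; exact hc'
  intro b hbp
  obtain ⟨lo, n, hb⟩ := exists_bounds 𝒜 q b
  exact key n b hbp ⟨lo, hb⟩

end Groth.Agent.Lib.Helper95.BassGrM5
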