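import Mathlib

set_option autoImplicit false
universe u
open CategoryTheory Abelian TensorProduct IsLocalRing

namespace Groth.Agent.Lib.Helper95.BassShiftL1

section
variable (B : Type u) [CommRing B] (J : Ideal B) (z : B)

noncomputable def fM : ModuleCat.of B (B ⧸ J) ⟶ ModuleCat.of B (B ⧸ J) :=
  z • 𝟙 (ModuleCat.of B (B ⧸ J))

noncomputable def gM : ModuleCat.of B (B ⧸ J) ⟶ ModuleCat.of B (B ⧸ (J ⊔ Ideal.span {z})) :=
  ModuleCat.ofHom (Submodule.mapQ J (J ⊔ Ideal.span {z}) LinearMap.id (by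
    intro x hx
    exact Ideal.mem_sup_left hx))

theorem fM_apply (x : B ⧸ J) : (fM B J z).hom x = z • x := by
  simp [fM]

theorem gM_mk (b : B) : (gM B J z).hom (Ideal.Quotient.mk J b) =
    Ideal.Quotient.mk (J ⊔ Ideal.span {z}) b := rfl

theorem fM_gM : fM B J z ≫ gM B J z = 0 := by
  apply ModuleCat.hom_ext
  apply LinearMap.ext
  intro x
  obtain ⟨b, rfl⟩ := Ideal.Quotient.mk_surjective x
  simp only [ModuleCat.hom_comp, LinearMap.coe_comp, Function.comp_apply]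
  have h1 : (fM B J z).hom (Ideal.Quotient.mk J b) = Ideal.Quotient.mk J (z * b) := by
    rw [fM_apply]; rfl
  rw [h1, gM_mk]
  simp only [ModuleCat.hom_zero, LinearMap.zero_apply]
  rw [Ideal.Quotient.eq_zero_iff_mem]
  exact Ideal.mem_sup_right (Ideal.mul_mem_right _ _ (Ideal.mem_span_singleton_self z))

noncomputable def SC : ShortComplex (ModuleCat.{u} B) :=
  ShortComplex.mk (fM B J z) (gM B J z) (fM_gM B J z)

theorem shortExact (hreg : ∀ b : B, z * b ∈ J → b ∈ J) : (SC B J z).ShortExact := by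
  haveI : Mono (SC B J z).f := by
    rw [ModuleCat.mono_iff_injective]
    rw [injective_iff_map_eq_zero]
    intro x hx
    obtain ⟨b, rfl⟩ := Ideal.Quotient.mk_surjective x
    have h1 : (fM B J z).hom (Ideal.Quotient.mk J b) = Ideal.Quotient.mk J (z * b) := by
      rw [fM_apply]; rfl
    have h2 : Ideal.Quotient.mk J (z * b) = 0 := by rw [← h1]; exact hx
    rw [Ideal.Quotient.eq_zero_iff_mem] at h2
    have h3 : (Ideal.Quotient.mk J b : B ⧸ J) = 0 :=
      (Ideal.Quotient.eq_zero_iff_mem).mpr (hreg b h2)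
    exact h3
  haveI : Epi (SC B J z).g := by
    rw [ModuleCat.epi_iff_surjective]
    intro y
    obtain ⟨b, rfl⟩ := Ideal.Quotient.mk_surjective y
    exact ⟨Ideal.Quotient.mk J b, rfl⟩
  refine ShortComplex.ShortExact.mk ?_
  rw [ShortComplex.moduleCat_exact_iff]
  intro x hx
  obtain ⟨b, rfl⟩ := Ideal.Quotient.mk_surjective x
  have h1 : Ideal.Quotient.mk (J ⊔ Ideal.span {z}) b = 0 := hx
  rw [Ideal.Quotient.eq_zero_iff_mem, Submodule.mem_sup] at h1
  obtain ⟨j, hj, c, hc, rfl⟩ := h1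
  rw [Ideal.mem_span_singleton'] at hc
  obtain ⟨a, rfl⟩ := hc
  refine ⟨Ideal.Quotient.mk J a, ?_⟩
  have h2 : (fM B J z).hom (Ideal.Quotient.mk J a) = Ideal.Quotient.mk J (z * a) := by
    rw [fM_apply]; rfl
  show (fM B J z).hom (Ideal.Quotient.mk J a) = Ideal.Quotient.mk J (j + a * z)
  rw [h2, map_add, (Ideal.Quotient.eq_zero_iff_mem).mpr hj, zero_add, mul_comm]

end

theorem ext_shift (B : Type u) [CommRing B] (J : Ideal B) (z : B) (hreg : ∀ b : B, z * b ∈ J → b ∈ J) (X : ModuleCat.{u} B) (hinj : ∀ (i : ℕ) (e : Abelian.Ext.{u} (ModuleCat.of B (B ⧸ J)) X i), z • e = 0 → e = 0) : Subsingleton (Abelian.Ext.{u} (ModuleCat.of B (B ⧸ (J ⊔ Ideal.span {z}))) X 0) ∧ ∀ i : ℕ, Nonempty (Abelian.Ext.{u} (ModuleCat.of B (B ⧸ (J ⊔ Ideal.span {z}))) X (i + 1) ≃ₗ[B] (Abelian.Ext.{u} (ModuleCat.of B (B ⧸ J)) X i ⧸ (Ideal.span {z} • ⊤ : Submodule B (Abelian.Ext.{u} (ModuleCat.of B (B ⧸ J)) X i)))) := by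
  have hS := shortExact B J z hreg
  have hfz : ∀ (n : ℕ) (x₂ : Ext (ModuleCat.of B (B ⧸ J)) X n),
      (Ext.mk₀ (SC B J z).f).comp x₂ (zero_add n) = z • x₂ := by
    intro n x₂
    show (Ext.mk₀ (z • 𝟙 (ModuleCat.of B (B ⧸ J)))).comp x₂ (zero_add n) = z • x₂
    rw [Ext.mk₀_smul, Ext.smul_comp, Ext.mk₀_id_comp]
  have hg0 : ∀ (n : ℕ) (x₃ : Ext (ModuleCat.of B (B ⧸ (J ⊔ Ideal.span {z}))) X n),
      (Ext.mk₀ (SC B J z).g).comp x₃ (zero_add n) = 0 := by
    intro n x₃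
    apply hinj
    rw [← hfz, Ext.mk₀_comp_mk₀_assoc, (SC B J z).zero, Ext.mk₀_zero, Ext.zero_comp]
    rfl
  constructor
  · constructor
    intro a b
    haveI : Epi (SC B J z).g := hS.epi_g
    apply Ext.precomp_mk₀_injective_of_epi X (SC B J z).g
    show (Ext.mk₀ (SC B J z).g).comp a (zero_add 0) = (Ext.mk₀ (SC B J z).g).comp b (zero_add 0)
    rw [hg0, hg0]
  · intro i
    let δ : Ext (ModuleCat.of B (B ⧸ J)) X i →ₗ[B]
        Ext (ModuleCat.of B (B ⧸ (J ⊔ Ideal.span {z}))) X (i + 1) :=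
      Ext.precompOfLinear hS.extClass B X (add_comm 1 i)
    have hδ : ∀ y, δ y = hS.extClass.comp y (add_comm 1 i) := fun y => rfl
    have hsurj : Function.Surjective δ := by
      intro x₃
      obtain ⟨x₁, hx₁⟩ := Ext.contravariant_sequence_exact₃ hS X x₃ (hg0 _ x₃) (add_comm 1 i)
      exact ⟨x₁, hx₁⟩
    have hker : LinearMap.ker δ = (Ideal.span {z} • ⊤ :
        Submodule B (Ext (ModuleCat.of B (B ⧸ J)) X i)) := by
      rw [Submodule.ideal_span_singleton_smul]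
      ext y
      rw [LinearMap.mem_ker, hδ, Submodule.mem_smul_pointwise_iff_exists]
      constructor
      · intro hy
        obtain ⟨x₂, hx₂⟩ := Ext.contravariant_sequence_exact₁ hS X y (add_comm 1 i) hy
        exact ⟨x₂, Submodule.mem_top, by rw [← hfz]; exact hx₂⟩
      · rintro ⟨x₂, -, rfl⟩
        rw [← hfz]
        exact hS.extClass_comp_assoc x₂
    exact ⟨((Submodule.quotEquivOfEq _ _ hker.symm).trans
      (LinearMap.quotKerEquivOfSurjective δ hsurj)).symm⟩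

end Groth.Agent.Lib.Helper95.BassShiftL1
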