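import Groth.Agent.Lib.Helper95.Nine

set_option autoImplicit false

namespace Groth.Agent.Lib.Helper95.BrGen

open Groth.Agent.Lib.Helper95

noncomputable section

section Quot

variable {S : Type*} [Ring S] {V : Type*} [AddCommGroup V] [Module S V] (N : Submodule S V)
  {G : Type*} [AddCommGroup G] (H : AddSubgroup G)

def quotAddEquiv (e : V ≃+ G) (he : ∀ v, v ∈ N ↔ e v ∈ H) : (V ⧸ N) ≃+ (G ⧸ H) :=
  (QuotientAddGroup.congr N.toAddSubgroup H e (by
    ext g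
    constructor
    · rintro ⟨v, hv, rfl⟩
      exact (he v).mp hv
    · intro hg
      refine ⟨e.symm g, ?_, by simp⟩
      have := (he (e.symm g)).mpr (by simpa using hg)
      exact this) : (V ⧸ N.toAddSubgroup) ≃+ (G ⧸ H))

lemma quotAddEquiv_mk (e : V ≃+ G) (he : ∀ v, v ∈ N ↔ e v ∈ H) (v : V) :
    quotAddEquiv N H e he (Submodule.Quotient.mk v) = QuotientAddGroup.mk (e v) := rfl

end Quot

section Cx

variable {S : Type*} [Ring S] {V0 V1 V2 : Type*} [AddCommGroup V0] [AddCommGroup V1]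
  [AddCommGroup V2] [Module S V0] [Module S V1] [Module S V2]
  (dV0 : V0 →ₗ[S] V1) (dV1 : V1 →ₗ[S] V2)
  {K0 K1 K2 : Type*} [AddCommGroup K0] [AddCommGroup K1] [AddCommGroup K2]
  (d0 : K0 →+ K1) (d1 : K1 →+ K2)
  (e0 : V0 ≃+ K0) (e1 : V1 ≃+ K1) (e2 : V2 ≃+ K2)
  (c0 : ∀ x, e1 (dV0 x) = d0 (e0 x)) (c1 : ∀ x, e2 (dV1 x) = d1 (e1 x))

include c0 in
def tau0 : LinearMap.ker dV0 ≃+ Nine.H0 d0 where
  toFun x := ⟨e0 x.1, by
    rw [AddMonoidHom.mem_ker, ← c0]
    have : dV0 x.1 = 0 := x.2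
    rw [this, map_zero]⟩
  invFun y := ⟨e0.symm y.1, by
    rw [LinearMap.mem_ker]
    apply e1.injective
    rw [c0, AddEquiv.apply_symm_apply, map_zero]
    exact y.2⟩
  left_inv x := Subtype.ext (e0.symm_apply_apply _)
  right_inv y := Subtype.ext (e0.apply_symm_apply _)
  map_add' x y := Subtype.ext (map_add e0 _ _)

lemma tau0_coe (x : LinearMap.ker dV0) : (tau0 dV0 d0 e0 e1 c0 x).1 = e0 x.1 := rfl

include c1 in
def z1Equiv : LinearMap.ker dV1 ≃+ d1.ker where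
  toFun x := ⟨e1 x.1, by
    rw [AddMonoidHom.mem_ker, ← c1]
    have : dV1 x.1 = 0 := x.2
    rw [this, map_zero]⟩
  invFun y := ⟨e1.symm y.1, by
    rw [LinearMap.mem_ker]
    apply e2.injective
    rw [c1, AddEquiv.apply_symm_apply, map_zero]
    exact y.2⟩
  left_inv x := Subtype.ext (e1.symm_apply_apply _)
  right_inv y := Subtype.ext (e1.apply_symm_apply _)
  map_add' x y := Subtype.ext (map_add e1 _ _)

lemma z1Equiv_coe (x : LinearMap.ker dV1) : (z1Equiv dV1 d1 e1 e2 c1 x).1 = e1 x.1 := rfl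

def tau1 : (LinearMap.ker dV1 ⧸ (LinearMap.range dV0).comap (LinearMap.ker dV1).subtype) ≃+
    Nine.H1 d0 d1 :=
  quotAddEquiv _ _ (z1Equiv dV1 d1 e1 e2 c1) (by
    intro v
    rw [Submodule.mem_comap, AddSubgroup.mem_addSubgroupOf]
    constructor
    · rintro ⟨y, hy⟩
      refine ⟨e0 y, ?_⟩
      rw [← c0, hy]
      rfl
    · rintro ⟨y, hy⟩
      refine ⟨e0.symm y, ?_⟩
      apply e1.injective
      rw [c0, AddEquiv.apply_symm_apply, hy]
      rfl)

lemma tau1_mk (x : LinearMap.ker dV1) :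
    tau1 dV0 dV1 d0 d1 e0 e1 e2 c0 c1 (Submodule.Quotient.mk x) =
      QuotientAddGroup.mk (z1Equiv dV1 d1 e1 e2 c1 x) := rfl

def tau2 : (V2 ⧸ LinearMap.range dV1) ≃+ Nine.H2 d1 :=
  quotAddEquiv _ _ e2 (by
    intro v
    constructor
    · rintro ⟨y, rfl⟩
      exact ⟨e1 y, (c1 y).symm⟩
    · rintro ⟨y, hy⟩
      refine ⟨e1.symm y, ?_⟩
      apply e2.injective
      rw [c1, AddEquiv.apply_symm_apply, hy])

lemma tau2_mk (x : V2) :
    tau2 dV1 d1 e1 e2 c1 (Submodule.Quotient.mk x) = QuotientAddGroup.mk (e2 x) := rfl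

end Cx

end

end Groth.Agent.Lib.Helper95.BrGen
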