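import Groth.Agent.Lib.Helper95.HM

set_option autoImplicit false

namespace Groth.Agent.Lib.Helper95.HM

open Groth.Agent.Lib.Helper97.CotT2 Groth.Agent.Lib.Helper95 MvPolynomial

noncomputable section

universe u

variable {T : Type u} [CommRing T] {M : Type*} [AddCommGroup M] [Module T M]

namespace Hom

variable {D D' D'' : Dat T}

def id (D : Dat T) : Hom D D := ⟨DHom.id D.r, fun a => ⟨a, rfl⟩, fun _ => rfl⟩

def comp (g : Hom D D') (g' : Hom D' D'') : Hom D D'' where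
  h :=
    { α := g'.h.α.comp g.h.α
      θ := g'.h.θ.comp g.h.θ
      θ_smul := fun x f => by
        change g'.h.θ (g.h.θ (x • f)) = g'.h.α (g.h.α x) • g'.h.θ (g.h.θ f)
        rw [g.h.θ_smul, g'.h.θ_smul]
      jm_θ := fun f => by
        change jm D''.r (g'.h.θ (g.h.θ f)) = g'.h.α (g.h.α (jm D.r f))
        rw [g'.h.jm_θ, g.h.jm_θ] }
  hβ a := by
    obtain ⟨a', ha'⟩ := g.hβ a
    obtain ⟨a'', ha''⟩ := g'.hβ a'
    exact ⟨a'', by change g'.h.α (g.h.α (D.β a)) = _; rw [ha', ha'']⟩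
  hπ x := by
    change D''.π (g'.h.α (g.h.α x)) = _
    rw [g'.hπ, g.hπ]

@[simp] lemma comp_α (g : Hom D D') (g' : Hom D' D'') (x : D.R) :
    (g.comp g').h.α x = g'.h.α (g.h.α x) := rfl
@[simp] lemma comp_θ (g : Hom D D') (g' : Hom D' D'') (f : D.F) :
    (g.comp g').h.θ f = g'.h.θ (g.h.θ f) := rfl
@[simp] lemma id_α (x : D.R) : (Hom.id D).h.α x = x := rfl

lemma H0_id (t : D.H0 M) : (Hom.id D).H0 M t = t := Subtype.ext (Subtype.ext rfl)

lemma H1_id (t : D.H1 M) : (Hom.id D).H1 M t = t := by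
  obtain ⟨z, rfl⟩ := QuotientAddGroup.mk_surjective t
  rfl

lemma H2_id (t : D.H2 M) : (Hom.id D).H2 M t = t := by
  obtain ⟨z, rfl⟩ := QuotientAddGroup.mk_surjective t
  rw [H2_mk]
  congr 1

lemma H0_comp (g : Hom D D') (g' : Hom D' D'') (t : D''.H0 M) :
    (g.comp g').H0 M t = g.H0 M (g'.H0 M t) := Subtype.ext (Subtype.ext rfl)

lemma H1_comp (g : Hom D D') (g' : Hom D' D'') (t : D''.H1 M) :
    (g.comp g').H1 M t = g.H1 M (g'.H1 M t) := by
  obtain ⟨z, rfl⟩ := QuotientAddGroup.mk_surjective t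
  rfl

lemma H2_comp (g : Hom D D') (g' : Hom D' D'') (t : D''.H2 M) :
    (g.comp g').H2 M t = g.H2 M (g'.H2 M t) := by
  obtain ⟨z, rfl⟩ := QuotientAddGroup.mk_surjective t
  rfl

lemma H0_eq (g g' : Hom D D')
    (hI : ∀ x, g.h.α x - g'.h.α x ∈ Ideal.span (Set.range D'.r)) (t : D'.H0 M) :
    g.H0 M t = g'.H0 M t := by
  apply Subtype.ext
  apply Subtype.ext
  refine AddMonoidHom.ext fun x => ?_
  change t.1.1 (g.h.α x) = t.1.1 (g'.h.α x)
  obtain ⟨f, hf⟩ := D'.exists_jm_eq (hI x)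
  have h0 : D'.d0 M t.1 = 0 := t.2
  have h1 : t.1.1 (jm D'.r f) = 0 := by
    have := congrArg (fun ψ : D'.K1 M => ψ.1 f) h0
    exact this
  rw [← sub_eq_zero, ← map_sub, ← hf, h1]

lemma H1_eq (g g' : Hom D D')
    (hI : ∀ x, g.h.α x - g'.h.α x ∈ Ideal.span (Set.range D'.r))
    (hβ : ∀ a, g.h.α (D.β a) = g'.h.α (D.β a)) (t : D'.H1 M) :
    g.H1 M t = g'.H1 M t := by
  obtain ⟨⟨ψ, hψ⟩, rfl⟩ := QuotientAddGroup.mk_surjective t
  rw [H1_mk, H1_mk, Nine.H1_mk_eq_mk_iff]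
  have hψ' : ∀ q : D'.F, q ∈ Q D'.r → ψ.1 q = 0 := by
    intro q hq
    have h0 : D'.d1 M ψ = 0 := hψ
    have := congrArg (fun φ : D'.K2 M => φ.1 ⟨q, hq⟩) h0
    exact this
  have key : ∀ f f' : D'.F, jm D'.r f = jm D'.r f' → ψ.1 f = ψ.1 f' := by
    intro f f' hff
    rw [← sub_eq_zero, ← map_sub]
    apply hψ'
    rw [mem_Q, map_sub, hff, sub_self]
  choose c hc using fun x => D'.exists_jm_eq (hI x)
  let δ : D.R →+ M := AddMonoidHom.mk' (fun x => ψ.1 (c x)) (fun x y => by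
    rw [← map_add]
    apply key
    rw [map_add, hc, hc, hc, map_add, map_add]; abel)
  have hδ : δ ∈ D.K0 M := by
    refine ⟨fun x y => ?_, fun a => ?_⟩
    · change ψ.1 (c (x * y)) = D.π x • ψ.1 (c y) + D.π y • ψ.1 (c x)
      rw [← g.hπ x, ← g'.hπ y, ← D'.K1_smul, ← D'.K1_smul, ← map_add]
      apply key
      rw [hc, map_add, map_smul, map_smul, hc, hc, map_mul, map_mul, smul_eq_mul, smul_eq_mul]
      ring
    · change ψ.1 (c (D.β a)) = 0
      apply hψ'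
      rw [mem_Q, hc, hβ, sub_self]
  refine ⟨⟨δ, hδ⟩, ?_⟩
  apply Subtype.ext
  refine AddMonoidHom.ext fun f => ?_
  change ψ.1 (c (jm D.r f)) = ψ.1 (g.h.θ f) - ψ.1 (g'.h.θ f)
  rw [← map_sub]
  apply key
  rw [hc, map_sub, g.h.jm_θ, g'.h.jm_θ]

lemma H2_eq_of_α (g g' : Hom D D') (hα : g.h.α = g'.h.α) (t : D'.H2 M) :
    g.H2 M t = g'.H2 M t := by
  obtain ⟨φ, rfl⟩ := QuotientAddGroup.mk_surjective t
  rw [H2_mk, H2_mk, Nine.H2_mk_eq_mk_iff]
  have hmem : ∀ f, g.h.θ f - g'.h.θ f ∈ Q D'.r := by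
    intro f
    rw [mem_Q, map_sub, g.h.jm_θ, g'.h.jm_θ, hα, sub_self]
  let ψ : D.F →+ M := AddMonoidHom.mk' (fun f => φ.1 ⟨g.h.θ f - g'.h.θ f, hmem f⟩) (fun f f' => by
    rw [← map_add]
    congr 1
    apply Subtype.ext
    change g.h.θ (f + f') - g'.h.θ (f + f') = (g.h.θ f - g'.h.θ f) + (g.h.θ f' - g'.h.θ f')
    rw [map_add, map_add]; abel)
  have hψ : ψ ∈ D.K1 M := by
    intro x f
    change φ.1 ⟨g.h.θ (x • f) - g'.h.θ (x • f), hmem _⟩ = D.π x • φ.1 ⟨g.h.θ f - g'.h.θ f, hmem f⟩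
    rw [← g.hπ x, ← D'.K2_smul]
    congr 1
    apply Subtype.ext
    change g.h.θ (x • f) - g'.h.θ (x • f) = g.h.α x • (g.h.θ f - g'.h.θ f)
    rw [g.h.θ_smul, g'.h.θ_smul, hα, smul_sub]
  refine ⟨⟨ψ, hψ⟩, ?_⟩
  apply Subtype.ext
  refine AddMonoidHom.ext fun q => ?_
  change φ.1 ⟨g.h.θ q - g'.h.θ q, hmem _⟩ = φ.1 (g.θQ q) - φ.1 (g'.θQ q)
  rw [← map_sub]
  congr 1

end Hom

namespace Dat

variable (D : Dat T) (κ : Type u)

abbrev addVars : Dat T where
  R := MvPolynomial κ D.R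
  A0 := D.A0
  β := (C : D.R →+* MvPolynomial κ D.R).comp D.β
  π := D.π.comp constantCoeff
  σ := D.σ ⊕ κ
  r := rExt D.r κ
  hr := by
    rintro (s | k)
    · simp [D.hr]
    · simp

def inHom : Hom D (D.addVars κ) where
  h := hIn D.r κ
  hβ a := ⟨a, rfl⟩
  hπ x := by
    change D.π (constantCoeff (C x)) = D.π x
    rw [constantCoeff_C]

def outHom : Hom (D.addVars κ) D where
  h := hOut D.r κ
  hβ a := ⟨a, by
    change constantCoeff (C (D.β a)) = D.β a
    rw [constantCoeff_C]⟩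
  hπ _ := rfl

lemma inHom_α (x : D.R) : (D.inHom κ).h.α x = C x := rfl
lemma outHom_α (p : MvPolynomial κ D.R) : (D.outHom κ).h.α p = constantCoeff p := rfl

lemma H2_out_in (t : (D.addVars κ).H2 M) : (D.outHom κ).H2 M ((D.inHom κ).H2 M t) = t := by
  obtain ⟨φ, rfl⟩ := QuotientAddGroup.mk_surjective t
  rw [Hom.H2_mk, Hom.H2_mk]
  congr 1
  apply Subtype.ext
  refine AddMonoidHom.ext fun q => ?_
  change φ.1 ((D.inHom κ).θQ ((D.outHom κ).θQ q)) = φ.1 q
  rw [← sub_eq_zero, ← map_sub]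
  refine (D.addVars κ).K2_F0 φ _ ?_
  have h2 : (hIn D.r κ).θ ((hOut D.r κ).θ q.1) - q.1 ∈ F0 (rExt D.r κ) := by
    have := Submodule.neg_mem _ (sub_mem_F0 D.r κ q.2)
    rwa [neg_sub] at this
  exact h2

lemma H2_in_injective : Function.Injective ((D.inHom κ).H2 M) := by
  intro t t' h
  rw [← D.H2_out_in κ t, ← D.H2_out_in κ t', h]

end Dat

namespace Hom

variable {D D' : Dat T}

set_option maxHeartbeats 3200000 in
lemma H2_eq (g g' : Hom D D') (κ : Type u)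
    (Gα : D.R →+* MvPolynomial κ D'.R) (Eα : MvPolynomial κ D'.R →+* D'.R)
    (hEC : ∀ x, Eα (C x) = x) (hEX : ∀ k, Eα (X k) ∈ Ideal.span (Set.range D'.r))
    (hG1 : ∀ x, Eα (Gα x) = g.h.α x) (hG0 : ∀ x, constantCoeff (Gα x) = g'.h.α x)
    (hGβ : ∀ a, ∃ a', Gα (D.β a) = C (D'.β a')) (t : D'.H2 M) :
    g.H2 M t = g'.H2 M t := by
  -- the morphism E
  have hE1 : ∀ s, Eα (rExt D'.r κ s) ∈ Ideal.span (Set.range D'.r) := by
    rintro (s | k)
    · rw [rExt_inl, hEC]; exact Ideal.subset_span ⟨s, rfl⟩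
    · rw [rExt_inr]; exact hEX k
  obtain ⟨hE, hEα⟩ := DHom.exists_of_mem_span (r := rExt D'.r κ) (r' := D'.r) Eα hE1
  have hEsub : ∀ p : MvPolynomial κ D'.R, Eα p - constantCoeff p ∈ Ideal.span (Set.range D'.r) := by
    intro p
    have h1 : p - C (constantCoeff p) ∈ Ideal.span (Set.range (X : κ → MvPolynomial κ D'.R)) :=
      sub_C_constantCoeff_mem κ p
    have h2 : Ideal.span (Set.range (X : κ → MvPolynomial κ D'.R)) ≤
        (Ideal.span (Set.range D'.r)).comap Eα := by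
      refine Ideal.span_le.mpr ?_
      rintro _ ⟨k, rfl⟩
      exact hEX k
    have h3 := h2 h1
    rw [Ideal.mem_comap, map_sub, hEC] at h3
    exact h3
  let E : Hom (D'.addVars κ) D' :=
    { h := hE
      hβ := fun a => ⟨a, by
        rw [hEα]
        change Eα (C (D'.β a)) = D'.β a
        rw [hEC]⟩
      hπ := fun p => by
        rw [hEα]
        change D'.π (Eα p) = D'.π (constantCoeff p)
        rw [← sub_eq_zero, ← map_sub]
        exact D'.π_span (hEsub p) }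
  -- the morphism G
  have hG : ∀ s, Gα (D.r s) ∈ Ideal.span (Set.range (rExt D'.r κ)) := by
    intro s
    refine mem_span_rExt_of_mem_ker D'.r κ (Ideal.Quotient.mk (Ideal.span (Set.range D'.r))) ?_ ?_
    · rw [Ideal.mk_ker]
    · rw [hG0, Ideal.Quotient.eq_zero_iff_mem]
      have := g'.h.jm_θ (Finsupp.single s 1)
      rw [jm_single, one_mul] at this
      rw [← this]
      exact D'.jm_mem_span _
  obtain ⟨hGd, hGα⟩ := DHom.exists_of_mem_span (r := D.r) (r' := rExt D'.r κ) Gα hG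
  let G : Hom D (D'.addVars κ) :=
    { h := hGd
      hβ := fun a => by
        obtain ⟨a', ha'⟩ := hGβ a
        exact ⟨a', by rw [hGα]; exact ha'⟩
      hπ := fun x => by
        rw [hGα]
        change D'.π (constantCoeff (Gα x)) = D.π x
        rw [hG0, g'.hπ] }
  have e1 : g.H2 M t = (G.comp E).H2 M t := by
    apply H2_eq_of_α
    refine RingHom.ext fun x => ?_
    change g.h.α x = E.h.α (G.h.α x)
    change g.h.α x = hE.α (hGd.α x)
    rw [hEα, hGα, hG1]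
  have e2 : g'.H2 M t = (G.comp (D'.outHom κ)).H2 M t := by
    apply H2_eq_of_α
    refine RingHom.ext fun x => ?_
    change g'.h.α x = constantCoeff (hGd.α x)
    rw [hGα, hG0]
  have e3 : E.H2 M t = (D'.outHom κ).H2 M t := by
    apply D'.H2_in_injective κ
    rw [← H2_comp, ← H2_comp]
    have h1 : ((D'.inHom κ).comp E).H2 M t = (Hom.id D').H2 M t := by
      apply H2_eq_of_α
      refine RingHom.ext fun x => ?_
      change hE.α (C x) = x
      rw [hEα, hEC]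
    have h2 : ((D'.inHom κ).comp (D'.outHom κ)).H2 M t = (Hom.id D').H2 M t := by
      apply H2_eq_of_α
      refine RingHom.ext fun x => ?_
      change constantCoeff (C x) = x
      rw [constantCoeff_C]
    rw [h1, h2]
  rw [e1, e2, H2_comp, H2_comp, e3]

end Hom

end

end Groth.Agent.Lib.Helper95.HM
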