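import Groth.Prelude.Def_CotT2
import Groth.Agent.Lib.Helper97.CotT2.Bridge
import Groth.Agent.Lib.Helper95.HMHtpy
import Groth.Agent.Lib.Helper95.BrGen

set_option autoImplicit false

namespace Groth.Agent.Lib.Helper95.BrCot

open Groth.Agent.Lib.Helper97.CotT2 Groth.Agent.Lib.Helper95 Groth.Agent.Lib.Helper95.HM TensorProduct

noncomputable section

universe u

lemma der_ext {ι A0 T M : Type*} [CommRing A0] [CommRing T] [AddCommGroup M] [Module T M]
    (π : MvPolynomial ι A0 →+* T) (δ δ' : MvPolynomial ι A0 →+ M)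
    (h1 : ∀ x y, δ (x * y) = π x • δ y + π y • δ x)
    (h1' : ∀ x y, δ' (x * y) = π x • δ' y + π y • δ' x)
    (h2 : ∀ a, δ (MvPolynomial.C a) = 0) (h2' : ∀ a, δ' (MvPolynomial.C a) = 0)
    (h : ∀ i, δ (MvPolynomial.X i) = δ' (MvPolynomial.X i)) : δ = δ' := by
  refine AddMonoidHom.ext fun p => ?_
  induction p using MvPolynomial.induction_on with
  | C a => rw [h2, h2']
  | add p q hp hq => rw [map_add, map_add, hp, hq]
  | mul_X p i hp => rw [h1, h1', hp, h]

variable {A0 S T : Type u} [CommRing A0] [CommRing S] [CommRing T] [Algebra A0 S] {ι σ : Type u}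
variable (P : Algebra.Presentation A0 S ι σ) (κ : S →+* T)

abbrev datOf : Dat T where
  R := P.toExtension.Ring
  A0 := A0
  β := algebraMap A0 P.toExtension.Ring
  π := κ.comp (algebraMap P.toExtension.Ring S)
  σ := σ
  r := CotT.rel P
  hr s := by
    change κ (algebraMap P.toExtension.Ring S (CotT.rel P s)) = 0
    rw [CotT.algebraMap_rel, map_zero]

lemma one_tmul_smul {N : Type*} [AddCommGroup N] [Module P.toExtension.Ring N]
    (x : P.toExtension.Ring) (n : N) :
    (1 : S) ⊗ₜ[P.toExtension.Ring] (x • n) =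
      algebraMap P.toExtension.Ring S x • ((1 : S) ⊗ₜ[P.toExtension.Ring] n) := by
  rw [TensorProduct.tmul_smul, TensorProduct.smul_tmul', TensorProduct.smul_tmul',
    Algebra.smul_def, smul_eq_mul]

variable {M : Type*} [AddCommGroup M] [Module S M] [Module T M]
variable (hM : ∀ (s : S) (m : M), s • m = κ s • m)

include hM in
lemma b0_mem (φ : CotT.L0 P →ₗ[S] M) :
    ({ toFun := fun x => φ ((1 : S) ⊗ₜ[P.toExtension.Ring]
          KaehlerDifferential.D A0 P.toExtension.Ring x)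
       map_zero' := by rw [map_zero, TensorProduct.tmul_zero, map_zero]
       map_add' := fun x y => by rw [map_add, TensorProduct.tmul_add, map_add] } :
      P.toExtension.Ring →+ M) ∈ (datOf P κ).K0 M := by
  refine ⟨fun x y => ?_, fun a => ?_⟩
  · change φ ((1 : S) ⊗ₜ[P.toExtension.Ring] KaehlerDifferential.D A0 P.toExtension.Ring (x * y)) =
      κ (algebraMap P.toExtension.Ring S x) • φ ((1 : S) ⊗ₜ[P.toExtension.Ring]
        KaehlerDifferential.D A0 P.toExtension.Ring y) +
      κ (algebraMap P.toExtension.Ring S y) • φ ((1 : S) ⊗ₜ[P.toExtension.Ring]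
        KaehlerDifferential.D A0 P.toExtension.Ring x)
    rw [Derivation.leibniz, TensorProduct.tmul_add, one_tmul_smul, one_tmul_smul, map_add,
      map_smul, map_smul, hM, hM]
  · change φ ((1 : S) ⊗ₜ[P.toExtension.Ring] KaehlerDifferential.D A0 P.toExtension.Ring
      (algebraMap A0 P.toExtension.Ring a)) = 0
    rw [Derivation.map_algebraMap, TensorProduct.tmul_zero, map_zero]

def b0 : (CotT.L0 P →ₗ[S] M) →+ (datOf P κ).K0 M where
  toFun φ := ⟨_, b0_mem P κ hM φ⟩
  map_zero' := rfl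
  map_add' _ _ := rfl

lemma b0_apply (φ : CotT.L0 P →ₗ[S] M) (x : P.toExtension.Ring) :
    (b0 P κ hM φ).1 x = φ ((1 : S) ⊗ₜ[P.toExtension.Ring]
      KaehlerDifferential.D A0 P.toExtension.Ring x) := rfl

def b1 : (CotT.L1 P →ₗ[S] M) →+ (datOf P κ).K1 M where
  toFun φ := ⟨{ toFun := fun f => φ ((1 : S) ⊗ₜ[P.toExtension.Ring] f)
                map_zero' := by rw [TensorProduct.tmul_zero, map_zero]
                map_add' := fun f g => by rw [TensorProduct.tmul_add, map_add] }, fun x f => by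
      change φ ((1 : S) ⊗ₜ[P.toExtension.Ring] (x • f)) =
        κ (algebraMap P.toExtension.Ring S x) • φ ((1 : S) ⊗ₜ[P.toExtension.Ring] f)
      rw [one_tmul_smul, map_smul, hM]⟩
  map_zero' := rfl
  map_add' _ _ := rfl

lemma b1_apply (φ : CotT.L1 P →ₗ[S] M) (f : CotT.relMod P) :
    (b1 P κ hM φ).1 f = φ ((1 : S) ⊗ₜ[P.toExtension.Ring] f) := rfl

lemma cls_zero : cls P 0 = 0 := by
  rw [cls, TensorProduct.tmul_zero]
  rfl

def b2 : (CotT.L2 P →ₗ[S] M) →+ (datOf P κ).K2 M where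
  toFun φ := ⟨{ toFun := fun q => φ (cls P q)
                map_zero' := (congrArg φ (cls_zero P)).trans (map_zero φ)
                map_add' := fun q q' => (congrArg φ (cls_add P q q')).trans (map_add φ _ _) },
      ⟨fun x q => (congrArg φ (cls_smul P x q)).trans (by rw [map_smul, hM]; rfl), fun q hq =>
        (congrArg φ (cls_eq_zero P q hq)).trans (map_zero φ)⟩⟩
  map_zero' := rfl
  map_add' _ _ := rfl

lemma b2_apply (φ : CotT.L2 P →ₗ[S] M) (q : Q (CotT.rel P)) :
    (b2 P κ hM φ).1 q = φ (cls P q) := rfl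

lemma basis_eq (i : ι) : P.cotangentSpaceBasis i = ((1 : S) ⊗ₜ[P.toExtension.Ring]
    KaehlerDifferential.D A0 P.toExtension.Ring (MvPolynomial.X i) : CotT.L0 P) :=
  Algebra.Generators.cotangentSpaceBasis_apply _ i

lemma b0_injective : Function.Injective (b0 P κ hM) := by
  rw [injective_iff_map_eq_zero]
  intro φ hφ
  refine P.cotangentSpaceBasis.ext fun i => ?_
  have h1 : φ ((1 : S) ⊗ₜ[P.toExtension.Ring]
      KaehlerDifferential.D A0 P.toExtension.Ring (MvPolynomial.X i)) = 0 :=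
    congrArg (fun ε : (datOf P κ).K0 M => ε.1 (MvPolynomial.X i)) hφ
  exact (congrArg φ (basis_eq P i)).trans h1

lemma b0_surjective : Function.Surjective (b0 P κ hM) := by
  intro δ
  refine ⟨P.cotangentSpaceBasis.constr S (fun i => δ.1 (MvPolynomial.X i)), ?_⟩
  apply Subtype.ext
  refine der_ext (datOf P κ).π _ _ ((datOf P κ).K0_mul _) ((datOf P κ).K0_mul δ)
    (fun a => (datOf P κ).K0_β _ a) (fun a => (datOf P κ).K0_β δ a) (fun i => ?_)
  exact (congrArg (P.cotangentSpaceBasis.constr S (fun i => δ.1 (MvPolynomial.X i)))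
    (basis_eq P i).symm).trans (Module.Basis.constr_basis _ _ _ i)

lemma b1_injective : Function.Injective (b1 P κ hM) := by
  rw [injective_iff_map_eq_zero]
  intro φ hφ
  refine (CotT.L1basis P).ext fun s => ?_
  rw [CotT.L1basis_apply, LinearMap.zero_apply]
  have := congrArg (fun ε : (datOf P κ).K1 M => ε.1 (Finsupp.single s 1)) hφ
  exact this

lemma b1_surjective : Function.Surjective (b1 P κ hM) := by
  intro ψ
  refine ⟨(CotT.L1basis P).constr S (fun s => ψ.1 (Finsupp.single s 1)), ?_⟩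
  apply (datOf P κ).K1_ext
  intro s
  rw [b1_apply, ← CotT.L1basis_apply, Module.Basis.constr_basis]

lemma b2_injective : Function.Injective (b2 P κ hM) := by
  let _ : Module P.toExtension.Ring M := Module.compHom M ((datOf P κ).π)
  have _ : IsScalarTower P.toExtension.Ring S M := ⟨fun r s m => by
    change (r • s) • m = (datOf P κ).π r • (s • m)
    rw [hM, hM, Algebra.smul_def, map_mul, mul_smul]
    rfl⟩
  intro g g' h
  apply toZ_injective P M
  apply Subtype.ext
  refine LinearMap.ext fun q => ?_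
  have := congrArg (fun ε : (datOf P κ).K2 M => ε.1 q) h
  exact this

lemma b2_surjective : Function.Surjective (b2 P κ hM) := by
  let _ : Module P.toExtension.Ring M := Module.compHom M ((datOf P κ).π)
  have _ : IsScalarTower P.toExtension.Ring S M := ⟨fun r s m => by
    change (r • s) • m = (datOf P κ).π r • (s • m)
    rw [hM, hM, Algebra.smul_def, map_mul, mul_smul]
    rfl⟩
  intro φ'
  let z : Z (CotT.rel P) M S :=
    ⟨{ toFun := φ'.1
       map_add' := map_add _
       map_smul' := fun x q => (datOf P κ).K2_smul φ' x q }, fun q hq => (datOf P κ).K2_F0 φ' q hq⟩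
  obtain ⟨g, hg⟩ := toZ_surjective P M z
  refine ⟨g, Subtype.ext (AddMonoidHom.ext fun q => ?_)⟩
  have := congrArg (fun z' : Z (CotT.rel P) M S =>
    (z' : Q (CotT.rel P) →ₗ[P.toExtension.Ring] M) q) hg
  exact this

def e0 : (CotT.L0 P →ₗ[S] M) ≃+ (datOf P κ).K0 M :=
  AddEquiv.ofBijective (b0 P κ hM) ⟨b0_injective P κ hM, b0_surjective P κ hM⟩
def e1 : (CotT.L1 P →ₗ[S] M) ≃+ (datOf P κ).K1 M :=
  AddEquiv.ofBijective (b1 P κ hM) ⟨b1_injective P κ hM, b1_surjective P κ hM⟩
def e2 : (CotT.L2 P →ₗ[S] M) ≃+ (datOf P κ).K2 M :=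
  AddEquiv.ofBijective (b2 P κ hM) ⟨b2_injective P κ hM, b2_surjective P κ hM⟩

lemma c0 (φ : CotT.L0 P →ₗ[S] M) :
    e1 P κ hM (CotT.d1Star P M φ) = (datOf P κ).d0 M (e0 P κ hM φ) := by
  apply Subtype.ext
  refine AddMonoidHom.ext fun f => ?_
  change φ (CotT.d1 P ((1 : S) ⊗ₜ[P.toExtension.Ring] f)) =
    φ ((1 : S) ⊗ₜ[P.toExtension.Ring] KaehlerDifferential.D A0 P.toExtension.Ring (CotT.jmap P f))
  rw [CotT.d1_tmul, one_smul]

lemma c1 (φ : CotT.L1 P →ₗ[S] M) :
    e2 P κ hM (CotT.d2Star P M φ) = (datOf P κ).d1 M (e1 P κ hM φ) := by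
  apply Subtype.ext
  refine AddMonoidHom.ext fun q => ?_
  exact congrArg φ (CotT.d2_mk_tmul P (1 : S) q)

def τ0 : CotT.T0 P M ≃+ (datOf P κ).H0 M :=
  BrGen.tau0 (CotT.d1Star P M) ((datOf P κ).d0 M) (e0 P κ hM) (e1 P κ hM) (c0 P κ hM)

def τ1 : CotT.T1 P M ≃+ (datOf P κ).H1 M :=
  BrGen.tau1 (CotT.d1Star P M) (CotT.d2Star P M) ((datOf P κ).d0 M) ((datOf P κ).d1 M)
    (e0 P κ hM) (e1 P κ hM) (e2 P κ hM) (c0 P κ hM) (c1 P κ hM)

def τ2 : CotT.T2 P M ≃+ (datOf P κ).H2 M :=
  BrGen.tau2 (CotT.d2Star P M) ((datOf P κ).d1 M) (e1 P κ hM) (e2 P κ hM) (c1 P κ hM)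

section Nat

variable {A0' S' : Type u} [CommRing A0'] [CommRing S'] [Algebra A0' S'] {ι' σ' : Type u}
variable [Algebra A0 A0'] [Algebra S S'] [Algebra A0 S'] [IsScalarTower A0 A0' S']
  [IsScalarTower A0 S S']
variable {P} {P' : Algebra.Presentation A0' S' ι' σ'} (h : CotT.PresHom P P') (κ' : S' →+* T)
variable {M' : Type*} [AddCommGroup M'] [Module S' M'] [Module S M'] [IsScalarTower S S' M']
  [Module T M']
variable (hM' : ∀ (s : S') (m : M'), s • m = κ' s • m)

include hM' in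
lemma hM_of (s : S) (m : M') : s • m = (κ'.comp (algebraMap S S')) s • m := by
  rw [RingHom.comp_apply, ← hM', algebraMap_smul]

def homOf : Hom (datOf P (κ'.comp (algebraMap S S'))) (datOf P' κ') where
  h :=
    { α := h.ringHom
      θ := h.relModMap.toAddMonoidHom
      θ_smul := fun x f => h.relModMap.map_smulₛₗ x f
      jm_θ := h.jmap_relModMap }
  hβ a := ⟨algebraMap A0 A0' a, h.hom.toExtensionHom.toRingHom_algebraMap a⟩
  hπ x := by
    change κ' (algebraMap P'.toExtension.Ring S' (h.ringHom x)) =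
      κ' (algebraMap S S' (algebraMap P.toExtension.Ring S x))
    rw [h.algebraMap_ringHom]

lemma homOf_α (x : P.toExtension.Ring) : (homOf h κ').h.α x = h.ringHom x := rfl
lemma homOf_θ (f : CotT.relMod P) : (homOf h κ').h.θ f = h.relModMap f := rfl

lemma L0map_one_tmul (r : P.toExtension.Ring) :
    h.L0map ((1 : S) ⊗ₜ[P.toExtension.Ring] KaehlerDifferential.D A0 P.toExtension.Ring r) =
      ((1 : S') ⊗ₜ[P'.toExtension.Ring]
        KaehlerDifferential.D A0' P'.toExtension.Ring (h.ringHom r) : CotT.L0 P') := by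
  rw [CotT.PresHom.L0map_apply, Algebra.Extension.CotangentSpace.map_tmul, map_one]
  rfl

lemma e0_pull (ψ : CotT.L0 P' →ₗ[S'] M') :
    e0 P (κ'.comp (algebraMap S S')) (hM_of κ' hM') (h.pull0 M' ψ) =
      (homOf h κ').pull0 M' (e0 P' κ' hM' ψ) := by
  apply Subtype.ext
  refine AddMonoidHom.ext fun r => ?_
  exact congrArg ψ (L0map_one_tmul h r)

lemma e1_pull (ψ : CotT.L1 P' →ₗ[S'] M') :
    e1 P (κ'.comp (algebraMap S S')) (hM_of κ' hM') (h.pull1 M' ψ) =
      (homOf h κ').pull1 M' (e1 P' κ' hM' ψ) := by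
  apply Subtype.ext
  refine AddMonoidHom.ext fun f => ?_
  have e2' := CotT.PresHom.L1map_tmul h (1 : S) f
  rw [map_one] at e2'
  exact congrArg ψ e2'

lemma e2_pull (ψ : CotT.L2 P' →ₗ[S'] M') :
    e2 P (κ'.comp (algebraMap S S')) (hM_of κ' hM') (h.pull2 M' ψ) =
      (homOf h κ').pull2 M' (e2 P' κ' hM' ψ) := by
  apply Subtype.ext
  refine AddMonoidHom.ext fun q => ?_
  have e2' := CotT.PresHom.L2map_mk_tmul h (1 : S) q
  rw [map_one] at e2'
  exact congrArg ψ e2'

lemma nat0 (x : CotT.T0 P' M') :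
    τ0 P (κ'.comp (algebraMap S S')) (hM_of κ' hM') (h.T0pull M' x) =
      (homOf h κ').H0 M' (τ0 P' κ' hM' x) := by
  apply Subtype.ext
  exact e0_pull h κ' hM' x.1

set_option maxHeartbeats 1600000 in
lemma nat1 (x : CotT.T1 P' M') :
    τ1 P (κ'.comp (algebraMap S S')) (hM_of κ' hM') (h.T1pull M' x) =
      (homOf h κ').H1 M' (τ1 P' κ' hM' x) := by
  induction x using Submodule.Quotient.induction_on with
  | H z =>
    have e1' : h.T1pull M' (Submodule.Quotient.mk z) =
        Submodule.Quotient.mk (h.cocycles1Pull M' z) := rfl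
    have a1 : τ1 P (κ'.comp (algebraMap S S')) (hM_of κ' hM')
        (Submodule.Quotient.mk (h.cocycles1Pull M' z)) =
        QuotientAddGroup.mk (BrGen.z1Equiv (CotT.d2Star P M')
          ((datOf P (κ'.comp (algebraMap S S'))).d1 M')
          (e1 P (κ'.comp (algebraMap S S')) (hM_of κ' hM'))
          (e2 P (κ'.comp (algebraMap S S')) (hM_of κ' hM'))
          (c1 P (κ'.comp (algebraMap S S')) (hM_of κ' hM')) (h.cocycles1Pull M' z)) := rfl
    have a2 : τ1 P' κ' hM' (Submodule.Quotient.mk z) =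
        QuotientAddGroup.mk (BrGen.z1Equiv (CotT.d2Star P' M') ((datOf P' κ').d1 M')
          (e1 P' κ' hM') (e2 P' κ' hM') (c1 P' κ' hM') z) := rfl
    rw [e1', a1, a2, Hom.H1_mk]
    congr 1
    apply Subtype.ext
    exact e1_pull h κ' hM' z.1

set_option maxHeartbeats 1600000 in
lemma nat2 (x : CotT.T2 P' M') :
    τ2 P (κ'.comp (algebraMap S S')) (hM_of κ' hM') (h.T2pull M' x) =
      (homOf h κ').H2 M' (τ2 P' κ' hM' x) := by
  induction x using Submodule.Quotient.induction_on with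
  | H g =>
    have e1' : h.T2pull M' (Submodule.Quotient.mk g) =
        Submodule.Quotient.mk (h.pull2 M' g) := rfl
    have a1 : τ2 P (κ'.comp (algebraMap S S')) (hM_of κ' hM')
        (Submodule.Quotient.mk (h.pull2 M' g)) =
        QuotientAddGroup.mk (e2 P (κ'.comp (algebraMap S S')) (hM_of κ' hM') (h.pull2 M' g)) := rfl
    have a2 : τ2 P' κ' hM' (Submodule.Quotient.mk g) =
        QuotientAddGroup.mk (e2 P' κ' hM' g) := rfl
    rw [e1', a1, a2, Hom.H2_mk]
    congr 1
    exact e2_pull h κ' hM' g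

end Nat

end

end Groth.Agent.Lib.Helper95.BrCot
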