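import Groth.Agent.Lib.Helper95.UnivRing
import Groth.Agent.Lib.Helper48.LambdaRing

set_option autoImplicit false
open MvPolynomial LambdaRing

namespace Groth.Agent.Lib.Helper95.Bridge

section LamHom

variable {L : Type*} [CommRing L] [LambdaOps L]

open Groth.Agent.Lib.Helper26.LambdaGamma in
noncomputable def lamUnit (x : L) : (PowerSeries L)ˣ where
  val := lamSeries x
  inv := lamSeries (-x)
  val_inv := by rw [← lamSeries_add, add_neg_cancel, lamSeries_zero]
  inv_val := by rw [← lamSeries_add, neg_add_cancel, lamSeries_zero]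

open Groth.Agent.Lib.Helper26.LambdaGamma in
noncomputable def lamHom : L →+ Additive (PowerSeries L)ˣ where
  toFun x := Additive.ofMul (lamUnit x)
  map_zero' := by
    apply Additive.toMul.injective
    apply Units.ext
    show lamSeries (0 : L) = 1
    exact lamSeries_zero
  map_add' x y := by
    apply Additive.toMul.injective
    apply Units.ext
    show lamSeries (x + y) = lamSeries x * lamSeries y
    exact lamSeries_add x y

lemma lamHom_val (x : L) : ((Additive.toMul (lamHom x) : (PowerSeries L)ˣ) : PowerSeries L) =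
    lamSeries x := rfl

end LamHom

section LineUnit

variable {R : Type*} [CommRing R]

noncomputable def lineUnit (a : R) : (PowerSeries R)ˣ :=
  (PowerSeries.isUnit_iff_constantCoeff.mpr
    (show IsUnit (PowerSeries.constantCoeff (1 + PowerSeries.C a * PowerSeries.X)) by simp)).unit

lemma lineUnit_val (a : R) : ((lineUnit a : (PowerSeries R)ˣ) : PowerSeries R) =
    1 + PowerSeries.C a * PowerSeries.X := IsUnit.unit_spec _

lemma map_lineUnit {S : Type*} [CommRing S] (f : R →+* S) (a : R) :
    Units.map (PowerSeries.map f : PowerSeries R →* PowerSeries S) (lineUnit a) = lineUnit (f a) := by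
  apply Units.ext
  rw [Units.coe_map, lineUnit_val, lineUnit_val]
  simp

end LineUnit

section LSZ

variable (σ : Type*)

noncomputable def LSZ : MvPolynomial σ ℤ →ₗ[ℤ] Additive (PowerSeries (MvPolynomial σ ℤ))ˣ :=
  (basisMonomials σ ℤ).constr ℤ fun m => Additive.ofMul (lineUnit (monomial m (1 : ℤ)))

lemma LSZ_monomial (m : σ →₀ ℕ) :
    LSZ σ (monomial m 1) = Additive.ofMul (lineUnit (monomial m (1 : ℤ))) := by
  have := (basisMonomials σ ℤ).constr_basis ℤ
    (fun m => Additive.ofMul (lineUnit (monomial m (1 : ℤ)))) m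
  rwa [coe_basisMonomials] at this

noncomputable def Lam (n : ℕ) (p : MvPolynomial σ ℤ) : MvPolynomial σ ℤ :=
  PowerSeries.coeff n ((Additive.toMul (LSZ σ p) : (PowerSeries (MvPolynomial σ ℤ))ˣ) :
    PowerSeries (MvPolynomial σ ℤ))

end LSZ

end Groth.Agent.Lib.Helper95.Bridge
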