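import Groth.Agent.Lib.Helper95.Bridge1

set_option autoImplicit false
open MvPolynomial LambdaRing

namespace Groth.Agent.Lib.Helper95.Bridge

section LE

variable {σ : Type*} {L : Type*} [CommRing L] [LambdaOps L]

lemma lamSeries_of_line {x : L} (hx : ∀ k : ℕ, 2 ≤ k → LambdaOps.lam k x = 0) :
    lamSeries x = 1 + PowerSeries.C x * PowerSeries.X := by
  ext k
  rw [Groth.Agent.Lib.Helper26.LambdaAdams.coeff_lamSeries]
  rcases k with _ | _ | k
  · simp [LambdaOps.lam_zero]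
  · simp [LambdaOps.lam_one]
  · rw [hx _ (by omega), map_add, PowerSeries.coeff_one, if_neg (by omega),
      PowerSeries.coeff_succ_mul_X, PowerSeries.coeff_C, if_neg (by omega), add_zero]

lemma lamUnit_of_line {x : L} (hx : ∀ k : ℕ, 2 ≤ k → LambdaOps.lam k x = 0) :
    lamUnit x = lineUnit x := by
  apply Units.ext
  rw [lineUnit_val]
  exact lamSeries_of_line hx

theorem lamHom_aeval (u : σ → L)
    (hu : ∀ (m : σ →₀ ℕ) (k : ℕ), 2 ≤ k → LambdaOps.lam k (aeval u (monomial m (1 : ℤ))) = 0)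
    (p : MvPolynomial σ ℤ) :
    lamHom (aeval u p) =
      (Units.map (PowerSeries.map ((aeval u : MvPolynomial σ ℤ →ₐ[ℤ] L) : MvPolynomial σ ℤ →+* L) :
        PowerSeries (MvPolynomial σ ℤ) →* PowerSeries L)).toAdditive (LSZ σ p) := by
  induction p using MvPolynomial.induction_on' with
  | monomial m a =>
    have e : monomial m a = a • monomial m (1 : ℤ) := by
      rw [smul_monomial, smul_eq_mul, mul_one]
    rw [e, map_zsmul, map_zsmul, map_zsmul, map_zsmul, LSZ_monomial]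
    congr 1
    show Additive.ofMul (lamUnit _) = Additive.ofMul (Units.map _ (lineUnit _))
    rw [map_lineUnit, lamUnit_of_line (hu m)]
    rfl
  | add p q hp hq =>
    rw [map_add, map_add, map_add, map_add, hp, hq]

theorem lamSeries_aeval (u : σ → L)
    (hu : ∀ (m : σ →₀ ℕ) (k : ℕ), 2 ≤ k → LambdaOps.lam k (aeval u (monomial m (1 : ℤ))) = 0)
    (p : MvPolynomial σ ℤ) :
    lamSeries (aeval u p) = PowerSeries.map ((aeval u : MvPolynomial σ ℤ →ₐ[ℤ] L) : MvPolynomial σ ℤ →+* L)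
      ((Additive.toMul (LSZ σ p) : (PowerSeries (MvPolynomial σ ℤ))ˣ) :
        PowerSeries (MvPolynomial σ ℤ)) := by
  have h := congrArg (fun z => ((Additive.toMul z : (PowerSeries L)ˣ) : PowerSeries L))
    (lamHom_aeval u hu p)
  exact h

theorem lam_aeval (u : σ → L)
    (hu : ∀ (m : σ →₀ ℕ) (k : ℕ), 2 ≤ k → LambdaOps.lam k (aeval u (monomial m (1 : ℤ))) = 0)
    (n : ℕ) (p : MvPolynomial σ ℤ) :
    LambdaOps.lam n (aeval u p) = aeval u (Lam σ n p) := by
  rw [← Groth.Agent.Lib.Helper26.LambdaAdams.coeff_lamSeries, lamSeries_aeval u hu,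
    PowerSeries.coeff_map]
  rfl

end LE

end Groth.Agent.Lib.Helper95.Bridge

namespace Groth.Agent.Lib.Helper95.Bridge

section Univ

open Groth.Agent.Lib.Helper95.UnivRing

variable (σ : Type*)

noncomputable def iota : MvPolynomial σ ℤ →ₐ[ℤ] MvPolynomial σ ℚ :=
  aeval (fun i => 1 + X i)

lemma iota_monomial (m : σ →₀ ℕ) : iota σ (monomial m (1 : ℤ)) = uMon σ m := by
  rw [iota, aeval_monomial, map_one, one_mul]
  rfl

lemma iota_hu (m : σ →₀ ℕ) (k : ℕ) (hk : 2 ≤ k) :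
    LambdaOps.lam k (aeval (fun i => (1 + X i : MvPolynomial σ ℚ)) (monomial m (1 : ℤ))) = 0 := by
  have := iota_monomial σ m
  rw [iota] at this
  rw [this]
  exact lam_line σ _ (fun k _ => psi_uMon σ k m) k hk

lemma iota_injective : Function.Injective (iota σ) := by
  have h : ((aeval (fun i => (X i - 1 : MvPolynomial σ ℚ)) :
      MvPolynomial σ ℚ →ₐ[ℚ] MvPolynomial σ ℚ) : MvPolynomial σ ℚ →+* MvPolynomial σ ℚ).comp
      ((iota σ : MvPolynomial σ ℤ →ₐ[ℤ] MvPolynomial σ ℚ) : MvPolynomial σ ℤ →+* MvPolynomial σ ℚ) =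
      MvPolynomial.map (Int.castRingHom ℚ) := by
    apply MvPolynomial.ringHom_ext
    · intro a
      simp [iota]
    · intro i
      simp [iota]
  intro p q hpq
  apply MvPolynomial.map_injective (Int.castRingHom ℚ) Int.cast_injective
  rw [← h]
  show (aeval _) (iota σ p) = (aeval _) (iota σ q)
  rw [hpq]

lemma iota_Lam (n : ℕ) (p : MvPolynomial σ ℤ) :
    iota σ (Lam σ n p) = LambdaOps.lam n (iota σ p) :=
  (lam_aeval (fun i => (1 + X i : MvPolynomial σ ℚ)) (iota_hu σ) n p).symm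

theorem Lam_mul (n : ℕ) (P : MvPolynomial (Fin n ⊕ Fin n) ℤ) (hP : IsMulPoly n P)
    (p q : MvPolynomial σ ℤ) :
    Lam σ n (p * q) = aeval (Sum.elim (fun k : Fin n => Lam σ ((k : ℕ) + 1) p)
      (fun k : Fin n => Lam σ ((k : ℕ) + 1) q)) P := by
  apply iota_injective σ
  rw [iota_Lam, map_mul, (univ_isSpecial σ).lam_mul n P hP]
  have : iota σ (aeval (Sum.elim (fun k : Fin n => Lam σ ((k : ℕ) + 1) p)
      (fun k : Fin n => Lam σ ((k : ℕ) + 1) q)) P) =
      ((iota σ).comp (aeval (Sum.elim (fun k : Fin n => Lam σ ((k : ℕ) + 1) p)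
      (fun k : Fin n => Lam σ ((k : ℕ) + 1) q)))) P := rfl
  rw [this, comp_aeval]
  congr 2
  ext1 k
  rcases k with k | k
  · simp only [Sum.elim_inl]; rw [iota_Lam]
  · simp only [Sum.elim_inr]; rw [iota_Lam]

theorem Lam_Lam (i j : ℕ) (Q : MvPolynomial (Fin (i * j)) ℤ) (hQ : IsCompPoly i j Q)
    (p : MvPolynomial σ ℤ) :
    Lam σ j (Lam σ i p) = aeval (fun k : Fin (i * j) => Lam σ ((k : ℕ) + 1) p) Q := by
  apply iota_injective σ
  rw [iota_Lam, iota_Lam, (univ_isSpecial σ).lam_lam i j Q hQ]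
  have : iota σ (aeval (fun k : Fin (i * j) => Lam σ ((k : ℕ) + 1) p) Q) =
      ((iota σ).comp (aeval (fun k : Fin (i * j) => Lam σ ((k : ℕ) + 1) p))) Q := rfl
  rw [this, comp_aeval]
  congr 2
  ext1 k
  rw [iota_Lam]

end Univ

end Groth.Agent.Lib.Helper95.Bridge
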