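import Groth.Agent.Lib.Helper95.Bridge2

set_option autoImplicit false
open MvPolynomial LambdaRing

namespace Groth.Agent.Lib.Helper95.Bridge

open Groth.Agent.Lib.Helper48

universe u

section Split

def SplitClass (C : Set PosLambdaRing.{u}) : Prop :=
  ∀ L ∈ C, ∀ e ∈ L.posStr.pos, ∃ L' ∈ C, ∃ f : L.carrier →+* L'.carrier,
    IsExtension L.posStr L'.posStr f ∧
    ∃ s : Multiset L'.carrier, (∀ u ∈ s, L'.posStr.IsLine u) ∧ s.sum = f e

def LineSum (L : PosLambdaRing.{u}) (x : L.carrier) : Prop :=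
  ∃ s : Multiset L.carrier, (∀ u ∈ s, L.posStr.IsLine u) ∧ s.sum = x

lemma LineSum.map {L L' : PosLambdaRing.{u}} (f : L.carrier →+* L'.carrier)
    (hf : IsExtension L.posStr L'.posStr f) {x : L.carrier} (hx : LineSum L x) :
    LineSum L' (f x) := by
  obtain ⟨s, hs, rfl⟩ := hx
  refine ⟨s.map f, ?_, ?_⟩
  · intro u hu
    obtain ⟨v, hv, rfl⟩ := Multiset.mem_map.mp hu
    exact isLine_map L.posStr L'.posStr f hf (hs v hv)
  · rw [map_multiset_sum]

lemma isExtension_id (L : PosLambdaRing.{u}) : IsExtension L.posStr L.posStr (RingHom.id _) where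
  isLambdaHom := fun _ _ => rfl
  injective := fun _ _ h => h
  aug_comp := fun _ => rfl
  pos_subset := fun _ he => he

theorem exists_split_list {C : Set PosLambdaRing.{u}} (hC : SplitClass C) :
    ∀ (n : ℕ) (L : PosLambdaRing.{u}), L ∈ C → ∀ (l : List L.carrier), l.length = n →
      (∀ e ∈ l, e ∈ L.posStr.pos) →
      ∃ L' ∈ C, ∃ f : L.carrier →+* L'.carrier, IsExtension L.posStr L'.posStr f ∧
        ∀ e ∈ l, LineSum L' (f e) := by
  intro n
  induction n with
  | zero =>
    intro L hL l hl _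
    refine ⟨L, hL, RingHom.id _, isExtension_id L, ?_⟩
    intro e he
    rw [List.length_eq_zero_iff.mp hl] at he
    simp at he
  | succ n ih =>
    intro L hL l hl hpos
    rcases l with _ | ⟨a, l⟩
    · simp at hl
    · obtain ⟨L₁, hL₁, f₁, hf₁, s, hs, hsum⟩ := hC L hL a (hpos a (List.mem_cons_self ..))
      obtain ⟨L₂, hL₂, f₂, hf₂, h₂⟩ := ih L₁ hL₁ (l.map f₁) (by simpa using hl) (by
        intro e he
        obtain ⟨e', he', rfl⟩ := List.mem_map.mp he
        exact hf₁.pos_subset e' (hpos e' (List.mem_cons_of_mem _ he')))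
      refine ⟨L₂, hL₂, f₂.comp f₁,
        isExtension_comp L.posStr L₁.posStr L₂.posStr f₁ f₂ hf₁ hf₂, ?_⟩
      intro e he
      rcases List.mem_cons.mp he with rfl | he
      · exact LineSum.map f₂ hf₂ ⟨s, hs, hsum⟩
      · exact h₂ (f₁ e) (List.mem_map.mpr ⟨e, he, rfl⟩)

end Split

section LineGen

variable (L : PosLambdaRing.{u})

abbrev LineT : Type u := {v : L.carrier // L.posStr.IsLine v}

def lineVal : LineT L → L.carrier := Subtype.val

def LineGen (x : L.carrier) : Prop :=
  ∃ p : MvPolynomial (LineT L) ℤ, aeval (lineVal L) p = x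

variable {L}

lemma LineSum.lineGen {x : L.carrier} (hx : LineSum L x) : LineGen L x := by
  obtain ⟨s, hs, rfl⟩ := hx
  induction s using Multiset.induction with
  | empty => exact ⟨0, by simp⟩
  | cons a s ih =>
    obtain ⟨p, hp⟩ := ih (fun u hu => hs u (Multiset.mem_cons_of_mem hu))
    refine ⟨X ⟨a, hs a (Multiset.mem_cons_self a s)⟩ + p, ?_⟩
    rw [map_add, aeval_X, hp, Multiset.sum_cons]
    rfl

lemma LineGen.sub {x y : L.carrier} (hx : LineGen L x) (hy : LineGen L y) : LineGen L (x - y) := by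
  obtain ⟨p, rfl⟩ := hx
  obtain ⟨q, rfl⟩ := hy
  exact ⟨p - q, map_sub _ _ _⟩

lemma isLine_monomial (m : LineT L →₀ ℕ) :
    L.posStr.IsLine (aeval (lineVal L) (monomial m (1 : ℤ))) := by
  classical
  rw [aeval_monomial, map_one, one_mul]
  induction m using Finsupp.induction with
  | zero => simpa using isLine_one L.posStr
  | single_add a b f haf hb ih =>
    rw [Finsupp.prod_add_index' (by simp) (by intro t m m'; rw [pow_add]),
      Finsupp.prod_single_index (by simp)]
    exact isLine_mul L.posStr (isLine_pow L.posStr a.2 b) ih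

lemma lineVal_hu (m : LineT L →₀ ℕ) (k : ℕ) (hk : 2 ≤ k) :
    LambdaOps.lam k (aeval (lineVal L) (monomial m (1 : ℤ))) = 0 := by
  have h := isLine_monomial m
  apply L.posStr.lam_eq_zero _ h.1
  rw [h.2]
  exact_mod_cast hk

end LineGen

end Groth.Agent.Lib.Helper95.Bridge

namespace Groth.Agent.Lib.Helper95.Bridge

open Groth.Agent.Lib.Helper48

universe u

section Main

variable {K : Type u} [CommRing K] [LambdaOps K]

theorem exists_lineGen_list (P : PosStructure K) (hK : HasSplitting K P) (l : List K) :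
    ∃ (L' : PosLambdaRing.{u}) (f : K →+* L'.carrier), IsExtension P L'.posStr f ∧
      HasSplitting L'.carrier L'.posStr ∧ ∀ x ∈ l, LineGen L' (f x) := by
  obtain ⟨C, hKC, hC⟩ := hK
  choose e e' he he' hx using P.exists_sub
  obtain ⟨L', hL', f, hf, h⟩ := exists_split_list (C := C) hC _ ⟨K, P⟩ hKC
    (l.map e ++ l.map e') rfl (by
      intro z hz
      rcases List.mem_append.mp hz with hz | hz
      · obtain ⟨x, _, rfl⟩ := List.mem_map.mp hz
        exact he x
      · obtain ⟨x, _, rfl⟩ := List.mem_map.mp hz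
        exact he' x)
  refine ⟨L', f, hf, ⟨C, hL', hC⟩, ?_⟩
  intro x hxl
  have h1 : f x = f (e x) - f (e' x) := by
    conv_lhs => rw [hx x]
    exact map_sub f _ _
  rw [h1]
  exact LineGen.sub
    (h (e x) (List.mem_append.mpr (Or.inl (List.mem_map.mpr ⟨x, hxl, rfl⟩)))).lineGen
    (h (e' x) (List.mem_append.mpr (Or.inr (List.mem_map.mpr ⟨x, hxl, rfl⟩)))).lineGen

lemma lam_one_eq_zero_of_pos (P : PosStructure K) (n : ℕ) (hn : 2 ≤ n) :
    LambdaOps.lam n (1 : K) = 0 := by
  have h := isLine_one P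
  apply P.lam_eq_zero _ h.1
  rw [h.2]
  exact_mod_cast hn

theorem isSpecial_of_hasSplitting (P : PosStructure K) (hK : HasSplitting K P) : IsSpecial K where
  lam_one_eq_zero := lam_one_eq_zero_of_pos P
  lam_mul := by
    intro n Pn hPn x y
    obtain ⟨L', f, hf, -, h⟩ := exists_lineGen_list P hK [x, y]
    obtain ⟨p, hp⟩ := h x (by simp)
    obtain ⟨q, hq⟩ := h y (by simp)
    apply hf.injective
    have hlam : ∀ (k : ℕ) (r : MvPolynomial (LineT L') ℤ),
        LambdaOps.lam k (aeval (lineVal L') r) = aeval (lineVal L') (Lam _ k r) :=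
      fun k r => lam_aeval (lineVal L') lineVal_hu k r
    rw [hf.isLambdaHom, map_mul, ← hp, ← hq, ← map_mul, hlam, Lam_mul _ n Pn hPn]
    have e1 : aeval (lineVal L') (aeval (Sum.elim (fun k : Fin n => Lam _ ((k : ℕ) + 1) p)
        (fun k : Fin n => Lam _ ((k : ℕ) + 1) q)) Pn) =
        ((aeval (lineVal L')).comp (aeval (Sum.elim (fun k : Fin n => Lam _ ((k : ℕ) + 1) p)
        (fun k : Fin n => Lam _ ((k : ℕ) + 1) q)))) Pn := rfl
    have e2 : f (aeval (Sum.elim (fun k : Fin n => LambdaOps.lam ((k : ℕ) + 1) x)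
        (fun k : Fin n => LambdaOps.lam ((k : ℕ) + 1) y)) Pn) =
        (f.toIntAlgHom.comp (aeval (Sum.elim (fun k : Fin n => LambdaOps.lam ((k : ℕ) + 1) x)
        (fun k : Fin n => LambdaOps.lam ((k : ℕ) + 1) y)))) Pn := rfl
    rw [e1, e2, comp_aeval, comp_aeval]
    congr 2
    ext1 k
    rcases k with k | k
    · simp only [Sum.elim_inl]
      rw [← hlam, hp]
      exact (hf.isLambdaHom _ _).symm
    · simp only [Sum.elim_inr]
      rw [← hlam, hq]
      exact (hf.isLambdaHom _ _).symm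
  lam_lam := by
    intro i j Q hQ x
    obtain ⟨L', f, hf, -, h⟩ := exists_lineGen_list P hK [x]
    obtain ⟨p, hp⟩ := h x (by simp)
    apply hf.injective
    have hlam : ∀ (k : ℕ) (r : MvPolynomial (LineT L') ℤ),
        LambdaOps.lam k (aeval (lineVal L') r) = aeval (lineVal L') (Lam _ k r) :=
      fun k r => lam_aeval (lineVal L') lineVal_hu k r
    rw [hf.isLambdaHom, hf.isLambdaHom, ← hp, hlam, hlam, Lam_Lam _ i j Q hQ]
    have e1 : aeval (lineVal L') (aeval (fun k : Fin (i * j) => Lam _ ((k : ℕ) + 1) p) Q) =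
        ((aeval (lineVal L')).comp (aeval (fun k : Fin (i * j) => Lam _ ((k : ℕ) + 1) p))) Q := rfl
    have e2 : f (aeval (fun k : Fin (i * j) => LambdaOps.lam ((k : ℕ) + 1) x) Q) =
        (f.toIntAlgHom.comp (aeval (fun k : Fin (i * j) => LambdaOps.lam ((k : ℕ) + 1) x))) Q := rfl
    rw [e1, e2, comp_aeval, comp_aeval]
    congr 2
    ext1 k
    rw [← hlam, hp]
    exact (hf.isLambdaHom _ _).symm

end Main

end Groth.Agent.Lib.Helper95.Bridge
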