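import Groth.Prelude.Def_LambdaSp
import Groth.Agent.Lib.Helper26.LambdaGamma
import Mathlib.Tactic

set_option autoImplicit false
open MvPolynomial Finset LambdaRing

namespace Groth.Agent.Lib.Helper95.GamFil

section Filt

variable {A : Type*} [CommRing A]

structure IsFilt (I : ℕ → Ideal A) : Prop where
  anti : ∀ {a b : ℕ}, a ≤ b → I b ≤ I a
  zero : I 0 = ⊤
  mul : ∀ {a b : ℕ} {x y : A}, x ∈ I a → y ∈ I b → x * y ∈ I (a + b)

lemma IsFilt.pow_mem {I : ℕ → Ideal A} (hI : IsFilt I) {a : ℕ} {x : A} (hx : x ∈ I a) (c : ℕ) :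
    x ^ c ∈ I (c * a) := by
  induction c with
  | zero => rw [Nat.zero_mul, hI.zero]; trivial
  | succ c ih => rw [pow_succ, Nat.succ_mul]; exact hI.mul ih hx

lemma IsFilt.finsupp_prod_mem {I : ℕ → Ideal A} (hI : IsFilt I) {τ : Type*} (w : τ → ℕ)
    (g : τ → A) (hg : ∀ t, g t ∈ I (w t)) (d : τ →₀ ℕ) :
    (d.prod fun t n => g t ^ n) ∈ I (Finsupp.weight w d) := by
  classical
  rw [Finsupp.weight_apply, Finsupp.prod, Finsupp.sum]
  have : ∀ (s : Finset τ), ∏ t ∈ s, g t ^ d t ∈ I (∑ t ∈ s, d t • w t) := by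
    intro s
    induction s using Finset.induction_on with
    | empty => simp [hI.zero]
    | insert a s ha ih =>
      rw [Finset.prod_insert ha, Finset.sum_insert ha]
      exact hI.mul (by simpa [smul_eq_mul] using hI.pow_mem (hg a) (d a)) ih
  exact this d.support

lemma IsFilt.aeval_mem {I : ℕ → Ideal A} (hI : IsFilt I) {R : Type*} [CommRing R] [Algebra R A]
    {τ : Type*} (w : τ → ℕ) (g : τ → A) (hg : ∀ t, g t ∈ I (w t)) (n : ℕ)
    (W : MvPolynomial τ R) (hW : ∀ d ∈ W.support, n ≤ Finsupp.weight w d) :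
    aeval g W ∈ I n := by
  classical
  rw [W.as_sum, map_sum]
  refine sum_mem fun d hd => ?_
  rw [aeval_monomial]
  exact Ideal.mul_mem_left _ _ (hI.anti (hW d hd) (hI.finsupp_prod_mem w g hg d))

end Filt

section GammaFil

variable {K : Type*} {A : Type*} [CommRing K] [CommRing A] [LambdaOps A]

lemma map_gamma_of_map_lam [LambdaOps K] (f : A →+* K)
    (hf : ∀ (n : ℕ) (a : A), f (LambdaOps.lam n a) = LambdaOps.lam n (f a)) (k : ℕ) (x : A) :
    f (gamma k x) = gamma k (f x) := by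
  unfold gamma
  split_ifs with h
  · simp
  · rw [map_sum]
    refine Finset.sum_congr rfl fun j _ => ?_
    rw [map_mul, map_natCast]
    split_ifs
    · simp
    · rw [hf]

def genSet (ε : A →+* K) (n : ℕ) : Set A :=
  {y | ∃ l : List (ℕ × A), (∀ p ∈ l, ε p.2 = 0) ∧ n ≤ (l.map Prod.fst).sum ∧
    y = (l.map fun p => gamma p.1 p.2).prod}

lemma gammaFil_eq (ε : A →+* K) (n : ℕ) : gammaFil ε n = Ideal.span (genSet ε n) := rfl

lemma genSet_mul (ε : A →+* K) {a b : ℕ} {x y : A} (hx : x ∈ genSet ε a) (hy : y ∈ genSet ε b) :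
    x * y ∈ genSet ε (a + b) := by
  obtain ⟨lx, hlx, hsx, rfl⟩ := hx
  obtain ⟨ly, hly, hsy, rfl⟩ := hy
  refine ⟨lx ++ ly, ?_, ?_, ?_⟩
  · intro p hp
    rcases List.mem_append.mp hp with hp | hp
    · exact hlx p hp
    · exact hly p hp
  · simp only [List.map_append, List.sum_append]
    omega
  · simp only [List.map_append, List.prod_append]

theorem gammaFil_isFilt (ε : A →+* K) : IsFilt (gammaFil ε) where
  anti := by
    intro a b hab
    apply Ideal.span_mono
    rintro y ⟨l, hl, hs, rfl⟩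
    exact ⟨l, hl, hab.trans hs, rfl⟩
  zero := by
    rw [eq_top_iff]
    intro y _
    have h1 : (1 : A) ∈ gammaFil ε 0 :=
      Ideal.subset_span ⟨[], by simp, by simp, by simp⟩
    have := Ideal.mul_mem_left _ y h1
    rwa [mul_one] at this
  mul := by
    intro a b x y hx hy
    have h := Ideal.mul_mem_mul hx hy
    rw [gammaFil_eq, gammaFil_eq, Ideal.span_mul_span'] at h
    refine Ideal.span_mono ?_ h
    rintro _ ⟨p, hp, q, hq, rfl⟩
    exact genSet_mul ε hp hq

lemma gamma_mem_gammaFil (ε : A →+* K) {y : A} (hy : ε y = 0) (r : ℕ) :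
    gamma r y ∈ gammaFil ε r := by
  refine Ideal.subset_span ⟨[(r, y)], ?_, ?_, ?_⟩
  · intro p hp
    simp only [List.mem_singleton] at hp
    subst hp
    exact hy
  · simp
  · simp

end GammaFil

end Groth.Agent.Lib.Helper95.GamFil
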