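import Groth.Agent.Lib.Helper95.UnivPoly5
import Groth.Agent.Lib.Helper48.LambdaRing
import Groth.Agent.S8651
import Groth.Agent.S3291

set_option autoImplicit false
open MvPolynomial Finset

namespace Groth.Agent.Lib.Helper95.GammaFil

open Groth.Agent.Lib.Helper95.UnivPoly

section MinDeg

variable {σ : Type*}

def MinDeg (D : ℕ) (p : MvPolynomial σ ℤ) : Prop :=
  ∀ d ∈ p.support, D ≤ Finsupp.weight (fun _ : σ => (1 : ℕ)) d

lemma MinDeg.mono {D D' : ℕ} {p : MvPolynomial σ ℤ} (h : MinDeg D p) (hD : D' ≤ D) :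
    MinDeg D' p := fun d hd => hD.trans (h d hd)

lemma minDeg_zero (p : MvPolynomial σ ℤ) : MinDeg 0 p := fun _ _ => Nat.zero_le _

lemma MinDeg.add {D : ℕ} {p q : MvPolynomial σ ℤ} (hp : MinDeg D p) (hq : MinDeg D q) :
    MinDeg D (p + q) := by
  classical
  intro d hd
  rcases Finset.mem_union.mp (support_add hd) with h | h
  · exact hp d h
  · exact hq d h

lemma MinDeg.neg {D : ℕ} {p : MvPolynomial σ ℤ} (hp : MinDeg D p) : MinDeg D (-p) := by
  intro d hd
  rw [support_neg] at hd
  exact hp d hd

lemma MinDeg.sub {D : ℕ} {p q : MvPolynomial σ ℤ} (hp : MinDeg D p) (hq : MinDeg D q) :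
    MinDeg D (p - q) := by
  rw [sub_eq_add_neg]; exact hp.add hq.neg

lemma MinDeg.mul {D E : ℕ} {p q : MvPolynomial σ ℤ} (hp : MinDeg D p) (hq : MinDeg E q) :
    MinDeg (D + E) (p * q) := by
  classical
  intro d hd
  obtain ⟨a, ha, b, hb, rfl⟩ := Finset.mem_add.mp (support_mul p q hd)
  rw [map_add]
  exact add_le_add (hp a ha) (hq b hb)

lemma minDeg_X (i : σ) : MinDeg 1 (X i : MvPolynomial σ ℤ) := by
  classical
  intro d hd
  rw [support_X, Finset.mem_singleton] at hd
  subst hd
  simp [Finsupp.weight_single]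

lemma MinDeg.sum {ι : Type*} {D : ℕ} (s : Finset ι) (f : ι → MvPolynomial σ ℤ)
    (h : ∀ i ∈ s, MinDeg D (f i)) : MinDeg D (∑ i ∈ s, f i) := by
  classical
  induction s using Finset.induction_on with
  | empty => intro d hd; simp at hd
  | insert a s ha ih =>
    rw [Finset.sum_insert ha]
    exact (h a (Finset.mem_insert_self a s)).add
      (ih fun i hi => h i (Finset.mem_insert_of_mem hi))

lemma MinDeg.prod {ι : Type*} (s : Finset ι) (f : ι → MvPolynomial σ ℤ)
    (h : ∀ i ∈ s, MinDeg 1 (f i)) : MinDeg s.card (∏ i ∈ s, f i) := by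
  classical
  induction s using Finset.induction_on with
  | empty => exact minDeg_zero _
  | insert a s ha ih =>
    rw [Finset.prod_insert ha, Finset.card_insert_of_notMem ha, add_comm]
    exact (h a (Finset.mem_insert_self a s)).mul
      (ih fun i hi => h i (Finset.mem_insert_of_mem hi))

lemma MinDeg.prod_add_sub {ι : Type*} (s : Finset ι) (x y : ι → MvPolynomial σ ℤ)
    (hx : ∀ i ∈ s, MinDeg 1 (x i)) (hy : ∀ i ∈ s, MinDeg 2 (y i)) :
    MinDeg (s.card + 1) (∏ i ∈ s, (x i + y i) - ∏ i ∈ s, x i) := by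
  classical
  induction s using Finset.induction_on with
  | empty => intro d hd; simp at hd
  | insert a s ha ih =>
    rw [Finset.prod_insert ha, Finset.prod_insert ha, Finset.card_insert_of_notMem ha]
    have hxa := hx a (Finset.mem_insert_self a s)
    have hya := hy a (Finset.mem_insert_self a s)
    have ih' := ih (fun i hi => hx i (Finset.mem_insert_of_mem hi))
      (fun i hi => hy i (Finset.mem_insert_of_mem hi))
    have hP : MinDeg s.card (∏ i ∈ s, (x i + y i)) :=
      MinDeg.prod s _ fun i hi => (hx i (Finset.mem_insert_of_mem hi)).add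
        ((hy i (Finset.mem_insert_of_mem hi)).mono (by omega))
    have e : (x a + y a) * ∏ i ∈ s, (x i + y i) - x a * ∏ i ∈ s, x i =
        x a * (∏ i ∈ s, (x i + y i) - ∏ i ∈ s, x i) + y a * ∏ i ∈ s, (x i + y i) := by ring
    rw [e]
    refine MinDeg.add ?_ ?_
    · have := hxa.mul ih'
      exact this.mono (by omega)
    · have := hya.mul hP
      exact this.mono (by omega)

end MinDeg

section LemmaW

lemma component_aeval {σ τ M : Type*} [AddCommMonoid M] [DecidableEq M]
    (w : σ → M) (w' : τ → M) (g : σ → MvPolynomial τ ℤ)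
    (hg : ∀ s, IsWeightedHomogeneous w' (g s) (w s)) (P : MvPolynomial σ ℤ) (m : M) :
    weightedHomogeneousComponent w' m (aeval g P) =
      aeval g (weightedHomogeneousComponent w m P) := by
  classical
  have hfin := weightedHomogeneousComponent_finsupp (w := w) P
  have hP : P = ∑ k ∈ hfin.toFinset, weightedHomogeneousComponent w k P := by
    conv_lhs => rw [← sum_weightedHomogeneousComponent w P]
    rw [finsum_eq_sum _ hfin]
  conv_lhs => rw [hP]
  rw [map_sum, map_sum]
  have h3 : ∀ k ∈ hfin.toFinset, weightedHomogeneousComponent w' m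
      (aeval g (weightedHomogeneousComponent w k P)) =
      if k = m then aeval g (weightedHomogeneousComponent w m P) else 0 := by
    intro k _
    have hk := isWeightedHomogeneous_aeval w w' g hg
      (weightedHomogeneousComponent_isWeightedHomogeneous (w := w) k P)
    split_ifs with hkm
    · subst hkm
      exact hk.weightedHomogeneousComponent_same
    · exact hk.weightedHomogeneousComponent_ne _ (Ne.symm hkm)
  rw [Finset.sum_congr rfl h3, Finset.sum_ite_eq']
  split_ifs with hm
  · rfl
  · have : weightedHomogeneousComponent w m P = 0 := by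
      by_contra hne
      exact hm (hfin.mem_toFinset.mpr hne)
    rw [this, map_zero]

lemma exists_poly_minWeight {m : ℕ} {p : MvPolynomial (Fin m) ℤ} (hsym : p.IsSymmetric) {D : ℕ}
    (hD : MinDeg D p) :
    ∃ G : MvPolynomial (Fin m) ℤ,
      aeval (fun i : Fin m => esymm (Fin m) ℤ ((i : ℕ) + 1)) G = p ∧
      ∀ d ∈ G.support, D ≤ Finsupp.weight (fun i : Fin m => (i : ℕ) + 1) d := by
  classical
  obtain ⟨G, hG⟩ := esymmAlgHom_fin_surjective ℤ (le_refl m) ⟨p, hsym⟩
  have h0 : aeval (fun i : Fin m => esymm (Fin m) ℤ ((i : ℕ) + 1)) G = p := by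
    rw [← esymmAlgHom_apply, hG]
  refine ⟨G, h0, fun d hd => ?_⟩
  by_contra hlt
  push Not at hlt
  set wt := Finsupp.weight (fun i : Fin m => (i : ℕ) + 1) d with hwt
  have h1 := component_aeval (fun i : Fin m => (i : ℕ) + 1) (fun _ : Fin m => (1 : ℕ))
    (fun i : Fin m => esymm (Fin m) ℤ ((i : ℕ) + 1))
    (fun k => esymm_isWeightedHomogeneous_one _) G wt
  rw [h0] at h1
  have h2 : weightedHomogeneousComponent (fun _ : Fin m => (1 : ℕ)) wt p = 0 := by
    apply weightedHomogeneousComponent_eq_zero'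
    intro d' hd'
    have := hD d' hd'
    omega
  rw [h2] at h1
  have h3 : weightedHomogeneousComponent (fun i : Fin m => (i : ℕ) + 1) wt G = 0 := by
    have hinj := esymmAlgHom_fin_injective ℤ (le_refl m)
    apply hinj
    apply Subtype.ext
    rw [esymmAlgHom_apply, ← h1, map_zero]
    rfl
  have h4 := congrArg (coeff d) h3
  rw [coeff_weightedHomogeneousComponent, if_pos hwt.symm, coeff_zero] at h4
  exact (mem_support_iff.mp hd) h4

end LemmaW

section AdamsPoly

variable (m j : ℕ)

noncomputable def cpoly (i : Fin m) : MvPolynomial (Fin m) ℤ := (1 + X i) ^ j - 1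

lemma exists_cpoly_eq (i : Fin m) : ∃ q : MvPolynomial (Fin m) ℤ,
    cpoly m j i = C (j : ℤ) * X i + X i ^ 2 * q := by
  unfold cpoly
  induction j with
  | zero => exact ⟨0, by simp⟩
  | succ j ih =>
    obtain ⟨q, hq⟩ := ih
    refine ⟨C (j : ℤ) + q + X i * q, ?_⟩
    have : (1 + X i : MvPolynomial (Fin m) ℤ) ^ (j + 1) - 1 =
        (1 + X i) * ((1 + X i) ^ j - 1) + X i := by ring
    rw [this, hq]
    push_cast
    simp only [map_add, map_one]
    ring

noncomputable def Spoly (k : ℕ) : MvPolynomial (Fin m) ℤ :=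
  aeval (cpoly m j) (esymm (Fin m) ℤ k) - C ((j : ℤ) ^ k) * esymm (Fin m) ℤ k

lemma Spoly_isSymmetric (k : ℕ) : (Spoly m j k).IsSymmetric := by
  intro e
  unfold Spoly
  rw [map_sub, map_mul, esymm_isSymmetric (Fin m) ℤ k e, rename_C]
  congr 1
  rw [← AlgHom.comp_apply, comp_aeval]
  have : (fun i => rename e (cpoly m j i)) = cpoly m j ∘ e := by
    ext1 i
    simp [cpoly]
  rw [this, ← aeval_rename, esymm_isSymmetric (Fin m) ℤ k e]

lemma Spoly_minDeg (k : ℕ) : MinDeg (k + 1) (Spoly m j k) := by
  classical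
  choose q hq using exists_cpoly_eq m j
  have h1 : Spoly m j k = ∑ t ∈ (Finset.univ : Finset (Fin m)).powersetCard k,
      (∏ i ∈ t, (C (j : ℤ) * X i + X i ^ 2 * q i) - ∏ i ∈ t, (C (j : ℤ) * X i)) := by
    unfold Spoly
    rw [esymm, map_sum, Finset.mul_sum, ← Finset.sum_sub_distrib]
    refine Finset.sum_congr rfl fun t ht => ?_
    rw [map_prod, Finset.prod_mul_distrib, Finset.prod_const, (Finset.mem_powersetCard.mp ht).2,
      map_pow]
    congr 1
    refine Finset.prod_congr rfl fun i _ => ?_
    rw [aeval_X, hq]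
  rw [h1]
  refine MinDeg.sum _ _ fun t ht => ?_
  have := MinDeg.prod_add_sub t (fun i => C (j : ℤ) * X i) (fun i => X i ^ 2 * q i)
    (fun i _ => by
      have := (minDeg_zero (C (j : ℤ) : MvPolynomial (Fin m) ℤ)).mul (minDeg_X i)
      simpa using this)
    (fun i _ => by
      have := ((minDeg_X i).mul (minDeg_X i)).mul (minDeg_zero (q i))
      simpa [pow_two] using this)
  rwa [(Finset.mem_powersetCard.mp ht).2] at this

end AdamsPoly

section Core

open LambdaRing Groth.Agent.Lib.Helper48

universe u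

noncomputable def Gpoly (m j k : ℕ) : MvPolynomial (Fin m) ℤ :=
  Classical.choose (exists_poly_minWeight (Spoly_isSymmetric m j k) (Spoly_minDeg m j k))

lemma Gpoly_spec (m j k : ℕ) :
    aeval (fun i : Fin m => esymm (Fin m) ℤ ((i : ℕ) + 1)) (Gpoly m j k) = Spoly m j k ∧
      ∀ d ∈ (Gpoly m j k).support, k + 1 ≤ Finsupp.weight (fun i : Fin m => (i : ℕ) + 1) d :=
  Classical.choose_spec (exists_poly_minWeight (Spoly_isSymmetric m j k) (Spoly_minDeg m j k))

variable {K : Type u} [CommRing K] [LambdaOps K]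

lemma lam_line_eq_zero (P : PosStructure K) (u : K) (hu : P.IsLine u) (i : ℕ) (hi : 2 ≤ i) :
    LambdaOps.lam i u = 0 := by
  have h := congrArg (PowerSeries.coeff i) (lamSeries_line P u hu)
  unfold lamSeries at h
  rw [PowerSeries.coeff_mk] at h
  rw [h, map_add, PowerSeries.coeff_one, if_neg (by omega), zero_add]
  obtain ⟨i, rfl⟩ : ∃ i', i = i' + 1 := ⟨i - 1, by omega⟩
  rw [PowerSeries.coeff_succ_mul_X, PowerSeries.coeff_C, if_neg (by omega)]

noncomputable def adamsRingHom (P : PosStructure K) (hK : HasSplitting K P) (j : ℕ) : K →+* K where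
  toFun := adams P j
  map_one' := adams_one P j
  map_mul' := adams_mul P hK j
  map_zero' := adams_zero P j
  map_add' := adams_add P j

lemma gamma_sum_lines (P : PosStructure K) (N : ℕ) (u : Fin N → K) (hu : ∀ i, P.IsLine (u i))
    (r : ℕ) :
    gamma r (∑ i, u i - (N : K)) = aeval (fun i => u i - 1) (esymm (Fin N) ℤ r) := by
  rw [Groth.Agent.S8651.result K (fun k hk => lam_line_eq_zero P 1 (isLine_one P) k hk) N u
    (fun i j hj => lam_line_eq_zero P (u i) (hu i) j hj) r, esymm, map_sum]
  refine Finset.sum_congr rfl fun t _ => ?_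
  rw [map_prod]
  refine Finset.prod_congr rfl fun i _ => ?_
  rw [aeval_X]

lemma adams_gamma_lines (P : PosStructure K) (hK : HasSplitting K P) (N : ℕ) (u : Fin N → K)
    (hu : ∀ i, P.IsLine (u i)) (j k : ℕ) :
    adams P j (gamma k (∑ i, u i - (N : K))) - (j : K) ^ k * gamma k (∑ i, u i - (N : K)) =
      aeval (fun i : Fin N => gamma ((i : ℕ) + 1) (∑ i, u i - (N : K))) (Gpoly N j k) := by
  set a : Fin N → K := fun i => u i - 1 with ha
  have hg : ∀ r, gamma r (∑ i, u i - (N : K)) = aeval a (esymm (Fin N) ℤ r) :=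
    fun r => gamma_sum_lines P N u hu r
  have hψa : ∀ i, adams P j (a i) = aeval a (cpoly N j i) := by
    intro i
    rw [ha, adams_sub, adams_line P (u i) (hu i), adams_one]
    simp [cpoly]
  have h1 : adams P j (aeval a (esymm (Fin N) ℤ k)) =
      aeval a (aeval (cpoly N j) (esymm (Fin N) ℤ k)) := by
    have : adams P j (aeval a (esymm (Fin N) ℤ k)) =
        ((adamsRingHom P hK j).toIntAlgHom.comp (aeval a)) (esymm (Fin N) ℤ k) := rfl
    rw [this, comp_aeval, ← AlgHom.comp_apply, comp_aeval]
    congr 2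
    ext1 i
    exact hψa i
  have h2 : (fun i : Fin N => gamma ((i : ℕ) + 1) (∑ i, u i - (N : K))) =
      fun i : Fin N => aeval a (esymm (Fin N) ℤ ((i : ℕ) + 1)) := by
    ext1 i; exact hg _
  rw [hg k, h1, h2, ← comp_aeval, AlgHom.comp_apply, (Gpoly_spec N j k).1, Spoly, map_sub, map_mul]
  simp

end Core

section Filtration

open LambdaRing Groth.Agent.Lib.Helper48

universe u

variable {K : Type u} [CommRing K] [LambdaOps K]

lemma gammaFiltration_zero (P : PosStructure K) : gammaFiltration P 0 = ⊤ := by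
  unfold gammaFiltration; simp

lemma gammaFiltration_anti (P : PosStructure K) {n n' : ℕ} (h : n ≤ n') :
    gammaFiltration P n' ≤ gammaFiltration P n := by
  by_cases hn : n = 0
  · subst hn; rw [gammaFiltration_zero]; exact le_top
  · have hn' : n' ≠ 0 := by omega
    unfold gammaFiltration
    rw [if_neg hn, if_neg hn']
    apply AddSubgroup.closure_mono
    rintro y ⟨l, h1, h2, h3⟩
    exact ⟨l, h1, h.trans h2, h3⟩

lemma fil_mul_mem (P : PosStructure K) {m n : ℕ} {x y : K} (hx : x ∈ gammaFiltration P m)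
    (hy : y ∈ gammaFiltration P n) : x * y ∈ gammaFiltration P (m + n) :=
  (Groth.Agent.S3291.result K P).2 m n x y hx hy

lemma fil_smul_mem (P : PosStructure K) {n : ℕ} (a : K) {x : K} (hx : x ∈ gammaFiltration P n) :
    a * x ∈ gammaFiltration P n :=
  (Groth.Agent.S3291.result K P).1 n a x hx

lemma gamma_mem (P : PosStructure K) (y : K) (hy : P.aug y = 0) (r : ℕ) :
    gamma r y ∈ gammaFiltration P r := by
  by_cases hr : r = 0
  · subst hr; rw [gammaFiltration_zero]; trivial
  · unfold gammaFiltration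
    rw [if_neg hr]
    refine AddSubgroup.subset_closure ⟨[(r, y)], ?_, ?_, ?_⟩
    · intro p hp
      simp only [List.mem_singleton] at hp
      subst hp
      exact hy
    · simp
    · simp

lemma gamma_pow_mem (P : PosStructure K) (y : K) (hy : P.aug y = 0) (r c : ℕ) :
    gamma r y ^ c ∈ gammaFiltration P (c * r) := by
  induction c with
  | zero => rw [Nat.zero_mul, gammaFiltration_zero]; trivial
  | succ c ih =>
    rw [pow_succ, Nat.succ_mul]
    exact fil_mul_mem P ih (gamma_mem P y hy r)

lemma aeval_gamma_mem (P : PosStructure K) (y : K) (hy : P.aug y = 0) (m D : ℕ)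
    (G : MvPolynomial (Fin m) ℤ)
    (hG : ∀ d ∈ G.support, D ≤ Finsupp.weight (fun i : Fin m => (i : ℕ) + 1) d) :
    aeval (fun i : Fin m => gamma ((i : ℕ) + 1) y) G ∈ gammaFiltration P D := by
  classical
  rw [G.as_sum, map_sum]
  refine sum_mem fun d hd => ?_
  rw [aeval_monomial]
  apply fil_smul_mem
  refine gammaFiltration_anti P (hG d hd) ?_
  rw [Finsupp.weight_apply, Finsupp.prod, Finsupp.sum]
  have : ∀ (t : Finset (Fin m)), ∏ i ∈ t, gamma ((i : ℕ) + 1) y ^ d i ∈
      gammaFiltration P (∑ i ∈ t, d i • ((i : ℕ) + 1)) := by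
    intro t
    induction t using Finset.induction_on with
    | empty => simp [gammaFiltration_zero]
    | insert a t ha ih =>
      rw [Finset.prod_insert ha, Finset.sum_insert ha]
      exact fil_mul_mem P (by simpa [smul_eq_mul] using gamma_pow_mem P y hy ((a : ℕ) + 1) (d a)) ih
  exact this d.support

end Filtration

section Main

open LambdaRing Groth.Agent.Lib.Helper48

universe u

variable {K : Type u} [CommRing K] [LambdaOps K]

lemma map_gamma' {K' : Type u} [CommRing K'] [LambdaOps K'] (g : K →+* K')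
    (hg : IsLambdaHom g) (k : ℕ) (x : K) : g (gamma k x) = gamma k (g x) := by
  unfold gamma
  split_ifs with h
  · simp
  · rw [map_sum]
    refine Finset.sum_congr rfl fun j _ => ?_
    rw [map_mul, map_natCast]
    split_ifs
    · simp
    · rw [hg]

def CProp (P : PosStructure K) (j l : ℕ) (w : K) : Prop :=
  w ∈ gammaFiltration P l ∧ adams P j w - (j : K) ^ l * w ∈ gammaFiltration P (l + 1)

lemma CProp.add {P : PosStructure K} {j l : ℕ} {w w' : K} (h : CProp P j l w)
    (h' : CProp P j l w') : CProp P j l (w + w') := by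
  refine ⟨add_mem h.1 h'.1, ?_⟩
  have : adams P j (w + w') - (j : K) ^ l * (w + w') =
      (adams P j w - (j : K) ^ l * w) + (adams P j w' - (j : K) ^ l * w') := by
    rw [adams_add]; ring
  rw [this]
  exact add_mem h.2 h'.2

lemma CProp.neg {P : PosStructure K} {j l : ℕ} {w : K} (h : CProp P j l w) :
    CProp P j l (-w) := by
  refine ⟨neg_mem h.1, ?_⟩
  have : adams P j (-w) - (j : K) ^ l * (-w) = -(adams P j w - (j : K) ^ l * w) := by
    rw [adams_neg]; ring
  rw [this]
  exact neg_mem h.2

lemma CProp.zero (P : PosStructure K) (j l : ℕ) : CProp P j l 0 := by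
  refine ⟨zero_mem _, ?_⟩
  rw [adams_zero]; simp

lemma CProp.sum {P : PosStructure K} {j l : ℕ} {ι : Type*} (s : Finset ι) (f : ι → K)
    (h : ∀ i ∈ s, CProp P j l (f i)) : CProp P j l (∑ i ∈ s, f i) := by
  classical
  induction s using Finset.induction_on with
  | empty => simpa using CProp.zero P j l
  | insert a s ha ih =>
    rw [Finset.sum_insert ha]
    exact (h a (Finset.mem_insert_self a s)).add (ih fun i hi => h i (Finset.mem_insert_of_mem hi))

lemma CProp.adams_mem {P : PosStructure K} {j l : ℕ} {w : K} (h : CProp P j l w) :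
    adams P j w ∈ gammaFiltration P l := by
  have : adams P j w = (adams P j w - (j : K) ^ l * w) + (j : K) ^ l * w := by ring
  rw [this]
  exact add_mem (gammaFiltration_anti P (Nat.le_succ l) h.2) (fil_smul_mem P _ h.1)

lemma CProp.mul {P : PosStructure K} (hK : HasSplitting K P) {j a b : ℕ} {w w' : K}
    (h : CProp P j a w) (h' : CProp P j b w') : CProp P j (a + b) (w * w') := by
  refine ⟨fil_mul_mem P h.1 h'.1, ?_⟩
  have : adams P j (w * w') - (j : K) ^ (a + b) * (w * w') =
      (adams P j w - (j : K) ^ a * w) * adams P j w' +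
        ((j : K) ^ a * w) * (adams P j w' - (j : K) ^ b * w') := by
    rw [adams_mul P hK, pow_add]; ring
  rw [this]
  refine add_mem ?_ ?_
  · have := fil_mul_mem P h.2 h'.adams_mem
    rwa [show a + 1 + b = a + b + 1 by omega] at this
  · have := fil_mul_mem P (fil_smul_mem P ((j : K) ^ a) h.1) h'.2
    rwa [show a + (b + 1) = a + b + 1 by omega] at this

lemma CProp.one (P : PosStructure K) (j : ℕ) : CProp P j 0 1 := by
  refine ⟨by rw [gammaFiltration_zero]; trivial, ?_⟩
  rw [adams_one]; simp

lemma aug_eq_toNat (P : PosStructure K) (e : K) (he : e ∈ P.pos) :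
    ((P.aug e).toNat : ℤ) = P.aug e := Int.toNat_of_nonneg (P.aug_pos e he).le

lemma CProp_gamma_pos (P : PosStructure K) (hK : HasSplitting K P) (j : ℕ) (e : K)
    (he : e ∈ P.pos) (k : ℕ) :
    CProp P j k (gamma k (e - ((P.aug e).toNat : K))) := by
  have hy : P.aug (e - ((P.aug e).toNat : K)) = 0 := by
    rw [map_sub, map_natCast, aug_eq_toNat P e he, sub_self]
  refine ⟨gamma_mem P _ hy k, ?_⟩
  obtain ⟨C, hKC, hC⟩ := hK
  obtain ⟨L', hL', f, hf, s, hs, hsum⟩ := hC ⟨K, P⟩ hKC e he
  have hK' : HasSplitting L'.carrier L'.posStr := ⟨C, hL', hC⟩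
  have hcard : Multiset.card s = (P.aug e).toNat := by
    have h1 := aug_sum_lines L'.posStr s hs
    rw [hsum, hf.aug_comp] at h1
    have h2 := aug_eq_toNat P e he
    rw [← h2] at h1
    exact_mod_cast h1.symm
  obtain ⟨N, u, rfl⟩ : ∃ (N : ℕ) (u : Fin N → L'.carrier),
      s = (Finset.univ : Finset (Fin N)).val.map u := by
    refine ⟨s.toList.length, s.toList.get, ?_⟩
    rw [Fin.univ_val_map, List.ofFn_get, Multiset.coe_toList]
  have hN : N = (P.aug e).toNat := by simpa using hcard
  have hu : ∀ i, L'.posStr.IsLine (u i) := fun i =>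
    hs (u i) (Multiset.mem_map.mpr ⟨i, Finset.mem_val.mpr (Finset.mem_univ _), rfl⟩)
  have hsum' : ∑ i, u i = f e := by rw [← hsum]; rfl
  have key := adams_gamma_lines L'.posStr hK' N u hu j k
  rw [hsum', hN] at key
  have hfy : f (e - ((P.aug e).toNat : K)) = f e - ((P.aug e).toNat : L'.carrier) := by
    rw [map_sub, map_natCast]
  have e1 : adams P j (gamma k (e - ((P.aug e).toNat : K))) -
      (j : K) ^ k * gamma k (e - ((P.aug e).toNat : K)) =
      aeval (fun i : Fin (P.aug e).toNat => gamma ((i : ℕ) + 1) (e - ((P.aug e).toNat : K)))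
        (Gpoly (P.aug e).toNat j k) := by
    apply hf.injective
    rw [map_sub, map_mul, map_pow, map_natCast, map_adams P L'.posStr f hf,
      map_gamma' f hf.isLambdaHom, hfy]
    have e2 : f (aeval (fun i : Fin (P.aug e).toNat =>
        gamma ((i : ℕ) + 1) (e - ((P.aug e).toNat : K))) (Gpoly (P.aug e).toNat j k)) =
        aeval (fun i : Fin (P.aug e).toNat =>
          gamma ((i : ℕ) + 1) (f e - ((P.aug e).toNat : L'.carrier))) (Gpoly (P.aug e).toNat j k) := by
      have : f (aeval (fun i : Fin (P.aug e).toNat =>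
          gamma ((i : ℕ) + 1) (e - ((P.aug e).toNat : K))) (Gpoly (P.aug e).toNat j k)) =
          (f.toIntAlgHom.comp (aeval (fun i : Fin (P.aug e).toNat =>
            gamma ((i : ℕ) + 1) (e - ((P.aug e).toNat : K))))) (Gpoly (P.aug e).toNat j k) := rfl
      rw [this, comp_aeval]
      congr 2
      ext1 i
      show f (gamma _ _) = _
      rw [map_gamma' f hf.isLambdaHom, hfy]
    rw [e2]
    subst hN
    exact key
  rw [e1]
  exact aeval_gamma_mem P _ hy _ _ _ (Gpoly_spec _ j k).2

end Main

end Groth.Agent.Lib.Helper95.GammaFil
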