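import Groth.Agent.Lib.Helper95.UnivPoly5
import Groth.Agent.Lib.Helper26.LambdaGamma
import Mathlib.RingTheory.PowerSeries.Binomial

set_option autoImplicit false
open MvPolynomial Finset LambdaRing

namespace Groth.Agent.Lib.Helper95.Rep

open Groth.Agent.Lib.Helper95.UnivPoly

section IntCast

variable {A : Type*} [CommRing A] [LambdaOps A]

open PowerSeries in
lemma lamSeries_intCast (h1 : ∀ k : ℕ, 2 ≤ k → LambdaOps.lam k (1 : A) = 0) (a : ℤ) :
    lamSeries ((a : ℤ) : A) = PowerSeries.binomialSeries A a := by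
  have hone : lamSeries (1 : A) = PowerSeries.binomialSeries A (1 : ℤ) := by
    have := PowerSeries.binomialSeries_nat (R := ℤ) (A := A) 1
    rw [Nat.cast_one, pow_one] at this
    rw [this]
    ext n
    rw [Groth.Agent.Lib.Helper26.LambdaAdams.coeff_lamSeries]
    rcases n with _ | _ | n
    · simp [LambdaOps.lam_zero]
    · simp [LambdaOps.lam_one]
    · rw [h1 (n + 2) (by omega)]
      simp [PowerSeries.coeff_one, PowerSeries.coeff_X]
  induction a using Int.induction_on with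
  | zero =>
    rw [Int.cast_zero, Groth.Agent.Lib.Helper26.LambdaGamma.lamSeries_zero,
      PowerSeries.binomialSeries_zero]
  | succ a ih =>
    rw [Int.cast_add, Int.cast_one, Groth.Agent.Lib.Helper26.LambdaGamma.lamSeries_add,
      PowerSeries.binomialSeries_add, ← ih, hone]
  | pred a ih =>
    have h2 : lamSeries (((-(a : ℤ) - 1 : ℤ) : A)) * lamSeries (1 : A) = lamSeries ((-(a : ℤ) : ℤ) : A) := by
      rw [← Groth.Agent.Lib.Helper26.LambdaGamma.lamSeries_add]
      congr 1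
      push_cast
      ring
    have h3 : PowerSeries.binomialSeries A (-(a : ℤ) - 1) * PowerSeries.binomialSeries A (1 : ℤ) =
        PowerSeries.binomialSeries A (-(a : ℤ)) := by
      rw [← PowerSeries.binomialSeries_add]
      congr 1
      ring
    have hunit : IsUnit (lamSeries (1 : A)) := by
      rw [PowerSeries.isUnit_iff_constantCoeff,
        Groth.Agent.Lib.Helper26.LambdaAdams.constantCoeff_lamSeries]
      exact Units.isUnit 1
    apply hunit.mul_left_injective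
    show lamSeries _ * lamSeries (1 : A) = _ * lamSeries (1 : A)
    rw [h2, ih, hone, h3]

lemma lam_intCast (h1 : ∀ k : ℕ, 2 ≤ k → LambdaOps.lam k (1 : A) = 0) (a : ℤ) (k : ℕ) :
    LambdaOps.lam k ((a : ℤ) : A) = ((Ring.choose a k : ℤ) : A) := by
  rw [← Groth.Agent.Lib.Helper26.LambdaAdams.coeff_lamSeries, lamSeries_intCast h1,
    PowerSeries.binomialSeries_coeff, zsmul_one]

end IntCast

section Good

universe w

variable {ι : Type}

noncomputable def evL {A : Type w} [CommRing A] [LambdaOps A] (x : ι → A) :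
    MvPolynomial (ι × ℕ) ℤ →ₐ[ℤ] A :=
  aeval (fun ip : ι × ℕ => LambdaOps.lam (ip.2 + 1) (x ip.1))

def Good (F : MvPolynomial (ι × ℕ) ℤ) (k : ℕ) (G : MvPolynomial (ι × ℕ) ℤ) : Prop :=
  ∀ (A : Type w) [CommRing A] [LambdaOps A], IsSpecial A → ∀ x : ι → A,
    LambdaOps.lam k (evL x F) = evL x G

lemma good_C (a : ℤ) (k : ℕ) : Good.{w} (C a : MvPolynomial (ι × ℕ) ℤ) k (C (Ring.choose a k)) := by
  intro A _ _ hA x
  have e1 : ∀ b : ℤ, evL x (C b) = ((b : ℤ) : A) := fun b => by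
    rw [evL, aeval_C]; rfl
  rw [e1, e1, lam_intCast hA.lam_one_eq_zero]

lemma good_add {F F' : MvPolynomial (ι × ℕ) ℤ} {G G' : ℕ → MvPolynomial (ι × ℕ) ℤ}
    (hF : ∀ i, Good.{w} F i (G i)) (hF' : ∀ i, Good.{w} F' i (G' i)) (k : ℕ) :
    Good.{w} (F + F') k (∑ i ∈ range (k + 1), G i * G' (k - i)) := by
  intro A _ _ hA x
  rw [map_add, LambdaOps.lam_add, map_sum]
  refine Finset.sum_congr rfl fun i _ => ?_
  rw [map_mul, hF i A hA x, hF' (k - i) A hA x]

lemma good_mul {F F' : MvPolynomial (ι × ℕ) ℤ} {G G' : ℕ → MvPolynomial (ι × ℕ) ℤ}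
    (hF : ∀ i, Good.{w} F i (G i)) (hF' : ∀ i, Good.{w} F' i (G' i)) (k : ℕ)
    (P : MvPolynomial (Fin k ⊕ Fin k) ℤ) (hP : IsMulPoly k P) :
    Good.{w} (F * F') k
      (aeval (Sum.elim (fun p : Fin k => G ((p : ℕ) + 1)) (fun p : Fin k => G' ((p : ℕ) + 1))) P) := by
  intro A _ _ hA x
  rw [map_mul, hA.lam_mul k P hP]
  have : evL x (aeval (Sum.elim (fun p : Fin k => G ((p : ℕ) + 1))
      (fun p : Fin k => G' ((p : ℕ) + 1))) P) =
      ((evL x).comp (aeval (Sum.elim (fun p : Fin k => G ((p : ℕ) + 1))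
      (fun p : Fin k => G' ((p : ℕ) + 1))))) P := rfl
  rw [this, comp_aeval]
  congr 2
  ext1 q
  rcases q with p | p
  · simp only [Sum.elim_inl]; exact hF _ A hA x
  · simp only [Sum.elim_inr]; exact hF' _ A hA x

lemma good_X (i : ι) (p k : ℕ) (Q : MvPolynomial (Fin ((p + 1) * k)) ℤ)
    (hQ : IsCompPoly (p + 1) k Q) :
    Good.{w} (X (i, p) : MvPolynomial (ι × ℕ) ℤ) k
      (rename (fun q : Fin ((p + 1) * k) => (i, (q : ℕ))) Q) := by
  intro A _ _ hA x
  rw [evL, aeval_X, aeval_rename, hA.lam_lam (p + 1) k Q hQ]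
  rfl

end Good

section Exists

universe v

variable {ι : Type}

theorem exists_good (F : MvPolynomial (ι × ℕ) ℤ) :
    ∃ G : ℕ → MvPolynomial (ι × ℕ) ℤ, ∀ k, Good.{v} F k (G k) ∧ Good.{0} F k (G k) := by
  choose Pf hPf using exists_isMulPoly
  choose Qf hQf using exists_isCompPoly
  induction F using MvPolynomial.induction_on with
  | C a => exact ⟨fun k => C (Ring.choose a k), fun k => ⟨good_C a k, good_C a k⟩⟩
  | add F F' hF hF' =>
    obtain ⟨G, hG⟩ := hF
    obtain ⟨G', hG'⟩ := hF'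
    exact ⟨fun k => ∑ i ∈ range (k + 1), G i * G' (k - i), fun k =>
      ⟨good_add (fun i => (hG i).1) (fun i => (hG' i).1) k,
        good_add (fun i => (hG i).2) (fun i => (hG' i).2) k⟩⟩
  | mul_X F n hF =>
    obtain ⟨G, hG⟩ := hF
    refine ⟨fun k => aeval (Sum.elim (fun p : Fin k => G ((p : ℕ) + 1))
      (fun p : Fin k => rename (fun q : Fin ((n.2 + 1) * ((p : ℕ) + 1)) => (n.1, (q : ℕ)))
        (Qf (n.2 + 1) ((p : ℕ) + 1)))) (Pf k), fun k => ⟨?_, ?_⟩⟩
    · have := good_mul.{v} (F := F) (F' := X n) (G := G)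
        (G' := fun j => rename (fun q : Fin ((n.2 + 1) * j) => (n.1, (q : ℕ))) (Qf (n.2 + 1) j))
        (fun i => (hG i).1) (fun j => good_X n.1 n.2 j _ (hQf _ _)) k (Pf k) (hPf k)
      exact this
    · have := good_mul.{0} (F := F) (F' := X n) (G := G)
        (G' := fun j => rename (fun q : Fin ((n.2 + 1) * j) => (n.1, (q : ℕ))) (Qf (n.2 + 1) j))
        (fun i => (hG i).2) (fun j => good_X n.1 n.2 j _ (hQf _ _)) k (Pf k) (hPf k)
      exact this

end Exists

section GammaConv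

variable {ι : Type}

lemma gamma_succ {A : Type*} [CommRing A] [LambdaOps A] (k : ℕ) (x : A) :
    gamma (k + 1) x = ∑ j ∈ range (k + 1), (k.choose j : A) * LambdaOps.lam (j + 1) x := by
  unfold gamma
  rw [if_neg (Nat.succ_ne_zero k), Finset.sum_range_succ']
  simp

noncomputable def lamOfGam (i : ι) : ℕ → MvPolynomial (ι × ℕ) ℤ
  | n => X (i, n) - ∑ j : Fin n, (n.choose j : MvPolynomial (ι × ℕ) ℤ) * lamOfGam i j

noncomputable def evG {A : Type*} [CommRing A] [LambdaOps A] (x : ι → A) :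
    MvPolynomial (ι × ℕ) ℤ →ₐ[ℤ] A :=
  aeval (fun ip : ι × ℕ => gamma (ip.2 + 1) (x ip.1))

@[simp] lemma evG_X {A : Type*} [CommRing A] [LambdaOps A] (x : ι → A) (ip : ι × ℕ) :
    evG x (X ip) = gamma (ip.2 + 1) (x ip.1) := by
  rw [evG, aeval_X]

lemma evG_lamOfGam {A : Type*} [CommRing A] [LambdaOps A] (x : ι → A) (i : ι) (n : ℕ) :
    evG x (lamOfGam i n) = LambdaOps.lam (n + 1) (x i) := by
  induction n using Nat.strong_induction_on with
  | _ n ih =>
    rw [lamOfGam, map_sub, map_sum]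
    have h1 : evG x (X (i, n)) = gamma (n + 1) (x i) := by rw [evG, aeval_X]
    rw [h1, gamma_succ, Finset.sum_range_succ, Nat.choose_self, Nat.cast_one, one_mul,
      Fin.sum_univ_eq_sum_range (fun j => evG x ((n.choose j : MvPolynomial (ι × ℕ) ℤ) *
        lamOfGam i j)) n]
    have h2 : ∀ j ∈ range n, evG x ((n.choose j : MvPolynomial (ι × ℕ) ℤ) * lamOfGam i j) =
        (n.choose j : A) * LambdaOps.lam (j + 1) (x i) := by
      intro j hj
      rw [map_mul, map_natCast, ih j (Finset.mem_range.mp hj)]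
    rw [Finset.sum_congr rfl h2]
    ring

noncomputable def toGam : MvPolynomial (ι × ℕ) ℤ →ₐ[ℤ] MvPolynomial (ι × ℕ) ℤ :=
  aeval (fun ip : ι × ℕ => lamOfGam ip.1 ip.2)

noncomputable def toLam : MvPolynomial (ι × ℕ) ℤ →ₐ[ℤ] MvPolynomial (ι × ℕ) ℤ :=
  aeval (fun ip : ι × ℕ => ∑ j ∈ range (ip.2 + 1),
    (ip.2.choose j : MvPolynomial (ι × ℕ) ℤ) * X (ip.1, j))

lemma evG_toGam {A : Type*} [CommRing A] [LambdaOps A] (x : ι → A) (F : MvPolynomial (ι × ℕ) ℤ) :
    evG x (toGam F) = evL x F := by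
  have : (evG x).comp toGam = evL x := by
    apply MvPolynomial.algHom_ext
    intro ip
    rw [AlgHom.comp_apply, toGam, aeval_X, evG_lamOfGam, evL, aeval_X]
  exact congrArg (fun φ => φ F) this

lemma evL_toLam {A : Type*} [CommRing A] [LambdaOps A] (x : ι → A) (F : MvPolynomial (ι × ℕ) ℤ) :
    evL x (toLam F) = evG x F := by
  have : (evL x).comp toLam = evG x := by
    apply MvPolynomial.algHom_ext
    intro ip
    rw [AlgHom.comp_apply, toLam, aeval_X, evG, aeval_X, gamma_succ, map_sum]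
    refine Finset.sum_congr rfl fun j _ => ?_
    rw [map_mul, map_natCast, evL, aeval_X]
  exact congrArg (fun φ => φ F) this

end GammaConv

section GoodG

universe w v

variable {ι : Type}

def GoodG (F : MvPolynomial (ι × ℕ) ℤ) (k : ℕ) (G : MvPolynomial (ι × ℕ) ℤ) : Prop :=
  ∀ (A : Type w) [CommRing A] [LambdaOps A], IsSpecial A → ∀ x : ι → A,
    gamma k (evG x F) = evG x G

lemma goodG_of_good {F : MvPolynomial (ι × ℕ) ℤ} {G : ℕ → MvPolynomial (ι × ℕ) ℤ}
    (hG : ∀ k, Good.{w} (toLam F) k (G k)) (k : ℕ) :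
    GoodG.{w} F k (if k = 0 then 1 else
      toGam (∑ j ∈ range k, ((k - 1).choose j : MvPolynomial (ι × ℕ) ℤ) * G (j + 1))) := by
  intro A _ _ hA x
  rcases k with _ | k
  · rw [if_pos rfl, map_one]
    unfold gamma
    rw [if_pos rfl]
  · rw [if_neg (Nat.succ_ne_zero k), evG_toGam, gamma_succ, map_sum, Nat.add_sub_cancel]
    refine Finset.sum_congr rfl fun j _ => ?_
    rw [map_mul, map_natCast, ← hG (j + 1) A hA x, evL_toLam]

theorem exists_goodG (F : MvPolynomial (ι × ℕ) ℤ) :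
    ∃ G : ℕ → MvPolynomial (ι × ℕ) ℤ, ∀ k, GoodG.{v} F k (G k) ∧ GoodG.{0} F k (G k) := by
  obtain ⟨G, hG⟩ := exists_good.{v} (toLam F)
  exact ⟨_, fun k => ⟨goodG_of_good (fun i => (hG i).1) k, goodG_of_good (fun i => (hG i).2) k⟩⟩

end GoodG

end Groth.Agent.Lib.Helper95.Rep
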