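import Groth.Agent.Lib.Helper95.Bridge3
import Groth.Agent.Lib.Helper95.GammaFil
import Groth.Agent.Lib.Helper95.GamFil
import Groth.Agent.Lib.Helper95.Rep

set_option autoImplicit false
open MvPolynomial LambdaRing

namespace Groth.Agent.Lib.Helper95.Bridge

open Groth.Agent.Lib.Helper48

universe u v

section Pullback

variable {A : Type u} {B : Type v} [CommRing A] [LambdaOps A] [CommRing B] [LambdaOps B]

theorem isSpecial_of_injective (f : A →+* B) (hinj : Function.Injective f)
    (hf : ∀ (n : ℕ) (a : A), f (LambdaOps.lam n a) = LambdaOps.lam n (f a)) (hB : IsSpecial B) :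
    IsSpecial A where
  lam_one_eq_zero := by
    intro n hn
    apply hinj
    rw [hf, map_one, hB.lam_one_eq_zero n hn, map_zero]
  lam_mul := by
    intro n Pn hPn x y
    apply hinj
    rw [hf, map_mul, hB.lam_mul n Pn hPn]
    have e2 : f (aeval (Sum.elim (fun k : Fin n => LambdaOps.lam ((k : ℕ) + 1) x)
        (fun k : Fin n => LambdaOps.lam ((k : ℕ) + 1) y)) Pn) =
        (f.toIntAlgHom.comp (aeval (Sum.elim (fun k : Fin n => LambdaOps.lam ((k : ℕ) + 1) x)
        (fun k : Fin n => LambdaOps.lam ((k : ℕ) + 1) y)))) Pn := rfl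
    rw [e2, comp_aeval]
    congr 2
    ext1 k
    rcases k with k | k
    · simp only [Sum.elim_inl]; exact (hf _ _).symm
    · simp only [Sum.elim_inr]; exact (hf _ _).symm
  lam_lam := by
    intro i j Q hQ x
    apply hinj
    rw [hf, hf, hB.lam_lam i j Q hQ]
    have e2 : f (aeval (fun k : Fin (i * j) => LambdaOps.lam ((k : ℕ) + 1) x) Q) =
        (f.toIntAlgHom.comp (aeval (fun k : Fin (i * j) => LambdaOps.lam ((k : ℕ) + 1) x))) Q := rfl
    rw [e2, comp_aeval]
    congr 2
    ext1 k
    exact (hf _ _).symm

end Pullback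

section IntSpecial

open Groth.Agent.Lib.Helper95.UnivRing Groth.Agent.Lib.Helper95.Rep

attribute [local instance] binomialLambdaOps in
theorem int_isBinomial : IsBinomial ℤ := fun _ _ => rfl

attribute [local instance] binomialLambdaOps in
theorem int_isSpecial : IsSpecial ℤ := by
  refine isSpecial_of_injective (Int.castRingHom (MvPolynomial Empty ℚ)) ?_ ?_
    (univ_isSpecial Empty)
  · exact RingHom.injective_int _
  · intro n a
    show ((Ring.choose a n : ℤ) : MvPolynomial Empty ℚ) = _
    rw [eq_intCast, lam_intCast (univ_isSpecial Empty).lam_one_eq_zero]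

end IntSpecial

end Groth.Agent.Lib.Helper95.Bridge

namespace Groth.Agent.Lib.Helper95.Bridge

open Groth.Agent.Lib.Helper48 Groth.Agent.Lib.Helper95.Rep

universe u

section Aug

variable {K : Type u} [CommRing K] [LambdaOps K]

lemma map_aug_lamSeries_pos (P : PosStructure K) (hK : HasSplitting K P) (e : K)
    (he : e ∈ P.pos) :
    PowerSeries.map P.aug (lamSeries e) = PowerSeries.binomialSeries ℤ (P.aug e) := by
  ext n
  rw [PowerSeries.coeff_map, Groth.Agent.Lib.Helper26.LambdaAdams.coeff_lamSeries,
    aug_lam_eq_choose P hK e he, PowerSeries.binomialSeries_coeff, smul_eq_mul, mul_one]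
  have h2 : ((P.aug e).toNat : ℤ) = P.aug e := Int.toNat_of_nonneg (P.aug_pos e he).le
  conv_rhs => rw [← h2]
  rw [Ring.choose_natCast]

lemma map_aug_lamSeries (P : PosStructure K) (hK : HasSplitting K P) (a : K) :
    PowerSeries.map P.aug (lamSeries a) = PowerSeries.binomialSeries ℤ (P.aug a) := by
  obtain ⟨e, e', he, he', rfl⟩ := P.exists_sub a
  have h1 : lamSeries e = lamSeries (e - e') * lamSeries e' := by
    rw [← Groth.Agent.Lib.Helper26.LambdaGamma.lamSeries_add, sub_add_cancel]
  have h2 := congrArg (PowerSeries.map P.aug) h1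
  rw [map_mul, map_aug_lamSeries_pos P hK e he, map_aug_lamSeries_pos P hK e' he'] at h2
  have h3 : PowerSeries.binomialSeries ℤ (P.aug e) =
      PowerSeries.binomialSeries ℤ (P.aug (e - e')) * PowerSeries.binomialSeries ℤ (P.aug e') := by
    rw [← PowerSeries.binomialSeries_add, map_sub, sub_add_cancel]
  have hunit : IsUnit (PowerSeries.binomialSeries ℤ (P.aug e')) := by
    rw [PowerSeries.isUnit_iff_constantCoeff, ← PowerSeries.coeff_zero_eq_constantCoeff_apply,
      PowerSeries.binomialSeries_coeff]
    simp
  apply hunit.mul_left_injective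
  show _ * _ = _ * _
  rw [← h2, ← h3]

noncomputable def augAlg (P : PosStructure K) : K →ₐ[ℤ] ℤ := P.aug.toIntAlgHom

lemma augAlg_coe (P : PosStructure K) : ((augAlg P : K →ₐ[ℤ] ℤ) : K →+* ℤ) = P.aug := rfl

attribute [local instance] binomialLambdaOps in
theorem isAugLambdaAlg (P : PosStructure K) (hK : HasSplitting K P) :
    IsAugLambdaAlg ℤ K (augAlg P) where
  isLambdaAlg := by
    intro n x
    rw [eq_intCast, eq_intCast]
    exact (lam_intCast (lam_one_eq_zero_of_pos P) x n).symm
  map_lam := by
    intro n a
    show P.aug (LambdaOps.lam n a) = Ring.choose (P.aug a) n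
    have h := congrArg (PowerSeries.coeff n) (map_aug_lamSeries P hK a)
    rw [PowerSeries.coeff_map, Groth.Agent.Lib.Helper26.LambdaAdams.coeff_lamSeries,
      PowerSeries.binomialSeries_coeff, smul_eq_mul, mul_one] at h
    exact h

end Aug

section Fil

open Groth.Agent.Lib.Helper95.GammaFil Groth.Agent.Lib.Helper95.GamFil

variable {K : Type u} [CommRing K] [LambdaOps K]

theorem mem_gammaFiltration_iff (P : PosStructure K) (n : ℕ) (x : K) :
    x ∈ gammaFiltration P n ↔ x ∈ gammaFil ((augAlg P : K →ₐ[ℤ] ℤ) : K →+* ℤ) n := by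
  rw [augAlg_coe]
  constructor
  · intro hx
    by_cases hn : n = 0
    · subst hn
      rw [(gammaFil_isFilt P.aug).zero]; trivial
    · unfold gammaFiltration at hx
      rw [if_neg hn] at hx
      induction hx using AddSubgroup.closure_induction with
      | mem y hy => exact Ideal.subset_span hy
      | zero => exact zero_mem _
      | add y z _ _ hy hz => exact add_mem hy hz
      | neg y _ hy => exact neg_mem hy
  · intro hx
    unfold gammaFil at hx
    induction hx using Submodule.span_induction with
    | mem y hy =>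
      by_cases hn : n = 0
      · subst hn; rw [gammaFiltration_zero]; trivial
      · unfold gammaFiltration
        rw [if_neg hn]
        exact AddSubgroup.subset_closure hy
    | zero => exact zero_mem _
    | add y z _ _ hy hz => exact add_mem hy hz
    | smul c y _ hy => exact fil_smul_mem P c hy

end Fil

end Groth.Agent.Lib.Helper95.Bridge
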