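import Groth.Agent.Lib.Helper95.Bridge4
import Groth.Agent.S8703
import Mathlib.Algebra.MvPolynomial.Expand

set_option autoImplicit false
open MvPolynomial LambdaRing

namespace Groth.Agent.Lib.Helper95.Bridge

open Groth.Agent.Lib.Helper48 Groth.Agent.Lib.Helper95.UnivRing Groth.Agent.Lib.Helper95.GammaFil

universe u

section Univ

variable (σ : Type u)

lemma iota_expand (j : ℕ) (p : MvPolynomial σ ℤ) :
    iota σ (expand j p) = psi σ j (iota σ p) := by
  have h : (iota σ).comp (expand j) =
      ((psi σ j).restrictScalars ℤ).comp (iota σ) := by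
    apply MvPolynomial.algHom_ext
    intro i
    simp only [AlgHom.comp_apply, expand_X, map_pow, AlgHom.restrictScalars_apply]
    rw [iota, aeval_X, psi_one_add_X]
  exact congrArg (fun φ => φ p) h

lemma psi_isLambdaHom (j : ℕ) :
    IsLambdaHom ((psi σ j : MvPolynomial σ ℚ →ₐ[ℚ] MvPolynomial σ ℚ) :
      MvPolynomial σ ℚ →+* MvPolynomial σ ℚ) := by
  rw [Groth.Agent.S8703.result]
  intro k hk x
  rw [adamsOp_eq σ k hk, adamsOp_eq σ k hk]
  show psi σ j (psi σ k x) = psi σ k (psi σ j x)
  rw [psi_comp, psi_comp, mul_comm]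

lemma Lam_expand (i j : ℕ) (p : MvPolynomial σ ℤ) :
    Lam σ i (expand j p) = expand j (Lam σ i p) := by
  apply iota_injective σ
  rw [iota_Lam, iota_expand, iota_expand, iota_Lam]
  exact ((psi_isLambdaHom σ j) i (iota σ p)).symm

end Univ

section Main

variable {K : Type u} [CommRing K] [LambdaOps K]

lemma adams_aeval_lines (L : PosLambdaRing.{u}) (hL : HasSplitting L.carrier L.posStr) (j : ℕ)
    (p : MvPolynomial (LineT L) ℤ) :
    adams L.posStr j (aeval (lineVal L) p) = aeval (lineVal L) (expand j p) := by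
  have h : (adamsRingHom L.posStr hL j).toIntAlgHom.comp (aeval (lineVal L)) =
      (aeval (lineVal L)).comp (expand j) := by
    apply MvPolynomial.algHom_ext
    intro v
    simp only [AlgHom.comp_apply, expand_X, map_pow, aeval_X]
    exact adams_line L.posStr _ v.2 j
  exact congrArg (fun φ => φ p) h

theorem adams_lam (P : PosStructure K) (hK : HasSplitting K P) (j i : ℕ) (x : K) :
    adams P j (LambdaOps.lam i x) = LambdaOps.lam i (adams P j x) := by
  obtain ⟨L', f, hf, hL', h⟩ := exists_lineGen_list P hK [x]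
  obtain ⟨p, hp⟩ := h x (by simp)
  apply hf.injective
  have hlam : ∀ (k : ℕ) (r : MvPolynomial (LineT L') ℤ),
      LambdaOps.lam k (aeval (lineVal L') r) = aeval (lineVal L') (Lam _ k r) :=
    fun k r => lam_aeval (lineVal L') lineVal_hu k r
  rw [map_adams P L'.posStr f hf, hf.isLambdaHom, hf.isLambdaHom, map_adams P L'.posStr f hf, ← hp,
    hlam, adams_aeval_lines L' hL', adams_aeval_lines L' hL', hlam, Lam_expand]

theorem adams_gamma (P : PosStructure K) (hK : HasSplitting K P) (j i : ℕ) (x : K) :
    adams P j (gamma i x) = gamma i (adams P j x) :=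
  Groth.Agent.Lib.Helper95.GamFil.map_gamma_of_map_lam (adamsRingHom P hK j)
    (fun n a => adams_lam P hK j n a) i x

end Main

end Groth.Agent.Lib.Helper95.Bridge
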