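import Mathlib.RingTheory.Flat.FaithfullyFlat.Basic
import Mathlib.RingTheory.Flat.FaithfullyFlat.Algebra
import Mathlib.RingTheory.Flat.EquationalCriterion
import Mathlib.LinearAlgebra.TensorProduct.RightExactness
import Mathlib.RingTheory.TensorProduct.Maps
import Mathlib.Algebra.Exact.Basic

set_option autoImplicit false
universe u
open TensorProduct Module

namespace Groth.Agent.Lib.Helper95.CD0

theorem flat_quotient_of_faithfullyFlat (S T : Type u) [CommRing S] [CommRing T] [Algebra S T]
    [Module.FaithfullyFlat S T] :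
    Module.Flat S (T ⧸ LinearMap.range (Algebra.linearMap S T)) := by
  have hex : Function.Exact (Algebra.linearMap S T)
      (LinearMap.range (Algebra.linearMap S T)).mkQ := LinearMap.exact_map_mkQ_range _
  have hq1 : (LinearMap.range (Algebra.linearMap S T)).mkQ (1 : T) = 0 := by
    rw [Submodule.mkQ_apply, Submodule.Quotient.mk_eq_zero]
    exact ⟨1, by rw [Algebra.linearMap_apply, map_one]⟩
  let r : T ⊗[S] T →ₗ[T] T ⊗[S] (T ⧸ LinearMap.range (Algebra.linearMap S T)) :=
    (LinearMap.range (Algebra.linearMap S T)).mkQ.baseChange T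
  have hrcoe : ∀ t, r t = LinearMap.lTensor T (LinearMap.range (Algebra.linearMap S T)).mkQ t :=
    fun t => rfl
  have hr : Function.Surjective r := by
    intro z
    obtain ⟨t, ht⟩ := LinearMap.lTensor_surjective T
      (Submodule.mkQ_surjective (LinearMap.range (Algebra.linearMap S T))) z
    exact ⟨t, ht⟩
  let μ : T ⊗[S] T →ₗ[T] T := (Algebra.TensorProduct.lmul'' S).toLinearMap
  let inc : T →ₗ[T] T ⊗[S] T :=
    (Algebra.TensorProduct.includeLeft : T →ₐ[T] T ⊗[S] T).toLinearMap
  let p : T ⊗[S] T →ₗ[T] T ⊗[S] T := LinearMap.id - inc ∘ₗ μ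
  have hμ : ∀ a b : T, μ (a ⊗ₜ[S] b) = a * b := fun a b => rfl
  have hp : ∀ u : T ⊗[S] S, p (LinearMap.lTensor T (Algebra.linearMap S T) u) = 0 := by
    intro u
    induction u using TensorProduct.induction_on with
    | zero => simp
    | tmul a s =>
      simp only [p, inc, LinearMap.lTensor_tmul, LinearMap.sub_apply, LinearMap.id_apply,
        LinearMap.comp_apply, AlgHom.toLinearMap_apply, Algebra.linearMap_apply,
        Algebra.TensorProduct.includeLeft_apply, hμ]
      rw [Algebra.algebraMap_eq_smul_one, TensorProduct.tmul_smul, mul_smul_comm, mul_one,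
        TensorProduct.smul_tmul', sub_self]
    | add x y hx hy => rw [map_add, map_add, hx, hy, add_zero]
  have hker : LinearMap.ker r ≤ LinearMap.ker p := by
    intro t ht
    have hex2 := lTensor_exact T hex (Submodule.mkQ_surjective _)
    have ht' : LinearMap.lTensor T (LinearMap.range (Algebra.linearMap S T)).mkQ t = 0 := ht
    obtain ⟨u, rfl⟩ := (hex2 t).mp ht'
    rw [LinearMap.mem_ker]
    exact hp u
  let i : T ⊗[S] (T ⧸ LinearMap.range (Algebra.linearMap S T)) →ₗ[T] T ⊗[S] T :=
    (LinearMap.ker r).liftQ p hker ∘ₗ (r.quotKerEquivOfSurjective hr).symm.toLinearMap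
  have hir : ∀ t, i (r t) = p t := by
    intro t
    simp only [i, LinearMap.comp_apply, LinearEquiv.coe_coe]
    have : (r.quotKerEquivOfSurjective hr).symm (r t) = (LinearMap.ker r).mkQ t := by
      rw [LinearEquiv.symm_apply_eq]
      rfl
    rw [this]
    rfl
  have hri : r ∘ₗ i = LinearMap.id := by
    apply LinearMap.ext
    intro z
    obtain ⟨t, rfl⟩ := hr z
    rw [LinearMap.comp_apply, hir, LinearMap.id_apply]
    simp only [p, LinearMap.sub_apply, LinearMap.id_apply, LinearMap.comp_apply, map_sub]
    have : r (inc (μ t)) = 0 := by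
      rw [hrcoe]
      simp only [inc, AlgHom.toLinearMap_apply, Algebra.TensorProduct.includeLeft_apply,
        LinearMap.lTensor_tmul]
      rw [hq1, TensorProduct.tmul_zero]
    rw [this, sub_zero]
  haveI : Module.Flat T (T ⊗[S] (T ⧸ LinearMap.range (Algebra.linearMap S T))) :=
    Module.Flat.of_retract i r hri
  exact Module.Flat.of_flat_tensorProduct S _ T

theorem exists_retraction (R S T : Type u) [CommRing R] [IsNoetherianRing R] [CommRing S]
    [CommRing T] [Algebra R S] [Algebra R T] [Algebra S T] [IsScalarTower R S T]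
    [Module.Finite R T] [Module.Flat R S] [Module.FaithfullyFlat S T] :
    ∃ l : T →ₗ[R] S, l ∘ₗ (IsScalarTower.toAlgHom R S T).toLinearMap = LinearMap.id := by
  haveI := flat_quotient_of_faithfullyFlat S T
  haveI : Module.Flat R (T ⧸ LinearMap.range (Algebra.linearMap S T)) :=
    Module.Flat.trans R S _
  let qR : T →ₗ[R] (T ⧸ LinearMap.range (Algebra.linearMap S T)) :=
    (LinearMap.range (Algebra.linearMap S T)).mkQ.restrictScalars R
  have hq : Function.Surjective qR := Submodule.mkQ_surjective _
  haveI : Module.Finite R (T ⧸ LinearMap.range (Algebra.linearMap S T)) :=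
    Module.Finite.of_surjective qR hq
  haveI : Module.FinitePresentation R (T ⧸ LinearMap.range (Algebra.linearMap S T)) :=
    Module.finitePresentation_of_finite R _
  haveI : Module.Projective R (T ⧸ LinearMap.range (Algebra.linearMap S T)) :=
    Module.Flat.projective_of_finitePresentation
  obtain ⟨l, hl⟩ := Module.projective_lifting_property qR LinearMap.id hq
  have hex : Function.Exact (IsScalarTower.toAlgHom R S T).toLinearMap qR := by
    intro t
    have := LinearMap.exact_map_mkQ_range (Algebra.linearMap S T) t
    exact this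
  have hinj : Function.Injective (IsScalarTower.toAlgHom R S T).toLinearMap :=
    FaithfulSMul.algebraMap_injective S T
  have h01 := (Function.Exact.split_tfae hex hinj hq).out 0 1
  exact h01.mp ⟨l, hl⟩

end Groth.Agent.Lib.Helper95.CD0
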