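import Groth.Agent.Lib.Helper95.HG5

set_option autoImplicit false
universe u v
open TensorProduct Module

namespace Groth.Agent.Lib.Helper95.HG6

open Groth.Agent.Lib.Helper95.HG1 Groth.Agent.Lib.Helper95.HG2 Groth.Agent.Lib.Helper95.HG3
open Groth.Agent.Lib.Helper95.HG4 Groth.Agent.Lib.Helper95.HG5

variable (R : Type u) {A : Type v} [CommRing R] [CommRing A] [HopfAlgebra R A] (I : Ideal A)
  [I.IsHopfIdeal R]

attribute [local instance] HG5.algRC HG5.isScalarTower

theorem props [Module.Finite R A] [Module.Projective R A] [Module.Projective R (A ⧸ I)] :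
    Module.Finite (Cs R I) A ∧ Module.FaithfullyFlat (Cs R I) A := by
  haveI : Module.Finite R (A ⧸ I) :=
    Module.Finite.of_surjective (Ideal.Quotient.mkₐ R I).toLinearMap
      (Ideal.Quotient.mkₐ_surjective R I)
  obtain ⟨⟨hfin, hflat, -⟩, -⟩ :=
    HG3.main (ρ R I) (HG4.hco I) (HG4.hcounit I) (HG4.hfree I) (HG4.hint I)
  haveI : Module.Finite (Cs R I) A := hfin
  haveI : Module.Flat (Cs R I) A := hflat
  haveI : Algebra.IsIntegral (Cs R I) A := HG4.hint I
  haveI : FaithfulSMul (Cs R I) A :=
    (faithfulSMul_iff_algebraMap_injective _ _).mpr Subtype.val_injective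
  have hsurj : Function.Surjective (PrimeSpectrum.comap (algebraMap (Cs R I) A)) :=
    Algebra.IsIntegral.comap_surjective _ _
  exact ⟨hfin, Module.FaithfullyFlat.of_comap_surjective hsurj⟩

noncomputable def eL : A ⊗[R] (A ⧸ I) →ₐ[R] A ⧸ I :=
  Algebra.TensorProduct.productMap
    ((Algebra.ofId R (A ⧸ I)).comp (Bialgebra.counitAlgHom R A)) (AlgHom.id R (A ⧸ I))

omit [I.IsHopfIdeal R] in
theorem eL_ρ (a : A) : eL R I (ρ R I a) = Ideal.Quotient.mk I a := by
  have h : ∀ w : A ⊗[R] A, eL R I
      (Algebra.TensorProduct.map (AlgHom.id R A) (pq (R := R) I) w) =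
      Ideal.Quotient.mk I (TensorProduct.lid R A ((Coalgebra.counit (R := R) (A := A)).rTensor A w)) := by
    intro w
    induction w using TensorProduct.induction_on with
    | zero => simp
    | tmul x y =>
      simp only [eL, Algebra.TensorProduct.map_tmul, AlgHom.id_apply,
        Algebra.TensorProduct.productMap_apply_tmul, AlgHom.comp_apply, LinearMap.rTensor_tmul,
        TensorProduct.lid_tmul]
      rw [Algebra.smul_def, map_mul]
      rfl
    | add a b ha hb => simp only [map_add, ha, hb]
  rw [ρ_apply, h, Coalgebra.rTensor_counit_comul]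
  simp

def K : Ideal A := Ideal.span {c : A | c ∈ Cs R I ∧ Coalgebra.counit (R := R) c = 0}

omit [I.IsHopfIdeal R] in
theorem K_le : K R I ≤ I := by
  unfold K
  rw [Ideal.span_le]
  rintro c ⟨hc, hε⟩
  have h1 := congrArg (eL R I) ((mem_Cs R I c).mp hc)
  rw [eL_ρ] at h1
  have h2 : eL R I (c ⊗ₜ[R] (1 : A ⧸ I)) = 0 := by
    simp only [eL, Algebra.TensorProduct.productMap_apply_tmul, AlgHom.comp_apply, map_one,
      mul_one]
    change Algebra.ofId R (A ⧸ I) (Coalgebra.counit (R := R) c) = 0
    rw [hε, map_zero]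
  rw [h2] at h1
  exact Ideal.Quotient.eq_zero_iff_mem.mp h1.symm

omit [I.IsHopfIdeal R] in
theorem sub_mem_K (c : Cs R I) :
    (c : A) - algebraMap R A (Coalgebra.counit (R := R) (c : A)) ∈ K R I := by
  apply Ideal.subset_span
  refine ⟨Subring.sub_mem _ c.2 (algebraMap_mem R I _), ?_⟩
  rw [map_sub]
  have : Coalgebra.counit (R := R) (algebraMap R A (Coalgebra.counit (R := R) (c : A))) =
      Coalgebra.counit (R := R) (c : A) := by
    rw [Bialgebra.counit_algebraMap]
  rw [this, sub_self]

noncomputable def mε : A ⊗[Cs R I] A →ₗ[Cs R I] A ⧸ K R I :=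
  TensorProduct.lift
    (LinearMap.mk₂ (Cs R I)
      (fun x y => Ideal.Quotient.mk (K R I) (algebraMap R A (Coalgebra.counit (R := R) x) * y))
      (fun x x' y => by
        rw [map_add, map_add, add_mul, map_add])
      (fun c x y => by
        change Ideal.Quotient.mk (K R I)
            (algebraMap R A (Coalgebra.counit (R := R) ((c : A) * x)) * y) =
          Ideal.Quotient.mk (K R I) ((c : A) * (algebraMap R A (Coalgebra.counit (R := R) x) * y))
        rw [Bialgebra.counit_mul, (algebraMap R A).map_mul, Ideal.Quotient.eq]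
        have h := (K R I).mul_mem_right (algebraMap R A (Coalgebra.counit (R := R) x) * y)
          (sub_mem_K R I c)
        have e : algebraMap R A (Coalgebra.counit (R := R) (c : A)) *
            algebraMap R A (Coalgebra.counit (R := R) x) * y -
            (c : A) * (algebraMap R A (Coalgebra.counit (R := R) x) * y) =
            -(((c : A) - algebraMap R A (Coalgebra.counit (R := R) (c : A))) *
              (algebraMap R A (Coalgebra.counit (R := R) x) * y)) := by ring
        rw [e]
        exact (K R I).neg_mem h)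
      (fun x y y' => by
        rw [mul_add, map_add])
      (fun c x y => by
        change Ideal.Quotient.mk (K R I)
            (algebraMap R A (Coalgebra.counit (R := R) x) * ((c : A) * y)) =
          Ideal.Quotient.mk (K R I) ((c : A) * (algebraMap R A (Coalgebra.counit (R := R) x) * y))
        congr 1
        ring))

omit [I.IsHopfIdeal R] in
theorem mε_tmul (x y : A) : mε R I (x ⊗ₜ y) =
    Ideal.Quotient.mk (K R I) (algebraMap R A (Coalgebra.counit (R := R) x) * y) := rfl

noncomputable def can : A ⊗[R] A →ₗ[R] A ⊗[Cs R I] A :=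
  TensorProduct.lift
    (LinearMap.mk₂ R (fun x y => x ⊗ₜ[Cs R I] y)
      (fun x x' y => TensorProduct.add_tmul x x' y)
      (fun r x y => rfl)
      (fun x y y' => TensorProduct.tmul_add x y y')
      (fun r x y => by
        have h1 : r • y = (algebraMap R (Cs R I) r) • y := by
          rw [algebraMap_smul]
        rw [h1, TensorProduct.tmul_smul, algebraMap_smul]))

omit [I.IsHopfIdeal R] in
theorem can_tmul (x y : A) : can R I (x ⊗ₜ y) = x ⊗ₜ[Cs R I] y := rfl

omit [I.IsHopfIdeal R] in
theorem Ψ_can (w : A ⊗[R] A) : Ψ R I (can R I w) =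
    Algebra.TensorProduct.map (AlgHom.id R A) (pq (R := R) I) (sh R A w) := by
  induction w using TensorProduct.induction_on with
  | zero => simp
  | tmul x y =>
    rw [can_tmul, Ψ_tmul, sh_tmul, map_mul]
    rw [show x • ρ R I y = (x ⊗ₜ[R] (1 : A ⧸ I)) * ρ R I y from Algebra.smul_def x (ρ R I y),
      ρ_apply]
    congr 1
  | add a b ha hb => simp only [map_add, ha, hb]

omit [I.IsHopfIdeal R] in
theorem mε_can (w : A ⊗[R] A) : mε R I (can R I w) =
    Ideal.Quotient.mk (K R I)
      (TensorProduct.lid R A ((Coalgebra.counit (R := R) (A := A)).rTensor A w)) := by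
  induction w using TensorProduct.induction_on with
  | zero => simp
  | tmul x y =>
    rw [can_tmul, mε_tmul, LinearMap.rTensor_tmul, TensorProduct.lid_tmul, Algebra.smul_def]
  | add a b ha hb => simp only [map_add, ha, hb]

theorem counit_sh' (b : A) :
    TensorProduct.lid R A ((Coalgebra.counit (R := R) (A := A)).rTensor A (sh' R A (1 ⊗ₜ b))) =
      b := by
  rw [sh'_one_tmul]
  have h : ∀ w : A ⊗[R] A, (Coalgebra.counit (R := R) (A := A)).rTensor A
      (Algebra.TensorProduct.map (HopfAlgebra.antipodeAlgHom R A) (AlgHom.id R A) w) =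
      (Coalgebra.counit (R := R) (A := A)).rTensor A w := by
    intro w
    induction w using TensorProduct.induction_on with
    | zero => simp
    | tmul x y =>
      rw [Algebra.TensorProduct.map_tmul, LinearMap.rTensor_tmul, LinearMap.rTensor_tmul]
      congr 1
      exact HopfAlgebra.counit_antipode x
    | add a b ha hb => simp only [map_add, ha, hb]
  rw [h, Coalgebra.rTensor_counit_comul]
  simp

theorem I_le_K [Module.Finite R A] [Module.Projective R A] [Module.Projective R (A ⧸ I)] :
    I ≤ K R I := by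
  intro b hb
  have h1 : Ψ R I (can R I (sh' R A (1 ⊗ₜ b))) = 0 := by
    rw [Ψ_can, sh_sh'_one_tmul, Algebra.TensorProduct.map_tmul]
    have : pq (R := R) I b = 0 := Ideal.Quotient.eq_zero_iff_mem.mpr hb
    rw [this, TensorProduct.tmul_zero]
  have h2 : can R I (sh' R A (1 ⊗ₜ b)) = 0 :=
    (Ψ_bijective R I).1 (h1.trans (map_zero _).symm)
  have h3 := mε_can R I (sh' R A (1 ⊗ₜ b))
  rw [h2, map_zero, counit_sh'] at h3
  exact Ideal.Quotient.eq_zero_iff_mem.mp h3.symm

theorem I_eq_K [Module.Finite R A] [Module.Projective R A] [Module.Projective R (A ⧸ I)] :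
    I = K R I := le_antisymm (I_le_K R I) (K_le R I)

end Groth.Agent.Lib.Helper95.HG6
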