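import Groth.Prelude.Def_CartDual2
import Mathlib.RingTheory.RingHom.FaithfullyFlat
import Groth.Agent.Lib.Helper95.HG6
import Groth.Agent.Lib.Helper95.CD0

set_option autoImplicit false
universe u
open TensorProduct CartDual

namespace Groth.Agent.Lib.Helper95.CD1

section General

variable {R : Type u} [CommRing R] {B B'' : Type u} [CommRing B] [HopfAlgebra R B]
  [CommRing B''] [HopfAlgebra R B'']

theorem bialgHom_antipode (π : B →ₐc[R] B'') (a : B) :
    π (HopfAlgebra.antipode R a) = HopfAlgebra.antipode R (π a) := by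
  let F : WithConv (B →ₐ[R] B'') := WithConv.toConv (π : B →ₐ[R] B'')
  let F' : WithConv (B →ₐ[R] B'') :=
    WithConv.toConv ((HopfAlgebra.antipodeAlgHom R B'').comp (π : B →ₐ[R] B''))
  have h1 : F' * F = 1 := by
    have h2 := AlgHom.convMul_comp_bialgHom_distrib
      (WithConv.toConv (HopfAlgebra.antipodeAlgHom R B'')) (WithConv.toConv (AlgHom.id R B'')) π
    rw [AlgHom.antipode_id_cancel] at h2
    apply WithConv.ofConv_injective
    have h3 : (F' * F).ofConv = ((1 : WithConv (B'' →ₐ[R] B'')).ofConv).comp (π : B →ₐ[R] B'') := by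
      rw [h2]
      rfl
    rw [h3]
    apply AlgHom.ext
    intro x
    show algebraMap R B'' (CoalgebraStruct.counit (R := R) (π x)) =
      algebraMap R B'' (CoalgebraStruct.counit (R := R) x)
    rw [CoalgHomClass.counit_comp_apply]
  have h4 : F' = F⁻¹ := eq_inv_of_mul_eq_one_left h1
  have h5 := congrArg (fun G : WithConv (B →ₐ[R] B'') => G.ofConv a) h4
  exact h5.symm

theorem isHopfIdeal_ker (π : B →ₐc[R] B'') (hπ : Function.Surjective π) :
    (RingHom.ker (π : B →ₐ[R] B'')).IsHopfIdeal R := by
  let J : Submodule R B := (RingHom.ker (π : B →ₐ[R] B'')).restrictScalars R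
  have hJ : ∀ x, x ∈ J ↔ π x = 0 := fun x => Iff.rfl
  let π' : (B ⧸ J) →ₗ[R] B'' := J.liftQ (π : B →ₗ[R] B'') (fun x hx => (hJ x).mp hx)
  have hπ' : Function.Injective π' := by
    rw [← LinearMap.ker_eq_bot, Submodule.ker_liftQ_eq_bot']
    ext x
    exact (hJ x).symm
  have hπ's : Function.Surjective π' := by
    intro y
    obtain ⟨x, rfl⟩ := hπ y
    exact ⟨J.mkQ x, rfl⟩
  let e : (B ⧸ J) ≃ₗ[R] B'' := LinearEquiv.ofBijective π' ⟨hπ', hπ's⟩
  have hinj : Function.Injective (TensorProduct.map π' π') :=
    (TensorProduct.congr e e).injective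
  have hcoideal : J.IsCoideal := by
    constructor
    · intro x hx
      rw [← CoalgHomClass.counit_comp_apply π x, (hJ x).mp hx, map_zero]
    · intro x hx
      apply hinj
      rw [map_zero, ← LinearMap.comp_apply, ← TensorProduct.map_comp]
      have h1 : π' ∘ₗ J.mkQ = (π : B →ₗ[R] B'') := J.liftQ_mkQ _ _
      rw [h1]
      have h2 := CoalgHomClass.map_comp_comul_apply π x
      rw [(hJ x).mp hx, map_zero] at h2
      exact h2
  exact { toIsCoideal := hcoideal
          antipode_mem := by
            intro x hx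
            have : π x = 0 := hx
            show π (HopfAlgebra.antipode R x) = 0
            rw [bialgHom_antipode, this, map_zero] }

end General

section Dual

variable (R : Type u) [CommRing R]
  {A A'' : Type u} [CommRing A] [HopfAlgebra R A] [Coalgebra.IsCocomm R A] [Module.Finite R A]
  [Module.Projective R A] [CommRing A''] [HopfAlgebra R A''] [Coalgebra.IsCocomm R A'']
  [Module.Finite R A''] [Module.Projective R A'']

theorem transpose_surjective [IsNoetherianRing R] (f : A'' →ₐc[R] A)
    (hf : (f : A'' →ₐ[R] A).toRingHom.FaithfullyFlat) :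
    Function.Surjective (transpose R f) := by
  letI : Algebra A'' A := (f : A'' →ₐ[R] A).toRingHom.toAlgebra
  haveI : IsScalarTower R A'' A := IsScalarTower.of_algebraMap_eq (fun r => by
    change algebraMap R A r = f (algebraMap R A'' r)
    exact ((f : A'' →ₐ[R] A).commutes r).symm)
  haveI : Module.FaithfullyFlat A'' A := hf
  obtain ⟨l, hl⟩ := CD0.exists_retraction R A'' A
  intro y
  refine ⟨WithConv.toConv (y.ofConv ∘ₗ l), ?_⟩
  apply WithConv.ext
  apply LinearMap.ext
  intro c
  change y.ofConv (l (f c)) = y.ofConv c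
  have := LinearMap.congr_fun hl c
  rw [LinearMap.comp_apply, LinearMap.id_apply] at this
  congr 1

noncomputable def evm : D R A ⊗[R] D R A'' ≃ₗ[R] Module.Dual R (A ⊗[R] A'') :=
  TensorProduct.congr (toDual R A) (toDual R A'') ≪≫ₗ dualTensorEquiv R A A''

@[simp] theorem evm_tmul (x : D R A) (y : D R A'') (a : A) (c : A'') :
    evm R (x ⊗ₜ y) (a ⊗ₜ c) = x a * y c := by
  simp [evm, coe_apply]

theorem evm_map (f : A'' →ₐc[R] A) (y : D R A ⊗[R] D R A) (a : A) (c : A'') :
    evm R (TensorProduct.map LinearMap.id (transposeLin R (f : A'' →ₗ[R] A)) y) (a ⊗ₜ c) =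
      ev₂ R A y (a ⊗ₜ f c) := by
  induction y using TensorProduct.induction_on with
  | zero => simp
  | tmul x z => simp
  | add y y' hy hy' => simp [map_add, hy, hy']

end Dual

section Main

open Groth.Agent.Lib.Helper95.HG4 Groth.Agent.Lib.Helper95.HG5 Groth.Agent.Lib.Helper95.HG6

variable (R : Type u) [CommRing R]
  {A' A A'' : Type u} [CommRing A'] [HopfAlgebra R A'] [Coalgebra.IsCocomm R A']
  [Module.Finite R A'] [Module.Projective R A']
  [CommRing A] [HopfAlgebra R A] [Coalgebra.IsCocomm R A] [Module.Finite R A]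
  [Module.Projective R A] [CommRing A''] [HopfAlgebra R A''] [Coalgebra.IsCocomm R A'']
  [Module.Finite R A''] [Module.Projective R A'']
  (f : A'' →ₐc[R] A) (g : A →ₐc[R] A')

noncomputable abbrev Iπ : Ideal (D R A) := RingHom.ker (transpose R f : D R A →ₐ[R] D R A'')

theorem mem_Cs_iff (x : D R A) :
    x ∈ Cs R (Iπ R f) ↔ ∀ (a : A) (c : A''), x (a * f c) = x a * Coalgebra.counit (R := R) c := by
  let πb : (D R A ⧸ Iπ R f) →ₐ[R] D R A'' :=
    Ideal.kerLiftAlg (transpose R f : D R A →ₐ[R] D R A'')
  have hπb : Function.Injective πb :=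
    Ideal.kerLiftAlg_injective (transpose R f : D R A →ₐ[R] D R A'')
  let T : D R A ⊗[R] (D R A ⧸ Iπ R f) →ₗ[R] D R A ⊗[R] D R A'' :=
    LinearMap.lTensor (D R A) πb.toLinearMap
  have hT : Function.Injective T :=
    Module.Flat.lTensor_preserves_injective_linearMap πb.toLinearMap hπb
  have hTρ : T (ρ R (Iπ R f) x) =
      TensorProduct.map LinearMap.id (transposeLin R (f : A'' →ₗ[R] A))
        (Coalgebra.comul (R := R) x) := by
    rw [ρ_apply]
    generalize Coalgebra.comul (R := R) x = w
    induction w using TensorProduct.induction_on with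
    | zero => simp
    | tmul y z =>
      rw [Algebra.TensorProduct.map_tmul, LinearMap.lTensor_tmul, TensorProduct.map_tmul]
      rfl
    | add a b ha hb => simp only [map_add, ha, hb]
  have hT1 : T (x ⊗ₜ[R] (1 : D R A ⧸ Iπ R f)) = x ⊗ₜ[R] (1 : D R A'') := by
    rw [LinearMap.lTensor_tmul]
    congr 1
    exact map_one πb
  rw [mem_Cs, ← hT.eq_iff, hT1, hTρ, ← (evm R (A := A) (A'' := A'')).injective.eq_iff]
  constructor
  · intro h a c
    have h1 := LinearMap.congr_fun h (a ⊗ₜ[R] c)
    rw [evm_tmul, evm_map, ev₂_coalgebra_comul_tmul] at h1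
    rw [← h1]
    congr 1
  · intro h
    apply TensorProduct.ext'
    intro a c
    rw [evm_tmul, evm_map, ev₂_coalgebra_comul_tmul, h a c]
    congr 1

theorem g_f
    (hker : RingHom.ker (g : A →ₐ[R] A') =
      Ideal.map (f : A'' →ₐ[R] A) (RingHom.ker (Bialgebra.counitAlgHom R A''))) (c : A'') :
    g (f c) = algebraMap R A' (Coalgebra.counit (R := R) c) := by
  have h1 : (f : A'' →ₐ[R] A) (c - algebraMap R A'' (Coalgebra.counit (R := R) c)) ∈
      RingHom.ker (g : A →ₐ[R] A') := by
    rw [hker]
    apply Ideal.mem_map_of_mem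
    rw [RingHom.mem_ker, map_sub, Bialgebra.counitAlgHom_apply, Bialgebra.counitAlgHom_apply,
      Bialgebra.counit_algebraMap]
    exact sub_self _
  rw [RingHom.mem_ker, map_sub, map_sub, sub_eq_zero] at h1
  have h2 : (g : A →ₐ[R] A') ((f : A'' →ₐ[R] A) (algebraMap R A'' (Coalgebra.counit (R := R) c))) =
      algebraMap R A' (Coalgebra.counit (R := R) c) := by
    rw [AlgHom.commutes, AlgHom.commutes]
  rw [h2] at h1
  exact h1

theorem transpose_mem_Cs
    (hker : RingHom.ker (g : A →ₐ[R] A') =
      Ideal.map (f : A'' →ₐ[R] A) (RingHom.ker (Bialgebra.counitAlgHom R A'')))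
    (x' : D R A') : transpose R g x' ∈ Cs R (Iπ R f) := by
  rw [mem_Cs_iff]
  intro a c
  rw [transpose_apply, transpose_apply, map_mul, g_f R f g hker, mul_comm (g a),
    ← Algebra.smul_def, coe_apply, coe_apply, LinearMap.map_smul, smul_eq_mul, mul_comm]

theorem mem_range_of_mem_Cs (hg : Function.Surjective g)
    (hker : RingHom.ker (g : A →ₐ[R] A') =
      Ideal.map (f : A'' →ₐ[R] A) (RingHom.ker (Bialgebra.counitAlgHom R A'')))
    (x : D R A) (hx : x ∈ Cs R (Iπ R f)) : ∃ x' : D R A', transpose R g x' = x := by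
  have h := (mem_Cs_iff R f x).mp hx
  have key : ∀ a ∈ Ideal.map (f : A'' →ₐ[R] A) (RingHom.ker (Bialgebra.counitAlgHom R A'')),
      ∀ b : A, x (b * a) = 0 := by
    intro a ha
    unfold Ideal.map at ha
    induction ha using Submodule.span_induction with
    | mem a ha =>
      obtain ⟨c, hc, rfl⟩ := ha
      intro b
      have hc' : Coalgebra.counit (R := R) c = 0 := hc
      change x (b * f c) = 0
      rw [h b c, hc', mul_zero]
    | zero =>
      intro b
      rw [mul_zero, coe_apply, map_zero]
    | add a a' _ _ ha ha' =>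
      intro b
      rw [mul_add, coe_apply, map_add, ← coe_apply, ← coe_apply, ha b, ha' b, add_zero]
    | smul t a _ ha =>
      intro b
      rw [smul_eq_mul, ← mul_assoc]
      exact ha (b * t)
  have hle : LinearMap.ker (g : A →ₗ[R] A') ≤ LinearMap.ker x.ofConv := by
    intro a ha
    have ha' : a ∈ RingHom.ker (g : A →ₐ[R] A') := ha
    rw [hker] at ha'
    have := key a ha' 1
    rw [one_mul] at this
    exact this
  have hg' : Function.Surjective (g : A →ₗ[R] A') := hg
  let x'lin : A' →ₗ[R] R := (LinearMap.ker (g : A →ₗ[R] A')).liftQ x.ofConv hle ∘ₗ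
    ((g : A →ₗ[R] A').quotKerEquivOfSurjective hg').symm.toLinearMap
  refine ⟨WithConv.toConv x'lin, ?_⟩
  apply WithConv.ext
  apply LinearMap.ext
  intro a
  change x'lin (g a) = x.ofConv a
  simp only [x'lin, LinearMap.comp_apply, LinearEquiv.coe_coe]
  have : ((g : A →ₗ[R] A').quotKerEquivOfSurjective hg').symm (g a) =
      (LinearMap.ker (g : A →ₗ[R] A')).mkQ a := by
    rw [LinearEquiv.symm_apply_eq]
    rfl
  rw [this]
  rfl

theorem main [IsNoetherianRing R] (hf : (f : A'' →ₐ[R] A).toRingHom.FaithfullyFlat)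
    (hg : Function.Surjective g)
    (hker : RingHom.ker (g : A →ₐ[R] A') =
      Ideal.map (f : A'' →ₐ[R] A) (RingHom.ker (Bialgebra.counitAlgHom R A''))) :
    (transpose R g : D R A' →ₐ[R] D R A).toRingHom.FaithfullyFlat ∧
      Function.Surjective (transpose R f) ∧
      RingHom.ker (transpose R f : D R A →ₐ[R] D R A'') =
        Ideal.map (transpose R g : D R A' →ₐ[R] D R A)
          (RingHom.ker (Bialgebra.counitAlgHom R (D R A'))) := by
  have hπ := transpose_surjective R f hf
  haveI hI : (Iπ R f).IsHopfIdeal R := isHopfIdeal_ker (transpose R f) hπ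
  haveI : Module.Projective R (D R A ⧸ Iπ R f) :=
    Module.Projective.of_equiv (Ideal.quotientKerAlgEquivOfSurjective
      (f := (transpose R f : D R A →ₐ[R] D R A'')) hπ).symm.toLinearEquiv
  obtain ⟨-, hff⟩ := HG6.props R (Iπ R f)
  refine ⟨?_, hπ, ?_⟩
  · let γ₀ : D R A' →+* Cs R (Iπ R f) :=
      (transpose R g : D R A' →ₐ[R] D R A).toRingHom.codRestrict (Cs R (Iπ R f))
        (fun x' => transpose_mem_Cs R f g hker x')
    have hγ₀ : Function.Bijective γ₀ := by
      constructor
      · intro x' y' h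
        have h1 : transpose R g x' = transpose R g y' := congrArg Subtype.val h
        apply WithConv.ext
        apply LinearMap.ext
        intro b
        obtain ⟨a, rfl⟩ := hg b
        have h2 := congrArg (fun z : D R A => z a) h1
        simp only [transpose_apply] at h2
        exact h2
      · intro c
        obtain ⟨x', hx'⟩ := mem_range_of_mem_Cs R f g hg hker c.1 c.2
        exact ⟨x', Subtype.ext hx'⟩
    have h1 : γ₀.FaithfullyFlat := RingHom.FaithfullyFlat.of_bijective hγ₀
    have h2 : (algebraMap (Cs R (Iπ R f)) (D R A)).FaithfullyFlat :=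
      RingHom.faithfullyFlat_algebraMap_iff.mpr hff
    have h3 := RingHom.FaithfullyFlat.stableUnderComposition _ _ h1 h2
    have e : (transpose R g : D R A' →ₐ[R] D R A).toRingHom =
        (algebraMap (Cs R (Iπ R f)) (D R A)).comp γ₀ := by
      apply RingHom.ext
      intro z
      rfl
    rw [e]
    exact h3
  · refine (HG6.I_eq_K R (Iπ R f)).trans ?_
    unfold HG6.K Ideal.map
    congr 1
    ext c
    constructor
    · rintro ⟨hc, hε⟩
      obtain ⟨x', rfl⟩ := mem_range_of_mem_Cs R f g hg hker c hc
      refine ⟨x', ?_, rfl⟩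
      rw [SetLike.mem_coe, RingHom.mem_ker, Bialgebra.counitAlgHom_apply,
        ← CoalgHomClass.counit_comp_apply (transpose R g) x']
      exact hε
    · rintro ⟨x', hx', rfl⟩
      refine ⟨transpose_mem_Cs R f g hker x', ?_⟩
      rw [SetLike.mem_coe, RingHom.mem_ker, Bialgebra.counitAlgHom_apply] at hx'
      change Coalgebra.counit (R := R) (transpose R g x') = 0
      rw [CoalgHomClass.counit_comp_apply (transpose R g) x']
      exact hx'

end Main

end Groth.Agent.Lib.Helper95.CD1
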