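import Mathlib

set_option autoImplicit false

namespace Groth.Agent.Lib.Helper95.CL1

open MvPolynomial

theorem coeff_eq_zero_of_eval {σ : Type*} (g : MvPolynomial σ ℂ) (j : σ)
    (h : ∀ w : σ → ℂ, w j = 0 → eval w g = 0) (d : σ →₀ ℕ) (hd : d j = 0) : coeff d g = 0 := by
  classical
  set r := g.modMonomial (Finsupp.single j 1) with hr
  have hnle : ¬ Finsupp.single j 1 ≤ d := by
    intro hle
    have := hle j
    simp [hd] at this
  have hjr : j ∉ r.vars := by
    rw [mem_vars_iff_mem_support]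
    rintro ⟨e, he, hje⟩
    rw [mem_support_iff] at he
    apply he
    apply coeff_modMonomial_of_le
    intro i
    by_cases hij : i = j
    · subst hij
      have : e i ≠ 0 := Finsupp.mem_support_iff.mp hje
      simp only [Finsupp.single_eq_same]
      omega
    · rw [Finsupp.single_apply, if_neg (Ne.symm hij)]; exact Nat.zero_le _
  have hr0 : r = 0 := by
    apply MvPolynomial.funext
    intro w
    rw [map_zero]
    have e1 : eval w r = eval (Function.update w j 0) r := by
      apply eval₂Hom_congr' rfl _ rfl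
      intro i hi _
      have : i ≠ j := fun hij => hjr (hij ▸ hi)
      simp [Function.update_of_ne this]
    have e2 : r = g - X j * (g.divMonomial (Finsupp.single j 1)) := by
      rw [eq_sub_iff_add_eq, add_comm]
      exact divMonomial_add_modMonomial_single g j
    rw [e1, e2, map_sub, map_mul, eval_X, Function.update_self, zero_mul, sub_zero]
    exact h _ (Function.update_self ..)
  rw [← coeff_modMonomial_of_not_le g hnle, ← hr, hr0, coeff_zero]

theorem eq_X_mul_of_eval {σ : Type*} (g : MvPolynomial σ ℂ) (j : σ)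
    (h : ∀ w : σ → ℂ, w j = 0 → eval w g = 0) :
    g = X j * g.divMonomial (Finsupp.single j 1) := by
  classical
  have hr0 : g.modMonomial (Finsupp.single j 1) = 0 := by
    ext d
    rw [coeff_zero]
    by_cases hle : Finsupp.single j 1 ≤ d
    · exact coeff_modMonomial_of_le g hle
    · rw [coeff_modMonomial_of_not_le g hle]
      apply coeff_eq_zero_of_eval g j h
      by_contra hne
      apply hle
      intro i
      by_cases hij : i = j
      · subst hij
        simp only [Finsupp.single_eq_same]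
        omega
      · rw [Finsupp.single_apply, if_neg (Ne.symm hij)]; exact Nat.zero_le _
  have := divMonomial_add_modMonomial_single g j
  rw [hr0, add_zero] at this
  exact this.symm

noncomputable def sub3 (p q₁ q₂ : Fin 5 → ℂ) :
    MvPolynomial (Fin 5) ℂ →ₐ[ℂ] MvPolynomial (Fin 3) ℂ :=
  aeval (fun i => C (p i) * X 0 + C (q₁ i) * X 1 + C (q₂ i) * X 2)

theorem eval_sub3 (p q₁ q₂ : Fin 5 → ℂ) (w : Fin 3 → ℂ) (f : MvPolynomial (Fin 5) ℂ) :
    eval w (sub3 p q₁ q₂ f) = eval (w 0 • p + w 1 • q₁ + w 2 • q₂) f := by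
  have : (aeval w : MvPolynomial (Fin 3) ℂ →ₐ[ℂ] ℂ).comp (sub3 p q₁ q₂) =
      aeval (w 0 • p + w 1 • q₁ + w 2 • q₂) := by
    apply MvPolynomial.algHom_ext
    intro i
    simp [sub3]
    ring
  have h2 := DFunLike.congr_fun this f
  simpa [aeval_eq_eval] using h2

theorem sub3_isHomogeneous (p q₁ q₂ : Fin 5 → ℂ) {f : MvPolynomial (Fin 5) ℂ} {n : ℕ}
    (hf : f.IsHomogeneous n) : (sub3 p q₁ q₂ f).IsHomogeneous n := by
  have := hf.aeval (S := ℂ) (n := 1)
    (fun i => C (p i) * X 0 + C (q₁ i) * X 1 + C (q₂ i) * X (2 : Fin 3)) (fun i => by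
      refine ((isHomogeneous_C_mul_X _ _).add (isHomogeneous_C_mul_X _ _)).add
        (isHomogeneous_C_mul_X _ _))
  simpa [sub3] using this

theorem factA (f : MvPolynomial (Fin 5) ℂ) (hf : f.IsHomogeneous 3) (p q₁ q₂ : Fin 5 → ℂ)
    (h1 : ∀ x y : ℂ, eval (x • p + y • q₁) f = 0)
    (h2 : ∀ x z : ℂ, eval (x • p + z • q₂) f = 0) :
    ∃ c : Fin 3 → ℂ, ∀ x y z : ℂ,
      eval (x • p + y • q₁ + z • q₂) f = y * z * (c 0 * x + c 1 * y + c 2 * z) := by
  classical
  set g := sub3 p q₁ q₂ f with hg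
  have hgh : g.IsHomogeneous 3 := sub3_isHomogeneous p q₁ q₂ hf
  have e2 : g = X 2 * g.divMonomial (Finsupp.single 2 1) := by
    apply eq_X_mul_of_eval
    intro w hw
    rw [hg, eval_sub3, hw, zero_smul, add_zero]
    exact h1 _ _
  have e1 : g = X 1 * g.divMonomial (Finsupp.single 1 1) := by
    apply eq_X_mul_of_eval
    intro w hw
    rw [hg, eval_sub3, hw, zero_smul, add_zero]
    exact h2 _ _
  have hdvd : (X 1 : MvPolynomial (Fin 3) ℂ) ∣ g.divMonomial (Finsupp.single 2 1) := by
    have h12 : (X 1 : MvPolynomial (Fin 3) ℂ) ∣ X 2 * g.divMonomial (Finsupp.single 2 1) := by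
      rw [← e2]; exact ⟨_, e1⟩
    rcases (X_prime (R := ℂ) (i := (1 : Fin 3))).dvd_or_dvd h12 with h | h
    · exfalso
      rw [X_dvd_X] at h
      exact absurd h (by decide)
    · exact h
  obtain ⟨g₂, hg₂⟩ := hdvd
  have e3 : g = X 2 * (X 1 * g₂) := by rw [← hg₂]; exact e2
  have hg₂h : g₂.IsHomogeneous 1 := by
    intro d hd
    have : coeff (Finsupp.single 2 1 + (Finsupp.single 1 1 + d)) g ≠ 0 := by
      rw [e3, coeff_X_mul, coeff_X_mul]; exact hd
    have h3 := hgh this
    rw [map_add, map_add] at h3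
    simp only [Finsupp.weight_single, Pi.one_apply, smul_eq_mul, mul_one] at h3
    omega
  have hmem : g₂ ∈ homogeneousSubmodule (Fin 3) ℂ 1 := hg₂h
  rw [homogeneousSubmodule_one_eq_span_X, Submodule.mem_span_range_iff_exists_fun] at hmem
  obtain ⟨c, hc⟩ := hmem
  refine ⟨c, fun x y z => ?_⟩
  have : eval ![x, y, z] (sub3 p q₁ q₂ f) = eval (x • p + y • q₁ + z • q₂) f :=
    eval_sub3 p q₁ q₂ ![x, y, z] f
  rw [← this, ← hg, e3, ← hc]
  simp [Fin.sum_univ_three]
  ring

end Groth.Agent.Lib.Helper95.CL1
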