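import Mathlib

set_option autoImplicit false

namespace Groth.Agent.Lib.Helper95.CL2

open MvPolynomial

noncomputable def ψ₁ : MvPolynomial (Fin 3) ℂ →ₐ[ℂ] MvPolynomial (Fin 3) ℂ :=
  aeval ![0, X 1, X 2]

noncomputable def ψ₂ : MvPolynomial (Fin 3) ℂ →ₐ[ℂ] MvPolynomial (Fin 3) ℂ :=
  aeval ![0, 0, X 2]

theorem ψ₂_comp_ψ₁ : ψ₂.comp ψ₁ = ψ₂ := by
  apply MvPolynomial.algHom_ext
  intro i
  fin_cases i <;> simp [ψ₁, ψ₂]

theorem eval_comp_ψ₂ : (aeval (0 : Fin 3 → ℂ) : MvPolynomial (Fin 3) ℂ →ₐ[ℂ] ℂ).comp ψ₂ =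
    aeval (0 : Fin 3 → ℂ) := by
  apply MvPolynomial.algHom_ext
  intro i
  fin_cases i <;> simp [ψ₂]

theorem three_le_height :
    (3 : ℕ∞) ≤ (RingHom.ker (eval (0 : Fin 3 → ℂ))).height := by
  set m : Ideal (MvPolynomial (Fin 3) ℂ) := RingHom.ker (eval (0 : Fin 3 → ℂ)) with hm
  set P₁ : Ideal (MvPolynomial (Fin 3) ℂ) := RingHom.ker ψ₁.toRingHom with hP₁
  set P₂ : Ideal (MvPolynomial (Fin 3) ℂ) := RingHom.ker ψ₂.toRingHom with hP₂
  haveI : P₁.IsPrime := RingHom.ker_isPrime _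
  haveI : P₂.IsPrime := RingHom.ker_isPrime _
  haveI : m.IsPrime := RingHom.ker_isPrime _
  haveI : (⊥ : Ideal (MvPolynomial (Fin 3) ℂ)).IsPrime := Ideal.isPrime_bot
  have l0 : (⊥ : Ideal (MvPolynomial (Fin 3) ℂ)) < P₁ := by
    rw [bot_lt_iff_ne_bot]
    intro h
    have : (X 0 : MvPolynomial (Fin 3) ℂ) ∈ P₁ := by
      rw [hP₁, RingHom.mem_ker]; simp [ψ₁]
    rw [h, Ideal.mem_bot] at this
    exact X_ne_zero _ this
  have l1 : P₁ < P₂ := by
    refine lt_of_le_of_ne ?_ ?_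
    · intro g hg
      rw [hP₁, RingHom.mem_ker] at hg
      rw [hP₂, RingHom.mem_ker]
      have := DFunLike.congr_fun ψ₂_comp_ψ₁ g
      simp only [AlgHom.comp_apply] at this
      have hg' : ψ₁ g = 0 := hg
      rw [hg', map_zero] at this
      exact this.symm
    · intro h
      have h1 : (X 1 : MvPolynomial (Fin 3) ℂ) ∈ P₂ := by
        rw [hP₂, RingHom.mem_ker]; simp [ψ₂]
      rw [← h, hP₁, RingHom.mem_ker] at h1
      have : ψ₁ (X 1) = X 1 := by simp [ψ₁]
      exact X_ne_zero (1 : Fin 3) (R := ℂ) (this ▸ h1)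
  have l2 : P₂ < m := by
    refine lt_of_le_of_ne ?_ ?_
    · intro g hg
      rw [hP₂, RingHom.mem_ker] at hg
      rw [hm, RingHom.mem_ker]
      have := DFunLike.congr_fun eval_comp_ψ₂ g
      simp only [AlgHom.comp_apply] at this
      have hg' : ψ₂ g = 0 := hg
      rw [hg', map_zero] at this
      exact this.symm
    · intro h
      have h1 : (X 2 : MvPolynomial (Fin 3) ℂ) ∈ m := by
        rw [hm, RingHom.mem_ker]; simp
      rw [← h, hP₂, RingHom.mem_ker] at h1
      have : ψ₂ (X 2) = X 2 := by simp [ψ₂]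
      exact X_ne_zero (2 : Fin 3) (R := ℂ) (this ▸ h1)
  have s0 := Ideal.height_strict_mono_of_isPrime l0
  have s1 := Ideal.height_strict_mono_of_isPrime l1
  have s2 := Ideal.height_strict_mono_of_isPrime l2
  have t1 : (1 : ℕ∞) ≤ P₁.height := by
    have := Order.add_one_le_of_lt s0
    exact le_trans (by simp) this
  have t2 : (2 : ℕ∞) ≤ P₂.height := by
    have := Order.add_one_le_of_lt s1
    refine le_trans ?_ this
    calc (2 : ℕ∞) = 1 + 1 := by norm_num
      _ ≤ P₁.height + 1 := by gcongr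
  have := Order.add_one_le_of_lt s2
  refine le_trans ?_ this
  calc (3 : ℕ∞) = 2 + 1 := by norm_num
    _ ≤ P₂.height + 1 := by gcongr

theorem exists_common_zero (A B : MvPolynomial (Fin 3) ℂ)
    (hA : eval 0 A = 0) (hB : eval 0 B = 0) :
    ∃ w : Fin 3 → ℂ, w ≠ 0 ∧ eval w A = 0 ∧ eval w B = 0 := by
  classical
  by_contra hcon
  push Not at hcon
  set m : Ideal (MvPolynomial (Fin 3) ℂ) := RingHom.ker (eval (0 : Fin 3 → ℂ)) with hm
  haveI : m.IsPrime := RingHom.ker_isPrime _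
  set s : Finset (MvPolynomial (Fin 3) ℂ) := {A, B} with hs
  set I : Ideal (MvPolynomial (Fin 3) ℂ) := Ideal.span (s : Set (MvPolynomial (Fin 3) ℂ)) with hI
  have hAI : A ∈ I := Ideal.subset_span (by simp [hs])
  have hBI : B ∈ I := Ideal.subset_span (by simp [hs])
  have hIm : I ≤ m := by
    rw [hI, Ideal.span_le]
    intro x hx
    simp only [hs, Finset.coe_insert, Finset.coe_singleton, Set.mem_insert_iff,
      Set.mem_singleton_iff] at hx
    rcases hx with rfl | rfl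
    · exact (RingHom.mem_ker).mpr hA
    · exact (RingHom.mem_ker).mpr hB
  have hrad : m ≤ I.radical := by
    rw [← vanishingIdeal_zeroLocus_eq_radical (K := ℂ)]
    intro q hq w hw
    have hw0 : w = 0 := by
      by_contra hne
      exact hcon w hne (hw A hAI) (hw B hBI)
    subst hw0
    exact (RingHom.mem_ker).mp hq
  have hmin : m ∈ I.minimalPrimes := by
    refine ⟨⟨inferInstance, hIm⟩, fun q hq _ => ?_⟩
    exact hrad.trans (hq.1.radical_le_iff.mpr hq.2)
  have h2 : m.height ≤ (s.card : ℕ∞) :=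
    Ideal.height_le_card_of_mem_minimalPrimes_span_finset hmin
  have h3 := three_le_height
  have hc : s.card ≤ 2 := by
    rw [hs]; exact Finset.card_le_two
  have : (3 : ℕ∞) ≤ 2 := by
    refine (h3.trans h2).trans ?_
    exact_mod_cast hc
  exact absurd this (by norm_num)

end Groth.Agent.Lib.Helper95.CL2
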