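import Mathlib

set_option autoImplicit false

namespace Groth.Agent.Lib.Helper95.CL3

open MvPolynomial

noncomputable def lineHom (u v : Fin 5 → ℂ) : MvPolynomial (Fin 5) ℂ →ₐ[ℂ] Polynomial ℂ :=
  aeval (fun i => Polynomial.C (u i) + Polynomial.C (v i) * Polynomial.X)

theorem eval_lineHom (u v : Fin 5 → ℂ) (f : MvPolynomial (Fin 5) ℂ) (t : ℂ) :
    (lineHom u v f).eval t = eval (u + t • v) f := by
  have : (Polynomial.aeval t : Polynomial ℂ →ₐ[ℂ] ℂ).comp (lineHom u v) = aeval (u + t • v) := by
    apply MvPolynomial.algHom_ext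
    intro i
    simp [lineHom]
    ring
  have h2 := DFunLike.congr_fun this f
  simpa [aeval_eq_eval, Polynomial.coe_aeval_eq_eval] using h2

theorem derivative_lineHom (u v : Fin 5 → ℂ) (f : MvPolynomial (Fin 5) ℂ) :
    Polynomial.derivative (lineHom u v f) =
      ∑ i, lineHom u v (pderiv i f) * Polynomial.C (v i) := by
  induction f using MvPolynomial.induction_on with
  | C a => simp [lineHom]
  | add p q hp hq => simp [hp, hq, Finset.sum_add_distrib, add_mul]
  | mul_X p j hp =>
    rw [map_mul, Polynomial.derivative_mul, hp]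
    have hX : lineHom u v (X j) = Polynomial.C (u j) + Polynomial.C (v j) * Polynomial.X := by
      simp [lineHom]
    have hd : Polynomial.derivative (lineHom u v (X j)) = Polynomial.C (v j) := by
      rw [hX]; simp
    rw [hd]
    simp only [Derivation.leibniz, pderiv_X, smul_eq_mul, map_add, map_mul, add_mul,
      Finset.sum_add_distrib]
    rw [add_comm]
    congr 1
    · rw [Finset.sum_eq_single j]
      · simp
      · intro i _ hij
        rw [Pi.single_apply, if_neg (Ne.symm hij)]
        simp
      · simp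
    · rw [Finset.sum_mul]
      apply Finset.sum_congr rfl
      intro i _
      ring

noncomputable def dd (f : MvPolynomial (Fin 5) ℂ) (u v : Fin 5 → ℂ) : ℂ :=
  ∑ i, v i * eval u (pderiv i f)

theorem dd_eq_zero (f : MvPolynomial (Fin 5) ℂ) (u v : Fin 5 → ℂ)
    (h : ∀ t : ℂ, eval (u + t • v) f = 0) : dd f u v = 0 := by
  have h0 : lineHom u v f = 0 := by
    apply Polynomial.funext
    intro t
    rw [eval_lineHom, h, Polynomial.eval_zero]
  have h1 := derivative_lineHom u v f
  rw [h0, Polynomial.derivative_zero] at h1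
  have h2 := congrArg (Polynomial.eval 0) h1
  rw [Polynomial.eval_zero, Polynomial.eval_finsetSum] at h2
  simp only [Polynomial.eval_mul, Polynomial.eval_C, eval_lineHom, zero_smul, add_zero] at h2
  rw [dd, h2]
  apply Finset.sum_congr rfl
  intro i _
  ring

theorem dd_add (f : MvPolynomial (Fin 5) ℂ) (u v v' : Fin 5 → ℂ) :
    dd f u (v + v') = dd f u v + dd f u v' := by
  simp [dd, Finset.sum_add_distrib, add_mul]

theorem dd_smul (f : MvPolynomial (Fin 5) ℂ) (u v : Fin 5 → ℂ) (a : ℂ) :
    dd f u (a • v) = a * dd f u v := by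
  simp [dd, Finset.mul_sum, mul_assoc]

theorem dd_single (f : MvPolynomial (Fin 5) ℂ) (u : Fin 5 → ℂ) (i : Fin 5) :
    dd f u (Pi.single i 1) = eval u (pderiv i f) := by
  rw [dd, Finset.sum_eq_single i]
  · simp
  · intro j _ hji
    simp [Pi.single_apply, hji]
  · simp

end Groth.Agent.Lib.Helper95.CL3
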