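import Groth.Agent.Lib.Helper95.CL1
import Groth.Agent.Lib.Helper95.CL2
import Groth.Agent.Lib.Helper95.CL3

set_option autoImplicit false

namespace Groth.Agent.Lib.Helper95.CL4

open MvPolynomial
open Groth.Agent.Lib.Helper95.CL1 Groth.Agent.Lib.Helper95.CL2 Groth.Agent.Lib.Helper95.CL3

noncomputable def DD (v : Fin 5 → ℂ) (f : MvPolynomial (Fin 5) ℂ) : MvPolynomial (Fin 5) ℂ :=
  ∑ i, C (v i) * pderiv i f

theorem eval_DD (v u : Fin 5 → ℂ) (f : MvPolynomial (Fin 5) ℂ) :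
    eval u (DD v f) = dd f u v := by
  simp [DD, dd]

theorem eval_zero_DD (v : Fin 5 → ℂ) (f : MvPolynomial (Fin 5) ℂ) (hf : f.IsHomogeneous 3) :
    eval 0 (DD v f) = 0 := by
  rw [eval_DD, dd]
  apply Finset.sum_eq_zero
  intro i _
  have : eval (0 : Fin 5 → ℂ) (pderiv i f) = 0 := by
    rw [eval_zero, constantCoeff_eq]
    exact (hf.pderiv (i := i)).coeff_eq_zero (by simp)
  rw [this, mul_zero]

theorem exists_complement (p q₁ q₂ : Fin 5 → ℂ) (hli : LinearIndependent ℂ ![p, q₁, q₂]) :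
    ∃ e₃ e₄ : Fin 5 → ℂ, ∀ v : Fin 5 → ℂ, ∃ x y z a b : ℂ,
      v = x • p + y • q₁ + z • q₂ + a • e₃ + b • e₄ := by
  set Pl : Submodule ℂ (Fin 5 → ℂ) := Submodule.span ℂ (Set.range ![p, q₁, q₂]) with hPl
  have hfr : Module.finrank ℂ Pl = 3 := by
    rw [hPl, finrank_span_eq_card hli]; simp
  obtain ⟨Pc, hc⟩ := Submodule.exists_isCompl Pl
  have hfr' : Module.finrank ℂ Pc = 2 := by
    have := Submodule.finrank_add_eq_of_isCompl hc
    rw [hfr, Module.finrank_fin_fun] at this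
    omega
  let b : Module.Basis (Fin 2) ℂ Pc := Module.finBasisOfFinrankEq ℂ Pc hfr'
  refine ⟨(b 0 : Fin 5 → ℂ), (b 1 : Fin 5 → ℂ), fun v => ?_⟩
  have hv : v ∈ Pl ⊔ Pc := by rw [hc.sup_eq_top]; exact Submodule.mem_top
  obtain ⟨π, hπ, v', hv', rfl⟩ := Submodule.mem_sup.mp hv
  rw [hPl, Submodule.mem_span_range_iff_exists_fun] at hπ
  obtain ⟨c, rfl⟩ := hπ
  have hb := b.sum_repr ⟨v', hv'⟩
  rw [Fin.sum_univ_two] at hb
  have hb' := congrArg (Subtype.val) hb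
  simp only [Submodule.coe_add, Submodule.coe_smul] at hb'
  generalize b.repr ⟨v', hv'⟩ 0 = a0 at hb'
  generalize b.repr ⟨v', hv'⟩ 1 = a1 at hb'
  refine ⟨c 0, c 1, c 2, a0, a1, ?_⟩
  rw [Fin.sum_univ_three, ← hb']
  simp [add_assoc]

theorem no_plane (f : MvPolynomial (Fin 5) ℂ) (hf : f.IsHomogeneous 3)
    (hsm : ∀ u : Fin 5 → ℂ, u ≠ 0 → eval u f = 0 → ∃ i : Fin 5, eval u (pderiv i f) ≠ 0)
    (p q₁ q₂ : Fin 5 → ℂ) (hli : LinearIndependent ℂ ![p, q₁, q₂])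
    (hv : ∀ x y z : ℂ, eval (x • p + y • q₁ + z • q₂) f = 0) : False := by
  obtain ⟨e₃, e₄, hsp⟩ := exists_complement p q₁ q₂ hli
  obtain ⟨w, hw0, hwA, hwB⟩ := exists_common_zero (sub3 p q₁ q₂ (DD e₃ f)) (sub3 p q₁ q₂ (DD e₄ f))
    (by rw [eval_sub3]; simpa using eval_zero_DD e₃ f hf)
    (by rw [eval_sub3]; simpa using eval_zero_DD e₄ f hf)
  set u : Fin 5 → ℂ := w 0 • p + w 1 • q₁ + w 2 • q₂ with hu
  rw [eval_sub3, ← hu, eval_DD] at hwA hwB
  have hu0 : u ≠ 0 := by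
    intro h0
    apply hw0
    have h1 : ∑ i, w i • ![p, q₁, q₂] i = 0 := by
      rw [Fin.sum_univ_three]; simpa [hu] using h0
    have := Fintype.linearIndependent_iff.mp hli w h1
    funext i; exact this i
  obtain ⟨i, hi⟩ := hsm u hu0 (hv _ _ _)
  apply hi
  rw [← dd_single]
  obtain ⟨x, y, z, a, b, hxyz⟩ := hsp (Pi.single i 1)
  have dp : dd f u p = 0 := by
    apply dd_eq_zero
    intro t
    have : u + t • p = (w 0 + t) • p + w 1 • q₁ + w 2 • q₂ := by rw [hu]; module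
    rw [this]; exact hv _ _ _
  have dq₁ : dd f u q₁ = 0 := by
    apply dd_eq_zero
    intro t
    have : u + t • q₁ = w 0 • p + (w 1 + t) • q₁ + w 2 • q₂ := by rw [hu]; module
    rw [this]; exact hv _ _ _
  have dq₂ : dd f u q₂ = 0 := by
    apply dd_eq_zero
    intro t
    have : u + t • q₂ = w 0 • p + w 1 • q₁ + (w 2 + t) • q₂ := by rw [hu]; module
    rw [this]; exact hv _ _ _
  rw [hxyz]
  simp only [dd_add, dd_smul, dp, dq₁, dq₂, hwA, hwB, mul_zero, add_zero]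

end Groth.Agent.Lib.Helper95.CL4
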