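import Groth.Agent.Lib.Helper95.ChLib
import Groth.Agent.Lib.Helper95.AdamsEigen

set_option autoImplicit false
open LambdaRing KGr Finset
open scoped TensorProduct

namespace Groth.Agent.Lib.Helper95.ChBij

open Groth.Agent.Lib.Helper95.GrLib Groth.Agent.Lib.Helper95.ChLib
  Groth.Agent.Lib.Helper95.ChNewton Groth.Agent.Lib.Helper95.AdamsEigen
  Groth.Agent.Lib.Helper95.GammaFil Groth.Agent.Lib.Helper26.LambdaGamma

universe v

variable {K : Type v} [CommRing K] [LambdaOps K] (P : PosStructure K) (d : ℕ)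
  (hd : gammaFiltration P (d + 1) = ⊥)

noncomputable def chAdd : K →+ Gr P :=
  AddMonoidHom.mk' (fun x => chK P d x) (by
    intro x y
    rw [chK_eq, chK_eq, chK_eq, map_add, Int.cast_add, RingHom.map_add]
    simp only [chc_add P d hd, smul_add, Finset.sum_add_distrib]
    abel)

lemma chAdd_apply (x : K) : chAdd P d hd x = chK P d x := rfl

noncomputable def Phi : ℚ ⊗[ℤ] K →ₗ[ℚ] Gr P :=
  (chAdd P d hd).toIntLinearMap.liftBaseChange ℚ

lemma Phi_tmul (q : ℚ) (x : K) : Phi P d hd (q ⊗ₜ[ℤ] x) = q • chK P d x := rfl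

lemma Phi_one_tmul (x : K) : Phi P d hd ((1 : ℚ) ⊗ₜ[ℤ] x) = chK P d x := by
  rw [Phi_tmul, one_smul]

include hd in
lemma fil_eq_bot {n : ℕ} (hn : d + 1 ≤ n) : gammaFiltration P n = ⊥ :=
  eq_bot_iff.mpr (le_trans (gammaFiltration_anti P hn) (le_of_eq hd))

lemma grK_zero_deg (x : K) : grK P ((0 : ℕ) : ℤ) x = algebraMap ℚ (Gr P) (P.aug x : ℚ) := by
  have e : x = (x - (P.aug x : K)) + ((P.aug x : ℤ) : K) * 1 := by ring
  have h1 : x - (P.aug x : K) ∈ gammaFiltration P 1 := by
    have := gamma_red_mem P x 1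
    rwa [gamma_one_left] at this
  have h0 : (1 : K) ∈ gammaFiltration P 0 := by rw [gammaFiltration_zero]; trivial
  conv_lhs => rw [e]
  rw [grK_add P (gammaFiltration_anti P (Nat.zero_le 1) h1) (fil_smul_mem P _ h0),
    grK_of_succ P h1, zero_add, grK_intCast_mul P _ h0, grK_one, Algebra.algebraMap_eq_smul_one]

variable (hK : HasSplitting K P)

include hK

lemma Dn_le_range : ∀ (m n : ℕ), d + 1 ≤ n + m → Dn P n ≤ LinearMap.range (Phi P d hd) := by
  intro m
  induction m with
  | zero =>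
    intro n hn
    rw [Dn_eq_bot P (fil_eq_bot P d hd (by omega))]
    exact bot_le
  | succ m ih =>
    intro n hn
    by_cases hnd : d + 1 ≤ n
    · rw [Dn_eq_bot P (fil_eq_bot P d hd hnd)]
      exact bot_le
    unfold Dn
    rw [Submodule.span_le]
    rintro _ ⟨x, hx, rfl⟩
    have hsum : ∀ k ∈ range d, n < k + 1 →
        (1 / ((k + 1).factorial : ℚ)) • chc P d (k + 1) x ∈ LinearMap.range (Phi P d hd) := by
      intro k _ hk
      exact Submodule.smul_mem _ _ (ih (k + 1) (by omega) (chc_mem_Dn P d hd (k + 1) x))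
    have hPhi : Phi P d hd ((1 : ℚ) ⊗ₜ[ℤ] x) ∈ LinearMap.range (Phi P d hd) :=
      LinearMap.mem_range_self _ _
    rw [Phi_one_tmul, chK_eq] at hPhi
    rcases Nat.eq_zero_or_pos n with rfl | hn1
    · rw [SetLike.mem_coe, grK_zero_deg]
      have h2 : ∑ k ∈ range d, (1 / ((k + 1).factorial : ℚ)) • chc P d (k + 1) x ∈
          LinearMap.range (Phi P d hd) :=
        sum_mem fun k hk => hsum k hk (by omega)
      have := sub_mem hPhi h2
      rwa [add_sub_cancel_right] at this
    · have hc := chc_of_mem P d hd hK hn1 hx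
      have hmem : n - 1 ∈ range d := Finset.mem_range.mpr (by omega)
      rw [aug_of_mem P hK hn1 hx, Int.cast_zero, RingHom.map_zero, zero_add,
        ← Finset.add_sum_erase _ _ hmem] at hPhi
      have h2 : ∑ k ∈ (range d).erase (n - 1), (1 / ((k + 1).factorial : ℚ)) • chc P d (k + 1) x ∈
          LinearMap.range (Phi P d hd) := by
        refine sum_mem fun k hk => ?_
        rw [Finset.mem_erase] at hk
        by_cases hkn : n < k + 1
        · exact hsum k hk.2 hkn
        · rw [hc.1 (k + 1) (by omega), smul_zero]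
          exact zero_mem _
      have h3 := sub_mem hPhi h2
      rw [add_sub_cancel_right, Nat.sub_add_cancel hn1, hc.2, smul_smul] at h3
      have : (1 / (n.factorial : ℚ)) * (n.factorial : ℚ) = 1 := by
        have : (n.factorial : ℚ) ≠ 0 := by exact_mod_cast Nat.factorial_ne_zero n
        field_simp
      rwa [this, one_smul] at h3

theorem Phi_surjective : Function.Surjective (Phi P d hd) := by
  rw [← LinearMap.range_eq_top, eq_top_iff]
  intro y _
  have h : (⨆ n, Dn P n) ≤ LinearMap.range (Phi P d hd) :=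
    iSup_le fun n => Dn_le_range P d hd hK (d + 1) n (by omega)
  exact h (mem_iSup_Dn P y)

omit hK in
lemma exists_rep_of_mem_QF {n : ℕ} {z : ℚ ⊗[ℤ] K} (hz : z ∈ QF P n) :
    ∃ (N : ℕ) (x : K), 1 ≤ N ∧ x ∈ gammaFiltration P n ∧ z = (1 / (N : ℚ)) ⊗ₜ[ℤ] x := by
  unfold QF at hz
  induction hz using Submodule.span_induction with
  | mem z hz =>
    obtain ⟨x, hx, rfl⟩ := hz
    exact ⟨1, x, le_refl 1, hx, by simp⟩
  | zero => exact ⟨1, 0, le_refl 1, zero_mem _, by simp⟩
  | add y z _ _ hy hz =>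
    obtain ⟨N, x, hN, hx, rfl⟩ := hy
    obtain ⟨M, y, hM, hy, rfl⟩ := hz
    refine ⟨N * M, (M : ℤ) • x + (N : ℤ) • y, Nat.mul_pos hN hM,
      add_mem (zsmul_mem hx _) (zsmul_mem hy _), ?_⟩
    rw [TensorProduct.tmul_add, TensorProduct.tmul_smul, TensorProduct.tmul_smul,
      TensorProduct.smul_tmul', TensorProduct.smul_tmul']
    have hN' : (N : ℚ) ≠ 0 := by have : 0 < N := hN; positivity
    have hM' : (M : ℚ) ≠ 0 := by have : 0 < M := hM; positivity
    congr 2
    · rw [zsmul_eq_mul]; push_cast; field_simp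
    · rw [zsmul_eq_mul]; push_cast; field_simp
  | smul q z _ hz =>
    obtain ⟨N, x, hN, hx, rfl⟩ := hz
    obtain ⟨a, b, hb, rfl⟩ : ∃ (a : ℤ) (b : ℕ), 0 < b ∧ q = (a : ℚ) / (b : ℚ) :=
      ⟨q.num, q.den, q.den_pos, (Rat.num_div_den q).symm⟩
    refine ⟨b * N, a • x, Nat.mul_pos hb hN, zsmul_mem hx _, ?_⟩
    rw [TensorProduct.smul_tmul', TensorProduct.tmul_smul, TensorProduct.smul_tmul']
    congr 1
    have hN' : (N : ℚ) ≠ 0 := by have : 0 < N := hN; positivity
    have hq : (b : ℚ) ≠ 0 := by positivity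
    rw [smul_eq_mul, zsmul_eq_mul]
    push_cast
    field_simp

include hd in
lemma chK_lead {n : ℕ} (hn : n ≤ d) {x : K} (hx : x ∈ gammaFiltration P n) :
    chK P d x = grK P (n : ℤ) x +
      ∑ k ∈ (range d).filter (fun k => n < k + 1), (1 / ((k + 1).factorial : ℚ)) • chc P d (k + 1) x := by
  rw [chK_eq]
  rcases Nat.eq_zero_or_pos n with rfl | hn1
  · rw [grK_zero_deg]
    congr 1
    refine Finset.sum_congr ?_ fun _ _ => rfl
    ext k; simp
  · have hc := chc_of_mem P d hd hK hn1 hx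
    rw [aug_of_mem P hK hn1 hx, Int.cast_zero, RingHom.map_zero, zero_add,
      ← Finset.sum_filter_add_sum_filter_not (range d) (fun k => n < k + 1), add_comm]
    congr 1
    rw [Finset.sum_eq_single (n - 1)]
    · rw [Nat.sub_add_cancel hn1, hc.2, smul_smul]
      have : (1 / (n.factorial : ℚ)) * (n.factorial : ℚ) = 1 := by
        have : (n.factorial : ℚ) ≠ 0 := by exact_mod_cast Nat.factorial_ne_zero n
        field_simp
      rw [this, one_smul]
    · intro k hk hkn
      rw [Finset.mem_filter] at hk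
      rw [hc.1 (k + 1) (by omega), smul_zero]
    · intro h
      exfalso
      apply h
      rw [Finset.mem_filter, Finset.mem_range]
      omega

include hd in
lemma step {n : ℕ} (hn : n ≤ d) {z : ℚ ⊗[ℤ] K} (hz : z ∈ QF P n) (hΦ : Phi P d hd z = 0) :
    z ∈ QF P (n + 1) := by
  obtain ⟨N, x, hN, hx, rfl⟩ := exists_rep_of_mem_QF P hz
  have hN' : (N : ℚ) ≠ 0 := by have : 0 < N := hN; positivity
  rw [Phi_tmul] at hΦ
  replace hΦ : chK P d x = 0 := by
    have : chK P d x = (N : ℚ) • (((1 : ℚ) / N) • chK P d x) := by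
      rw [smul_smul, mul_one_div_cancel hN', one_smul]
    rw [this, hΦ, smul_zero]
  have h1 := congrArg (piQ P n) hΦ
  rw [chK_lead P d hd hK hn hx, map_add, map_sum, map_zero, piQ_grK P n n hx, if_pos rfl] at h1
  have h2 : ∑ k ∈ (range d).filter (fun k => n < k + 1),
      piQ P n ((1 / ((k + 1).factorial : ℚ)) • chc P d (k + 1) x) = 0 := by
    apply Finset.sum_eq_zero
    intro k hk
    rw [Finset.mem_filter] at hk
    rw [map_smul, piQ_Dn P (by omega) (chc_mem_Dn P d hd (k + 1) x), smul_zero]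
  rw [h2, add_zero] at h1
  obtain ⟨M, hM, hMx⟩ := tmul_eq_zero_torsion _ h1
  have hMx' : (M : K) * x ∈ gammaFiltration P (n + 1) := by
    rw [← mem_FI, ← Ideal.Quotient.eq_zero_iff_mem, map_mul, map_natCast, ← nsmul_eq_mul]
    exact hMx
  have hM' : (M : ℚ) ≠ 0 := by have : 0 < M := hM; positivity
  have e : (1 / (N : ℚ)) ⊗ₜ[ℤ] x = (1 / ((N : ℚ) * M)) ⊗ₜ[ℤ] ((M : K) * x) := by
    have : (M : K) * x = (M : ℤ) • x := by rw [zsmul_eq_mul]; push_cast; rfl
    rw [this, TensorProduct.tmul_smul, TensorProduct.smul_tmul']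
    congr 1
    rw [zsmul_eq_mul]
    push_cast
    field_simp
  rw [e]
  exact tmul_mem_QF P hMx' _

include hd in
theorem Phi_injective : Function.Injective (Phi P d hd) := by
  rw [← LinearMap.ker_eq_bot, eq_bot_iff]
  intro z hz
  rw [LinearMap.mem_ker] at hz
  have h : ∀ n, n ≤ d + 1 → z ∈ QF P n := by
    intro n
    induction n with
    | zero => intro _; rw [QF_zero]; trivial
    | succ n ih =>
      intro hn
      exact step P d hd hK (by omega) (ih (by omega)) hz
  have := h (d + 1) le_rfl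
  rwa [QF_bot P hd] at this

theorem Phi_bijective : Function.Bijective (Phi P d hd) :=
  ⟨Phi_injective P d hd hK, Phi_surjective P d hd hK⟩

end Groth.Agent.Lib.Helper95.ChBij
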