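import Groth.Prelude.Def_KGr
import Mathlib.RingTheory.MvPolynomial.Symmetric.NewtonIdentities
import Mathlib.Tactic

set_option autoImplicit false
open MvPolynomial Finset

namespace Groth.Agent.Lib.Helper95.ChNewton

variable (d : ℕ)

noncomputable def EE : Fin d → MvPolynomial (Fin d) ℚ := fun i => esymm (Fin d) ℚ ((i : ℕ) + 1)

lemma aevalE_injective : Function.Injective (aeval (EE d) : MvPolynomial (Fin d) ℚ →ₐ[ℚ] _) := by
  intro p q hpq
  apply esymmAlgHom_fin_injective ℚ (le_refl d)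
  apply Subtype.ext
  rw [esymmAlgHom_apply, esymmAlgHom_apply]
  exact hpq

noncomputable def Nk (k : ℕ) : MvPolynomial (Fin d) ℚ :=
  (esymmAlgEquiv (Fin d) ℚ (Fintype.card_fin d)).symm ⟨psum (Fin d) ℚ k, psum_isSymmetric _ _ _⟩

lemma aeval_Nk (k : ℕ) : aeval (EE d) (Nk d k) = psum (Fin d) ℚ k := by
  have h := (esymmAlgEquiv (Fin d) ℚ (Fintype.card_fin d)).apply_symm_apply
    ⟨psum (Fin d) ℚ k, psum_isSymmetric _ _ _⟩
  have h2 := congrArg Subtype.val h
  rw [esymmAlgEquiv_apply, esymmAlgHom_apply] at h2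
  exact h2

lemma chPoly_eq : KGr.chPoly d =
    ∑ k ∈ range (d + 1), C (1 / (Nat.factorial k : ℚ)) * Nk d k := by
  apply aevalE_injective d
  have h := (esymmAlgEquiv (Fin d) ℚ (Fintype.card_fin d)).apply_symm_apply
    ⟨∑ i : Fin d, Polynomial.aeval (MvPolynomial.X i) (KGr.expTrunc d),
      KGr.isSymmetric_sum_aeval d (KGr.expTrunc d)⟩
  have h2 := congrArg Subtype.val h
  rw [esymmAlgEquiv_apply, esymmAlgHom_apply] at h2
  have h3 : aeval (EE d) (KGr.chPoly d) =
      ∑ i : Fin d, Polynomial.aeval (MvPolynomial.X i) (KGr.expTrunc d) := h2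
  rw [h3]
  simp only [map_sum, map_mul, aeval_C, aeval_Nk]
  unfold KGr.expTrunc psum
  simp only [map_sum, map_mul, Polynomial.aeval_C, map_pow, Polynomial.aeval_X]
  rw [Finset.sum_comm]
  refine Finset.sum_congr rfl fun k _ => ?_
  rw [Finset.mul_sum]

noncomputable def Ek (a : ℕ) : MvPolynomial (Fin d) ℚ :=
  if h : a = 0 then 1 else if h2 : a ≤ d then X ⟨a - 1, by omega⟩ else 0

lemma aeval_Ek (a : ℕ) : aeval (EE d) (Ek d a) = esymm (Fin d) ℚ a := by
  unfold Ek
  split_ifs with h h2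
  · subst h; rw [map_one, esymm_zero]
  · rw [aeval_X, EE]
    congr 1
    show a - 1 + 1 = a
    omega
  · rw [map_zero, esymm]
    have : (Finset.powersetCard a (Finset.univ : Finset (Fin d))) = ∅ := by
      rw [Finset.powersetCard_eq_empty]
      simp
      omega
    rw [this, Finset.sum_empty]

noncomputable def NN (b : ℕ) : MvPolynomial (Fin d) ℚ := if b = 0 then 0 else Nk d b

theorem newton (k : ℕ) :
    ∑ p ∈ antidiagonal k, (-1) ^ p.1 * Ek d p.1 * NN d p.2 = (-1) ^ (k + 1) * (k : MvPolynomial (Fin d) ℚ) * Ek d k := by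
  apply aevalE_injective d
  simp only [map_sum, map_mul, map_pow, map_neg, map_one, map_natCast, aeval_Ek]
  have h := mul_esymm_eq_sum (Fin d) ℚ k
  have e1 : ∑ p ∈ antidiagonal k, (-1) ^ p.1 * esymm (Fin d) ℚ p.1 * aeval (EE d) (NN d p.2) =
      ∑ a ∈ antidiagonal k with a.1 < k, (-1) ^ a.1 * esymm (Fin d) ℚ a.1 * psum (Fin d) ℚ a.2 := by
    rw [Finset.sum_filter]
    refine Finset.sum_congr rfl fun p hp => ?_
    have hp' := Finset.mem_antidiagonal.mp hp
    unfold NN
    split_ifs with h1 h2 h2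
    · omega
    · rw [map_zero, mul_zero]
    · rw [aeval_Nk]
    · omega
  rw [e1]
  calc ∑ a ∈ antidiagonal k with a.1 < k, (-1) ^ a.1 * esymm (Fin d) ℚ a.1 * psum (Fin d) ℚ a.2
      = (-1) ^ (k + 1) * ((-1) ^ (k + 1) *
          ∑ a ∈ antidiagonal k with a.1 < k, (-1) ^ a.1 * esymm (Fin d) ℚ a.1 * psum (Fin d) ℚ a.2) := by
        rw [← mul_assoc, ← mul_pow]; simp
    _ = _ := by rw [← h]; ring

lemma Nk_zero : Nk d 0 = C (d : ℚ) := by
  apply aevalE_injective d
  rw [aeval_Nk, psum_zero, aeval_C]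
  simp

section Seq

variable {G : Type*} [CommRing G]

def IsNewtonSeq (e n : ℕ → G) : Prop :=
  ∀ k : ℕ, ∑ p ∈ antidiagonal k, (-1) ^ p.1 * e p.1 * n p.2 = (-1) ^ (k + 1) * (k : G) * e k

noncomputable def aSer (e : ℕ → G) : PowerSeries G := PowerSeries.mk fun a => (-1) ^ a * e a

lemma isNewtonSeq_iff (e n : ℕ → G) :
    IsNewtonSeq e n ↔
      aSer e * PowerSeries.mk n = -(PowerSeries.X * PowerSeries.derivative G (aSer e)) := by
  constructor
  · intro h
    ext k
    rw [PowerSeries.coeff_mul, map_neg]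
    have h1 : ∑ p ∈ antidiagonal k, PowerSeries.coeff p.1 (aSer e) * PowerSeries.coeff p.2 (PowerSeries.mk n) =
        ∑ p ∈ antidiagonal k, (-1) ^ p.1 * e p.1 * n p.2 := by
      refine Finset.sum_congr rfl fun p _ => ?_
      rw [aSer, PowerSeries.coeff_mk, PowerSeries.coeff_mk]
    rw [h1, h k]
    rcases k with _ | k
    · simp
    · rw [PowerSeries.coeff_succ_X_mul, PowerSeries.coeff_derivative, aSer, PowerSeries.coeff_mk]
      push_cast
      ring
  · intro h k
    have h2 := congrArg (PowerSeries.coeff k) h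
    rw [PowerSeries.coeff_mul, map_neg] at h2
    have h1 : ∑ p ∈ antidiagonal k, PowerSeries.coeff p.1 (aSer e) * PowerSeries.coeff p.2 (PowerSeries.mk n) =
        ∑ p ∈ antidiagonal k, (-1) ^ p.1 * e p.1 * n p.2 := by
      refine Finset.sum_congr rfl fun p _ => ?_
      rw [aSer, PowerSeries.coeff_mk, PowerSeries.coeff_mk]
    rw [h1] at h2
    rw [h2]
    rcases k with _ | k
    · simp
    · rw [PowerSeries.coeff_succ_X_mul, PowerSeries.coeff_derivative, aSer, PowerSeries.coeff_mk]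
      push_cast
      ring

lemma isUnit_aSer {e : ℕ → G} (h0 : e 0 = 1) : IsUnit (aSer e) := by
  rw [PowerSeries.isUnit_iff_constantCoeff, ← PowerSeries.coeff_zero_eq_constantCoeff_apply, aSer,
    PowerSeries.coeff_mk, h0]
  simp

theorem IsNewtonSeq.unique {e n n' : ℕ → G} (h0 : e 0 = 1) (h : IsNewtonSeq e n)
    (h' : IsNewtonSeq e n') : n = n' := by
  rw [isNewtonSeq_iff] at h h'
  have := (isUnit_aSer h0).mul_right_injective (h.trans h'.symm)
  funext k
  have h2 := congrArg (PowerSeries.coeff k) this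
  rwa [PowerSeries.coeff_mk, PowerSeries.coeff_mk] at h2

theorem IsNewtonSeq.add {e e' e'' n n' : ℕ → G} (h : IsNewtonSeq e n) (h' : IsNewtonSeq e' n')
    (hmul : ∀ k, e'' k = ∑ p ∈ antidiagonal k, e p.1 * e' p.2) :
    IsNewtonSeq e'' (fun k => n k + n' k) := by
  rw [isNewtonSeq_iff] at h h' ⊢
  have hA : aSer e'' = aSer e * aSer e' := by
    ext k
    rw [PowerSeries.coeff_mul, aSer, PowerSeries.coeff_mk, hmul, Finset.mul_sum]
    refine Finset.sum_congr rfl fun p hp => ?_
    rw [aSer, aSer, PowerSeries.coeff_mk, PowerSeries.coeff_mk, ← Finset.mem_antidiagonal.mp hp, pow_add]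
    ring
  have hN : (PowerSeries.mk fun k => n k + n' k) = PowerSeries.mk n + PowerSeries.mk n' := by
    ext k; simp
  rw [hA, hN, Derivation.leibniz, smul_eq_mul, smul_eq_mul]
  calc aSer e * aSer e' * (PowerSeries.mk n + PowerSeries.mk n')
      = (aSer e * PowerSeries.mk n) * aSer e' + aSer e * (aSer e' * PowerSeries.mk n') := by ring
    _ = _ := by rw [h, h']; ring

theorem IsNewtonSeq.scale {e n : ℕ → G} (h : IsNewtonSeq e n) (j : G) :
    IsNewtonSeq (fun a => j ^ a * e a) (fun b => j ^ b * n b) := by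
  intro k
  have e1 : ∑ p ∈ antidiagonal k, (-1) ^ p.1 * (j ^ p.1 * e p.1) * (j ^ p.2 * n p.2) =
      j ^ k * ∑ p ∈ antidiagonal k, (-1) ^ p.1 * e p.1 * n p.2 := by
    rw [Finset.mul_sum]
    refine Finset.sum_congr rfl fun p hp => ?_
    rw [← Finset.mem_antidiagonal.mp hp, pow_add]
    ring
  rw [e1, h k]
  ring

lemma IsNewtonSeq.isolate {e n : ℕ → G} (h0 : e 0 = 1) (h : IsNewtonSeq e n) (k : ℕ) :
    n k = (-1) ^ (k + 1) * (k : G) * e k -
      ∑ p ∈ (antidiagonal k).erase (0, k), (-1) ^ p.1 * e p.1 * n p.2 := by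
  have hk := h k
  rw [← Finset.add_sum_erase _ _ (show (0, k) ∈ antidiagonal k by simp)] at hk
  rw [← hk]
  simp [h0]

lemma IsNewtonSeq.zero {e n : ℕ → G} (h0 : e 0 = 1) (h : IsNewtonSeq e n) : n 0 = 0 := by
  have := h 0
  simpa [h0] using this

lemma IsNewtonSeq.vanish {e n : ℕ → G} (h0 : e 0 = 1) (h : IsNewtonSeq e n) (m : ℕ)
    (hv : ∀ a, 0 < a → a < m → e a = 0) :
    (∀ k, k < m → n k = 0) ∧ n m = (-1) ^ (m + 1) * (m : G) * e m := by
  have hlow : ∀ k, k < m → n k = 0 := by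
    intro k hk
    rcases Nat.eq_zero_or_pos k with rfl | hpos
    · exact h.zero h0
    · rw [h.isolate h0 k, hv k hpos hk, mul_zero, zero_sub, neg_eq_zero]
      apply Finset.sum_eq_zero
      intro p hp
      rw [Finset.mem_erase, Finset.mem_antidiagonal] at hp
      have hp1 : 0 < p.1 := by
        rcases Nat.eq_zero_or_pos p.1 with h1 | h1
        · exfalso; apply hp.1; ext <;> simp <;> omega
        · exact h1
      rw [hv p.1 hp1 (by omega), mul_zero, zero_mul]
  refine ⟨hlow, ?_⟩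
  rw [h.isolate h0 m, sub_eq_self]
  apply Finset.sum_eq_zero
  intro p hp
  rw [Finset.mem_erase, Finset.mem_antidiagonal] at hp
  have hp1 : 0 < p.1 := by
    rcases Nat.eq_zero_or_pos p.1 with h1 | h1
    · exfalso; apply hp.1; ext <;> simp <;> omega
    · exact h1
  by_cases hpm : p.1 < m
  · rw [hv p.1 hp1 hpm, mul_zero, zero_mul]
  · have : p.2 = 0 := by omega
    rw [this, h.zero h0, mul_zero]

lemma IsNewtonSeq.mem {R : Type*} [CommRing R] [Algebra R G] {e n : ℕ → G} (h0 : e 0 = 1)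
    (h : IsNewtonSeq e n) (D : ℕ → Submodule R G)
    (hD : ∀ a b y z, y ∈ D a → z ∈ D b → y * z ∈ D (a + b)) (he : ∀ a, e a ∈ D a) :
    ∀ k, n k ∈ D k := by
  intro k
  induction k using Nat.strong_induction_on with
  | _ k ih =>
    have hint : ∀ (z : ℤ) (y : G) (a : ℕ), y ∈ D a → (z : G) * y ∈ D a := by
      intro z y a hy
      have : (z : G) * y = z • y := by rw [zsmul_eq_mul]
      rw [this]
      exact zsmul_mem hy z
    rw [h.isolate h0 k]
    refine sub_mem ?_ (sum_mem fun p hp => ?_)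
    · have : (-1 : G) ^ (k + 1) * (k : G) * e k = (((-1) ^ (k + 1) * (k : ℤ) : ℤ) : G) * e k := by
        push_cast; ring
      rw [this]
      exact hint _ _ _ (he k)
    · rw [Finset.mem_erase, Finset.mem_antidiagonal] at hp
      have hp1 : 0 < p.1 := by
        rcases Nat.eq_zero_or_pos p.1 with h1 | h1
        · exfalso; apply hp.1; ext <;> simp <;> omega
        · exact h1
      have h2 := hD p.1 p.2 _ _ (he p.1) (ih p.2 (by omega))
      rw [hp.2] at h2
      have : (-1 : G) ^ p.1 * e p.1 * n p.2 = (((-1) ^ p.1 : ℤ) : G) * (e p.1 * n p.2) := by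
        push_cast; ring
      rw [this]
      exact hint _ _ _ h2

end Seq

section Eval

variable {G : Type*} [CommRing G] [Algebra ℚ G] (v : Fin d → G)

noncomputable def ev (a : ℕ) : G := aeval v (Ek d a)

noncomputable def nv (b : ℕ) : G := aeval v (NN d b)

lemma ev_zero : ev d v 0 = 1 := by simp [ev, Ek]

lemma ev_succ (a : ℕ) (h : a < d) : ev d v (a + 1) = v ⟨a, h⟩ := by
  unfold ev Ek
  rw [dif_neg (by omega), dif_pos (by omega), aeval_X]
  rfl

lemma ev_big (a : ℕ) (h : d < a) : ev d v a = 0 := by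
  unfold ev Ek
  rw [dif_neg (by omega), dif_neg (by omega), map_zero]

theorem isNewtonSeq_ev : IsNewtonSeq (ev d v) (nv d v) := by
  intro k
  have h := congrArg (aeval v) (newton d k)
  simp only [map_sum, map_mul, map_pow, map_neg, map_one, map_natCast] at h
  exact h

lemma nv_of_pos (k : ℕ) (hk : 0 < k) : nv d v k = aeval v (Nk d k) := by
  unfold nv NN
  rw [if_neg (by omega)]

lemma aeval_chPoly :
    aeval v (KGr.chPoly d) = algebraMap ℚ G d +
      ∑ k ∈ range d, (1 / ((k + 1).factorial : ℚ)) • nv d v (k + 1) := by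
  rw [chPoly_eq, Finset.sum_range_succ', map_add, map_sum]
  rw [add_comm]
  congr 1
  · rw [Nk_zero]
    simp
  · refine Finset.sum_congr rfl fun k _ => ?_
    rw [map_mul, aeval_C, nv_of_pos d v (k + 1) (by omega), Algebra.smul_def]

end Eval

end Groth.Agent.Lib.Helper95.ChNewton
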