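import Groth.Agent.Lib.Helper95.GammaClosure

set_option autoImplicit false
open MvPolynomial Finset LambdaRing

namespace Groth.Agent.Lib.Helper95.GammaClosure

open Groth.Agent.Lib.Helper95.Rep Groth.Agent.Lib.Helper95.Transfer
  Groth.Agent.Lib.Helper95.KW Groth.Agent.Lib.Helper95.GamFil
  Groth.Agent.Lib.Helper26.LambdaGamma

universe v

section

variable {B : Type v} [CommRing B] [LambdaRing.LambdaOps B]

lemma sgood_pow {I : ℕ → Ideal B} (hI : IsFilt I) (hB : IsSpecial B) {z : B} (hz : SGood I z)
    (b : ℕ) (hb : b ≠ 0) : SGood I (z ^ b) := by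
  induction b with
  | zero => exact absurd rfl hb
  | succ b ih =>
    rcases Nat.eq_zero_or_pos b with rfl | hpos
    · simpa using hz
    · rw [pow_succ]
      exact SGood.mul hI hB (ih (by omega)) hz

lemma sgood_gamma_succ {I : ℕ → Ideal B} (hI : IsFilt I) (hB : IsSpecial B) {z : B}
    (hz : SGood I z) (j : ℕ) : SGood I (gamma (j + 1) z) := by
  have := SGood.evG hI hB (MvPolynomial.X ((0 : Fin 2), j)) (by simp) ![z, 0] (by
    intro g; fin_cases g
    · simpa using hz
    · simpa using sgood_zero hI)
  simpa using this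

lemma sgood_finsupp_prod {I : ℕ → Ideal B} (hI : IsFilt I) (hB : IsSpecial B) {τ : Type*}
    (g : τ → B) (hg : ∀ t, SGood I (g t)) (d : τ →₀ ℕ) (hd : d ≠ 0) :
    SGood I (d.prod fun t n => g t ^ n) := by
  classical
  induction d using Finsupp.induction with
  | zero => exact absurd rfl hd
  | single_add a b f haf hb ih =>
    rw [Finsupp.prod_add_index' (by simp) (by intro t m m'; rw [pow_add]),
      Finsupp.prod_single_index (by simp)]
    by_cases hf : f = 0
    · subst hf
      simpa using sgood_pow hI hB (hg a) b hb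
    · exact SGood.mul hI hB (sgood_pow hI hB (hg a) b hb) (ih hf)

lemma list_prod_mem {I : ℕ → Ideal B} (hI : IsFilt I) (l : List (ℕ × B))
    (hl : ∀ p ∈ l, SGood I p.2) :
    (l.map fun p => gamma p.1 p.2).prod ∈ I (l.map Prod.fst).sum := by
  induction l with
  | nil => simp [hI.zero]
  | cons a l ih =>
    simp only [List.map_cons, List.sum_cons, List.prod_cons]
    exact hI.mul (hl a (List.mem_cons_self ..) a.1) (ih fun p hp => hl p (List.mem_cons_of_mem _ hp))

end

section Map

variable {K : Type*} {A : Type*} {B : Type*} [CommRing K] [CommRing A] [LambdaOps A]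
  [CommRing B] [LambdaOps B]

lemma map_mem_gammaFil (f : A →+* B)
    (hf : ∀ (n : ℕ) (a : A), f (LambdaOps.lam n a) = LambdaOps.lam n (f a))
    (εA : A →+* K) (εB : B →+* K) (hε : ∀ a, εB (f a) = εA a) {r : ℕ} {a : A}
    (ha : a ∈ gammaFil εA r) : f a ∈ gammaFil εB r := by
  unfold gammaFil at ha
  induction ha using Submodule.span_induction with
  | mem y hy =>
    obtain ⟨l, hl, hs, rfl⟩ := hy
    refine Ideal.subset_span ⟨l.map fun p => (p.1, f p.2), ?_, ?_, ?_⟩
    · intro p hp
      obtain ⟨q, hq, rfl⟩ := List.mem_map.mp hp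
      simp only
      rw [hε]; exact hl q hq
    · simpa [List.map_map, Function.comp_def] using hs
    · rw [map_list_prod, List.map_map, List.map_map]
      congr 1
      apply List.map_congr_left
      intro p _
      simp only [Function.comp_apply]
      exact map_gamma_of_map_lam f hf p.1 p.2
  | zero => rw [map_zero]; exact zero_mem _
  | add y z _ _ hy hz => rw [map_add]; exact add_mem hy hz
  | smul c y _ hy => rw [smul_eq_mul, map_mul]; exact Ideal.mul_mem_left _ _ hy

end Map

end Groth.Agent.Lib.Helper95.GammaClosure
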