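import Groth.Agent.Lib.Helper95.ScalarLK0

set_option autoImplicit false
open MvPolynomial Finset LambdaRing

namespace Groth.Agent.Lib.Helper95.ScalarLK

open Groth.Agent.Lib.Helper95.UnivRing Groth.Agent.Lib.Helper95.MinDegR
  Groth.Agent.Lib.Helper95.UnivGamma Groth.Agent.Lib.Helper95.Rep
  Groth.Agent.Lib.Helper95.UnivPoly Groth.Agent.Lib.Helper95.Transfer
  Groth.Agent.Lib.Helper95.KW Groth.Agent.Lib.Helper26.LambdaGamma

noncomputable def xi (k j : ℕ) : MvPolynomial ℕ ℤ := cB (fun q => (X q : MvPolynomial ℕ ℤ)) k j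

lemma aeval_xi {B : Type*} [CommRing B] (b : ℕ → B) (k j : ℕ) :
    aeval b (xi k j) = cB b k j := by
  have := map_cB ((aeval b : MvPolynomial ℕ ℤ →ₐ[ℤ] B) : MvPolynomial ℕ ℤ →+* B)
    (fun q => X q) k j
  simpa [xi] using this

noncomputable def Xi (j : ℕ) : MvPolynomial (ℕ ⊕ ℕ) ℤ :=
  ∑ k ∈ range (j + 1), X (Sum.inl k) * rename Sum.inr (xi k j)

lemma EN_Xi (N j : ℕ) :
    EN N (Xi j) = ∑ k ∈ range (j + 1), (N.choose k : MvPolynomial ℕ ℤ) * xi k j := by
  rw [Xi, map_sum]
  refine Finset.sum_congr rfl fun k _ => ?_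
  rw [map_mul, EN, aeval_X, aeval_rename, Sum.elim_inl]
  have : (Sum.elim (fun m : ℕ => C ((N.choose m : ℤ))) (fun q : ℕ => (X q : MvPolynomial ℕ ℤ)))
      ∘ Sum.inr = fun q => X q := by
    funext q; simp
  rw [this]
  have e : aeval (fun q : ℕ => (X q : MvPolynomial ℕ ℤ)) (xi k j) = xi k j :=
    aeval_X_left_apply _
  rw [e]
  simp

lemma EK_Xi {K : Type*} [CommRing K] [BinomialRing K] (κ : K) (j : ℕ) :
    EK κ (Xi j) = ∑ k ∈ range (j + 1), C (Ring.choose κ k) *
      cB (fun q => (X q : MvPolynomial ℕ K)) k j := by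
  rw [Xi, map_sum]
  refine Finset.sum_congr rfl fun k _ => ?_
  rw [map_mul, EK, aeval_X, aeval_rename, Sum.elim_inl]
  congr 1
  have : (Sum.elim (fun m : ℕ => C (Ring.choose κ m)) (fun q : ℕ => (X q : MvPolynomial ℕ K)))
      ∘ Sum.inr = fun q => X q := by
    funext q; simp
  rw [this]
  exact aeval_xi _ k j

lemma eq_zero_of_evG_ux (D : MvPolynomial (Fin 2 × ℕ) ℤ) (h : ∀ m, evG (ux m) D = 0) : D = 0 := by
  by_contra hne
  obtain ⟨d, hd⟩ := MvPolynomial.support_nonempty.mpr hne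
  have := weights_of_md D (Finsupp.weight wt d + 1) (fun m => by
    rw [h m]; exact md_of_eq_zero _) d hd
  omega

lemma stepA' (G : MvPolynomial (Fin 2 × ℕ) ℤ) (j : ℕ) (hG : GoodG.{0} F0 j G) (N : ℕ) :
    EN N (Psi G) = EN N (Xi j) := by
  classical
  have hinj : Function.Injective (fun q : ℕ => ((1 : Fin 2), q)) := fun a b h => by
    simpa using h
  rw [← sub_eq_zero]
  apply rename_injective _ hinj
  rw [map_zero]
  apply eq_zero_of_evG_ux
  intro m
  rw [map_sub, map_sub, sub_eq_zero]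
  set x : Fin 2 → MvPolynomial (Fin m ⊕ Fin m) ℚ :=
    ![(N : MvPolynomial (Fin m ⊕ Fin m) ℚ), ux m 1] with hx
  have e1 : evG (ux m) (rename (fun q : ℕ => ((1 : Fin 2), q)) (EN N (Psi G))) = evG x G := by
    have : (evG (ux m)).toRingHom.comp
        ((rename (fun q : ℕ => ((1 : Fin 2), q)) : MvPolynomial ℕ ℤ →ₐ[ℤ] _).toRingHom.comp
          ((EN N).comp Psi).toRingHom) = (evG x).toRingHom := by
      apply MvPolynomial.ringHom_ext
      · intro r; simp
      · rintro ⟨g, p⟩
        fin_cases g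
        · simp only [AlgHom.toRingHom_eq_coe, RingHom.comp_apply, RingHom.coe_coe,
            AlgHom.comp_apply, Psi, EN, aeval_X, Fin.zero_eta, Fin.isValue, if_pos, map_sum,
            map_mul, map_natCast, Sum.elim_inl, evG_X, hx, Matrix.cons_val_zero]
          rw [gamma_succ]
          refine Finset.sum_congr rfl fun j _ => ?_
          congr 1
          have := lam_intCast (A := MvPolynomial (Fin m ⊕ Fin m) ℚ) (lam_one_univ _) (N : ℤ)
            (j + 1)
          rw [Int.cast_natCast] at this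
          rw [this, Ring.choose_natCast]
          simp
        · simp [Psi, EN, hx]
    exact congrArg (fun φ => φ G) this
  rw [e1, ← hG _ (univ_isSpecial _) x]
  have e2 : evG x F0 = (N : MvPolynomial (Fin m ⊕ Fin m) ℚ) * ux m 1 := by
    simp [evG, F0, hx, Groth.Agent.Lib.Helper26.LambdaGamma.gamma_one_left]
  rw [e2, gamma_natCast_mul, EN_Xi, evG, aeval_rename, map_sum]
  refine Finset.sum_congr rfl fun k _ => ?_
  rw [map_mul, map_natCast, aeval_xi]
  rfl

lemma stepC' (G : MvPolynomial (Fin 2 × ℕ) ℤ) (j : ℕ) (hG : GoodG.{0} F0 j G)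
    {K : Type*} [CommRing K] [BinomialRing K] (κ : K) :
    EK κ (Psi G) = EK κ (Xi j) := by
  rw [← sub_eq_zero, ← map_sub]
  apply Groth.Agent.Lib.Helper95.IVP.ivp
  intro N
  have := stepA' G j hG N
  rw [← sub_eq_zero, ← map_sub] at this
  exact this

universe v

theorem scalar_expansion {K : Type*} [CommRing K] [BinomialRing K] [LambdaOps K]
    {A : Type v} [CommRing A] [LambdaOps A] [Algebra K A]
    (hA : IsSpecial A) (hKb : IsBinomial K) (hAlg : IsLambdaAlg K A) (κ : K) (y : A) (j : ℕ) :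
    gamma j (algebraMap K A κ * y) = ∑ k ∈ range (j + 1),
      algebraMap K A (Ring.choose κ k) * cB (fun q => gamma (q + 1) y) k j := by
  obtain ⟨Gs, hGs⟩ := exists_goodG.{v} F0
  set x : Fin 2 → A := ![algebraMap K A κ, y] with hx
  have h1 := (hGs j).1 A hA x
  have e2 : evG x F0 = algebraMap K A κ * y := by
    simp [evG, F0, hx, Groth.Agent.Lib.Helper26.LambdaGamma.gamma_one_left]
  rw [e2] at h1
  rw [h1]
  have : (evG x).toRingHom =
      ((aeval (fun q : ℕ => gamma (q + 1) y) : MvPolynomial ℕ K →ₐ[K] A).toRingHom).comp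
        ((EK κ).comp Psi).toRingHom := by
    apply MvPolynomial.ringHom_ext
    · intro r; simp
    · rintro ⟨g, p⟩
      fin_cases g
      · simp only [AlgHom.toRingHom_eq_coe, RingHom.coe_coe, evG_X, hx, Fin.zero_eta, Fin.isValue,
          Matrix.cons_val_zero, RingHom.comp_apply, AlgHom.comp_apply, Psi, EK, aeval_X, if_pos,
          map_sum, map_mul, map_natCast, Sum.elim_inl, aeval_C]
        rw [gamma_succ]
        refine Finset.sum_congr rfl fun j _ => ?_
        rw [← hAlg, hKb]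
      · simp [hx, Psi, EK]
  have h3 := congrArg (fun φ => φ (Gs j)) this
  simp only [AlgHom.toRingHom_eq_coe, RingHom.coe_coe, RingHom.comp_apply, AlgHom.comp_apply] at h3
  rw [h3, stepC' (Gs j) j (hGs j).2 κ, EK_Xi, map_sum]
  refine Finset.sum_congr rfl fun k _ => ?_
  rw [map_mul, aeval_C]
  congr 1
  have := map_cB ((aeval (fun q : ℕ => gamma (q + 1) y) : MvPolynomial ℕ K →ₐ[K] A) :
    MvPolynomial ℕ K →+* A) (fun q => X q) k j
  simpa using this

end Groth.Agent.Lib.Helper95.ScalarLK
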