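import Groth.Agent.Lib.Helper95.MultiFam
import Groth.Agent.Lib.Helper95.ScalarLK
import Groth.Agent.Lib.Helper95.GammaClosure2

set_option autoImplicit false
open MvPolynomial Finset LambdaRing

namespace Groth.Agent.Lib.Helper95.Lead

open Groth.Agent.Lib.Helper95.Rep Groth.Agent.Lib.Helper95.GamFil
  Groth.Agent.Lib.Helper95.GammaClosure Groth.Agent.Lib.Helper95.MultiFam
  Groth.Agent.Lib.Helper95.ScalarLK Groth.Agent.Lib.Helper26.LambdaGamma

universe u v

section Shift

variable {A : Type v} [CommRing A]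

def shift (I : ℕ → Ideal A) (n : ℕ) : ℕ → Ideal A := fun i => if i = 0 then ⊤ else I (max i n)

lemma shift_zero (I : ℕ → Ideal A) (n : ℕ) : shift I n 0 = ⊤ := by simp [shift]

lemma shift_pos (I : ℕ → Ideal A) (n : ℕ) {i : ℕ} (hi : i ≠ 0) : shift I n i = I (max i n) := by
  simp [shift, hi]

lemma shift_isFilt {I : ℕ → Ideal A} (hI : IsFilt I) (n : ℕ) : IsFilt (shift I n) where
  anti := by
    intro a b hab
    rcases Nat.eq_zero_or_pos a with rfl | ha
    · rw [shift_zero]; exact le_top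
    · rw [shift_pos I n (by omega : a ≠ 0), shift_pos I n (by omega : b ≠ 0)]
      exact hI.anti (max_le_max_right n hab)
  zero := shift_zero I n
  mul := by
    intro a b x y hx hy
    rcases Nat.eq_zero_or_pos a with rfl | ha
    · rw [Nat.zero_add]; exact Ideal.mul_mem_left _ _ hy
    rcases Nat.eq_zero_or_pos b with rfl | hb
    · rw [Nat.add_zero]; exact Ideal.mul_mem_right _ _ hx
    rw [shift_pos I n (by omega : a ≠ 0)] at hx
    rw [shift_pos I n (by omega : b ≠ 0)] at hy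
    rw [shift_pos I n (by omega : a + b ≠ 0)]
    exact hI.anti (by omega) (hI.mul hx hy)

lemma shift_le_shift {I : ℕ → Ideal A} (hI : IsFilt I) {n n' : ℕ} (h : n ≤ n') (i : ℕ) :
    shift I n' i ≤ shift I n i := by
  rcases Nat.eq_zero_or_pos i with rfl | hi
  · rw [shift_zero]; exact le_top
  · rw [shift_pos I n (by omega : i ≠ 0), shift_pos I n' (by omega : i ≠ 0)]
    exact hI.anti (max_le_max_left i h)

end Shift

section Gen

variable {K : Type u} {A : Type v} [CommRing K] [CommRing A] [LambdaOps A]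

lemma exists_gen_data (ε : A →+* K) (l : List (ℕ × A)) (hl : ∀ p ∈ l, ε p.2 = 0) :
    ∃ (r : ℕ) (y : Fin r → A) (F : MvPolynomial (Fin r × ℕ) ℤ), (∀ s, ε (y s) = 0) ∧
      evG y F = (l.map fun p => gamma p.1 p.2).prod ∧
      IsWeightedHomogeneous (wtr r) F (l.map Prod.fst).sum := by
  classical
  refine ⟨l.length, fun s => (l.get s).2,
    ∏ s : Fin l.length, (if (l.get s).1 = 0 then 1 else X (s, (l.get s).1 - 1)), ?_, ?_, ?_⟩
  · intro s
    exact hl _ (List.get_mem l s)
  · rw [map_prod, ← Fin.prod_univ_fun_getElem l (fun p => gamma p.1 p.2)]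
    refine Finset.prod_congr rfl fun s _ => ?_
    split_ifs with h
    · rw [map_one]
      show (1 : A) = gamma (l.get s).1 (l.get s).2
      rw [h, gamma_zero_left]
    · rw [evG_X]
      show gamma ((l.get s).1 - 1 + 1) (l.get s).2 = gamma (l.get s).1 (l.get s).2
      rw [Nat.sub_add_cancel (by omega)]
  · rw [← Fin.sum_univ_fun_getElem l Prod.fst]
    refine IsWeightedHomogeneous.prod _ _ _ fun s _ => ?_
    split_ifs with h
    · show IsWeightedHomogeneous _ _ (l.get s).1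
      rw [h]
      exact isWeightedHomogeneous_one _ _
    · have := isWeightedHomogeneous_X ℤ (wtr l.length) (s, (l.get s).1 - 1)
      have e : wtr l.length (s, (l.get s).1 - 1) = (l.get s).1 := by
        simp only [wtr]; omega
      rw [e] at this
      exact this


lemma sgood_listProd (hA : IsSpecial A) (ε : A →+* K) (l : List (ℕ × A))
    (hl : ∀ p ∈ l, ε p.2 = 0) (n : ℕ) (hn : n ≤ (l.map Prod.fst).sum) (hn1 : 1 ≤ n) :
    SGood (shift (gammaFil ε) n) ((l.map fun p => gamma p.1 p.2).prod) := by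
  classical
  obtain ⟨r, y, F, hy, hF, hFh⟩ := exists_gen_data ε l hl
  have hFil := gammaFil_isFilt ε
  have hFa : ∀ d ∈ F.support, n ≤ Finsupp.weight (wtr r) d := by
    intro d hd
    rw [hFh (mem_support_iff.mp hd)]; exact hn
  have hF0 : constantCoeff F = 0 := by
    by_contra hne
    have h0 : (0 : Fin r × ℕ →₀ ℕ) ∈ F.support := by
      rw [mem_support_iff]; exact hne
    have := hFa 0 h0
    simp at this
    omega
  intro i
  rcases Nat.eq_zero_or_pos i with rfl | hi
  · rw [shift_zero]; trivial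
  · rw [shift_pos _ _ (by omega : i ≠ 0), ← hF]
    obtain ⟨G, hG, hGw⟩ := transfer_shift.{v} F hF0 n hFa i hi
    rw [hG A hA y]
    exact hFil.aeval_mem (wtr r) _ (fun ip => gamma_mem_gammaFil ε (hy ip.1) (ip.2 + 1)) _ G hGw

lemma lead_listProd (hA : IsSpecial A) (ε : A →+* K) (l : List (ℕ × A))
    (hl : ∀ p ∈ l, ε p.2 = 0) (m : ℕ) (hm : m ≤ (l.map Prod.fst).sum) (hm1 : 1 ≤ m) :
    gamma m ((l.map fun p => gamma p.1 p.2).prod) -
      (-1 : A) ^ (m - 1) * ((m - 1).factorial : A) * (l.map fun p => gamma p.1 p.2).prod ∈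
      gammaFil ε (m + 1) := by
  classical
  obtain ⟨r, y, F, hy, hF, hFh⟩ := exists_gen_data ε l hl
  have hFil := gammaFil_isFilt ε
  have hFa : ∀ d ∈ F.support, m ≤ Finsupp.weight (wtr r) d := by
    intro d hd
    rw [hFh (mem_support_iff.mp hd)]; exact hm
  obtain ⟨H, hH, hHw⟩ := transfer_lead.{v} F m hm1 hFa
  rw [← hF, ← hH A hA y]
  exact hFil.aeval_mem (wtr r) _ (fun ip => gamma_mem_gammaFil ε (hy ip.1) (ip.2 + 1)) _ H hHw

end Gen


section Z

variable {A : Type v} [CommRing A] [LambdaOps A]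

def ZP (I : ℕ → Ideal A) (m : ℕ) (z : A) : Prop :=
  SGood (shift I m) z ∧
    gamma m z - (-1 : A) ^ (m - 1) * ((m - 1).factorial : A) * z ∈ I (m + 1)

lemma sgood_shift_mem {I : ℕ → Ideal A} (hI : IsFilt I) {m : ℕ} {z : A}
    (hz : SGood (shift I m) z) {i : ℕ} (hi : 1 ≤ i) : gamma i z ∈ I m := by
  have := hz i
  rw [shift_pos I m (by omega : i ≠ 0)] at this
  exact hI.anti (le_max_right i m) this

lemma ZP.zero {I : ℕ → Ideal A} (hI : IsFilt I) {m : ℕ} (hm : 1 ≤ m) : ZP I m (0 : A) := by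
  refine ⟨sgood_zero (shift_isFilt hI m), ?_⟩
  rw [gamma_zero_right, if_neg (by omega), mul_zero, sub_zero]
  exact zero_mem _

lemma ZP.add {I : ℕ → Ideal A} (hI : IsFilt I) {m : ℕ} (hm : 1 ≤ m) {z w : A}
    (hz : ZP I m z) (hw : ZP I m w) : ZP I m (z + w) := by
  refine ⟨SGood.add (shift_isFilt hI m) hz.1 hw.1, ?_⟩
  obtain ⟨m', rfl⟩ : ∃ m', m = m' + 1 := ⟨m - 1, by omega⟩
  rw [gamma_add, Finset.Nat.sum_antidiagonal_eq_sum_range_succ_mk, Finset.sum_range_succ,
    Finset.sum_range_succ']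
  simp only [Nat.sub_zero, Nat.sub_self, gamma_zero_left, one_mul, mul_one]
  have e : ∑ i ∈ range m', gamma (i + 1) z * gamma (m' + 1 - (i + 1)) w + gamma (m' + 1) w +
      gamma (m' + 1) z - (-1 : A) ^ (m' + 1 - 1) * ((m' + 1 - 1).factorial : A) * (z + w) =
      ∑ i ∈ range m', gamma (i + 1) z * gamma (m' + 1 - (i + 1)) w +
      (gamma (m' + 1) w - (-1 : A) ^ (m' + 1 - 1) * ((m' + 1 - 1).factorial : A) * w) +
      (gamma (m' + 1) z - (-1 : A) ^ (m' + 1 - 1) * ((m' + 1 - 1).factorial : A) * z) := by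
    ring
  rw [e]
  refine add_mem (add_mem (sum_mem fun i hi => ?_) hw.2) hz.2
  have hi' := Finset.mem_range.mp hi
  have h1 := sgood_shift_mem hI hz.1 (i := i + 1) (by omega)
  have h2 := sgood_shift_mem hI hw.1 (i := m' + 1 - (i + 1)) (by omega)
  exact hI.anti (by omega) (hI.mul h1 h2)

lemma ZP.of_succ {I : ℕ → Ideal A} (hI : IsFilt I) {m : ℕ} (hm : 1 ≤ m) {w : A}
    (hw : SGood (shift I (m + 1)) w) (hw' : w ∈ I (m + 1)) : ZP I m w := by
  refine ⟨fun i => shift_le_shift hI (Nat.le_succ m) i (hw i), ?_⟩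
  refine sub_mem ?_ (Ideal.mul_mem_left _ _ hw')
  have := hw m
  rw [shift_pos I (m + 1) (by omega : m ≠ 0), max_eq_right (Nat.le_succ m)] at this
  exact this

omit [LambdaOps A] in
lemma cB_mem {I : ℕ → Ideal A} (hI : IsFilt I) {m : ℕ} (b : ℕ → A) (hb : ∀ q, b q ∈ I m)
    (k j : ℕ) : cB b k j ∈ I (k * m) := by
  induction k generalizing j with
  | zero => rw [Nat.zero_mul, hI.zero]; trivial
  | succ k ih =>
    rw [cB_succ]
    refine sum_mem fun p _ => ?_
    rw [Nat.succ_mul]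
    refine hI.mul (ih p.1) ?_
    rw [cB_one]
    split_ifs
    · exact zero_mem _
    · exact hb _

variable {K : Type u} [CommRing K] [LambdaOps K] [BinomialRing K] [Algebra K A]

lemma ZP.smul {I : ℕ → Ideal A} (hI : IsFilt I) (hA : IsSpecial A) (hKb : IsBinomial K)
    (hAlg : IsLambdaAlg K A) {m : ℕ} (hm : 1 ≤ m) (κ : K) {z : A} (hz : ZP I m z) :
    ZP I m (algebraMap K A κ * z) := by
  refine ⟨SGood.smul (shift_isFilt hI m) hA hKb hAlg κ hz.1, ?_⟩
  obtain ⟨m', rfl⟩ : ∃ m', m = m' + 1 := ⟨m - 1, by omega⟩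
  rw [scalar_expansion hA hKb hAlg κ z (m' + 1), Finset.sum_range_succ', Finset.sum_range_succ']
  have hb : ∀ q, gamma (q + 1) z ∈ I (m' + 1) := fun q =>
    sgood_shift_mem hI hz.1 (by omega)
  have e0 : cB (fun q => gamma (q + 1) z) 0 (m' + 1) = 0 := by
    rw [cB_zero, if_neg (by omega)]
  have e1 : cB (fun q => gamma (q + 1) z) (0 + 1) (m' + 1) = gamma (m' + 1) z := by
    rw [cB_one, if_neg (by omega)]
    simp
  rw [e0, e1, mul_zero, add_zero, Nat.zero_add, Ring.choose_one_right]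
  have e : ∑ k ∈ range m', algebraMap K A (Ring.choose κ (k + 1 + 1)) *
      cB (fun q => gamma (q + 1) z) (k + 1 + 1) (m' + 1) + algebraMap K A κ * gamma (m' + 1) z -
      (-1 : A) ^ (m' + 1 - 1) * ((m' + 1 - 1).factorial : A) * (algebraMap K A κ * z) =
      ∑ k ∈ range m', algebraMap K A (Ring.choose κ (k + 1 + 1)) *
      cB (fun q => gamma (q + 1) z) (k + 1 + 1) (m' + 1) + algebraMap K A κ *
      (gamma (m' + 1) z - (-1 : A) ^ (m' + 1 - 1) * ((m' + 1 - 1).factorial : A) * z) := by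
    ring
  rw [e]
  refine add_mem (sum_mem fun k _ => Ideal.mul_mem_left _ _ ?_) (Ideal.mul_mem_left _ _ hz.2)
  have := cB_mem hI _ hb (k + 1 + 1) (m' + 1)
  refine hI.anti ?_ this
  nlinarith

end Z

end Groth.Agent.Lib.Helper95.Lead
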