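import Groth.Agent.Lib.Helper95.GrQ
import Groth.Agent.Lib.Helper95.ChNewton
import Groth.Agent.Lib.Helper95.Bridge4
import Groth.Agent.Lib.Helper95.Lead

set_option autoImplicit false
open LambdaRing KGr Finset
open scoped TensorProduct

namespace Groth.Agent.Lib.Helper95.ChLib

open Groth.Agent.Lib.Helper95.GamFil Groth.Agent.Lib.Helper95.GammaClosure
  Groth.Agent.Lib.Helper95.Lead Groth.Agent.Lib.Helper26.LambdaGamma
  Groth.Agent.Lib.Helper95.Bridge Groth.Agent.Lib.Helper95.GrLib
  Groth.Agent.Lib.Helper95.ChNewton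

universe u v

section ZPmem

variable {K : Type u} [CommRing K] [LambdaOps K] [BinomialRing K]
  {A : Type v} [CommRing A] [LambdaOps A] [Algebra K A]

theorem zp_of_mem (hKb : IsBinomial K) (hA : IsSpecial A) (ε : A →ₐ[K] K)
    (hε : IsAugLambdaAlg K A ε) (m : ℕ) (hm : 1 ≤ m) (z : A)
    (hz : z ∈ gammaFil (ε : A →+* K) m) : ZP (gammaFil (ε : A →+* K)) m z := by
  have hFil := gammaFil_isFilt (ε : A →+* K)
  have hgen : ∀ l : List (ℕ × A), (∀ p ∈ l, (ε : A →+* K) p.2 = 0) → m ≤ (l.map Prod.fst).sum →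
      ZP (gammaFil (ε : A →+* K)) m ((l.map fun p => gamma p.1 p.2).prod) := fun l hl hs =>
    ⟨sgood_listProd hA _ l hl m hs hm, lead_listProd hA _ l hl m hs hm⟩
  unfold gammaFil at hz
  induction hz using Submodule.closure_induction with
  | zero => exact ZP.zero hFil hm
  | add x y _ _ hx hy => exact ZP.add hFil hm hx hy
  | smul_mem a x hx =>
    obtain ⟨l, hl, hs, rfl⟩ := hx
    set g := (l.map fun p => gamma p.1 p.2).prod with hg
    set a0 := a - algebraMap K A (ε a) with ha0
    have hεa0 : (ε : A →+* K) a0 = 0 := by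
      show ε a0 = 0
      rw [ha0, map_sub, AlgHom.commutes]
      simp
    have hsplit : a • g = algebraMap K A (ε a) * g + a0 * g := by
      rw [ha0, smul_eq_mul]; ring
    rw [hsplit]
    refine ZP.add hFil hm (ZP.smul hFil hA hKb hε.isLambdaAlg hm _ (hgen l hl hs)) ?_
    have hl' : ∀ p ∈ (1, a0) :: l, (ε : A →+* K) p.2 = 0 := by
      intro p hp
      rcases List.mem_cons.mp hp with rfl | hp
      · exact hεa0
      · exact hl p hp
    have hs' : m + 1 ≤ (((1, a0) :: l).map Prod.fst).sum := by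
      simp only [List.map_cons, List.sum_cons]; omega
    have hprod : (((1, a0) :: l).map fun p => gamma p.1 p.2).prod = a0 * g := by
      simp only [List.map_cons, List.prod_cons, gamma_one_left, hg]
    rw [← hprod]
    exact ZP.of_succ hFil hm (sgood_listProd hA _ _ hl' (m + 1) hs' (by omega))
      (Ideal.subset_span ⟨_, hl', hs', rfl⟩)

end ZPmem

section Pos

variable {K : Type v} [CommRing K] [LambdaOps K] (P : PosStructure K) (hK : HasSplitting K P)

include hK

attribute [local instance] binomialLambdaOps in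
lemma zp_pos {n : ℕ} (hn : 1 ≤ n) {x : K} (hx : x ∈ gammaFiltration P n) :
    ZP (gammaFil ((augAlg P : K →ₐ[ℤ] ℤ) : K →+* ℤ)) n x :=
  zp_of_mem int_isBinomial (isSpecial_of_hasSplitting P hK) (augAlg P) (isAugLambdaAlg P hK) n hn x
    ((mem_gammaFiltration_iff P n x).mp hx)

lemma gamma_stable {n i : ℕ} (hn : 1 ≤ n) (hi : 1 ≤ i) {x : K} (hx : x ∈ gammaFiltration P n) :
    gamma i x ∈ gammaFiltration P (max i n) := by
  rw [mem_gammaFiltration_iff]
  have h := (zp_pos P hK hn hx).1 i
  rwa [shift_pos _ _ (by omega : i ≠ 0)] at h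

lemma gamma_leading {n : ℕ} (hn : 1 ≤ n) {x : K} (hx : x ∈ gammaFiltration P n) :
    gamma n x - (-1 : K) ^ (n - 1) * ((n - 1).factorial : K) * x ∈ gammaFiltration P (n + 1) := by
  rw [mem_gammaFiltration_iff]
  exact (zp_pos P hK hn hx).2

attribute [local instance] binomialLambdaOps in
lemma aug_gamma (r : ℕ) (y : K) (hy : P.aug y = 0) : P.aug (gamma r y) = if r = 0 then 1 else 0 := by
  have h := map_gamma_of_map_lam (P.aug) (fun n a => (isAugLambdaAlg P hK).map_lam n a) r y
  rw [h, hy, gamma_zero_right]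

lemma aug_of_mem {n : ℕ} (hn : 1 ≤ n) {x : K} (hx : x ∈ gammaFiltration P n) : P.aug x = 0 := by
  unfold gammaFiltration at hx
  rw [if_neg (by omega)] at hx
  induction hx using AddSubgroup.closure_induction with
  | mem y hy =>
    obtain ⟨l, hl, hs, rfl⟩ := hy
    rw [map_list_prod, List.map_map]
    apply List.prod_eq_zero
    have : ∃ p ∈ l, 1 ≤ p.1 := by
      by_contra hcon
      push Not at hcon
      have : (l.map Prod.fst).sum = 0 := by
        apply List.sum_eq_zero
        intro a ha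
        obtain ⟨p, hp, rfl⟩ := List.mem_map.mp ha
        have := hcon p hp
        omega
      omega
    obtain ⟨p, hp, hp1⟩ := this
    refine List.mem_map.mpr ⟨p, hp, ?_⟩
    simp only [Function.comp_apply]
    rw [aug_gamma P hK p.1 p.2 (hl p hp), if_neg (by omega)]
  | zero => exact map_zero _
  | add y z _ _ hy hz => rw [map_add, hy, hz, add_zero]
  | neg y _ hy => rw [map_neg, hy, neg_zero]

end Pos

section Chern

open Groth.Agent.Lib.Helper95.GammaFil

variable {K : Type v} [CommRing K] [LambdaOps K] (P : PosStructure K)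

lemma aug_sub_aug (x : K) : P.aug (x - (P.aug x : K)) = 0 := by simp

lemma gamma_red_mem (x : K) (i : ℕ) : gamma i (x - (P.aug x : K)) ∈ gammaFiltration P i :=
  gamma_mem P _ (aug_sub_aug P x) i

lemma chern_zero (x : K) : chern P 0 x = 1 := by
  unfold chern
  rw [gamma_zero_left]
  exact grK_one P

lemma chern_big (d : ℕ) (hd : gammaFiltration P (d + 1) = ⊥) (a : ℕ) (ha : d < a) (x : K) :
    chern P a x = 0 := by
  unfold chern
  have h := gammaFiltration_anti P (show d + 1 ≤ a by omega) (gamma_red_mem P x a)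
  rw [hd, AddSubgroup.mem_bot] at h
  rw [h]
  exact grK_zero P a

lemma chern_add (k : ℕ) (x y : K) :
    chern P k (x + y) = ∑ p ∈ antidiagonal k, chern P p.1 x * chern P p.2 y := by
  unfold chern
  have e : x + y - ((P.aug (x + y) : ℤ) : K) = (x - (P.aug x : K)) + (y - (P.aug y : K)) := by
    rw [map_add]; push_cast; ring
  rw [e, gamma_add, grK_sum P]
  · refine Finset.sum_congr rfl fun p hp => ?_
    have hp' := Finset.HasAntidiagonal.mem_antidiagonal.mp hp
    rw [grK_mul P (gamma_red_mem P x p.1) (gamma_red_mem P y p.2), hp']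
  · intro p hp
    have hp' := Finset.HasAntidiagonal.mem_antidiagonal.mp hp
    have := fil_mul_mem P (gamma_red_mem P x p.1) (gamma_red_mem P y p.2)
    rwa [hp'] at this

variable (hK : HasSplitting K P)

include hK

lemma chern_eq_zero_of_mem {n i : ℕ} (hi : 1 ≤ i) (hin : i < n) {x : K}
    (hx : x ∈ gammaFiltration P n) : chern P i x = 0 := by
  unfold chern
  rw [aug_of_mem P hK (by omega) hx, Int.cast_zero, sub_zero]
  apply grK_of_succ
  exact gammaFiltration_anti P (by omega) (gamma_stable P hK (by omega) hi hx)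

lemma chern_top_of_mem {n : ℕ} (hn : 1 ≤ n) {x : K} (hx : x ∈ gammaFiltration P n) :
    chern P n x = ((((-1) ^ (n - 1) * ((n - 1).factorial : ℤ) : ℤ)) : ℚ) • grK P (n : ℤ) x := by
  unfold chern
  rw [aug_of_mem P hK hn hx, Int.cast_zero, sub_zero]
  have h := gamma_leading P hK hn hx
  have e : gamma n x = (((-1) ^ (n - 1) * ((n - 1).factorial : ℤ) : ℤ) : K) * x +
      (gamma n x - (-1 : K) ^ (n - 1) * ((n - 1).factorial : K) * x) := by
    push_cast; ring
  rw [e, grK_add P (fil_smul_mem P _ hx) (gammaFiltration_anti P (Nat.le_succ n) h),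
    grK_of_succ P h, add_zero, grK_intCast_mul P _ hx]

end Chern

section Ch

open Groth.Agent.Lib.Helper95.GammaFil

variable {K : Type v} [CommRing K] [LambdaOps K] (P : PosStructure K) (d : ℕ)

noncomputable def cv (x : K) : Fin d → Gr P := fun i => chern P ((i : ℕ) + 1) x

noncomputable def chc (k : ℕ) (x : K) : Gr P := nv d (cv P d x) k

variable (hd : gammaFiltration P (d + 1) = ⊥)

include hd

lemma ev_cv (a : ℕ) (x : K) : ev d (cv P d x) a = chern P a x := by
  rcases Nat.eq_zero_or_pos a with rfl | ha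
  · rw [ev_zero, chern_zero]
  · by_cases h : a ≤ d
    · obtain ⟨b, rfl⟩ : ∃ b, a = b + 1 := ⟨a - 1, by omega⟩
      rw [ev_succ d _ b (by omega)]
      rfl
    · rw [ev_big d _ a (by omega), chern_big P d hd a (by omega)]

lemma isNewtonSeq_chern (x : K) :
    IsNewtonSeq (fun a => chern P a x) (fun k => chc P d k x) := by
  have h := isNewtonSeq_ev d (cv P d x)
  have e : ev d (cv P d x) = fun a => chern P a x := funext fun a => ev_cv P d hd a x
  rw [e] at h
  exact h

lemma chc_add (k : ℕ) (x y : K) : chc P d k (x + y) = chc P d k x + chc P d k y := by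
  have h1 := (isNewtonSeq_chern P d hd x).add (isNewtonSeq_chern P d hd y)
    (e'' := fun a => chern P a (x + y)) (fun k => chern_add P k x y)
  have h2 := isNewtonSeq_chern P d hd (x + y)
  have := IsNewtonSeq.unique (chern_zero P (x + y)) h2 h1
  exact congrFun this k

omit hd in
lemma chK_eq (x : K) : chK P d x = algebraMap ℚ (Gr P) (P.aug x : ℚ) +
    ∑ k ∈ range d, (1 / ((k + 1).factorial : ℚ)) • chc P d (k + 1) x := by
  unfold chK
  have h := aeval_chPoly d (cv P d x)
  unfold cv at h
  rw [h, RingHom.map_sub]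
  unfold chc cv
  abel

lemma chc_mem_Dn (k : ℕ) (x : K) : chc P d k x ∈ Dn P k := by
  refine IsNewtonSeq.mem (R := ℚ) (chern_zero P x) (isNewtonSeq_chern P d hd x) (Dn P)
    (fun a b y z hy hz => Dn_mul P hy hz) (fun a => ?_) k
  exact grK_mem_Dn P (gamma_red_mem P x a)

lemma chc_of_mem (hK : HasSplitting K P) {n : ℕ} (hn : 1 ≤ n) {x : K}
    (hx : x ∈ gammaFiltration P n) :
    (∀ k, k < n → chc P d k x = 0) ∧ chc P d n x = (n.factorial : ℚ) • grK P (n : ℤ) x := by
  have h := (isNewtonSeq_chern P d hd x).vanish (chern_zero P x) n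
    (fun a ha han => chern_eq_zero_of_mem P hK ha han hx)
  refine ⟨h.1, ?_⟩
  rw [h.2, chern_top_of_mem P hK hn hx]
  obtain ⟨m, rfl⟩ : ∃ m, n = m + 1 := ⟨n - 1, by omega⟩
  rw [Nat.add_sub_cancel, Nat.factorial_succ]
  have e : ((-1 : Gr P)) ^ (m + 1 + 1) * ((m + 1 : ℕ) : Gr P) =
      algebraMap ℚ (Gr P) ((-1) ^ (m + 1 + 1) * ((m + 1 : ℕ) : ℚ)) := by
    rw [RingHom.map_mul, RingHom.map_pow, RingHom.map_neg, RingHom.map_one, map_natCast]
  rw [e, ← Algebra.smul_def, smul_smul]
  congr 1
  push_cast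
  rw [pow_succ, pow_succ]
  have : ((-1 : ℚ) ^ m) * ((-1 : ℚ) ^ m) = 1 := by rw [← mul_pow]; simp
  linear_combination ((m : ℚ) + 1) * (m.factorial : ℚ) * this

end Ch

end Groth.Agent.Lib.Helper95.ChLib
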