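import Groth.Agent.Lib.Helper95.ChBij
import Groth.Agent.Lib.Helper95.BridgeAdams

set_option autoImplicit false
open LambdaRing KGr Finset
open scoped TensorProduct

namespace Groth.Agent.Lib.Helper95.ChMul

open Groth.Agent.Lib.Helper95.GrLib Groth.Agent.Lib.Helper95.ChLib
  Groth.Agent.Lib.Helper95.ChNewton Groth.Agent.Lib.Helper95.AdamsEigen
  Groth.Agent.Lib.Helper95.GammaFil Groth.Agent.Lib.Helper26.LambdaGamma
  Groth.Agent.Lib.Helper95.ChBij Groth.Agent.Lib.Helper95.Bridge Groth.Agent.Lib.Helper48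
  Groth.Agent.Lib.Helper95.FilEigen

universe v

variable {K : Type v} [CommRing K] [LambdaOps K] (P : PosStructure K) (hK : HasSplitting K P)

include hK

lemma aug_adams (j : ℕ) (hj : 1 ≤ j) (x : K) : P.aug (adams P j x) = P.aug x := by
  have h := Groth.Agent.S3292.result K P hK j hj 0 x (by rw [gammaFiltration_zero]; trivial)
  have h2 := aug_of_mem P hK (le_refl 1) h
  rw [map_sub, pow_zero, one_mul, sub_eq_zero] at h2
  exact h2

lemma chern_adams (j : ℕ) (hj : 1 ≤ j) (i : ℕ) (x : K) :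
    chern P i (adams P j x) = ((j : ℚ) ^ i) • chern P i x := by
  unfold chern
  rw [aug_adams P hK j hj]
  set y := x - ((P.aug x : ℤ) : K) with hy
  have e1 : adams P j x - ((P.aug x : ℤ) : K) = adams P j y := by
    rw [hy, adams_sub]
    congr 1
    exact (map_intCast (adamsRingHom P hK j) (P.aug x)).symm
  rw [e1, ← adams_gamma P hK]
  have hg := gamma_red_mem P x i
  rw [← hy] at hg
  have h := Groth.Agent.S3292.result K P hK j hj i (gamma i y) hg
  have e2 : adams P j (gamma i y) = ((j ^ i : ℕ) : K) * gamma i y +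
      (adams P j (gamma i y) - (j : K) ^ i * gamma i y) := by
    push_cast; ring
  rw [e2, grK_add P (fil_smul_mem P _ hg) (gammaFiltration_anti P (Nat.le_succ i) h),
    grK_of_succ P h, add_zero, grK_natCast_mul P _ hg]
  push_cast
  rfl

variable (d : ℕ) (hd : gammaFiltration P (d + 1) = ⊥)

include hd

lemma chc_adams (j : ℕ) (hj : 1 ≤ j) (k : ℕ) (x : K) :
    chc P d k (adams P j x) = ((j : ℚ) ^ k) • chc P d k x := by
  have h1 := (isNewtonSeq_chern P d hd x).scale (algebraMap ℚ (Gr P) (j : ℚ))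
  have h2 := isNewtonSeq_chern P d hd (adams P j x)
  have e : (fun a => chern P a (adams P j x)) =
      fun a => (algebraMap ℚ (Gr P) (j : ℚ)) ^ a * chern P a x := by
    funext a
    rw [chern_adams P hK j hj, ← RingHom.map_pow]
    exact Algebra.smul_def (R := ℚ) (A := Gr P) _ _
  rw [e] at h2
  have h0 : (algebraMap ℚ (Gr P) (j : ℚ)) ^ 0 * chern P 0 x = 1 := by
    rw [pow_zero, one_mul, chern_zero]
  have := IsNewtonSeq.unique h0 h2 h1
  have h3 : chc P d k (adams P j x) = (algebraMap ℚ (Gr P) (j : ℚ)) ^ k * chc P d k x :=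
    congrFun this k
  rw [h3, ← RingHom.map_pow]
  exact (Algebra.smul_def (R := ℚ) (A := Gr P) _ _).symm

omit hd in
noncomputable def PsiAlg (j : ℕ) : ℚ ⊗[ℤ] K →ₐ[ℚ] ℚ ⊗[ℤ] K :=
  Algebra.TensorProduct.map (AlgHom.id ℚ ℚ) (adamsRingHom P hK j).toIntAlgHom

omit hd in
lemma PsiAlg_tmul (j : ℕ) (q : ℚ) (x : K) :
    PsiAlg P hK j (q ⊗ₜ[ℤ] x) = q ⊗ₜ[ℤ] adams P j x := by
  unfold PsiAlg
  rw [Algebra.TensorProduct.map_tmul]
  rfl

omit hK in
noncomputable def chcAdd (k : ℕ) : K →+ Gr P :=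
  AddMonoidHom.mk' (fun x => chc P d k x) (chc_add P d hd k)

omit hK in
noncomputable def Phik (k : ℕ) : ℚ ⊗[ℤ] K →ₗ[ℚ] Gr P :=
  (chcAdd P d hd k).toIntLinearMap.liftBaseChange ℚ

omit hK in
lemma Phik_tmul (k : ℕ) (q : ℚ) (x : K) : Phik P d hd k (q ⊗ₜ[ℤ] x) = q • chc P d k x := rfl

omit hK hd in
noncomputable def Phi0 : ℚ ⊗[ℤ] K →ₗ[ℚ] Gr P :=
  ((algebraMap ℚ (Gr P)).toAddMonoidHom.comp
    ((Int.castAddHom ℚ).comp P.aug.toAddMonoidHom)).toIntLinearMap.liftBaseChange ℚ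

omit hK hd in
lemma Phi0_tmul (q : ℚ) (x : K) :
    Phi0 P (q ⊗ₜ[ℤ] x) = q • algebraMap ℚ (Gr P) (P.aug x : ℚ) := rfl

omit hK in
lemma Phi_eq (z : ℚ ⊗[ℤ] K) : Phi P d hd z = Phi0 P z +
    ∑ k ∈ range d, (1 / ((k + 1).factorial : ℚ)) • Phik P d hd (k + 1) z := by
  induction z using TensorProduct.induction_on with
  | zero => simp
  | tmul q x =>
    rw [Phi_tmul, chK_eq, smul_add, Phi0_tmul, Finset.smul_sum]
    congr 1
    refine Finset.sum_congr rfl fun k _ => ?_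
    rw [Phik_tmul, smul_comm]
  | add y z hy hz =>
    rw [map_add, map_add, hy, hz]
    simp only [map_add, smul_add, Finset.sum_add_distrib]
    abel

lemma Phik_Psi (j : ℕ) (hj : 1 ≤ j) (k : ℕ) (z : ℚ ⊗[ℤ] K) :
    Phik P d hd k (PsiAlg P hK j z) = ((j : ℚ) ^ k) • Phik P d hd k z := by
  induction z using TensorProduct.induction_on with
  | zero => simp
  | tmul q x => rw [PsiAlg_tmul, Phik_tmul, Phik_tmul, chc_adams P hK d hd j hj, smul_comm]
  | add y z hy hz => rw [map_add, map_add, map_add, hy, hz, smul_add]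

lemma Phik_eigen {m k : ℕ} (hkm : k ≠ m) {z : ℚ ⊗[ℤ] K}
    (hz : z ∈ Module.End.eigenspace (PsiAlg P hK 2).toLinearMap ((2 : ℚ) ^ m)) :
    Phik P d hd k z = 0 := by
  rw [Module.End.mem_eigenspace_iff] at hz
  have h1 := Phik_Psi P hK d hd 2 (by norm_num) k z
  have hz' : PsiAlg P hK 2 z = (2 : ℚ) ^ m • z := hz
  rw [hz', map_smul] at h1
  have hc : ((2 : ℚ) ^ m - ((2 : ℕ) : ℚ) ^ k) ≠ 0 := by
    rw [sub_ne_zero]
    intro h
    apply hkm
    have h2 : (2 : ℕ) ^ m = (2 : ℕ) ^ k := by exact_mod_cast h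
    exact (Nat.pow_right_injective (le_refl 2) h2).symm
  have h2 : ((2 : ℚ) ^ m - ((2 : ℕ) : ℚ) ^ k) • Phik P d hd k z = 0 := by
    rw [sub_smul, h1, sub_self]
  have : Phik P d hd k z = ((2 : ℚ) ^ m - ((2 : ℕ) : ℚ) ^ k)⁻¹ •
      (((2 : ℚ) ^ m - ((2 : ℕ) : ℚ) ^ k) • Phik P d hd k z) := by
    rw [smul_smul, inv_mul_cancel₀ hc, one_smul]
  rw [this, h2, smul_zero]

lemma Phi_eigen (m : ℕ) {N : ℕ} (_hN : 1 ≤ N) {x : K} (hx : x ∈ gammaFiltration P m)
    (hz : (1 / (N : ℚ)) ⊗ₜ[ℤ] x ∈ Module.End.eigenspace (PsiAlg P hK 2).toLinearMap ((2 : ℚ) ^ m)) :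
    Phi P d hd ((1 / (N : ℚ)) ⊗ₜ[ℤ] x) = (1 / (N : ℚ)) • grK P (m : ℤ) x := by
  by_cases hm : m ≤ d
  · rw [Phi_tmul, chK_lead P d hd hK hm hx, smul_add, add_eq_left, Finset.smul_sum]
    apply Finset.sum_eq_zero
    intro k hk
    rw [Finset.mem_filter] at hk
    rw [smul_comm, ← Phik_tmul P d hd, Phik_eigen P hK d hd (by omega) hz, smul_zero]
  · have h0 := fil_eq_bot P d hd (show d + 1 ≤ m by omega)
    rw [h0, AddSubgroup.mem_bot] at hx
    subst hx
    rw [TensorProduct.tmul_zero, map_zero, grK_zero, smul_zero]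

theorem Phi_mul (z z' : ℚ ⊗[ℤ] K) : Phi P d hd (z * z') = Phi P d hd z * Phi P d hd z' := by
  have hfd := filData P hK d hd 2 (le_refl 2) (PsiAlg P hK 2).toLinearMap
    (fun x => by
      show PsiAlg P hK 2 ((1 : ℚ) ⊗ₜ[ℤ] x) = _
      rw [PsiAlg_tmul])
  have hfd' : FilData (PsiAlg P hK 2).toLinearMap (QF P) (fun m => (2 : ℚ) ^ m) d := by
    simpa using hfd
  have htop : (⨆ m : ℕ, Module.End.eigenspace (PsiAlg P hK 2).toLinearMap ((2 : ℚ) ^ m)) = ⊤ := by
    rw [eq_top_iff, ← hfd'.iSup_eigen]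
    exact iSup₂_le fun m _ => le_iSup
      (fun m : ℕ => Module.End.eigenspace (PsiAlg P hK 2).toLinearMap ((2 : ℚ) ^ m)) m
  have hz : z ∈ (⨆ m : ℕ, Module.End.eigenspace (PsiAlg P hK 2).toLinearMap ((2 : ℚ) ^ m)) := by
    rw [htop]; trivial
  have hz' : z' ∈ (⨆ m : ℕ, Module.End.eigenspace (PsiAlg P hK 2).toLinearMap ((2 : ℚ) ^ m)) := by
    rw [htop]; trivial
  induction hz using Submodule.iSup_induction' with
  | mem m z hz =>
    induction hz' using Submodule.iSup_induction' with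
    | mem m' z' hz' =>
      obtain ⟨N, x, hN, hx, rfl⟩ := exists_rep_of_mem_QF P (hfd'.eigen_le m hz)
      obtain ⟨N', x', hN', hx', rfl⟩ := exists_rep_of_mem_QF P (hfd'.eigen_le m' hz')
      have hprod : (1 / (N : ℚ)) ⊗ₜ[ℤ] x * (1 / (N' : ℚ)) ⊗ₜ[ℤ] x' =
          (1 / ((N * N' : ℕ) : ℚ)) ⊗ₜ[ℤ] (x * x') := by
        rw [Algebra.TensorProduct.tmul_mul_tmul]
        congr 1
        push_cast
        rw [one_div_mul_one_div]
      have hmem : (1 / ((N * N' : ℕ) : ℚ)) ⊗ₜ[ℤ] (x * x') ∈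
          Module.End.eigenspace (PsiAlg P hK 2).toLinearMap ((2 : ℚ) ^ (m + m')) := by
        rw [← hprod, Module.End.mem_eigenspace_iff]
        rw [Module.End.mem_eigenspace_iff] at hz hz'
        show PsiAlg P hK 2 (_ * _) = _
        have h1 : PsiAlg P hK 2 ((1 / (N : ℚ)) ⊗ₜ[ℤ] x) = (2 : ℚ) ^ m • ((1 / (N : ℚ)) ⊗ₜ[ℤ] x) := hz
        have h2 : PsiAlg P hK 2 ((1 / (N' : ℚ)) ⊗ₜ[ℤ] x') =
            (2 : ℚ) ^ m' • ((1 / (N' : ℚ)) ⊗ₜ[ℤ] x') := hz'
        rw [map_mul, h1, h2, smul_mul_smul_comm, pow_add]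
      rw [hprod, Phi_eigen P hK d hd (m + m') (Nat.mul_pos hN hN') (fil_mul_mem P hx hx') hmem,
        Phi_eigen P hK d hd m hN hx hz, Phi_eigen P hK d hd m' hN' hx' hz',
        smul_mul_smul_comm, grK_mul P hx hx']
      congr 1
      push_cast
      rw [one_div_mul_one_div]
    | zero => rw [mul_zero, map_zero, mul_zero]
    | add y w _ _ hy hw => rw [mul_add, map_add, map_add, hy, hw, mul_add]
  | zero => rw [zero_mul, map_zero, zero_mul]
  | add y w _ _ hy hw => rw [add_mul, map_add, map_add, hy, hw, add_mul]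

omit hK in
lemma chK_one : chK P d (1 : K) = 1 := by
  rw [chK_eq, map_one, Int.cast_one, RingHom.map_one, add_eq_left]
  apply Finset.sum_eq_zero
  intro k _
  have hch : ∀ a, 0 < a → a < k + 2 → chern P a (1 : K) = 0 := by
    intro a ha _
    unfold chern
    rw [map_one, Int.cast_one, sub_self, gamma_zero_right, if_neg (by omega)]
    exact grK_zero P a
  have h := ((isNewtonSeq_chern P d hd (1 : K)).vanish (chern_zero P 1) (k + 2) hch).1 (k + 1)
    (by omega)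
  rw [h, smul_zero]

theorem chK_mul (x y : K) : chK P d (x * y) = chK P d x * chK P d y := by
  rw [← Phi_one_tmul P d hd, ← Phi_one_tmul P d hd x, ← Phi_one_tmul P d hd y,
    ← Phi_mul P hK d hd, Algebra.TensorProduct.tmul_mul_tmul, one_mul]

end Groth.Agent.Lib.Helper95.ChMul
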