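import Mathlib
import Groth.Agent.Lib.Helper32.ChevDVR.Defs
import Groth.Agent.Lib.Helper91.CauchyBinet

set_option autoImplicit false
universe u
open TensorProduct
open Groth.Agent.Lib.Helper32.ChevDVR

namespace Groth.Agent.Lib.Helper95.ChevDVR6

open Matrix

theorem key {R : Type u} [CommRing R] {n : ℕ} (e : ℕ) (a : Matrix (Fin n) (Fin n) R)
    (S₀ : {S : Finset (Fin n) // S.card = e})
    (L : Matrix (Fin e) (Fin n) R) :
    (L * a.submatrix id (S₀.1.orderEmbOfFin S₀.2)).det
      - (L.submatrix id (S₀.1.orderEmbOfFin S₀.2)).det * compound e a S₀ S₀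
      ∈ Ideal.span {x | ∃ S, S ≠ S₀ ∧ x = compound e a S S₀} := by
  classical
  rw [Groth.Agent.Lib.Helper91.cauchy_binet]
  rw [← Finset.add_sum_erase Finset.univ _ (Finset.mem_univ S₀)]
  have hX : ((a.submatrix id (S₀.1.orderEmbOfFin S₀.2)).submatrix
      (S₀.1.orderEmbOfFin S₀.2) id).det = compound e a S₀ S₀ := rfl
  rw [hX, add_sub_cancel_left]
  apply Ideal.sum_mem
  intro S hS
  apply Ideal.mul_mem_left
  apply Ideal.subset_span
  exact ⟨S, Finset.ne_of_mem_erase hS, rfl⟩

theorem span_compound_col {R : Type u} [CommRing R] {n : ℕ} (e : ℕ) (a a' : Matrix (Fin n) (Fin n) R) (h : a' * a = 1) (S₀ : {S : Finset (Fin n) // S.card = e}) (hS₀ : ∀ i : Fin n, i ∈ S₀.1 ↔ i.1 < e) : Ideal.span {x | ∃ S, S ≠ S₀ ∧ x = compound e a S S₀} = Ideal.span {x | ∃ i j : Fin n, e ≤ i.1 ∧ j.1 < e ∧ x = a i j} := by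
  classical
  apply le_antisymm
  · rw [Ideal.span_le]
    rintro x ⟨S, hS, rfl⟩
    have hex : ∃ k : Fin e, e ≤ (S.1.orderEmbOfFin S.2 k).1 := by
      by_contra hcon
      push Not at hcon
      apply hS
      apply Subtype.ext
      apply Finset.eq_of_subset_of_card_le
      · intro i hi
        rw [hS₀]
        have hr : i ∈ Set.range (S.1.orderEmbOfFin S.2) := by
          rw [Finset.range_orderEmbOfFin]; exact hi
        obtain ⟨k, rfl⟩ := hr
        exact hcon k
      · rw [S.2, S₀.2]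
    obtain ⟨k, hk⟩ := hex
    rw [compound_apply, Matrix.det_apply']
    apply Ideal.sum_mem
    intro σ _
    apply Ideal.mul_mem_left
    refine Ideal.mem_of_dvd _ (Finset.dvd_prod_of_mem _ (Finset.mem_univ (σ⁻¹ k))) ?_
    apply Ideal.subset_span
    refine ⟨S.1.orderEmbOfFin S.2 (σ (σ⁻¹ k)), S₀.1.orderEmbOfFin S₀.2 (σ⁻¹ k), ?_, ?_, rfl⟩
    · have : σ (σ⁻¹ k) = k := by simp
      rw [this]; exact hk
    · rw [← hS₀]; exact Finset.orderEmbOfFin_mem _ _ _
  · rw [Ideal.span_le]
    rintro x ⟨i, j, hi, hj, rfl⟩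
    have hinj : Function.Injective (S₀.1.orderEmbOfFin S₀.2) := (S₀.1.orderEmbOfFin S₀.2).injective
    -- unit mod J'
    have hunit : 1 - ((a'.submatrix (S₀.1.orderEmbOfFin S₀.2) id).submatrix id
        (S₀.1.orderEmbOfFin S₀.2)).det * compound e a S₀ S₀ ∈
        Ideal.span {x | ∃ S, S ≠ S₀ ∧ x = compound e a S S₀} := by
      have hk := key e a S₀ (a'.submatrix (S₀.1.orderEmbOfFin S₀.2) id)
      have h1 : a'.submatrix (S₀.1.orderEmbOfFin S₀.2) id *
          a.submatrix id (S₀.1.orderEmbOfFin S₀.2) = 1 := by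
        rw [← Matrix.submatrix_mul a' a _ id _ Function.bijective_id, h,
          Matrix.submatrix_one _ hinj]
      rw [h1, Matrix.det_one] at hk
      exact hk
    -- the row of `a` with index `i`, restricted to the columns in `S₀`
    have hrow : ∀ m : Fin e,
        ((a.submatrix (S₀.1.orderEmbOfFin S₀.2) (S₀.1.orderEmbOfFin S₀.2)).updateRow m
          (fun c => a i (S₀.1.orderEmbOfFin S₀.2 c))).det ∈
        Ideal.span {x | ∃ S, S ≠ S₀ ∧ x = compound e a S S₀} := by
      intro m
      have hk := key e a S₀ (Matrix.of fun r k => if r = m then (if k = i then 1 else 0)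
        else (if k = S₀.1.orderEmbOfFin S₀.2 r then 1 else 0))
      have h1 : (Matrix.of fun r k => if r = m then (if k = i then (1 : R) else 0)
          else (if k = S₀.1.orderEmbOfFin S₀.2 r then 1 else 0)) *
          a.submatrix id (S₀.1.orderEmbOfFin S₀.2) =
          (a.submatrix (S₀.1.orderEmbOfFin S₀.2) (S₀.1.orderEmbOfFin S₀.2)).updateRow m
          (fun c => a i (S₀.1.orderEmbOfFin S₀.2 c)) := by
        ext r c
        rw [Matrix.mul_apply, Matrix.updateRow_apply]
        by_cases hr : r = m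
        · simp [hr]
        · simp [hr]
      have h2 : (Matrix.submatrix (Matrix.of fun r k => if r = m then (if k = i then (1 : R) else 0)
          else (if k = S₀.1.orderEmbOfFin S₀.2 r then 1 else 0)) id
          (S₀.1.orderEmbOfFin S₀.2)).det = 0 := by
        apply Matrix.det_eq_zero_of_row_eq_zero m
        intro c
        have hne : S₀.1.orderEmbOfFin S₀.2 c ≠ i := by
          intro hc
          have : (S₀.1.orderEmbOfFin S₀.2 c).1 < e := by
            rw [← hS₀]; exact Finset.orderEmbOfFin_mem _ _ _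
          rw [hc] at this
          omega
        simp [hne]
      rw [h1, h2, zero_mul, sub_zero] at hk
      exact hk
    -- Cramer
    have hcr : ∀ c : Fin e, compound e a S₀ S₀ * a i (S₀.1.orderEmbOfFin S₀.2 c) ∈
        Ideal.span {x | ∃ S, S ≠ S₀ ∧ x = compound e a S S₀} := by
      intro c
      have hmc := congrFun (Matrix.mulVec_cramer
        (a.submatrix (S₀.1.orderEmbOfFin S₀.2) (S₀.1.orderEmbOfFin S₀.2))ᵀ
        (fun c => a i (S₀.1.orderEmbOfFin S₀.2 c))) c
      rw [Matrix.det_transpose] at hmc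
      rw [Pi.smul_apply, smul_eq_mul] at hmc
      rw [compound_apply, ← hmc, Matrix.mulVec, dotProduct]
      apply Ideal.sum_mem
      intro m _
      apply Ideal.mul_mem_left
      rw [Matrix.cramer_transpose_apply]
      exact hrow m
    have hjm : j ∈ Set.range (S₀.1.orderEmbOfFin S₀.2) := by
      rw [Finset.range_orderEmbOfFin]; exact (hS₀ j).2 hj
    obtain ⟨c, rfl⟩ := hjm
    have hfin : a i (S₀.1.orderEmbOfFin S₀.2 c) =
        (1 - ((a'.submatrix (S₀.1.orderEmbOfFin S₀.2) id).submatrix id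
          (S₀.1.orderEmbOfFin S₀.2)).det * compound e a S₀ S₀) * a i (S₀.1.orderEmbOfFin S₀.2 c)
        + ((a'.submatrix (S₀.1.orderEmbOfFin S₀.2) id).submatrix id
          (S₀.1.orderEmbOfFin S₀.2)).det * (compound e a S₀ S₀ * a i (S₀.1.orderEmbOfFin S₀.2 c)) := by
      ring
    rw [hfin]
    exact Ideal.add_mem _ (Ideal.mul_mem_right _ _ hunit) (Ideal.mul_mem_left _ _ (hcr c))

end Groth.Agent.Lib.Helper95.ChevDVR6
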