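import Groth.Agent.Lib.Helper95.Triple

set_option autoImplicit false

namespace Groth.Agent.Lib.Helper95.Triple

open Groth.Agent.Lib.Helper97.CotT2 Groth.Agent.Lib.Helper95 Groth.Agent.Lib.Helper95.HM MvPolynomial

noncomputable section

universe u

section Gen

variable {T : Type u} [CommRing T] {E E' : Dat T} {M : Type*} [AddCommGroup M] [Module T M]

lemma H_eq_of_α (g g' : Hom E E') (hα : ∀ x, g.h.α x = g'.h.α x) :
    (∀ t, g.H0 M t = g'.H0 M t) ∧ (∀ t, g.H1 M t = g'.H1 M t) ∧ (∀ t, g.H2 M t = g'.H2 M t) := by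
  have hI : ∀ x, g.h.α x - g'.h.α x ∈ Ideal.span (Set.range E'.r) := fun x => by
    rw [hα, sub_self]; exact Ideal.zero_mem _
  exact ⟨Hom.H0_eq g g' hI, Hom.H1_eq g g' hI (fun a => hα _),
    Hom.H2_eq_of_α g g' (RingHom.ext hα)⟩

end Gen

variable (A B T : Type u) [CommRing A] [CommRing B] [CommRing T]
  [Algebra A B] [Algebra B T] [Algebra A T] [IsScalarTower A B T]

def umap : MvPolynomial B A →+* MvPolynomial T A :=
  eval₂Hom (C : A →+* MvPolynomial T A) (fun b => X (algebraMap B T b))

def wmap : MvPolynomial T A →+* MvPolynomial T (MvPolynomial B A) :=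
  MvPolynomial.map (C : A →+* MvPolynomial B A)

def wmap' : MvPolynomial T (MvPolynomial B A) →+* MvPolynomial T A :=
  eval₂Hom (umap A B T) X

def cvmap : MvPolynomial T A →+* MvPolynomial T B := MvPolynomial.map (algebraMap A B)

@[simp] lemma umap_C (a : A) : umap A B T (C a) = C a := by simp [umap]
@[simp] lemma umap_X (b : B) : umap A B T (X b) = X (algebraMap B T b) := by simp [umap]
@[simp] lemma wmap_C (a : A) : wmap A B T (C a) = C (C a) := by simp [wmap]
@[simp] lemma wmap_X (c : T) : wmap A B T (X c) = X c := by simp [wmap]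
@[simp] lemma wmap'_C (x : MvPolynomial B A) : wmap' A B T (C x) = umap A B T x := by
  simp [wmap']
@[simp] lemma wmap'_X (c : T) : wmap' A B T (X c) = X c := by simp [wmap']

lemma vmap_wmap (p : MvPolynomial T A) : vmap A B T (wmap A B T p) = cvmap A B T p := by
  have : (vmap A B T).comp (wmap A B T) = cvmap A B T := by
    refine MvPolynomial.ringHom_ext (fun a => ?_) (fun c => ?_)
    · simp [cvmap]
    · simp [cvmap]
  exact RingHom.congr_fun this p

lemma wmap'_wmap (p : MvPolynomial T A) : wmap' A B T (wmap A B T p) = p := by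
  have : (wmap' A B T).comp (wmap A B T) = RingHom.id _ := by
    refine MvPolynomial.ringHom_ext (fun a => ?_) (fun c => ?_)
    · simp
    · simp
  exact RingHom.congr_fun this p

lemma π2'_C (x : MvPolynomial B A) : (D2' A B T).π (C x) = algebraMap B T (ev1 A B x) := by
  change ev3 B T (vmap A B T (C x)) = _
  rw [vmap_C, ev3_C]

lemma π2'_X (c : T) : (D2' A B T).π (X c) = c := by
  change ev3 B T (vmap A B T (X c)) = _
  rw [vmap_X, ev3_X]

lemma π2'_wmap (p : MvPolynomial T A) : (D2' A B T).π (wmap A B T p) = ev2 A T p := by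
  have : (D2' A B T).π.comp (wmap A B T) = ev2 A T := by
    refine MvPolynomial.ringHom_ext (fun a => ?_) (fun c => ?_)
    · rw [RingHom.comp_apply, wmap_C, π2'_C, ev1_C, ev2_C, ← IsScalarTower.algebraMap_apply]
    · rw [RingHom.comp_apply, wmap_X, π2'_X, ev2_X]
  exact RingHom.congr_fun this p

lemma ev2_umap (x : MvPolynomial B A) : ev2 A T (umap A B T x) = algebraMap B T (ev1 A B x) := by
  have : (ev2 A T).comp (umap A B T) = (algebraMap B T).comp (ev1 A B) := by
    refine MvPolynomial.ringHom_ext (fun a => ?_) (fun b => ?_)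
    · rw [RingHom.comp_apply, umap_C, ev2_C, RingHom.comp_apply, ev1_C,
        ← IsScalarTower.algebraMap_apply]
    · rw [RingHom.comp_apply, umap_X, ev2_X, RingHom.comp_apply, ev1_X]
  exact RingHom.congr_fun this x

lemma ev2_wmap' (p : MvPolynomial T (MvPolynomial B A)) :
    ev2 A T (wmap' A B T p) = (D2' A B T).π p := by
  have : (ev2 A T).comp (wmap' A B T) = (D2' A B T).π := by
    refine MvPolynomial.ringHom_ext (fun x => ?_) (fun c => ?_)
    · rw [RingHom.comp_apply, wmap'_C, ev2_umap, π2'_C]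
    · rw [RingHom.comp_apply, wmap'_X, ev2_X, π2'_X]
  exact RingHom.congr_fun this p

lemma mem_span_r2' (p : MvPolynomial T (MvPolynomial B A)) :
    p ∈ Ideal.span (Set.range (D2' A B T).r) ↔ (D2' A B T).π p = 0 := by
  constructor
  · exact fun h => (D2' A B T).π_span h
  · intro h
    have hz : vmap A B T p ∈ RingHom.ker (ev3 B T) := h
    have h1 : p - sec A B T (vmap A B T p) ∈ RingHom.ker (vmap A B T) := by
      rw [RingHom.mem_ker, map_sub, vmap_sec, sub_self]
    rw [ker_vmap] at h1
    have h2 : Ideal.span (Set.range fun x : RingHom.ker (ev1 A B) =>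
        (C x.1 : MvPolynomial T (MvPolynomial B A))) ≤ Ideal.span (Set.range (D2' A B T).r) := by
      refine Ideal.span_mono ?_
      rintro _ ⟨x, rfl⟩
      exact ⟨Sum.inl x, rfl⟩
    have h3 : sec A B T (vmap A B T p) ∈ Ideal.span (Set.range (D2' A B T).r) :=
      Ideal.subset_span ⟨Sum.inr ⟨vmap A B T p, hz⟩, rfl⟩
    have := Ideal.add_mem _ (h2 h1) h3
    rwa [sub_add_cancel] at this

lemma span_D2 : Ideal.span (Set.range (D2 A T).r) = RingHom.ker (ev2 A T) := by
  change Ideal.span (Set.range (Subtype.val : RingHom.ker (ev2 A T) → MvPolynomial T A)) = _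
  rw [Subtype.range_val]
  exact Ideal.span_eq _

lemma exists_hw : ∃ g : Hom (D2 A T) (D2' A B T), ∀ x, g.h.α x = wmap A B T x := by
  obtain ⟨d, hd⟩ := DHom.exists_of_mem_span (r := (D2 A T).r) (r' := (D2' A B T).r) (wmap A B T)
    (fun s => (mem_span_r2' A B T _).mpr (by
      rw [π2'_wmap]
      exact (RingHom.mem_ker).mp s.2))
  refine ⟨⟨d, fun a => ⟨a, ?_⟩, fun x => ?_⟩, fun x => by rw [hd]⟩
  · rw [hd]
    change wmap A B T (algebraMap A (MvPolynomial T A) a) =
      algebraMap A (MvPolynomial T (MvPolynomial B A)) a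
    rw [MvPolynomial.algebraMap_eq, wmap_C,
      MvPolynomial.algebraMap_apply (σ := T) (S₁ := MvPolynomial B A), MvPolynomial.algebraMap_eq]
  · rw [hd]
    exact π2'_wmap A B T x

lemma exists_hw' : ∃ g : Hom (D2' A B T) (D2 A T), ∀ x, g.h.α x = wmap' A B T x := by
  obtain ⟨d, hd⟩ := DHom.exists_of_mem_span (r := (D2' A B T).r) (r' := (D2 A T).r) (wmap' A B T)
    (fun s => by
      rw [span_D2, RingHom.mem_ker, ev2_wmap']
      exact (D2' A B T).hr s)
  refine ⟨⟨d, fun a => ⟨a, ?_⟩, fun x => ?_⟩, fun x => by rw [hd]⟩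
  · rw [hd]
    change wmap' A B T (algebraMap A (MvPolynomial T (MvPolynomial B A)) a) =
      algebraMap A (MvPolynomial T A) a
    rw [MvPolynomial.algebraMap_apply (σ := T) (S₁ := MvPolynomial B A), wmap'_C,
      MvPolynomial.algebraMap_eq, umap_C, MvPolynomial.algebraMap_eq]
  · rw [hd]
    exact ev2_wmap' A B T x

section Main

def Gmap : MvPolynomial T (MvPolynomial B A) →+*
    MvPolynomial B (MvPolynomial T (MvPolynomial B A)) :=
  eval₂Hom (eval₂Hom ((C : MvPolynomial T (MvPolynomial B A) →+*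
      MvPolynomial B (MvPolynomial T (MvPolynomial B A))).comp
      ((C : MvPolynomial B A →+* MvPolynomial T (MvPolynomial B A)).comp
        (C : A →+* MvPolynomial B A))) (fun b => C (C (X b)) + X b)) (fun c => C (X c))

def Emap : MvPolynomial B (MvPolynomial T (MvPolynomial B A)) →+*
    MvPolynomial T (MvPolynomial B A) :=
  eval₂Hom (RingHom.id _) (fun b => X (algebraMap B T b) - C (X b))

lemma Emap_C (x : MvPolynomial T (MvPolynomial B A)) : Emap A B T (C x) = x := by
  simp [Emap]

lemma Emap_X (b : B) : Emap A B T (X b) = X (algebraMap B T b) - C (X b) := by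
  simp [Emap]

lemma Emap_Gmap (p : MvPolynomial T (MvPolynomial B A)) :
    Emap A B T (Gmap A B T p) = wmap A B T (wmap' A B T p) := by
  have : (Emap A B T).comp (Gmap A B T) = (wmap A B T).comp (wmap' A B T) := by
    refine MvPolynomial.ringHom_ext (fun x => ?_) (fun c => ?_)
    · have h2 : ((Emap A B T).comp (Gmap A B T)).comp C =
          ((wmap A B T).comp (wmap' A B T)).comp C := by
        refine MvPolynomial.ringHom_ext (fun a => ?_) (fun b => ?_)
        · simp [Gmap, Emap]
        · simp [Gmap, Emap]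
      exact RingHom.congr_fun h2 x
    · simp [Gmap, Emap]
  exact RingHom.congr_fun this p

lemma constantCoeff_Gmap (p : MvPolynomial T (MvPolynomial B A)) :
    constantCoeff (Gmap A B T p) = p := by
  have : (constantCoeff : MvPolynomial B (MvPolynomial T (MvPolynomial B A)) →+* _).comp
      (Gmap A B T) = RingHom.id _ := by
    refine MvPolynomial.ringHom_ext (fun x => ?_) (fun c => ?_)
    · have h2 : ((constantCoeff : MvPolynomial B (MvPolynomial T (MvPolynomial B A)) →+* _).comp
          (Gmap A B T)).comp C = (RingHom.id _).comp C := by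
        refine MvPolynomial.ringHom_ext (fun a => ?_) (fun b => ?_)
        · simp [Gmap]
        · simp [Gmap]
      exact RingHom.congr_fun h2 x
    · simp [Gmap]
  exact RingHom.congr_fun this p

lemma Gmap_β (a : A) :
    Gmap A B T (algebraMap A (MvPolynomial T (MvPolynomial B A)) a) =
      C (algebraMap A (MvPolynomial T (MvPolynomial B A)) a) := by
  rw [MvPolynomial.algebraMap_apply (σ := T) (S₁ := MvPolynomial B A), MvPolynomial.algebraMap_eq]
  simp [Gmap]

variable {A B T}
variable (M : Type*) [AddCommGroup M] [Module T M]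

set_option maxHeartbeats 6400000 in
theorem nine_canon (g32 : Hom (D2 A T) (D3 B T)) (g21 : Hom (D1 A B T) (D2 A T))
    (h32 : ∀ x, g32.h.α x = cvmap A B T x) (h21 : ∀ x, g21.h.α x = umap A B T x) :
    Nine.NineTerm (g32.H0 M) (g21.H0 M) (g32.H1 M) (g21.H1 M) (g32.H2 M) (g21.H2 M) := by
  obtain ⟨hw, hwα⟩ := exists_hw A B T
  obtain ⟨hw', hw'α⟩ := exists_hw' A B T
  -- hw ∘ hw' = id on D2
  have hA := H_eq_of_α (M := M) (hw.comp hw') (Hom.id (D2 A T)) (fun x => by
    change hw'.h.α (hw.h.α x) = x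
    rw [hwα, hw'α, wmap'_wmap])
  -- hw' ∘ hw ≃ id on D2'
  have hI : ∀ x, (hw'.comp hw).h.α x - (Hom.id (D2' A B T)).h.α x ∈
      Ideal.span (Set.range (D2' A B T).r) := by
    intro x
    change hw.h.α (hw'.h.α x) - x ∈ _
    rw [hwα, hw'α, mem_span_r2', map_sub, π2'_wmap, ev2_wmap', sub_self]
  have hB0 := Hom.H0_eq (M := M) (hw'.comp hw) (Hom.id (D2' A B T)) hI
  have hB1 := Hom.H1_eq (M := M) (hw'.comp hw) (Hom.id (D2' A B T)) hI (fun a => by
    change hw.h.α (hw'.h.α ((D2' A B T).β a)) = (D2' A B T).β a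
    obtain ⟨a', ha'⟩ := hw'.hβ a
    obtain ⟨a'', ha''⟩ := hw.hβ a'
    rw [hwα, hw'α]
    change wmap A B T (wmap' A B T (algebraMap A (MvPolynomial T (MvPolynomial B A)) a)) =
      algebraMap A (MvPolynomial T (MvPolynomial B A)) a
    rw [MvPolynomial.algebraMap_apply (σ := T) (S₁ := MvPolynomial B A), wmap'_C,
      MvPolynomial.algebraMap_eq, umap_C, wmap_C])
  have hB2 := Hom.H2_eq (M := M) (hw'.comp hw) (Hom.id (D2' A B T)) B (Gmap A B T) (Emap A B T)
    (Emap_C A B T) (fun b => by
      rw [Emap_X, mem_span_r2', map_sub, π2'_X, π2'_C, ev1_X, sub_self])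
    (fun x => by
      change Emap A B T (Gmap A B T x) = hw.h.α (hw'.h.α x)
      rw [Emap_Gmap, hwα, hw'α])
    (fun x => constantCoeff_Gmap A B T x)
    (fun a => ⟨a, Gmap_β A B T a⟩)
  -- the equivalences
  let ω0 : (D2' A B T).H0 M ≃+ (D2 A T).H0 M :=
    { hw.H0 M with
      invFun := hw'.H0 M
      left_inv := fun t => by
        change hw'.H0 M (hw.H0 M t) = t
        rw [← Hom.H0_comp, hB0, Hom.H0_id]
      right_inv := fun t => by
        change hw.H0 M (hw'.H0 M t) = t
        rw [← Hom.H0_comp, hA.1, Hom.H0_id] }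
  let ω1 : (D2' A B T).H1 M ≃+ (D2 A T).H1 M :=
    { hw.H1 M with
      invFun := hw'.H1 M
      left_inv := fun t => by
        change hw'.H1 M (hw.H1 M t) = t
        rw [← Hom.H1_comp, hB1, Hom.H1_id]
      right_inv := fun t => by
        change hw.H1 M (hw'.H1 M t) = t
        rw [← Hom.H1_comp, hA.2.1, Hom.H1_id] }
  let ω2 : (D2' A B T).H2 M ≃+ (D2 A T).H2 M :=
    { hw.H2 M with
      invFun := hw'.H2 M
      left_inv := fun t => by
        change hw'.H2 M (hw.H2 M t) = t
        rw [← Hom.H2_comp, hB2, Hom.H2_id]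
      right_inv := fun t => by
        change hw.H2 M (hw'.H2 M t) = t
        rw [← Hom.H2_comp, hA.2.2, Hom.H2_id] }
  -- commutations
  have hC := H_eq_of_α (M := M) g32 (hw.comp (hv A B T)) (fun x => by
    change g32.h.α x = vmap A B T (hw.h.α x)
    rw [h32, hwα, vmap_wmap])
  have hD := H_eq_of_α (M := M) g21 ((hu A B T).comp hw') (fun x => by
    change g21.h.α x = hw'.h.α (C x)
    rw [h21, hw'α, wmap'_C])
  refine (nine_special A B T M).transfer _ _ _ _ _ _
    (AddEquiv.refl _) (AddEquiv.refl _) (AddEquiv.refl _) ω0 ω1 ω2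
    (AddEquiv.refl _) (AddEquiv.refl _) (AddEquiv.refl _) ?_ ?_ ?_ ?_ ?_ ?_
  · intro x
    change g32.H0 M x = hw.H0 M ((hv A B T).H0 M x)
    rw [hC.1, Hom.H0_comp]
  · intro y
    change g21.H0 M (hw.H0 M y) = (hu A B T).H0 M y
    rw [hD.1, Hom.H0_comp]
    exact congrArg _ (ω0.left_inv y)
  · intro x
    change g32.H1 M x = hw.H1 M ((hv A B T).H1 M x)
    rw [hC.2.1, Hom.H1_comp]
  · intro y
    change g21.H1 M (hw.H1 M y) = (hu A B T).H1 M y
    rw [hD.2.1, Hom.H1_comp]
    exact congrArg _ (ω1.left_inv y)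
  · intro x
    change g32.H2 M x = hw.H2 M ((hv A B T).H2 M x)
    rw [hC.2.2, Hom.H2_comp]
  · intro y
    change g21.H2 M (hw.H2 M y) = (hu A B T).H2 M y
    rw [hD.2.2, Hom.H2_comp]
    exact congrArg _ (ω2.left_inv y)

end Main

end

end Groth.Agent.Lib.Helper95.Triple
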