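import Mathlib
import Groth.Prelude.Def_Wider
import Groth.Agent.Lib.Helper58.AdicFunct
set_option autoImplicit false
universe u

namespace Groth.Agent.Lib.Helper95.CplLocIso

open Groth.Agent.Lib.Helper58.AdicFunct

theorem ker_evalₐ_le {A : Type u} [CommRing A] (I : Ideal A) (hI : I.FG) (n : ℕ)
    (x : AdicCompletion I A) (hx : AdicCompletion.evalₐ I n x = 0) :
    x ∈ (I ^ n).map (algebraMap A (AdicCompletion I A)) := by
  have h1 : AdicCompletion.eval I A n x = 0 := by
    rw [← AdicCompletion.factor_evalₐ_eq_eval I x (le_of_eq (by simp)), hx, map_zero]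
  have h2 : x ∈ (I ^ n • ⊤ : Submodule A (AdicCompletion I A)) := by
    rw [AdicCompletion.pow_smul_top_eq_ker_eval hI]; exact h1
  refine Submodule.smul_induction_on h2 ?_ ?_
  · intro r hr y _
    rw [Algebra.smul_def]
    exact Ideal.mul_mem_right _ _ (Ideal.mem_map_of_mem _ hr)
  · intro y z hy hz; exact Ideal.add_mem _ hy hz

theorem evalₐ_algebraMap {A : Type u} [CommRing A] (I : Ideal A) (n : ℕ) (a : A) :
    AdicCompletion.evalₐ I n (algebraMap A (AdicCompletion I A) a) = Ideal.Quotient.mk (I ^ n) a := by
  rw [AdicCompletion.algebraMap_apply, AdicCompletion.evalₐ_of]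
  rfl

theorem exists_sub_mem {A : Type u} [CommRing A] (I : Ideal A) (hI : I.FG) (n : ℕ)
    (x : AdicCompletion I A) :
    ∃ a : A, x - algebraMap A (AdicCompletion I A) a ∈
      (I ^ n).map (algebraMap A (AdicCompletion I A)) := by
  obtain ⟨a, ha⟩ := Ideal.Quotient.mk_surjective (AdicCompletion.evalₐ I n x)
  refine ⟨a, ker_evalₐ_le I hI n _ ?_⟩
  rw [map_sub, evalₐ_algebraMap, ha, sub_self]

theorem mem_of_algebraMap_mem {A : Type u} [CommRing A] (I : Ideal A) (n : ℕ) (a : A)
    (h : algebraMap A (AdicCompletion I A) a ∈ (I ^ n).map (algebraMap A (AdicCompletion I A))) :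
    a ∈ I ^ n := by
  have hle : (I ^ n).map (algebraMap A (AdicCompletion I A)) ≤
      RingHom.ker (AdicCompletion.evalₐ I n).toRingHom := by
    rw [Ideal.map_le_iff_le_comap]
    intro r hr
    rw [Ideal.mem_comap, RingHom.mem_ker]
    change AdicCompletion.evalₐ I n (algebraMap A (AdicCompletion I A) r) = 0
    rw [evalₐ_algebraMap]
    exact Ideal.Quotient.eq_zero_iff_mem.mpr hr
  have h2 := hle h
  rw [RingHom.mem_ker] at h2
  change AdicCompletion.evalₐ I n (algebraMap A (AdicCompletion I A) a) = 0 at h2
  rw [evalₐ_algebraMap] at h2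
  exact Ideal.Quotient.eq_zero_iff_mem.mp h2

section main

variable {A : Type u} [CommRing A] (I : Ideal A) (q : Ideal (AdicCompletion I A)) [q.IsPrime]
  (hq : I.map (algebraMap A (AdicCompletion I A)) ≤ q) (qA : Ideal A) [qA.IsPrime]
  (hqA : qA = q.comap (algebraMap A (AdicCompletion I A)))

include hq hqA in
/-- approximating an element outside `q` by an element of `A` outside `qA`. -/
theorem exists_approx_notMem (hI : I.FG) (n : ℕ) (hn : 1 ≤ n) (w : AdicCompletion I A)
    (hw : w ∉ q) : ∃ b : A, b ∉ qA ∧
      w - algebraMap A (AdicCompletion I A) b ∈ (I ^ n).map (algebraMap A (AdicCompletion I A)) := by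
  obtain ⟨b, hb⟩ := exists_sub_mem I hI n w
  refine ⟨b, ?_, hb⟩
  intro hbq
  apply hw
  have h1 : algebraMap A (AdicCompletion I A) b ∈ q := by
    rw [hqA] at hbq; exact hbq
  have h2 : (I ^ n).map (algebraMap A (AdicCompletion I A)) ≤ q :=
    (Ideal.map_mono (Ideal.pow_le_self (by omega))).trans hq
  have h3 := Ideal.add_mem _ h1 (h2 hb)
  rwa [add_sub_cancel] at h3

end main

section abstract

variable {A A' : Type u} [CommRing A] [CommRing A'] [Algebra A A'] (I : Ideal A)
  (q : Ideal A') [q.IsPrime] (qA : Ideal A) [qA.IsPrime]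
  (hqA : qA = q.comap (algebraMap A A'))

/-- the induced map on localizations -/
noncomputable abbrev phi : Localization.AtPrime qA →+* Localization.AtPrime q :=
  Localization.localRingHom qA q (algebraMap A A') hqA

include hqA in
theorem map_notMem {b : A} (hb : b ∉ qA) : algebraMap A A' b ∈ q.primeCompl := by
  intro h
  apply hb
  rw [hqA]
  exact h

theorem phi_mk' (a : A) (b : A) (hb : b ∉ qA) :
    phi q qA hqA (IsLocalization.mk' (Localization.AtPrime qA) a
        (⟨b, show b ∈ qA.primeCompl from hb⟩ : qA.primeCompl)) =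
      IsLocalization.mk' (Localization.AtPrime q) (algebraMap A A' a)
        ⟨algebraMap A A' b, map_notMem q qA hqA hb⟩ :=
  Localization.localRingHom_mk' qA q (algebraMap A A') hqA a
    (⟨b, show b ∈ qA.primeCompl from hb⟩ : qA.primeCompl)

variable (n : ℕ)
  (happ : ∀ w : A', w ∉ q → ∃ b : A, b ∉ qA ∧
      w - algebraMap A A' b ∈ (I ^ n).map (algebraMap A A'))
  (hden : ∀ x : A', ∃ a : A, x - algebraMap A A' a ∈ (I ^ n).map (algebraMap A A'))
  (hcon : ∀ a : A, algebraMap A A' a ∈ (I ^ n).map (algebraMap A A') → a ∈ I ^ n)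

include happ hden in
theorem abstract_surj (c : Localization.AtPrime q) :
    ∃ β : Localization.AtPrime qA, c - phi q qA hqA β ∈
      ((I ^ n).map (algebraMap A A')).map (algebraMap A' (Localization.AtPrime q)) := by
  obtain ⟨x, w, rfl⟩ := IsLocalization.exists_mk'_eq q.primeCompl c
  obtain ⟨a, ha⟩ := hden x
  obtain ⟨b, hbq, hb⟩ := happ w.1 w.2
  refine ⟨IsLocalization.mk' (Localization.AtPrime qA) a
    (⟨b, show b ∈ qA.primeCompl from hbq⟩ : qA.primeCompl), ?_⟩
  rw [IsLocalization.mem_map_algebraMap_iff q.primeCompl, phi_mk' q qA hqA a b hbq]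
  refine ⟨⟨⟨x * algebraMap A A' b - algebraMap A A' a * w.1, ?_⟩,
    w * ⟨algebraMap A A' b, map_notMem q qA hqA hbq⟩⟩, ?_⟩
  · have : x * algebraMap A A' b - algebraMap A A' a * w.1
        = (x - algebraMap A A' a) * algebraMap A A' b
          - algebraMap A A' a * (w.1 - algebraMap A A' b) := by ring
    rw [this]
    exact Ideal.sub_mem _ (Ideal.mul_mem_right _ _ ha) (Ideal.mul_mem_left _ _ hb)
  · have h1 := IsLocalization.mk'_spec (Localization.AtPrime q) x w
    have h2 := IsLocalization.mk'_spec (Localization.AtPrime q) (algebraMap A A' a)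
      ⟨algebraMap A A' b, map_notMem q qA hqA hbq⟩
    simp only [Submonoid.coe_mul, map_mul, map_sub] at h1 h2 ⊢
    linear_combination (algebraMap A' (Localization.AtPrime q) (algebraMap A A' b)) * h1
      - (algebraMap A' (Localization.AtPrime q) w.1) * h2

include happ hcon in
theorem abstract_inj (β : Localization.AtPrime qA)
    (hβ : phi q qA hqA β ∈
      ((I ^ n).map (algebraMap A A')).map (algebraMap A' (Localization.AtPrime q))) :
    β ∈ (I ^ n).map (algebraMap A (Localization.AtPrime qA)) := by
  obtain ⟨a', s, rfl⟩ := IsLocalization.exists_mk'_eq qA.primeCompl β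
  have hfa : algebraMap A' (Localization.AtPrime q) (algebraMap A A' a') ∈
      ((I ^ n).map (algebraMap A A')).map (algebraMap A' (Localization.AtPrime q)) := by
    have h1 := Ideal.mul_mem_right (algebraMap A' (Localization.AtPrime q)
      (algebraMap A A' s.1)) _ hβ
    have h2 : (⟨s.1, s.2⟩ : qA.primeCompl) = s := rfl
    rw [← h2, phi_mk' q qA hqA a' s.1 s.2] at h1
    have h3 := IsLocalization.mk'_spec (Localization.AtPrime q) (algebraMap A A' a')
      ⟨algebraMap A A' s.1, map_notMem q qA hqA s.2⟩
    rw [h3] at h1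
    exact h1
  rw [IsLocalization.mem_map_algebraMap_iff q.primeCompl] at hfa
  obtain ⟨⟨⟨x', hx'⟩, w⟩, hxw⟩ := hfa
  simp only at hxw
  rw [← map_mul, IsLocalization.eq_iff_exists q.primeCompl] at hxw
  obtain ⟨t, ht⟩ := hxw
  obtain ⟨b, hbq, hb⟩ := happ ((t * w : q.primeCompl) : A') (t * w).2
  have hmem : algebraMap A A' (b * a') ∈ (I ^ n).map (algebraMap A A') := by
    have e1 : algebraMap A A' (b * a') = (t.1 * w.1) * algebraMap A A' a'
        - (t.1 * w.1 - algebraMap A A' b) * algebraMap A A' a' := by rw [map_mul]; ring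
    rw [e1]
    refine Ideal.sub_mem _ ?_ (Ideal.mul_mem_right _ _ hb)
    have e2 : t.1 * w.1 * algebraMap A A' a' = t.1 * x' := by rw [← ht]; ring
    rw [e2]; exact Ideal.mul_mem_left _ _ hx'
  have hba : b * a' ∈ I ^ n := hcon _ hmem
  rw [IsLocalization.mem_map_algebraMap_iff qA.primeCompl]
  refine ⟨⟨⟨b * a', hba⟩, s * (⟨b, show b ∈ qA.primeCompl from hbq⟩ : qA.primeCompl)⟩, ?_⟩
  have h1 := IsLocalization.mk'_spec (Localization.AtPrime qA) a' s
  simp only [Submonoid.coe_mul, map_mul] at h1 ⊢
  linear_combination (algebraMap A (Localization.AtPrime qA) b) * h1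

end abstract

theorem exists_ringEquiv_cpl {A : Type u} [CommRing A] [IsNoetherianRing A] (I : Ideal A) (q : Ideal (AdicCompletion I A)) [q.IsPrime] (hq : I.map (algebraMap A (AdicCompletion I A)) ≤ q) (qA : Ideal A) [qA.IsPrime] (hqA : qA = q.comap (algebraMap A (AdicCompletion I A))) : ∃ σ : AdicCompletion (I.map (algebraMap A (Localization.AtPrime qA))) (Localization.AtPrime qA) ≃+* AdicCompletion ((I.map (algebraMap A (AdicCompletion I A))).map (algebraMap (AdicCompletion I A) (Localization.AtPrime q))) (Localization.AtPrime q), ∀ a : A, σ (algebraMap A _ a) = algebraMap A _ a := by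
  have hI : I.FG := IsNoetherian.noetherian I
  have hφ : ∀ a : A, phi q qA hqA (algebraMap A (Localization.AtPrime qA) a) =
      algebraMap (AdicCompletion I A) (Localization.AtPrime q)
        (algebraMap A (AdicCompletion I A) a) :=
    fun a => Localization.localRingHom_to_map qA q (algebraMap A (AdicCompletion I A)) hqA a
  have hJK : I.map (algebraMap A (Localization.AtPrime qA)) ≤
      ((I.map (algebraMap A (AdicCompletion I A))).map
        (algebraMap (AdicCompletion I A) (Localization.AtPrime q))).comap (phi q qA hqA) := by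
    rw [Ideal.map_le_iff_le_comap]
    intro a ha
    rw [Ideal.mem_comap, Ideal.mem_comap, hφ]
    exact Ideal.mem_map_of_mem _ (Ideal.mem_map_of_mem _ ha)
  have hJn : ∀ n, (I.map (algebraMap A (Localization.AtPrime qA))) ^ n =
      (I ^ n).map (algebraMap A (Localization.AtPrime qA)) := fun n => (Ideal.map_pow _ _ _).symm
  have hKn : ∀ n, ((I.map (algebraMap A (AdicCompletion I A))).map
        (algebraMap (AdicCompletion I A) (Localization.AtPrime q))) ^ n =
      ((I ^ n).map (algebraMap A (AdicCompletion I A))).map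
        (algebraMap (AdicCompletion I A) (Localization.AtPrime q)) := fun n => by
    rw [← Ideal.map_pow, ← Ideal.map_pow]
  have hb : ∀ n, Function.Bijective (Ideal.quotientMap
      (((I.map (algebraMap A (AdicCompletion I A))).map
        (algebraMap (AdicCompletion I A) (Localization.AtPrime q))) ^ n) (phi q qA hqA)
      (pow_le_comap_pow _ _ (phi q qA hqA) hJK n)) := by
    intro n
    rcases Nat.eq_zero_or_pos n with rfl | hn
    · constructor
      · intro x y _
        have : Subsingleton (Localization.AtPrime qA ⧸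
            (I.map (algebraMap A (Localization.AtPrime qA))) ^ 0) := by
          rw [pow_zero, Ideal.one_eq_top]
          exact Ideal.Quotient.subsingleton_iff.mpr rfl
        exact Subsingleton.elim _ _
      · intro y
        have : Subsingleton (Localization.AtPrime q ⧸
            ((I.map (algebraMap A (AdicCompletion I A))).map
              (algebraMap (AdicCompletion I A) (Localization.AtPrime q))) ^ 0) := by
          rw [pow_zero, Ideal.one_eq_top]
          exact Ideal.Quotient.subsingleton_iff.mpr rfl
        exact ⟨0, Subsingleton.elim _ _⟩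
    · have happ := fun (w : AdicCompletion I A) (hw : w ∉ q) =>
        exists_approx_notMem I q hq qA hqA hI n hn w hw
      constructor
      · apply Ideal.quotientMap_injective'
        intro β hβ
        rw [Ideal.mem_comap, hKn] at hβ
        rw [hJn]
        exact abstract_inj I q qA hqA n happ (mem_of_algebraMap_mem I n) β hβ
      · intro y
        obtain ⟨c, rfl⟩ := Ideal.Quotient.mk_surjective y
        obtain ⟨β, hβ⟩ := abstract_surj I q qA hqA n happ (exists_sub_mem I hI n) c
        refine ⟨Ideal.Quotient.mk _ β, ?_⟩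
        rw [Ideal.quotientMap_mk]
        rw [← hKn] at hβ
        exact (Ideal.Quotient.eq.mpr hβ).symm
  refine ⟨RingEquiv.ofBijective (adicMap _ _ (phi q qA hqA) hJK)
    (adicMap_bijective _ _ (phi q qA hqA) hJK hb), ?_⟩
  intro a
  rw [RingEquiv.ofBijective_apply, AdicCompletion.algebraMap_apply, adicMap_of, hφ,
    AdicCompletion.algebraMap_apply]
  rfl

end Groth.Agent.Lib.Helper95.CplLocIso
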