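import Mathlib

set_option autoImplicit false

namespace Groth.Agent.Lib.Helper95.DPComplete

open Finset

variable {A : Type*} [CommRing A] {I : Ideal A} (γ : DividedPowers I) (p : A) (t : ℕ)


lemma dpow_continuity (ht : Ideal.span ({p} : Set A) ^ t ≤ I) (n m : ℕ) (a a' : A) (ha' : a' ∈ I)
    (h : a - a' ∈ Ideal.span ({p} : Set A) ^ (n + t)) : γ.dpow m a - γ.dpow m a' ∈ Ideal.span ({p} : Set A) ^ n := by
  rw [Ideal.span_singleton_pow, Ideal.mem_span_singleton] at h
  obtain ⟨c, hc⟩ := h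
  have hy : p ^ t * c ∈ I := by
    apply ht
    rw [Ideal.span_singleton_pow]
    exact Ideal.mul_mem_right _ _ (Ideal.mem_span_singleton_self _)
  have ha : a = a' + p ^ n * (p ^ t * c) := by
    rw [← mul_assoc, ← pow_add, ← hc]; ring
  rw [ha, γ.dpow_add ha' (I.mul_mem_left _ hy)]
  rw [Finset.Nat.sum_antidiagonal_eq_sum_range_succ_mk, Finset.sum_range_succ]
  simp only [Nat.sub_self]
  rw [γ.dpow_zero (I.mul_mem_left _ hy), mul_one, add_sub_cancel_right]
  refine Ideal.sum_mem _ fun i hi => ?_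
  rw [γ.dpow_mul hy]
  have hi' : m - i ≠ 0 := by have := mem_range.mp hi; omega
  rw [Ideal.span_singleton_pow, Ideal.mem_span_singleton]
  refine Dvd.dvd.mul_left (Dvd.dvd.mul_right ?_ _) _
  rw [← pow_mul]
  apply pow_dvd_pow
  exact Nat.le_mul_of_pos_right n (Nat.pos_of_ne_zero hi')


section Completion

open AdicCompletion

lemma evalₐ_eq_mk_of_le (J : Ideal A) {m n : ℕ} (h : m ≤ n) {x : AdicCompletion J A} {a : A}
    (hx : evalₐ J n x = Ideal.Quotient.mk _ a) : evalₐ J m x = Ideal.Quotient.mk _ a := by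
  obtain ⟨f, rfl⟩ := AdicCompletion.mk_surjective J A x
  rw [evalₐ_mk] at hx ⊢
  rw [← AdicCompletion.Ideal.mk_eq_mk J h f]
  rw [Ideal.Quotient.eq] at hx ⊢
  exact Ideal.pow_le_pow_right h hx

noncomputable def piHom (ht : Ideal.span ({p} : Set A) ^ t ≤ I) :
    AdicCompletion (Ideal.span ({p} : Set A)) A →+* A ⧸ I :=
  (Ideal.Quotient.factor ht).comp (AdicCompletion.evalₐ (Ideal.span ({p} : Set A)) t).toRingHom

lemma mem_ker_piHom_iff (ht : Ideal.span ({p} : Set A) ^ t ≤ I)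
    (x : AdicCompletion (Ideal.span ({p} : Set A)) A) (a : A)
    (hx : evalₐ (Ideal.span ({p} : Set A)) t x = Ideal.Quotient.mk _ a) :
    x ∈ RingHom.ker (piHom p t ht) ↔ a ∈ I := by
  rw [RingHom.mem_ker, piHom, RingHom.comp_apply]
  show (Ideal.Quotient.factor ht) (evalₐ (Ideal.span ({p} : Set A)) t x) = 0 ↔ _
  rw [hx, Ideal.Quotient.factor_mk, Ideal.Quotient.eq_zero_iff_mem]

lemma mem_of_mem_ker (ht : Ideal.span ({p} : Set A) ^ t ≤ I)
    (x : AdicCompletion (Ideal.span ({p} : Set A)) A) (hx : x ∈ RingHom.ker (piHom p t ht))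
    (n : ℕ) (a : A)
    (ha : evalₐ (Ideal.span ({p} : Set A)) (n + t) x = Ideal.Quotient.mk _ a) : a ∈ I :=
  (mem_ker_piHom_iff p t ht x a (evalₐ_eq_mk_of_le _ (Nat.le_add_left t n) ha)).mp hx

noncomputable def seq (x : AdicCompletion (Ideal.span ({p} : Set A)) A) :
    AdicCauchySequence (Ideal.span ({p} : Set A)) A :=
  Classical.choose (AdicCompletion.mk_surjective _ A x)

lemma mk_seq (x : AdicCompletion (Ideal.span ({p} : Set A)) A) :
    AdicCompletion.mk _ A (seq p x) = x :=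
  Classical.choose_spec (AdicCompletion.mk_surjective _ A x)

lemma evalₐ_eq_seq (x : AdicCompletion (Ideal.span ({p} : Set A)) A) (n : ℕ) :
    evalₐ (Ideal.span ({p} : Set A)) n x = Ideal.Quotient.mk _ ((seq p x).val n) := by
  conv_lhs => rw [← mk_seq p x]
  exact evalₐ_mk _ _ _

lemma seq_mem (ht : Ideal.span ({p} : Set A) ^ t ≤ I)
    (x : AdicCompletion (Ideal.span ({p} : Set A)) A) (hx : x ∈ RingHom.ker (piHom p t ht))
    (n : ℕ) : (seq p x).val (n + t) ∈ I :=
  mem_of_mem_ker p t ht x hx n _ (evalₐ_eq_seq p x (n + t))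

noncomputable def dpowSeq (ht : Ideal.span ({p} : Set A) ^ t ≤ I)
    (x : AdicCompletion (Ideal.span ({p} : Set A)) A) (hx : x ∈ RingHom.ker (piHom p t ht))
    (m : ℕ) : AdicCauchySequence (Ideal.span ({p} : Set A)) A :=
  AdicCauchySequence.mk _ _ (fun n => γ.dpow m ((seq p x).val (n + t))) (by
    intro n
    rw [SModEq.sub_mem, smul_eq_mul, Ideal.mul_top]
    apply dpow_continuity γ p t ht n m _ _ (seq_mem p t ht x hx (n + 1))
    have h1 := (seq p x).property (show n + t ≤ n + 1 + t by omega)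
    rw [SModEq.sub_mem, smul_eq_mul, Ideal.mul_top] at h1
    exact h1)

open Classical in
noncomputable def dp (ht : Ideal.span ({p} : Set A) ^ t ≤ I) (m : ℕ)
    (x : AdicCompletion (Ideal.span ({p} : Set A)) A) :
    AdicCompletion (Ideal.span ({p} : Set A)) A :=
  if hx : x ∈ RingHom.ker (piHom p t ht) then AdicCompletion.mk _ A (dpowSeq γ p t ht x hx m)
  else 0

lemma evalₐ_dp (ht : Ideal.span ({p} : Set A) ^ t ≤ I)
    (x : AdicCompletion (Ideal.span ({p} : Set A)) A) (hx : x ∈ RingHom.ker (piHom p t ht))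
    (n m : ℕ) (a : A)
    (ha : evalₐ (Ideal.span ({p} : Set A)) (n + t) x = Ideal.Quotient.mk _ a) :
    evalₐ (Ideal.span ({p} : Set A)) n (dp γ p t ht m x) = Ideal.Quotient.mk _ (γ.dpow m a) := by
  rw [dp, dif_pos hx, evalₐ_mk, dpowSeq, AdicCauchySequence.mk_coe, Ideal.Quotient.eq]
  apply dpow_continuity γ p t ht n m _ _ (mem_of_mem_ker p t ht x hx n a ha)
  rw [← Ideal.Quotient.eq, ← ha, evalₐ_eq_seq]


lemma exists_lift (J : Ideal A) (n : ℕ) (x : AdicCompletion J A) :
    ∃ a : A, evalₐ J n x = Ideal.Quotient.mk _ a := by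
  obtain ⟨a, ha⟩ := Ideal.Quotient.mk_surjective (evalₐ J n x)
  exact ⟨a, ha.symm⟩

lemma mem_ker_of_evalₐ (ht : Ideal.span ({p} : Set A) ^ t ≤ I)
    (x : AdicCompletion (Ideal.span ({p} : Set A)) A) (a : A) (ha : a ∈ I)
    (hx : evalₐ (Ideal.span ({p} : Set A)) t x = Ideal.Quotient.mk _ a) :
    x ∈ RingHom.ker (piHom p t ht) :=
  (mem_ker_piHom_iff p t ht x a hx).mpr ha

noncomputable def dividedPowers (ht : Ideal.span ({p} : Set A) ^ t ≤ I) :
    DividedPowers (RingHom.ker (piHom p t ht)) where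
  dpow := dp γ p t ht
  dpow_null {n x} hx := by rw [dp, dif_neg hx]
  dpow_zero {x} hx := by
    apply ext_evalₐ
    intro n
    obtain ⟨a, ha⟩ := exists_lift _ (n + t) x
    rw [evalₐ_dp γ p t ht x hx n 0 a ha, γ.dpow_zero (mem_of_mem_ker p t ht x hx n a ha)]
    simp
  dpow_one {x} hx := by
    apply ext_evalₐ
    intro n
    obtain ⟨a, ha⟩ := exists_lift _ (n + t) x
    rw [evalₐ_dp γ p t ht x hx n 1 a ha, γ.dpow_one (mem_of_mem_ker p t ht x hx n a ha),
      evalₐ_eq_mk_of_le _ (Nat.le_add_right n t) ha]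
  dpow_mem {m x} hm hx := by
    obtain ⟨a, ha⟩ := exists_lift _ (t + t) x
    have haI := mem_of_mem_ker p t ht x hx t a ha
    exact mem_ker_of_evalₐ p t ht _ _ (γ.dpow_mem hm haI) (evalₐ_dp γ p t ht x hx t m a ha)
  dpow_add {m x y} hx hy := by
    apply ext_evalₐ
    intro n
    obtain ⟨a, ha⟩ := exists_lift _ (n + t) x
    obtain ⟨b, hb⟩ := exists_lift _ (n + t) y
    have hab : evalₐ (Ideal.span ({p} : Set A)) (n + t) (x + y) = Ideal.Quotient.mk _ (a + b) := by
      rw [map_add, ha, hb, map_add]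
    have haI := mem_of_mem_ker p t ht x hx n a ha
    have hbI := mem_of_mem_ker p t ht y hy n b hb
    rw [evalₐ_dp γ p t ht (x + y) (Ideal.add_mem _ hx hy) n m _ hab, γ.dpow_add haI hbI,
      map_sum, map_sum]
    refine Finset.sum_congr rfl fun k _ => ?_
    rw [map_mul, map_mul, evalₐ_dp γ p t ht x hx n k.1 a ha, evalₐ_dp γ p t ht y hy n k.2 b hb]
  dpow_mul {m c x} hx := by
    apply ext_evalₐ
    intro n
    obtain ⟨a, ha⟩ := exists_lift _ (n + t) x
    obtain ⟨b, hb⟩ := exists_lift _ (n + t) c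
    have hab : evalₐ (Ideal.span ({p} : Set A)) (n + t) (c * x) = Ideal.Quotient.mk _ (b * a) := by
      rw [map_mul, ha, hb, map_mul]
    have haI := mem_of_mem_ker p t ht x hx n a ha
    rw [evalₐ_dp γ p t ht (c * x) (Ideal.mul_mem_left _ _ hx) n m _ hab, γ.dpow_mul haI,
      map_mul, map_pow, map_mul, map_pow, evalₐ_dp γ p t ht x hx n m a ha,
      evalₐ_eq_mk_of_le _ (Nat.le_add_right n t) hb]
  mul_dpow {i j x} hx := by
    apply ext_evalₐ
    intro n
    obtain ⟨a, ha⟩ := exists_lift _ (n + t) x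
    have haI := mem_of_mem_ker p t ht x hx n a ha
    rw [map_mul, map_mul, evalₐ_dp γ p t ht x hx n i a ha, evalₐ_dp γ p t ht x hx n j a ha,
      evalₐ_dp γ p t ht x hx n (i + j) a ha, ← map_mul, γ.mul_dpow haI, map_mul, map_natCast,
      map_natCast]
  dpow_comp {m k x} hk hx := by
    apply ext_evalₐ
    intro n
    obtain ⟨a, ha⟩ := exists_lift _ (n + t + t) x
    have haI := mem_of_mem_ker p t ht x hx (n + t) a ha
    have hkx : dp γ p t ht k x ∈ RingHom.ker (piHom p t ht) := by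
      obtain ⟨a', ha'⟩ := exists_lift _ (t + t) x
      have ha'I := mem_of_mem_ker p t ht x hx t a' ha'
      exact mem_ker_of_evalₐ p t ht _ _ (γ.dpow_mem hk ha'I) (evalₐ_dp γ p t ht x hx t k a' ha')
    have h1 := evalₐ_dp γ p t ht x hx (n + t) k a ha
    have ha2 : evalₐ (Ideal.span ({p} : Set A)) (n + t) x = Ideal.Quotient.mk _ a :=
      evalₐ_eq_mk_of_le _ (Nat.le_add_right (n + t) t) ha
    rw [evalₐ_dp γ p t ht _ hkx n m _ h1, γ.dpow_comp hk haI, map_mul, map_mul,
      evalₐ_dp γ p t ht x hx n (m * k) a ha2, map_natCast, map_natCast]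


theorem main (ht : Ideal.span ({p} : Set A) ^ t ≤ I) :
    Function.Surjective ((Ideal.Quotient.factor ht).comp
      (AdicCompletion.evalₐ (Ideal.span ({p} : Set A)) t).toRingHom) ∧
    ∃ δ : DividedPowers (RingHom.ker ((Ideal.Quotient.factor ht).comp
      (AdicCompletion.evalₐ (Ideal.span ({p} : Set A)) t).toRingHom)),
      γ.IsDPMorphism δ (algebraMap A (AdicCompletion (Ideal.span ({p} : Set A)) A)) := by
  refine ⟨?_, dividedPowers γ p t ht, ?_, ?_⟩
  · intro y
    obtain ⟨a, rfl⟩ := Ideal.Quotient.mk_surjective y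
    refine ⟨AdicCompletion.of _ A a, ?_⟩
    rw [RingHom.comp_apply]
    show (Ideal.Quotient.factor ht) (evalₐ (Ideal.span ({p} : Set A)) t (of _ A a)) = _
    rw [evalₐ_of, Ideal.Quotient.factor_mk]
  · rw [Ideal.map_le_iff_le_comap]
    intro a ha
    rw [Ideal.mem_comap]
    exact mem_ker_of_evalₐ p t ht _ a ha (by rw [AdicCompletion.algebraMap_apply]; simp)
  · intro m a ha
    apply ext_evalₐ
    intro n
    have h1 : evalₐ (Ideal.span ({p} : Set A)) (n + t)
        (algebraMap A (AdicCompletion (Ideal.span ({p} : Set A)) A) a) =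
        Ideal.Quotient.mk _ a := by
      rw [AdicCompletion.algebraMap_apply]; simp
    have hx : algebraMap A (AdicCompletion (Ideal.span ({p} : Set A)) A) a ∈
        RingHom.ker (piHom p t ht) :=
      mem_ker_of_evalₐ p t ht _ a ha (by rw [AdicCompletion.algebraMap_apply]; simp)
    show evalₐ _ n (dp γ p t ht m _) = _
    rw [evalₐ_dp γ p t ht _ hx n m a h1, AdicCompletion.algebraMap_apply]
    simp

end Completion

end Groth.Agent.Lib.Helper95.DPComplete
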