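import Mathlib

set_option autoImplicit false

namespace Groth.Agent.Lib.Helper95.DieuAux

section H2

variable {W : Type*} [CommRing W] {R' : Type*} [CommRing R'] [Algebra W R']
  {M : Type*} [AddCommGroup M] [Module W M] [Module R' M] [IsScalarTower W R' M]

lemma linear_mem_map (a : Ideal W) (φ : M →ₗ[R'] R') (z : M)
    (hz : z ∈ a • (⊤ : Submodule W M)) : φ z ∈ a.map (algebraMap W R') := by
  refine Submodule.smul_induction_on hz ?_ ?_
  · intro r hr m _
    rw [← algebraMap_smul R' r m, map_smul, smul_eq_mul]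
    exact Ideal.mul_mem_right _ _ (Ideal.mem_map_of_mem _ hr)
  · intro x y hx hy
    rw [map_add]
    exact Ideal.add_mem _ hx hy

theorem torsion_transfer (hsurj : Function.Surjective (algebraMap W R'))
    [hP : Module.Projective R' M] (p : W) (a b : Ideal W)
    (h : ∀ x : W, algebraMap W R' (p * x) ∈ a.map (algebraMap W R') →
      algebraMap W R' x ∈ b.map (algebraMap W R'))
    (z : M) (hz : p • z ∈ a • (⊤ : Submodule W M)) : z ∈ b • (⊤ : Submodule W M) := by
  obtain ⟨s, hs⟩ := Module.projective_def'.mp hP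
  have h1 : ∀ i : M, (s z) i ∈ b.map (algebraMap W R') := by
    intro i
    have h2 := linear_mem_map a ((Finsupp.lapply i) ∘ₗ s) (p • z) hz
    obtain ⟨x, hx⟩ := hsurj ((s z) i)
    rw [← algebraMap_smul R' p z, map_smul, smul_eq_mul, LinearMap.comp_apply,
      Finsupp.lapply_apply, ← hx, ← map_mul] at h2
    rw [← hx]
    exact h x h2
  have h3 : z = Finsupp.linearCombination R' id (s z) := (LinearMap.congr_fun hs z).symm
  rw [h3, Finsupp.linearCombination_apply]
  apply Submodule.sum_mem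
  intro i _
  obtain ⟨x, hx, hxi⟩ := (Ideal.mem_map_iff_of_surjective _ hsurj).mp (h1 i)
  simp only [id]
  rw [← hxi, algebraMap_smul]
  exact Submodule.smul_mem_smul hx Submodule.mem_top

end H2

section ProjQuot

theorem projective_quotient_of_le {W : Type*} [CommRing W] (K I : Ideal W) (hKI : K ≤ I)
    {M : Type*} [AddCommGroup M] [Module W M] [Module (W ⧸ K) M] [IsScalarTower W (W ⧸ K) M]
    [hP : Module.Projective (W ⧸ K) M] :
    Module.Projective (W ⧸ I) (M ⧸ I • (⊤ : Submodule W M)) := by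
  obtain ⟨s, hs⟩ := Module.projective_def'.mp hP
  let ρ : (W ⧸ K) →ₗ[W] (W ⧸ I) := Submodule.factor hKI
  let i₀ : M →ₗ[W] (M →₀ (W ⧸ I)) := (Finsupp.mapRange.linearMap ρ) ∘ₗ (s.restrictScalars W)
  have hle : I • (⊤ : Submodule W M) ≤ LinearMap.ker i₀ := by
    rw [Submodule.smul_le]
    intro a ha m _
    rw [LinearMap.mem_ker, map_smul]
    ext j
    rw [Finsupp.smul_apply, Finsupp.zero_apply]
    rw [← algebraMap_smul (W ⧸ I) a (i₀ m j), Ideal.Quotient.algebraMap_eq,
      Ideal.Quotient.eq_zero_iff_mem.mpr ha, zero_smul]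
  let i₁ : (M ⧸ I • (⊤ : Submodule W M)) →ₗ[W] (M →₀ (W ⧸ I)) :=
    (I • (⊤ : Submodule W M)).liftQ i₀ hle
  let i₂ : (M ⧸ I • (⊤ : Submodule W M)) →ₗ[W ⧸ I] (M →₀ (W ⧸ I)) :=
    i₁.extendScalarsOfSurjective Ideal.Quotient.mk_surjective
  let q : (M →₀ (W ⧸ I)) →ₗ[W ⧸ I] (M ⧸ I • (⊤ : Submodule W M)) :=
    Finsupp.linearCombination (W ⧸ I) (fun m => (I • (⊤ : Submodule W M)).mkQ m)
  have hq : ∀ f : M →₀ (W ⧸ K), q (Finsupp.mapRange.linearMap ρ f) =
      (I • (⊤ : Submodule W M)).mkQ (Finsupp.linearCombination (W ⧸ K) id f) := by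
    intro f
    induction f using Finsupp.induction_linear with
    | zero => simp
    | add f g hf hg => rw [map_add, map_add, hf, hg, map_add, map_add]
    | single m c =>
      obtain ⟨w, rfl⟩ := Ideal.Quotient.mk_surjective c
      rw [Finsupp.mapRange.linearMap_apply, Finsupp.mapRange_single,
        Finsupp.linearCombination_single, Finsupp.linearCombination_single]
      simp only [id]
      have h1 : ρ (Ideal.Quotient.mk K w) = Ideal.Quotient.mk I w := rfl
      rw [h1]
      have h2 : (Ideal.Quotient.mk K w) • m = w • m := by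
        rw [← algebraMap_smul (W ⧸ K) w m, Ideal.Quotient.algebraMap_eq]
      rw [h2, map_smul]
      rw [← algebraMap_smul (W ⧸ I) w ((I • (⊤ : Submodule W M)).mkQ m),
        Ideal.Quotient.algebraMap_eq]
  refine Module.Projective.of_split i₂ q ?_
  refine LinearMap.ext fun x => ?_
  obtain ⟨m, rfl⟩ := Submodule.mkQ_surjective _ x
  have h1 : i₂ ((I • (⊤ : Submodule W M)).mkQ m) = Finsupp.mapRange.linearMap ρ (s m) := rfl
  rw [LinearMap.comp_apply, h1, hq, LinearMap.id_apply]
  congr 1
  exact LinearMap.congr_fun hs m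

end ProjQuot

end Groth.Agent.Lib.Helper95.DieuAux
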