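import Mathlib

set_option autoImplicit false

namespace Groth.Agent.Lib.Helper95.KLProj

open TensorProduct

section Local

variable {R : Type*} [CommRing R] [IsLocalRing R] {M N : Type*} [AddCommGroup M] [Module R M]
  [AddCommGroup N] [Module R N]

lemma split_injective_of_fibre [Module.Finite R M] [Module.Finite R N] [Module.Free R N]
    (l : M →ₗ[R] N)
    (h : ∀ x, l x ∈ IsLocalRing.maximalIdeal R • (⊤ : Submodule R N) →
      x ∈ IsLocalRing.maximalIdeal R • (⊤ : Submodule R M)) :
    ∃ l' : N →ₗ[R] M, l' ∘ₗ l = LinearMap.id := by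
  rw [IsLocalRing.split_injective_iff_lTensor_residueField_injective]
  rw [injective_iff_map_eq_zero]
  intro t ht
  let eM := TensorProduct.quotTensorEquivQuotSMul M (IsLocalRing.maximalIdeal R)
  let eN := TensorProduct.quotTensorEquivQuotSMul N (IsLocalRing.maximalIdeal R)
  change (R ⧸ IsLocalRing.maximalIdeal R) ⊗[R] M at t
  obtain ⟨x, hx⟩ := Submodule.mkQ_surjective _ (eM t)
  have ht' : t = eM.symm (Submodule.Quotient.mk x) := by
    rw [LinearEquiv.eq_symm_apply]; exact hx.symm
  rw [TensorProduct.quotTensorEquivQuotSMul_symm_mk] at ht'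
  subst ht'
  have h2 : eN ((1 : R ⧸ IsLocalRing.maximalIdeal R) ⊗ₜ[R] l x) = 0 := by
    have : (1 : R ⧸ IsLocalRing.maximalIdeal R) ⊗ₜ[R] l x = 0 := ht
    rw [this, map_zero]
  rw [TensorProduct.quotTensorEquivQuotSMul_mk_one_tmul, Submodule.Quotient.mk_eq_zero] at h2
  have h3 := h x h2
  have h4 : eM ((1 : R ⧸ IsLocalRing.maximalIdeal R) ⊗ₜ[R] x) = 0 := by
    rw [TensorProduct.quotTensorEquivQuotSMul_mk_one_tmul, Submodule.Quotient.mk_eq_zero]
    exact h3
  exact eM.injective (h4.trans (map_zero eM).symm)

end Local

section Global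

variable {A : Type*} [CommRing A] {X Y : Type*} [AddCommGroup X] [Module A X]
  [AddCommGroup Y] [Module A Y]

lemma mk_mem_of_mem (m : Ideal A) [m.IsPrime] (x : X) (hx : x ∈ m • (⊤ : Submodule A X))
    (s : m.primeCompl) :
    LocalizedModule.mk x s ∈ IsLocalRing.maximalIdeal (Localization.AtPrime m) •
      (⊤ : Submodule (Localization.AtPrime m) (LocalizedModule m.primeCompl X)) := by
  have h1 : LocalizedModule.mk x s = Localization.mk (1 : A) s • LocalizedModule.mk x (1 : m.primeCompl) := by
    rw [LocalizedModule.mk_smul_mk, one_smul, mul_one]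
  rw [h1]
  apply Submodule.smul_mem
  have h2 : m • (⊤ : Submodule A X) ≤
      ((IsLocalRing.maximalIdeal (Localization.AtPrime m) •
      (⊤ : Submodule (Localization.AtPrime m) (LocalizedModule m.primeCompl X))).restrictScalars A).comap
        (LocalizedModule.mkLinearMap m.primeCompl X) := by
    rw [Submodule.smul_le]
    intro a ha x _
    rw [Submodule.mem_comap, map_smul, Submodule.restrictScalars_mem, ← algebraMap_smul (Localization.AtPrime m) a]
    apply Submodule.smul_mem_smul _ Submodule.mem_top
    exact (IsLocalization.AtPrime.to_map_mem_maximal_iff _ m a).mpr ha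
  exact h2 hx

lemma exists_of_mem (m : Ideal A) [m.IsPrime] (y : LocalizedModule m.primeCompl X)
    (hy : y ∈ IsLocalRing.maximalIdeal (Localization.AtPrime m) •
      (⊤ : Submodule (Localization.AtPrime m) (LocalizedModule m.primeCompl X))) :
    ∃ x ∈ m • (⊤ : Submodule A X), ∃ s : m.primeCompl, y = LocalizedModule.mk x s := by
  refine Submodule.smul_induction_on hy ?_ ?_
  · intro r hr z _
    induction z using LocalizedModule.induction_on with
    | h x t =>
      obtain ⟨⟨a, s⟩, rfl⟩ := IsLocalization.mk'_surjective m.primeCompl r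
      rw [IsLocalization.AtPrime.mk'_mem_maximal_iff (Localization.AtPrime m) m] at hr
      refine ⟨a • x, Submodule.smul_mem_smul hr Submodule.mem_top, s * t, ?_⟩
      change IsLocalization.mk' (Localization.AtPrime m) a s • LocalizedModule.mk x t = _
      rw [← Localization.mk_eq_mk'_apply, LocalizedModule.mk_smul_mk]
  · rintro _ _ ⟨x, hx, s, rfl⟩ ⟨x', hx', s', rfl⟩
    refine ⟨s' • x + s • x', ?_, s * s', LocalizedModule.mk_add_mk⟩
    exact Submodule.add_mem _ (Submodule.smul_mem _ _ hx) (Submodule.smul_mem _ _ hx')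

theorem projective_of_fibre [Module.FinitePresentation A X] [Module.Finite A Y]
    [Module.Projective A Y] (l : X →ₗ[A] Y)
    (h : ∀ (m : Ideal A), m.IsMaximal → ∀ x, l x ∈ m • (⊤ : Submodule A Y) →
      x ∈ m • (⊤ : Submodule A X)) :
    Module.Projective A X := by
  apply Module.projective_of_localization_maximal
  intro m hm
  have : Module.Free (Localization.AtPrime m) (LocalizedModule m.primeCompl Y) :=
    Module.free_of_flat_of_isLocalRing
  obtain ⟨l', hl'⟩ := split_injective_of_fibre (LocalizedModule.map m.primeCompl l) (by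
    intro y hy
    induction y using LocalizedModule.induction_on with
    | h n s =>
      rw [LocalizedModule.map_mk] at hy
      obtain ⟨x, hx, t, hxt⟩ := exists_of_mem m _ hy
      rw [LocalizedModule.mk_eq] at hxt
      obtain ⟨u, hu⟩ := hxt
      have hu' : (u : A) • (t : A) • l n = (u : A) • (s : A) • x := hu
      have h1 : l (((u : A) * (t : A)) • n) ∈ m • (⊤ : Submodule A Y) := by
        rw [map_smul, mul_smul, hu']
        exact Submodule.smul_mem _ _ (Submodule.smul_mem _ _ hx)
      have h2 := h m hm _ h1
      have h3 : LocalizedModule.mk n s =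
          LocalizedModule.mk (((u : A) * (t : A)) • n) ((u * t) * s) :=
        (LocalizedModule.mk_cancel_common_left (u * t) s n).symm
      rw [h3]
      exact mk_mem_of_mem m _ h2 _)
  exact Module.Projective.of_split _ _ hl'

end Global

section Twist

variable {A : Type*} [CommRing A]

def Tw (_τ : A ≃+* A) (Y : Type*) : Type _ := Y

namespace Tw

variable (τ : A ≃+* A) (Y : Type*) [AddCommGroup Y] [Module A Y]

instance : AddCommGroup (Tw τ Y) := inferInstanceAs (AddCommGroup Y)

instance : Module A (Tw τ Y) := Module.compHom Y (τ : A →+* A)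

attribute [local instance] RingHomInvPair.of_ringEquiv RingHomInvPair.of_ringEquiv_symm

def equiv : Y ≃ₛₗ[(τ.symm : A →+* A)] Tw τ Y where
  toFun := id
  invFun := id
  map_add' _ _ := rfl
  map_smul' a y := by
    change a • y = (τ (τ.symm a)) • y
    rw [RingEquiv.apply_symm_apply]
  left_inv _ := rfl
  right_inv _ := rfl

instance [Module.Finite A Y] : Module.Finite A (Tw τ Y) :=
  Module.Finite.of_surjective (equiv τ Y).toLinearMap (equiv τ Y).surjective

instance [Module.Projective A Y] : Module.Projective A (Tw τ Y) :=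
  Module.Projective.of_equiv (equiv τ Y)

end Tw

theorem projective_of_fibre_semilinear {X Y : Type*} [AddCommGroup X] [Module A X]
    [AddCommGroup Y] [Module A Y] (τ : A ≃+* A)
    [Module.FinitePresentation A X] [Module.Finite A Y] [Module.Projective A Y]
    (l : X →ₛₗ[(τ : A →+* A)] Y)
    (h : ∀ m : Ideal A, m.IsMaximal → ∀ x,
      l x ∈ (m.map (τ : A →+* A)) • (⊤ : Submodule A Y) → x ∈ m • (⊤ : Submodule A X)) :
    Module.Projective A X := by
  let l' : X →ₗ[A] Tw τ Y :=
    { toFun := fun x => l x
      map_add' := fun x y => map_add l x y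
      map_smul' := fun a x => by
        change l (a • x) = (τ a) • l x
        rw [map_smulₛₗ]; rfl }
  apply projective_of_fibre l'
  intro m hm x hx
  apply h m hm
  let N : Submodule A Y := (m.map (τ : A →+* A)) • (⊤ : Submodule A Y)
  let S : Submodule A (Tw τ Y) :=
    { carrier := {y | (Tw.equiv τ Y).symm y ∈ N}
      add_mem' := fun {a b} ha hb => by
        simp only [Set.mem_ofPred_eq, map_add] at *
        exact Submodule.add_mem _ ha hb
      zero_mem' := by simp
      smul_mem' := fun a y hy => by
        simp only [Set.mem_ofPred_eq] at *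
        have : (Tw.equiv τ Y).symm (a • y) = (τ a) • (Tw.equiv τ Y).symm y := rfl
        rw [this]
        exact Submodule.smul_mem _ (τ a) hy }
  have hS : m • (⊤ : Submodule A (Tw τ Y)) ≤ S := by
    rw [Submodule.smul_le]
    intro a ha y _
    change (τ a) • (Tw.equiv τ Y).symm y ∈ N
    exact Submodule.smul_mem_smul (Ideal.mem_map_of_mem _ ha) Submodule.mem_top
  exact hS hx

end Twist

end Groth.Agent.Lib.Helper95.KLProj
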