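import Mathlib
import Groth.Agent.Lib.Helper95.KLProj

set_option autoImplicit false

namespace Groth.Agent.Lib.Helper95.DieuWitt

open WittVector Groth.Agent.Lib.Helper95.KLProj

variable (p : ℕ) [hp : Fact p.Prime] (k : Type*) [CommRing k] [CharP k p] [PerfectRing k p]

noncomputable def WI (n : Ideal k) : Ideal (WittVector p k) :=
  RingHom.ker (WittVector.map (Ideal.Quotient.mk n))

omit [CharP k p] [PerfectRing k p] in
lemma mem_WI (n : Ideal k) (x : WittVector p k) : x ∈ WI p k n ↔ ∀ i, x.coeff i ∈ n := by
  rw [WI, RingHom.mem_ker, WittVector.ext_iff]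
  simp only [WittVector.map_coeff, WittVector.zero_coeff, Ideal.Quotient.eq_zero_iff_mem]

omit [PerfectRing k p] in
lemma p_mul_mem_WI (n : Ideal k) (hn : n.IsRadical) (x : WittVector p k)
    (h : (p : WittVector p k) * x ∈ WI p k n) : x ∈ WI p k n := by
  rw [mem_WI] at h ⊢
  intro i
  have h1 := h (i + 1)
  rw [mul_comm, WittVector.mul_charP_coeff_succ] at h1
  exact hn ⟨p, h1⟩

noncomputable def nn (J : Ideal (WittVector p k)) : Ideal k :=
  J.map (WittVector.constantCoeff : WittVector p k →+* k)

variable {p k}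

lemma sub_teichmuller_mem (x : WittVector p k) :
    x - teichmuller p (x.coeff 0) ∈ Ideal.span {(p : WittVector p k)} := by
  rw [WittVector.mem_span_p_iff_coeff_zero_eq_zero]
  change constantCoeff (x - teichmuller p (x.coeff 0)) = 0
  rw [map_sub, WittVector.constantCoeff_apply, WittVector.constantCoeff_apply,
    WittVector.teichmuller_coeff_zero, sub_self]

lemma teichmuller_mem (J : Ideal (WittVector p k)) (hpJ : (p : WittVector p k) ∈ J) (a : k)
    (ha : a ∈ nn p k J) : teichmuller p a ∈ J := by
  obtain ⟨x, hx, rfl⟩ := (Ideal.mem_map_iff_of_surjective _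
    (WittVector.constantCoeff_surjective p)).mp ha
  have h1 := sub_teichmuller_mem x
  have h2 : Ideal.span {(p : WittVector p k)} ≤ J := by
    rw [Ideal.span_singleton_le_iff_mem]; exact hpJ
  have h3 : teichmuller p (constantCoeff x) = x - (x - teichmuller p (x.coeff 0)) := by
    rw [sub_sub_cancel]; rfl
  rw [h3]
  exact Ideal.sub_mem _ hx (h2 h1)

lemma nn_radical (J : Ideal (WittVector p k)) [J.IsPrime] (hpJ : (p : WittVector p k) ∈ J) :
    (nn p k J).IsRadical := by
  rintro a ⟨m, hm⟩
  have h1 := teichmuller_mem J hpJ _ hm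
  rw [map_pow] at h1
  have h2 := Ideal.IsPrime.mem_of_pow_mem inferInstance _ h1
  have h3 : a = constantCoeff (teichmuller p a) := by
    rw [WittVector.constantCoeff_apply, WittVector.teichmuller_coeff_zero]
  rw [h3]
  exact Ideal.mem_map_of_mem _ h2

lemma WI_le (J : Ideal (WittVector p k)) (hpJ : (p : WittVector p k) ∈ J) :
    WI p k (nn p k J) ≤ J := by
  intro x hx
  have h2 : Ideal.span {(p : WittVector p k)} ≤ J := by
    rw [Ideal.span_singleton_le_iff_mem]; exact hpJ
  have h1 := teichmuller_mem J hpJ _ ((mem_WI p k _ x).mp hx 0)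
  have h3 : x = teichmuller p (x.coeff 0) + (x - teichmuller p (x.coeff 0)) := by ring
  rw [h3]
  exact Ideal.add_mem _ h1 (h2 (sub_teichmuller_mem x))

lemma le_WI_sup (J : Ideal (WittVector p k)) :
    J ≤ WI p k (nn p k J) ⊔ Ideal.span {(p : WittVector p k)} := by
  intro x hx
  have h3 : x = teichmuller p (x.coeff 0) + (x - teichmuller p (x.coeff 0)) := by ring
  rw [h3]
  refine Submodule.add_mem_sup ?_ (sub_teichmuller_mem x)
  rw [mem_WI]
  intro i
  rcases Nat.eq_zero_or_pos i with rfl | hi
  · rw [WittVector.teichmuller_coeff_zero]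
    exact Ideal.mem_map_of_mem _ hx
  · rw [WittVector.teichmuller_coeff_pos p _ i hi]
    exact Ideal.zero_mem _

section Fibre

variable {M : Type*} [AddCommGroup M] [Module (WittVector p k) M]
  (F : M →ₛₗ[(WittVector.frobenius : WittVector p k →+* WittVector p k)] M)
  (V : M →ₛₗ[((WittVector.frobeniusEquiv p k).symm : WittVector p k →+* WittVector p k)] M)

include F V in
lemma fibre (hFV : ∀ m : M, F (V m) = (p : WittVector p k) • m)
    (hVF : ∀ m : M, V (F m) = (p : WittVector p k) • m)
    (H2 : ∀ n : Ideal k, n.IsRadical → ∀ z : M,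
      (p : WittVector p k) • z ∈ WI p k n • (⊤ : Submodule (WittVector p k) M) →
      z ∈ (WI p k n ⊔ Ideal.span {(p : WittVector p k)}) • (⊤ : Submodule (WittVector p k) M))
    (J : Ideal (WittVector p k)) [J.IsPrime] (hpJ : (p : WittVector p k) ∈ J) (y : M)
    (hy : F y ∈ (J.comap ((WittVector.frobeniusEquiv p k).symm :
      WittVector p k →+* WittVector p k)) • (⊤ : Submodule (WittVector p k) M)) :
    ∃ m, y - V m ∈ J • (⊤ : Submodule (WittVector p k) M) := by
  have hPJ : Ideal.span {(p : WittVector p k)} ≤ J := by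
    rw [Ideal.span_singleton_le_iff_mem]; exact hpJ
  have h1 : J.comap ((WittVector.frobeniusEquiv p k).symm : WittVector p k →+* WittVector p k) ≤
      (WI p k (nn p k J)).comap ((WittVector.frobeniusEquiv p k).symm :
        WittVector p k →+* WittVector p k) ⊔ Ideal.span {(p : WittVector p k)} := by
    intro x hx
    rw [Ideal.mem_comap] at hx
    obtain ⟨a, ha, b, hb, hab⟩ := Submodule.mem_sup.mp (le_WI_sup J hx)
    have h2 : x = (WittVector.frobeniusEquiv p k) a + (WittVector.frobeniusEquiv p k) b := by
      rw [← map_add, hab]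
      exact ((WittVector.frobeniusEquiv p k).apply_symm_apply x).symm
    rw [h2]
    refine Submodule.add_mem_sup ?_ ?_
    · rw [Ideal.mem_comap]
      have : ((WittVector.frobeniusEquiv p k).symm : WittVector p k →+* WittVector p k)
          ((WittVector.frobeniusEquiv p k) a) = a := (WittVector.frobeniusEquiv p k).symm_apply_apply a
      rw [this]; exact ha
    · rw [Ideal.mem_span_singleton] at hb ⊢
      obtain ⟨c, rfl⟩ := hb
      rw [map_mul, map_natCast]
      exact Dvd.intro _ rfl
  have h3 := Submodule.smul_mono_left (N := (⊤ : Submodule (WittVector p k) M)) h1 hy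
  rw [Submodule.sup_smul] at h3
  obtain ⟨j, hj, q, hq, hjq⟩ := Submodule.mem_sup.mp h3
  rw [Submodule.ideal_span_singleton_smul] at hq
  obtain ⟨m', _, hm'⟩ := hq
  change (p : WittVector p k) • m' = q at hm'
  have h4 : F (y - V m') = j := by
    rw [map_sub, hFV, hm', ← hjq]; abel
  have h5 : V j ∈ WI p k (nn p k J) • (⊤ : Submodule (WittVector p k) M) := by
    have h6 : ((WI p k (nn p k J)).comap ((WittVector.frobeniusEquiv p k).symm :
        WittVector p k →+* WittVector p k)) • (⊤ : Submodule (WittVector p k) M) ≤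
        (WI p k (nn p k J) • (⊤ : Submodule (WittVector p k) M)).comap V := by
      rw [Submodule.smul_le]
      intro a ha m _
      rw [Submodule.mem_comap, map_smulₛₗ]
      exact Submodule.smul_mem_smul ha Submodule.mem_top
    exact h6 hj
  have h7 : (p : WittVector p k) • (y - V m') ∈
      WI p k (nn p k J) • (⊤ : Submodule (WittVector p k) M) := by
    rw [← hVF, h4]; exact h5
  have h8 := H2 _ (nn_radical J hpJ) _ h7
  refine ⟨m', Submodule.smul_mono_left (sup_le (WI_le J hpJ) hPJ) h8⟩

end Fibre

section Core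

lemma quot_smul {R : Type*} [CommRing R] {N : Type*} [AddCommGroup N] [Module R N]
    (I : Ideal R) (w : R) (x : N ⧸ I • (⊤ : Submodule R N)) :
    (Ideal.Quotient.mk I w) • x = w • x := by
  rw [← algebraMap_smul (R ⧸ I) w x, Ideal.Quotient.algebraMap_eq]

lemma mem_of_mk_mem {R : Type*} [CommRing R] {N : Type*} [AddCommGroup N] [Module R N]
    (I : Ideal R) (a : Ideal (R ⧸ I)) (z : N)
    (hz : (I • (⊤ : Submodule R N)).mkQ z ∈
      a • (⊤ : Submodule (R ⧸ I) (N ⧸ I • (⊤ : Submodule R N)))) :
    z ∈ (a.comap (Ideal.Quotient.mk I)) • (⊤ : Submodule R N) := by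
  have hI : I ≤ a.comap (Ideal.Quotient.mk I) := by
    intro x hx
    rw [Ideal.mem_comap, Ideal.Quotient.eq_zero_iff_mem.mpr hx]
    exact Ideal.zero_mem _
  have hle : I • (⊤ : Submodule R N) ≤ (a.comap (Ideal.Quotient.mk I)) • (⊤ : Submodule R N) :=
    Submodule.smul_mono_left hI
  have key : ∀ xb ∈ a • (⊤ : Submodule (R ⧸ I) (N ⧸ I • (⊤ : Submodule R N))),
      ∀ z : N, (I • (⊤ : Submodule R N)).mkQ z = xb →
        z ∈ (a.comap (Ideal.Quotient.mk I)) • (⊤ : Submodule R N) := by
    intro xb hxb
    refine Submodule.smul_induction_on hxb ?_ ?_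
    · intro r hr xb' _ z hz
      obtain ⟨w, rfl⟩ := Ideal.Quotient.mk_surjective r
      obtain ⟨m', rfl⟩ := Submodule.mkQ_surjective _ xb'
      rw [quot_smul, ← map_smul, Submodule.mkQ_apply, Submodule.mkQ_apply,
        Submodule.Quotient.eq] at hz
      have h1 : w • m' ∈ (a.comap (Ideal.Quotient.mk I)) • (⊤ : Submodule R N) :=
        Submodule.smul_mem_smul hr Submodule.mem_top
      have h2 : z = (z - w • m') + w • m' := by abel
      rw [h2]
      exact Submodule.add_mem _ (hle hz) h1
    · intro x1 x2 h1 h2 z hz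
      obtain ⟨z1, rfl⟩ := Submodule.mkQ_surjective _ x1
      have h3 : (I • (⊤ : Submodule R N)).mkQ (z - z1) = x2 := by
        rw [map_sub, hz]; abel
      have h4 : z = z1 + (z - z1) := by abel
      rw [h4]
      exact Submodule.add_mem _ (h1 z1 rfl) (h2 _ h3)
  exact key _ hz z rfl

variable {M : Type*} [AddCommGroup M] [Module (WittVector p k) M]
  (F : M →ₛₗ[(WittVector.frobenius : WittVector p k →+* WittVector p k)] M)
  (V : M →ₛₗ[((WittVector.frobeniusEquiv p k).symm : WittVector p k →+* WittVector p k)] M)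

attribute [local instance] RingHomInvPair.of_ringEquiv RingHomInvPair.of_ringEquiv_symm

include F in
theorem core (hFV : ∀ m : M, F (V m) = (p : WittVector p k) • m)
    (hVF : ∀ m : M, V (F m) = (p : WittVector p k) • m)
    [Module.Finite (WittVector p k ⧸ Ideal.span {(p : WittVector p k)})
      (M ⧸ (Ideal.span {(p : WittVector p k)} • (⊤ : Submodule (WittVector p k) M)))]
    [Module.Projective (WittVector p k ⧸ Ideal.span {(p : WittVector p k)})
      (M ⧸ (Ideal.span {(p : WittVector p k)} • (⊤ : Submodule (WittVector p k) M)))]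
    (H2 : ∀ n : Ideal k, n.IsRadical → ∀ z : M,
      (p : WittVector p k) • z ∈ WI p k n • (⊤ : Submodule (WittVector p k) M) →
      z ∈ (WI p k n ⊔ Ideal.span {(p : WittVector p k)}) • (⊤ : Submodule (WittVector p k) M)) :
    Module.Projective (WittVector p k ⧸ Ideal.span {(p : WittVector p k)})
      ((M ⧸ (Ideal.span {(p : WittVector p k)} • (⊤ : Submodule (WittVector p k) M))) ⧸
        Submodule.span (WittVector p k ⧸ Ideal.span {(p : WittVector p k)})
          (Set.range fun m : M =>
            (Ideal.span {(p : WittVector p k)} • (⊤ : Submodule (WittVector p k) M)).mkQ (V m))) := by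
  have hσ : Ideal.span {(p : WittVector p k)} =
      Ideal.map ((WittVector.frobeniusEquiv p k : WittVector p k ≃+* WittVector p k) :
        WittVector p k →+* WittVector p k) (Ideal.span {(p : WittVector p k)}) := by
    rw [Ideal.map_span, Set.image_singleton]
    congr 2
    exact (map_natCast _ p).symm
  let σb : (WittVector p k ⧸ Ideal.span {(p : WittVector p k)}) ≃+*
      (WittVector p k ⧸ Ideal.span {(p : WittVector p k)}) :=
    Ideal.quotientEquiv (Ideal.span {(p : WittVector p k)}) (Ideal.span {(p : WittVector p k)})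
      (WittVector.frobeniusEquiv p k) hσ
  have hmemF : ∀ a ∈ Ideal.span {(p : WittVector p k)},
      WittVector.frobenius a ∈ Ideal.span {(p : WittVector p k)} := by
    intro a ha
    rw [Ideal.mem_span_singleton] at ha ⊢
    obtain ⟨c, rfl⟩ := ha
    rw [map_mul, map_natCast]
    exact Dvd.intro _ rfl
  have hmemV : ∀ a ∈ Ideal.span {(p : WittVector p k)},
      (WittVector.frobeniusEquiv p k).symm a ∈ Ideal.span {(p : WittVector p k)} := by
    intro a ha
    rw [Ideal.mem_span_singleton] at ha ⊢
    obtain ⟨c, rfl⟩ := ha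
    rw [map_mul, map_natCast]
    exact Dvd.intro _ rfl
  have hpF : Ideal.span {(p : WittVector p k)} • (⊤ : Submodule (WittVector p k) M) ≤
      (Ideal.span {(p : WittVector p k)} • (⊤ : Submodule (WittVector p k) M)).comap F := by
    rw [Submodule.smul_le]
    intro a ha m _
    rw [Submodule.mem_comap, map_smulₛₗ]
    exact Submodule.smul_mem_smul (hmemF a ha) Submodule.mem_top
  have hpV : Ideal.span {(p : WittVector p k)} • (⊤ : Submodule (WittVector p k) M) ≤
      (Ideal.span {(p : WittVector p k)} • (⊤ : Submodule (WittVector p k) M)).comap V := by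
    rw [Submodule.smul_le]
    intro a ha m _
    rw [Submodule.mem_comap, map_smulₛₗ]
    exact Submodule.smul_mem_smul (hmemV a ha) Submodule.mem_top
  let F₁ := Submodule.mapQ _ _ F hpF
  let V₁ := Submodule.mapQ _ _ V hpV
  let Fb : (M ⧸ (Ideal.span {(p : WittVector p k)} • (⊤ : Submodule (WittVector p k) M)))
      →ₛₗ[(σb : (WittVector p k ⧸ Ideal.span {(p : WittVector p k)}) →+* (WittVector p k ⧸ Ideal.span {(p : WittVector p k)}))]
      (M ⧸ (Ideal.span {(p : WittVector p k)} • (⊤ : Submodule (WittVector p k) M))) :=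
    { toFun := F₁
      map_add' := F₁.map_add
      map_smul' := by
        intro a x
        obtain ⟨w, rfl⟩ := Ideal.Quotient.mk_surjective
          (I := Ideal.span {(p : WittVector p k)}) a
        rw [quot_smul]
        change F₁ (w • x) = Ideal.Quotient.mk (Ideal.span {(p : WittVector p k)})
          (WittVector.frobenius w) • F₁ x
        rw [map_smulₛₗ, quot_smul] }
  let Vb : (M ⧸ (Ideal.span {(p : WittVector p k)} • (⊤ : Submodule (WittVector p k) M)))
      →ₛₗ[(σb.symm : (WittVector p k ⧸ Ideal.span {(p : WittVector p k)}) →+* (WittVector p k ⧸ Ideal.span {(p : WittVector p k)}))]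
      (M ⧸ (Ideal.span {(p : WittVector p k)} • (⊤ : Submodule (WittVector p k) M))) :=
    { toFun := V₁
      map_add' := V₁.map_add
      map_smul' := by
        intro a x
        obtain ⟨w, rfl⟩ := Ideal.Quotient.mk_surjective
          (I := Ideal.span {(p : WittVector p k)}) a
        rw [quot_smul]
        change V₁ (w • x) = Ideal.Quotient.mk (Ideal.span {(p : WittVector p k)})
          ((WittVector.frobeniusEquiv p k).symm w) • V₁ x
        rw [map_smulₛₗ, quot_smul]; rfl }
  have hFb : ∀ m : M, Fb ((Ideal.span {(p : WittVector p k)} • (⊤ : Submodule (WittVector p k) M)).mkQ m) = (Ideal.span {(p : WittVector p k)} • (⊤ : Submodule (WittVector p k) M)).mkQ (F m) := fun m => rfl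
  have hVb : ∀ m : M, Vb ((Ideal.span {(p : WittVector p k)} • (⊤ : Submodule (WittVector p k) M)).mkQ m) = (Ideal.span {(p : WittVector p k)} • (⊤ : Submodule (WittVector p k) M)).mkQ (V m) := fun m => rfl
  have hUeq : Submodule.span (WittVector p k ⧸ Ideal.span {(p : WittVector p k)}) (Set.range fun m : M => (Ideal.span {(p : WittVector p k)} • (⊤ : Submodule (WittVector p k) M)).mkQ (V m)) =
      Submodule.map Vb ⊤ := by
    apply le_antisymm
    · rw [Submodule.span_le]
      rintro _ ⟨m, rfl⟩
      exact ⟨(Ideal.span {(p : WittVector p k)} • (⊤ : Submodule (WittVector p k) M)).mkQ m, Submodule.mem_top, hVb m⟩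
    · rintro _ ⟨x, _, rfl⟩
      obtain ⟨m, rfl⟩ := Submodule.mkQ_surjective _ x
      rw [hVb]
      exact Submodule.subset_span ⟨m, rfl⟩
  have hUfg : (Submodule.span (WittVector p k ⧸ Ideal.span {(p : WittVector p k)}) (Set.range fun m : M => (Ideal.span {(p : WittVector p k)} • (⊤ : Submodule (WittVector p k) M)).mkQ (V m))).FG := by
    rw [hUeq]
    exact Submodule.FG.map Vb Module.Finite.fg_top
  have hUker : Submodule.span (WittVector p k ⧸ Ideal.span {(p : WittVector p k)}) (Set.range fun m : M => (Ideal.span {(p : WittVector p k)} • (⊤ : Submodule (WittVector p k) M)).mkQ (V m)) ≤ LinearMap.ker Fb := by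
    rw [Submodule.span_le]
    rintro _ ⟨m, rfl⟩
    rw [SetLike.mem_coe, LinearMap.mem_ker, hFb, hFV, Submodule.mkQ_apply,
      Submodule.Quotient.mk_eq_zero]
    exact Submodule.smul_mem_smul (Ideal.mem_span_singleton_self _) Submodule.mem_top
  have : Module.FinitePresentation (WittVector p k ⧸ Ideal.span {(p : WittVector p k)}) (M ⧸ (Ideal.span {(p : WittVector p k)} • (⊤ : Submodule (WittVector p k) M))) := Module.finitePresentation_of_projective _ _
  have : Module.FinitePresentation (WittVector p k ⧸ Ideal.span {(p : WittVector p k)}) ((M ⧸ (Ideal.span {(p : WittVector p k)} • (⊤ : Submodule (WittVector p k) M))) ⧸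
      Submodule.span (WittVector p k ⧸ Ideal.span {(p : WittVector p k)}) (Set.range fun m : M => (Ideal.span {(p : WittVector p k)} • (⊤ : Submodule (WittVector p k) M)).mkQ (V m))) :=
    Module.finitePresentation_of_surjective
      (Submodule.span (WittVector p k ⧸ Ideal.span {(p : WittVector p k)}) (Set.range fun m : M => (Ideal.span {(p : WittVector p k)} • (⊤ : Submodule (WittVector p k) M)).mkQ (V m))).mkQ
      (Submodule.mkQ_surjective _) (by rw [Submodule.ker_mkQ]; exact hUfg)
  let l := (Submodule.span (WittVector p k ⧸ Ideal.span {(p : WittVector p k)}) (Set.range fun m : M => (Ideal.span {(p : WittVector p k)} • (⊤ : Submodule (WittVector p k) M)).mkQ (V m))).liftQ Fb hUker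
  refine projective_of_fibre_semilinear σb l ?_
  intro mm hmm x hx
  obtain ⟨xb, rfl⟩ := Submodule.mkQ_surjective _ x
  obtain ⟨y, rfl⟩ := Submodule.mkQ_surjective _ xb
  have hl : l ((Submodule.span (WittVector p k ⧸ Ideal.span {(p : WittVector p k)}) (Set.range fun m : M => (Ideal.span {(p : WittVector p k)} • (⊤ : Submodule (WittVector p k) M)).mkQ (V m))).mkQ ((Ideal.span {(p : WittVector p k)} • (⊤ : Submodule (WittVector p k) M)).mkQ y)) =
      (Ideal.span {(p : WittVector p k)} • (⊤ : Submodule (WittVector p k) M)).mkQ (F y) := rfl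
  rw [hl] at hx
  have h1 := mem_of_mk_mem _ _ _ hx
  have : mm.IsPrime := hmm.isPrime
  have : (mm.comap (Ideal.Quotient.mk (Ideal.span {(p : WittVector p k)}))).IsPrime :=
    Ideal.comap_isPrime _ _
  have hpJ : (p : WittVector p k) ∈ mm.comap (Ideal.Quotient.mk (Ideal.span {(p : WittVector p k)})) := by
    rw [Ideal.mem_comap, Ideal.Quotient.eq_zero_iff_mem.mpr (Ideal.mem_span_singleton_self _)]
    exact Ideal.zero_mem _
  have h2 : (mm.map (σb : (WittVector p k ⧸ Ideal.span {(p : WittVector p k)}) →+* (WittVector p k ⧸ Ideal.span {(p : WittVector p k)}))).comap (Ideal.Quotient.mk (Ideal.span {(p : WittVector p k)})) ≤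
      (mm.comap (Ideal.Quotient.mk (Ideal.span {(p : WittVector p k)}))).comap
        ((WittVector.frobeniusEquiv p k).symm : WittVector p k →+* WittVector p k) := by
    intro x hx
    rw [Ideal.mem_comap] at hx
    obtain ⟨c, hc, hcx⟩ := (Ideal.mem_map_iff_of_surjective (σb : (WittVector p k ⧸ Ideal.span {(p : WittVector p k)}) →+* (WittVector p k ⧸ Ideal.span {(p : WittVector p k)})) σb.surjective).mp hx
    rw [Ideal.mem_comap, Ideal.mem_comap]
    have h3 : Ideal.Quotient.mk (Ideal.span {(p : WittVector p k)})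
        ((WittVector.frobeniusEquiv p k).symm x) = σb.symm (Ideal.Quotient.mk _ x) := rfl
    have h4 : σb.symm (Ideal.Quotient.mk _ x) = c := by
      rw [← hcx]; exact σb.symm_apply_apply c
    change Ideal.Quotient.mk (Ideal.span {(p : WittVector p k)})
        ((WittVector.frobeniusEquiv p k).symm x) ∈ mm
    rw [h3, h4]; exact hc
  obtain ⟨m, hm⟩ := fibre F V hFV hVF H2 _ hpJ y (Submodule.smul_mono_left h2 h1)
  have h5 : (Submodule.span (WittVector p k ⧸ Ideal.span {(p : WittVector p k)}) (Set.range fun m : M => (Ideal.span {(p : WittVector p k)} • (⊤ : Submodule (WittVector p k) M)).mkQ (V m))).mkQ ((Ideal.span {(p : WittVector p k)} • (⊤ : Submodule (WittVector p k) M)).mkQ y) =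
      (Submodule.span (WittVector p k ⧸ Ideal.span {(p : WittVector p k)}) (Set.range fun m : M => (Ideal.span {(p : WittVector p k)} • (⊤ : Submodule (WittVector p k) M)).mkQ (V m))).mkQ ((Ideal.span {(p : WittVector p k)} • (⊤ : Submodule (WittVector p k) M)).mkQ (y - V m)) := by
    have h6 : (Submodule.span (WittVector p k ⧸ Ideal.span {(p : WittVector p k)}) (Set.range fun m : M => (Ideal.span {(p : WittVector p k)} • (⊤ : Submodule (WittVector p k) M)).mkQ (V m))).mkQ ((Ideal.span {(p : WittVector p k)} • (⊤ : Submodule (WittVector p k) M)).mkQ (V m)) = 0 := by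
      rw [Submodule.mkQ_apply, Submodule.Quotient.mk_eq_zero]
      exact Submodule.subset_span ⟨m, rfl⟩
    rw [map_sub, map_sub, h6, sub_zero]
  rw [h5]
  refine Submodule.smul_induction_on hm ?_ ?_
  · intro j hj m' _
    rw [map_smul, ← quot_smul, map_smul]
    exact Submodule.smul_mem_smul hj Submodule.mem_top
  · intro a b ha hb
    rw [map_add, map_add]
    exact Submodule.add_mem _ ha hb

end Core

end Groth.Agent.Lib.Helper95.DieuWitt
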