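import Mathlib.RingTheory.Localization.Finiteness
import Mathlib.RingTheory.Localization.Integer
import Mathlib.RingTheory.Localization.Module
import Mathlib.Algebra.Module.LocalizedModule.Int
import Mathlib.Algebra.Module.Torsion.Pi
import Mathlib.LinearAlgebra.FiniteDimensional.Defs
import Mathlib.LinearAlgebra.Dimension.Free
import Mathlib.LinearAlgebra.Basis.VectorSpace
import Mathlib.LinearAlgebra.Dual.Lemmas

set_option autoImplicit false
universe u v w

namespace Groth.Agent.Lib.Helper95

theorem clearDenoms (R : Type u) [CommRing R] [IsDomain R] (K : Type v) [Field K] [Algebra R K]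
    [IsFractionRing R K] (M : Type w) [AddCommGroup M] [Module R M] [Module.Finite R M]
    (Θ : M →ₗ[R] K) :
    ∃ (d : R) (ψ : M →ₗ[R] R), d ≠ 0 ∧ ∀ m, algebraMap R K (ψ m) = d • Θ m := by
  classical
  obtain ⟨s, hs⟩ := Module.Finite.fg_top (R := R) (M := M)
  obtain ⟨d, hd⟩ := IsLocalization.exist_integer_multiples (nonZeroDivisors R) s (fun x : M => Θ x)
  let cm : R →ₗ[R] K := Algebra.linearMap R K
  have hcm : Function.Injective cm := IsFractionRing.injective R K
  have hmem : ∀ m : M, (d : R) • Θ m ∈ LinearMap.range cm := by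
    intro m
    have hm : m ∈ Submodule.span R (s : Set M) := by rw [hs]; trivial
    induction hm using Submodule.span_induction with
    | mem x hx => exact hd x hx
    | zero => simp
    | add x y _ _ hx hy => rw [map_add, smul_add]; exact add_mem hx hy
    | smul a x _ hx => rw [map_smul, smul_comm]; exact Submodule.smul_mem _ _ hx
  let f₁ : M →ₗ[R] LinearMap.range cm :=
    LinearMap.codRestrict (LinearMap.range cm) ((d : R) • Θ) hmem
  let ψ : M →ₗ[R] R := (LinearEquiv.ofInjective cm hcm).symm.toLinearMap ∘ₗ f₁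
  refine ⟨d, ψ, nonZeroDivisors.coe_ne_zero d, fun m => ?_⟩
  have := (LinearEquiv.ofInjective cm hcm).apply_symm_apply (f₁ m)
  exact congrArg Subtype.val this

theorem exists_extend_smul (R : Type u) [CommRing R] [IsDomain R] {M : Type v} {M' : Type w}
    [AddCommGroup M] [Module R M] [AddCommGroup M'] [Module R M'] [Module.Finite R M']
    (f : M →ₗ[R] M') (hf : Function.Injective f) (φ : M →ₗ[R] R) :
    ∃ (c : R) (ψ : M' →ₗ[R] R), c ≠ 0 ∧ ∀ m, ψ (f m) = c * φ m := by
  let S := nonZeroDivisors R
  let K := Localization S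
  let ι := LocalizedModule.mkLinearMap S M
  let ι' := LocalizedModule.mkLinearMap S M'
  let κ : R →ₗ[R] K := Algebra.linearMap R K
  let fK : LocalizedModule S M →ₗ[K] LocalizedModule S M' :=
    IsLocalizedModule.mapExtendScalars S ι ι' K f
  let φK : LocalizedModule S M →ₗ[K] K := IsLocalizedModule.mapExtendScalars S ι κ K φ
  have hfK : LinearMap.ker fK = ⊥ := by
    rw [LinearMap.ker_eq_bot]
    exact IsLocalizedModule.map_injective S ι ι' f hf
  obtain ⟨ρ, hρ⟩ := fK.exists_leftInverse_of_injective hfK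
  let Θ : M' →ₗ[R] K := ((φK ∘ₗ ρ).restrictScalars R) ∘ₗ ι'
  obtain ⟨d, ψ, hd, hψ⟩ := clearDenoms R K M' Θ
  refine ⟨d, ψ, hd, fun m => ?_⟩
  apply IsFractionRing.injective R K
  rw [hψ]
  have h1 : ι' (f m) = fK (ι m) := by
    change ι' (f m) = IsLocalizedModule.map S ι ι' f (ι m)
    rw [IsLocalizedModule.map_apply]
  have h2 : ρ (fK (ι m)) = ι m := LinearMap.congr_fun hρ (ι m)
  have h3 : φK (ι m) = algebraMap R K (φ m) := by
    change IsLocalizedModule.map S ι κ φ (ι m) = _
    rw [IsLocalizedModule.map_apply]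
    rfl
  change d • φK (ρ (ι' (f m))) = _
  rw [h1, h2, h3, map_mul, Algebra.smul_def]

end Groth.Agent.Lib.Helper95
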