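import Groth.Agent.Lib.Helper95.Bridge4
import Groth.Agent.Lib.Helper95.GammaClosure2
import Groth.Agent.S3290
import Groth.Prelude.Def_KRR

set_option autoImplicit false
open LambdaRing Finset

namespace Groth.Agent.Lib.Helper95.ElemExt

open Groth.Agent.Lib.Helper95.Bridge Groth.Agent.Lib.Helper95.GamFil
  Groth.Agent.Lib.Helper95.GammaClosure Groth.Agent.Lib.Helper95.GammaFil
  Groth.Agent.Lib.Helper26.LambdaGamma

universe v

section

variable {K : Type v} [CommRing K] [LambdaOps K] (P : PosStructure K)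
  {Ke : Type v} [CommRing Ke] [LambdaOps Ke] (Pe : PosStructure Ke) (f : K →+* Ke) (ℓ : Ke)

def JJ (k : ℕ) : Ideal Ke :=
  Ideal.span {z | ∃ (n : ℕ) (a : K), a ∈ gammaFiltration P (k - n) ∧ z = f a * (ℓ - 1) ^ n}

omit [LambdaOps Ke] in
lemma JJ_isFilt : IsFilt (JJ P f ℓ) where
  anti := by
    intro a b hab
    apply Ideal.span_mono
    rintro z ⟨n, x, hx, rfl⟩
    exact ⟨n, x, gammaFiltration_anti P (by omega) hx, rfl⟩
  zero := by
    rw [eq_top_iff]
    intro y _
    have h1 : (1 : Ke) ∈ JJ P f ℓ 0 :=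
      Ideal.subset_span ⟨0, 1, by rw [gammaFiltration_zero]; trivial, by simp⟩
    have := Ideal.mul_mem_left _ y h1
    rwa [mul_one] at this
  mul := by
    intro a b x y hx hy
    have h := Ideal.mul_mem_mul hx hy
    unfold JJ at h ⊢
    rw [Ideal.span_mul_span'] at h
    refine Ideal.span_mono ?_ h
    rintro _ ⟨p, ⟨n, x, hx, rfl⟩, q, ⟨n', x', hx', rfl⟩, rfl⟩
    refine ⟨n + n', x * x', gammaFiltration_anti P (by omega) (fil_mul_mem P hx hx'), ?_⟩
    rw [map_mul, pow_add]; ring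

lemma sgood_of (hf : IsLambdaHom f) {b : K} (hb : P.aug b = 0) : SGood (JJ P f ℓ) (f b) := by
  intro i
  rw [← map_gamma' f hf]
  exact Ideal.subset_span ⟨0, gamma i b, by simpa using gamma_mem P b hb i, by simp⟩

lemma sgood_line (h1 : ∀ k : ℕ, 2 ≤ k → LambdaOps.lam k (1 : Ke) = 0)
    (hroot : ∀ i : ℕ, 2 ≤ i → LambdaOps.lam i ℓ = 0) : SGood (JJ P f ℓ) (ℓ - 1) := by
  intro i
  have h := Groth.Agent.S8651.result Ke h1 1 (fun _ => ℓ) (fun _ j hj => hroot j hj) i
  simp only [univ_unique, Fin.default_eq_zero, sum_singleton, Nat.cast_one] at h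
  rw [h]
  rcases i with _ | _ | i
  · rw [(JJ_isFilt P f ℓ).zero]; trivial
  · simp only [zero_add, powersetCard_one, sum_map, Function.Embedding.coeFn_mk, prod_singleton,
      sum_singleton]
    exact Ideal.subset_span ⟨1, 1, by simp [gammaFiltration_zero], by simp⟩
  · rw [Finset.sum_eq_zero]
    · exact zero_mem _
    · intro s hs
      have := (Finset.mem_powersetCard.mp hs).2
      have h2 : s.card ≤ 1 := by
        calc s.card ≤ (Finset.univ : Finset (Fin 1)).card := Finset.card_le_univ s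
          _ = 1 := by simp
      omega

attribute [local instance] binomialLambdaOps in
lemma sgood_all (hext : IsExtension P Pe f) (hline : Pe.IsLine ℓ) (hsplit : HasSplitting Ke Pe)
    (p : Polynomial K) :
    SGood (JJ P f ℓ) (p.eval₂ f ℓ - ((Pe.aug (p.eval₂ f ℓ) : ℤ) : Ke)) := by
  have hI := JJ_isFilt P f ℓ
  have hB := isSpecial_of_hasSplitting Pe hsplit
  have hAlg := (isAugLambdaAlg Pe hsplit).isLambdaAlg
  have hroot : ∀ i : ℕ, 2 ≤ i → LambdaOps.lam i ℓ = 0 := by
    intro i hi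
    apply Pe.lam_eq_zero _ hline.1
    rw [hline.2]
    exact_mod_cast hi
  have hl := sgood_line P f ℓ hB.lam_one_eq_zero hroot
  induction p using Polynomial.induction_on with
  | C a =>
    rw [Polynomial.eval₂_C, hext.aug_comp]
    have : f a - ((P.aug a : ℤ) : Ke) = f (a - ((P.aug a : ℤ) : K)) := by
      rw [map_sub, map_intCast]
    rw [this]
    apply sgood_of P f ℓ hext.isLambdaHom
    rw [map_sub, map_intCast]
    simp
  | add p q hp hq =>
    have : (p + q).eval₂ f ℓ - ((Pe.aug ((p + q).eval₂ f ℓ) : ℤ) : Ke) =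
        (p.eval₂ f ℓ - ((Pe.aug (p.eval₂ f ℓ) : ℤ) : Ke)) +
          (q.eval₂ f ℓ - ((Pe.aug (q.eval₂ f ℓ) : ℤ) : Ke)) := by
      rw [Polynomial.eval₂_add, map_add]
      push_cast
      ring
    rw [this]
    exact hp.add hI hq
  | monomial n a ih =>
    set z := (Polynomial.C a * Polynomial.X ^ n).eval₂ f ℓ with hz
    have e1 : (Polynomial.C a * Polynomial.X ^ (n + 1)).eval₂ f ℓ = z * ℓ := by
      rw [hz, pow_succ, ← mul_assoc, Polynomial.eval₂_mul, Polynomial.eval₂_X]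
    rw [e1, map_mul, hline.2, mul_one]
    have e2 : z * ℓ - ((Pe.aug z : ℤ) : Ke) =
        (z - ((Pe.aug z : ℤ) : Ke)) * (ℓ - 1) + (z - ((Pe.aug z : ℤ) : Ke)) +
          algebraMap ℤ Ke (Pe.aug z) * (ℓ - 1) := by
      rw [eq_intCast]
      ring
    rw [e2]
    exact ((SGood.mul hI hB ih hl).add hI ih).add hI
      (SGood.smul hI hB int_isBinomial hAlg (Pe.aug z) hl)

lemma gammaFiltration_le_JJ (hext : IsExtension P Pe f) (hline : Pe.IsLine ℓ)
    (hsplit : HasSplitting Ke Pe) (hgen : ∀ z : Ke, ∃ p : Polynomial K, z = p.eval₂ f ℓ)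
    (k : ℕ) {x : Ke} (hx : x ∈ gammaFiltration Pe k) : x ∈ JJ P f ℓ k := by
  have hI := JJ_isFilt P f ℓ
  rw [mem_gammaFiltration_iff, augAlg_coe] at hx
  revert x
  show gammaFil Pe.aug k ≤ JJ P f ℓ k
  unfold gammaFil
  rw [Ideal.span_le]
  rintro y ⟨l, hl, hs, rfl⟩
  refine hI.anti hs (list_prod_mem hI l ?_)
  intro p hp
  obtain ⟨q, hq⟩ := hgen p.2
  have := sgood_all P Pe f ℓ hext hline hsplit q
  rw [← hq, hl p hp] at this
  simpa using this

def TT (k : ℕ) : AddSubgroup Ke :=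
  AddSubgroup.closure {z | ∃ (n : ℕ) (a : K), a ∈ gammaFiltration P (k - n) ∧ z = f a * (ℓ - 1) ^ n}

def RR (r k : ℕ) : AddSubgroup Ke :=
  ⨆ i ∈ Finset.range (r + 1), AddSubgroup.map
    ((AddMonoidHom.mulRight ((ℓ - 1) ^ i)).comp f.toAddMonoidHom) (gammaFiltration P (k - i))

omit [LambdaOps Ke] in
lemma mem_RR {r k i : ℕ} (hi : i ≤ r) {a : K} (ha : a ∈ gammaFiltration P (k - i)) :
    f a * (ℓ - 1) ^ i ∈ RR P f ℓ r k := by
  unfold RR
  refine AddSubgroup.mem_iSup_of_mem i (AddSubgroup.mem_iSup_of_mem (Finset.mem_range.mpr (by omega)) ?_)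
  exact AddSubgroup.mem_map.mpr ⟨a, ha, rfl⟩

omit [LambdaOps Ke] in
lemma RR_le_TT (r k : ℕ) : RR P f ℓ r k ≤ TT P f ℓ k := by
  unfold RR
  refine iSup_le fun i => iSup_le fun _ => ?_
  rintro _ ⟨a, ha, rfl⟩
  exact AddSubgroup.subset_closure ⟨i, a, ha, rfl⟩

omit [LambdaOps Ke] in
lemma TT_mul_of (k : ℕ) (c : K) {y : Ke} (hy : y ∈ TT P f ℓ k) : f c * y ∈ TT P f ℓ k := by
  unfold TT at hy ⊢
  induction hy using AddSubgroup.closure_induction with
  | mem z hz =>
    obtain ⟨n, a, ha, rfl⟩ := hz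
    refine AddSubgroup.subset_closure ⟨n, c * a, fil_smul_mem P c ha, ?_⟩
    rw [map_mul]; ring
  | zero => rw [mul_zero]; exact zero_mem _
  | add y z _ _ hy hz => rw [mul_add]; exact add_mem hy hz
  | neg y _ hy => rw [mul_neg]; exact neg_mem hy

omit [LambdaOps Ke] in
lemma TT_mul_line (k : ℕ) {y : Ke} (hy : y ∈ TT P f ℓ k) : (ℓ - 1) * y ∈ TT P f ℓ k := by
  unfold TT at hy ⊢
  induction hy using AddSubgroup.closure_induction with
  | mem z hz =>
    obtain ⟨n, a, ha, rfl⟩ := hz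
    refine AddSubgroup.subset_closure ⟨n + 1, a, gammaFiltration_anti P (by omega) ha, ?_⟩
    rw [pow_succ]; ring
  | zero => rw [mul_zero]; exact zero_mem _
  | add y z _ _ hy hz => rw [mul_add]; exact add_mem hy hz
  | neg y _ hy => rw [mul_neg]; exact neg_mem hy

omit [LambdaOps Ke] in
lemma TT_mul_eval (k : ℕ) (p : Polynomial K) {y : Ke} (hy : y ∈ TT P f ℓ k) :
    p.eval₂ f ℓ * y ∈ TT P f ℓ k := by
  induction p using Polynomial.induction_on generalizing y with
  | C a => rw [Polynomial.eval₂_C]; exact TT_mul_of P f ℓ k a hy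
  | add p q hp hq => rw [Polynomial.eval₂_add, add_mul]; exact add_mem (hp hy) (hq hy)
  | monomial n a ih =>
    have e1 : (Polynomial.C a * Polynomial.X ^ (n + 1)).eval₂ f ℓ * y =
        (Polynomial.C a * Polynomial.X ^ n).eval₂ f ℓ * ((ℓ - 1) * y + y) := by
      rw [pow_succ, ← mul_assoc, Polynomial.eval₂_mul, Polynomial.eval₂_X]
      ring
    rw [e1]
    exact ih (add_mem (TT_mul_line P f ℓ k hy) hy)

omit [LambdaOps Ke] in
lemma JJ_le_TT (hgen : ∀ z : Ke, ∃ p : Polynomial K, z = p.eval₂ f ℓ) (k : ℕ) {x : Ke}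
    (hx : x ∈ JJ P f ℓ k) : x ∈ TT P f ℓ k := by
  unfold JJ at hx
  induction hx using Submodule.span_induction with
  | mem y hy => exact AddSubgroup.subset_closure hy
  | zero => exact zero_mem _
  | add y z _ _ hy hz => exact add_mem hy hz
  | smul c y _ hy =>
    obtain ⟨p, rfl⟩ := hgen c
    exact TT_mul_eval P f ℓ k p hy

omit [LambdaOps Ke] in
lemma claimA (r : ℕ) (c : ℕ → K) (hc0 : c 0 = 1) (hc : ∀ i, c i ∈ gammaFiltration P i)
    (hrel : ∑ i ∈ range (r + 2), f (c i) * (ℓ - 1) ^ (r + 1 - i) = 0) :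
    ∀ (n k : ℕ) (a : K), a ∈ gammaFiltration P (k - n) → f a * (ℓ - 1) ^ n ∈ RR P f ℓ r k := by
  have hpow : (ℓ - 1) ^ (r + 1) = -∑ i ∈ range (r + 1), f (c (i + 1)) * (ℓ - 1) ^ (r - i) := by
    rw [Finset.sum_range_succ', hc0, map_one, one_mul, Nat.sub_zero] at hrel
    rw [eq_neg_iff_add_eq_zero, add_comm]
    convert hrel using 2
    apply Finset.sum_congr rfl
    intro i _
    congr 2
    omega
  intro n
  induction n using Nat.strong_induction_on with
  | _ n ih =>
    intro k a ha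
    by_cases hn : n ≤ r
    · exact mem_RR P f ℓ hn ha
    · obtain ⟨d, rfl⟩ : ∃ d, n = d + (r + 1) := ⟨n - (r + 1), by omega⟩
      have e1 : f a * (ℓ - 1) ^ (d + (r + 1)) =
          ∑ i ∈ range (r + 1), f (-(a * c (i + 1))) * (ℓ - 1) ^ (d + (r - i)) := by
        rw [pow_add, hpow, mul_neg, mul_neg, Finset.mul_sum, Finset.mul_sum, ← Finset.sum_neg_distrib]
        apply Finset.sum_congr rfl
        intro i _
        rw [map_neg, map_mul, pow_add]
        ring
      rw [e1]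
      refine sum_mem fun i hi => ?_
      have hi' := Finset.mem_range.mp hi
      apply ih (d + (r - i)) (by omega) k
      apply neg_mem
      exact gammaFiltration_anti P (by omega) (fil_mul_mem P ha (hc (i + 1)))

lemma neg_one_pow_mul_sub {R : Type*} [CommRing R] {i m : ℕ} (h : i ≤ m) :
    (-1 : R) ^ m * (-1) ^ (m - i) = (-1) ^ i := by
  obtain ⟨d, rfl⟩ := Nat.exists_eq_add_of_le h
  rw [Nat.add_sub_cancel_left, pow_add, mul_assoc, ← mul_pow]
  simp

omit [LambdaOps Ke] in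
lemma rel (e : K) (he : e ∈ P.pos) (m : ℕ) (hm : P.aug e = m)
    (hrootrel : (KRR.extPoly P e).eval₂ f ℓ = 0) :
    ∑ i ∈ range (m + 1), f ((-1) ^ i * gamma i (e - (m : K))) * (ℓ - 1) ^ (m - i) = 0 := by
  have hm' : (P.aug e).toNat = m := by rw [hm]; simp
  have h := Groth.Agent.S3290.result K P e he
  rw [hm'] at h
  have h2 := congrArg (Polynomial.eval₂ f (1 - ℓ)) h
  simp only [Polynomial.eval₂_finsetSum, Polynomial.eval₂_mul, Polynomial.eval₂_C,
    Polynomial.eval₂_pow, Polynomial.eval₂_X, Polynomial.eval₂_sub, Polynomial.eval₂_one] at h2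
  have h3 : ∑ i ∈ range (m + 1), f ((-1) ^ i * gamma i (e - (m : K))) * (ℓ - 1) ^ (m - i) =
      (-1) ^ m * ∑ i ∈ range (m + 1), f (gamma i (e - (m : K))) * (1 - ℓ) ^ (m - i) := by
    rw [Finset.mul_sum]
    apply Finset.sum_congr rfl
    intro i hi
    have hi' : i ≤ m := by have := Finset.mem_range.mp hi; omega
    have : (1 - ℓ) ^ (m - i) = (-1) ^ (m - i) * (ℓ - 1) ^ (m - i) := by
      rw [← mul_pow]; congr 1; ring
    rw [this, map_mul, map_pow, map_neg, map_one]
    calc (-1 : Ke) ^ i * f (gamma i (e - (m : K))) * (ℓ - 1) ^ (m - i)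
        = ((-1 : Ke) ^ m * (-1) ^ (m - i)) * f (gamma i (e - (m : K))) * (ℓ - 1) ^ (m - i) := by
          rw [neg_one_pow_mul_sub hi']
      _ = _ := by ring
  rw [h3, h2]
  have h4 : (KRR.extPoly P e).eval₂ f ℓ =
      (-1) ^ m * ∑ i ∈ range (m + 1), f (LambdaOps.lam i e) * (1 - ℓ - 1) ^ (m - i) := by
    unfold KRR.extPoly
    rw [hm', Finset.mul_sum]
    simp only [Polynomial.eval₂_finsetSum, Polynomial.eval₂_mul, Polynomial.eval₂_C,
      Polynomial.eval₂_pow, Polynomial.eval₂_X]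
    apply Finset.sum_congr rfl
    intro i hi
    have hi' : i ≤ m := by have := Finset.mem_range.mp hi; omega
    have : (1 - ℓ - 1) ^ (m - i) = (-1) ^ (m - i) * ℓ ^ (m - i) := by
      rw [← mul_pow]; congr 1; ring
    rw [this, map_mul, map_pow, map_neg, map_one]
    calc (-1 : Ke) ^ i * f (LambdaOps.lam i e) * ℓ ^ (m - i)
        = ((-1 : Ke) ^ m * (-1) ^ (m - i)) * f (LambdaOps.lam i e) * ℓ ^ (m - i) := by
          rw [neg_one_pow_mul_sub hi']
      _ = _ := by ring
  rw [← h4, hrootrel]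

lemma map_mem_gammaFiltration (hext : IsExtension P Pe f) {j : ℕ} {a : K}
    (ha : a ∈ gammaFiltration P j) : f a ∈ gammaFiltration Pe j := by
  rw [mem_gammaFiltration_iff, augAlg_coe] at ha ⊢
  exact map_mem_gammaFil f (fun n a => hext.isLambdaHom n a) P.aug Pe.aug hext.aug_comp ha

theorem elem_ext (e : K) (he : e ∈ P.pos) (r : ℕ) (hr : P.aug e = r + 1)
    (hext : IsExtension P Pe f) (hrootrel : (KRR.extPoly P e).eval₂ f ℓ = 0)
    (hline : Pe.IsLine ℓ) (hsplit : HasSplitting Ke Pe)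
    (hgen : ∀ z : Ke, ∃ p : Polynomial K, z = p.eval₂ f ℓ) (k : ℕ) :
    gammaFiltration Pe k = RR P f ℓ r k := by
  apply le_antisymm
  · intro x hx
    have h1 := JJ_le_TT P f ℓ hgen k (gammaFiltration_le_JJ P Pe f ℓ hext hline hsplit hgen k hx)
    have h2 : TT P f ℓ k ≤ RR P f ℓ r k := by
      unfold TT
      rw [AddSubgroup.closure_le]
      rintro _ ⟨n, a, ha, rfl⟩
      have haug : P.aug (e - ((r + 1 : ℕ) : K)) = 0 := by
        rw [map_sub, map_natCast, hr]; push_cast; ring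
      refine claimA P f ℓ r (fun i => (-1) ^ i * gamma i (e - ((r + 1 : ℕ) : K))) ?_ ?_ ?_ n k a ha
      · simp [gamma_zero_left]
      · intro i
        exact fil_smul_mem P _ (gamma_mem P _ haug i)
      · exact rel P f ℓ e he (r + 1) (by rw [hr]; push_cast; ring) hrootrel
    exact h2 h1
  · unfold RR
    refine iSup_le fun i => iSup_le fun _ => ?_
    rintro _ ⟨a, ha, rfl⟩
    show f a * (ℓ - 1) ^ i ∈ gammaFiltration Pe k
    have h1 := map_mem_gammaFiltration P Pe f hext ha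
    have haug : Pe.aug (ℓ - 1) = 0 := by rw [map_sub, hline.2, map_one, sub_self]
    have h2 := gamma_pow_mem Pe (ℓ - 1) haug 1 i
    rw [gamma_one_left, mul_one] at h2
    exact gammaFiltration_anti Pe (by omega) (fil_mul_mem Pe h1 h2)

end

end Groth.Agent.Lib.Helper95.ElemExt
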