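import Groth.Agent.Lib.Helper95.ElemLamV

set_option autoImplicit false
open LambdaRing

namespace Groth.Agent.Lib.Helper95.ElemLam

open Groth.Agent.Lib.Helper48

section A

variable {K₀ : Type*} [CommRing K₀] [LambdaOps K₀] {p₀ : Polynomial K₀} (hp : p₀.Monic)

noncomputable def coord (n : ℕ) (x : AdjoinRoot p₀) : K₀ :=
  (AdjoinRoot.modByMonicHom hp x).coeff n

omit [LambdaOps K₀] in
lemma coord_add (n : ℕ) (x y : AdjoinRoot p₀) : coord hp n (x + y) = coord hp n x + coord hp n y := by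
  unfold coord
  rw [map_add, Polynomial.coeff_add]

omit [LambdaOps K₀] in
lemma repr_eq [Nontrivial K₀] (x : AdjoinRoot p₀) :
    x = ∑ n ∈ Finset.range p₀.natDegree,
      AdjoinRoot.of p₀ (coord hp n x) * AdjoinRoot.root p₀ ^ n := by
  by_cases h1 : p₀ = 1
  · subst h1
    have : Subsingleton (AdjoinRoot (1 : Polynomial K₀)) := by
      refine ⟨fun a b => ?_⟩
      obtain ⟨G, rfl⟩ := AdjoinRoot.mk_surjective a
      obtain ⟨H, rfl⟩ := AdjoinRoot.mk_surjective b
      rw [AdjoinRoot.mk_eq_mk]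
      exact one_dvd _
    exact Subsingleton.elim _ _
  · have h2 : (AdjoinRoot.modByMonicHom hp x).natDegree < p₀.natDegree := by
      obtain ⟨G, rfl⟩ := AdjoinRoot.mk_surjective x
      rw [AdjoinRoot.modByMonicHom_mk]
      exact Polynomial.natDegree_modByMonic_lt G hp h1
    have h3 := AdjoinRoot.mk_leftInverse hp x
    conv_lhs => rw [← h3, Polynomial.as_sum_range_C_mul_X_pow' _ h2]
    rw [map_sum]
    refine Finset.sum_congr rfl fun n _ => ?_
    rw [map_mul, map_pow, AdjoinRoot.mk_X, AdjoinRoot.mk_C]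
    rfl

omit [LambdaOps K₀] in
lemma coord_sum [Nontrivial K₀] (d : ℕ → K₀) (n : ℕ) (hn : n < p₀.natDegree) :
    coord hp n (∑ k ∈ Finset.range p₀.natDegree,
      AdjoinRoot.of p₀ (d k) * AdjoinRoot.root p₀ ^ k) = d n := by
  have h1 : p₀ ≠ 1 := by
    intro h
    rw [h, Polynomial.natDegree_one] at hn
    omega
  set G : Polynomial K₀ := ∑ k ∈ Finset.range p₀.natDegree, Polynomial.C (d k) * Polynomial.X ^ k
    with hG
  have h2 : (∑ k ∈ Finset.range p₀.natDegree,
      AdjoinRoot.of p₀ (d k) * AdjoinRoot.root p₀ ^ k) = AdjoinRoot.mk p₀ G := by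
    rw [hG, map_sum]
    refine Finset.sum_congr rfl fun k _ => ?_
    rw [map_mul, map_pow, AdjoinRoot.mk_X, AdjoinRoot.mk_C]
  have h3 : G.degree < p₀.degree := by
    rw [hG]
    refine lt_of_le_of_lt (Polynomial.degree_sum_le _ _) ?_
    rw [Finset.sup_lt_iff]
    · intro k hk
      refine lt_of_le_of_lt (Polynomial.degree_C_mul_X_pow_le k (d k)) ?_
      rw [Polynomial.degree_eq_natDegree hp.ne_zero]
      exact_mod_cast Finset.mem_range.mp hk
    · rw [Polynomial.degree_eq_natDegree hp.ne_zero]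
      exact WithBot.bot_lt_coe _
  unfold coord
  rw [h2, AdjoinRoot.modByMonicHom_mk, (Polynomial.modByMonic_eq_self_iff hp).mpr h3, hG,
    Polynomial.finsetSum_coeff]
  simp only [Polynomial.coeff_C_mul, Polynomial.coeff_X_pow]
  rw [Finset.sum_eq_single n]
  · simp
  · intro k _ hk
    rw [if_neg (Ne.symm hk), mul_zero]
  · intro h
    exact absurd (Finset.mem_range.mpr hn) h

noncomputable def LT (x : AdjoinRoot p₀) : PowerSeries (AdjoinRoot p₀) :=
  ∏ n ∈ Finset.range p₀.natDegree, PowerSeries.rescale (AdjoinRoot.root p₀ ^ n)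
    (PowerSeries.map (AdjoinRoot.of p₀) (lamSeries (coord hp n x)))

lemma LT_add (x y : AdjoinRoot p₀) : LT hp (x + y) = LT hp x * LT hp y := by
  unfold LT
  rw [← Finset.prod_mul_distrib]
  refine Finset.prod_congr rfl fun n _ => ?_
  rw [coord_add, lamSeries_add, map_mul, map_mul]

lemma QP_factor (n : ℕ) (c : K₀) :
    QP (PowerSeries.rescale (AdjoinRoot.root p₀ ^ n)
      (PowerSeries.map (AdjoinRoot.of p₀) (lamSeries c)))
      (AdjoinRoot.of p₀ c * AdjoinRoot.root p₀ ^ n) := by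
  constructor
  · rw [← PowerSeries.coeff_zero_eq_constantCoeff_apply, PowerSeries.coeff_rescale, pow_zero, one_mul,
      PowerSeries.coeff_map, PowerSeries.coeff_zero_eq_constantCoeff_apply, constantCoeff_lamSeries,
      map_one]
  · rw [PowerSeries.coeff_rescale, pow_one, PowerSeries.coeff_map, lamSeries, PowerSeries.coeff_mk,
      LambdaOps.lam_one, mul_comm]

lemma QP_prod {A : Type*} [CommRing A] {α : Type*} (s : Finset α) (f : α → PowerSeries A)
    (b : α → A) (h : ∀ i ∈ s, QP (f i) (b i)) : QP (∏ i ∈ s, f i) (∑ i ∈ s, b i) := by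
  classical
  induction s using Finset.induction_on with
  | empty => simpa using QP.one
  | insert a s ha ih =>
    rw [Finset.prod_insert ha, Finset.sum_insert ha]
    exact (h a (Finset.mem_insert_self a s)).mul
      (ih fun i hi => h i (Finset.mem_insert_of_mem hi))

lemma QP_LT [Nontrivial K₀] (x : AdjoinRoot p₀) : QP (LT hp x) x := by
  have h := QP_prod (Finset.range p₀.natDegree)
    (fun n => PowerSeries.rescale (AdjoinRoot.root p₀ ^ n)
      (PowerSeries.map (AdjoinRoot.of p₀) (lamSeries (coord hp n x))))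
    (fun n => AdjoinRoot.of p₀ (coord hp n x) * AdjoinRoot.root p₀ ^ n)
    (fun n _ => QP_factor n _)
  rw [← repr_eq hp x] at h
  exact h

@[instance_reducible]
noncomputable def elemLambdaOps [Nontrivial K₀] : LambdaOps (AdjoinRoot p₀) where
  lam i x := PowerSeries.coeff i (LT hp x)
  lam_zero x := by
    rw [PowerSeries.coeff_zero_eq_constantCoeff_apply]; exact (QP_LT hp x).1
  lam_one x := (QP_LT hp x).2
  lam_add k x y := by
    rw [LT_add, PowerSeries.coeff_mul, Finset.Nat.sum_antidiagonal_eq_sum_range_succ_mk]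

lemma map_lamSeries' {A B : Type*} [CommRing A] [LambdaOps A] [CommRing B] [LambdaOps B]
    (f : A →+* B) (hf : ∀ (i : ℕ) (c : A), f (LambdaOps.lam i c) = LambdaOps.lam i (f c)) (x : A) :
    PowerSeries.map f (lamSeries x) = lamSeries (f x) := by
  ext k
  simp [lamSeries, PowerSeries.coeff_map, hf k x]

theorem map_LT_ev [Nontrivial K₀] {M : Type*} [CommRing M] [LambdaOps M]
    (ψ : AdjoinRoot p₀ →+* M)
    (h1 : ∀ (i : ℕ) (c : K₀), ψ (AdjoinRoot.of p₀ (LambdaOps.lam i c)) =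
      LambdaOps.lam i (ψ (AdjoinRoot.of p₀ c)))
    (h2 : ∀ n : ℕ, n < p₀.natDegree → ∀ c : K₀,
      lamSeries (ψ (AdjoinRoot.of p₀ c) * ψ (AdjoinRoot.root p₀) ^ n) =
        PowerSeries.rescale (ψ (AdjoinRoot.root p₀) ^ n) (lamSeries (ψ (AdjoinRoot.of p₀ c))))
    (x : AdjoinRoot p₀) :
    PowerSeries.map ψ (LT hp x) = lamSeries (ψ x) := by
  conv_rhs => rw [repr_eq hp x]
  rw [map_sum, lamSeries_finset_sum]
  unfold LT
  rw [map_prod]
  refine Finset.prod_congr rfl fun n hn => ?_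
  rw [map_mul, map_pow, h2 n (Finset.mem_range.mp hn), ← PowerSeries.rescale_map, map_pow]
  congr 1
  have := map_lamSeries' (ψ.comp (AdjoinRoot.of p₀)) h1 (coord hp n x)
  rw [RingHom.comp_apply] at this
  rw [← this]
  ext k
  simp [PowerSeries.coeff_map]

theorem map_LT_map [Nontrivial K₀] {K₁ : Type*} [CommRing K₁] [LambdaOps K₁] [Nontrivial K₁]
    (φ : K₀ →+* K₁)
    (hφ : ∀ (i : ℕ) (c : K₀), φ (LambdaOps.lam i c) = LambdaOps.lam i (φ c))
    {p₁ : Polynomial K₁} (hp₁ : p₁.Monic) (hpp : p₁ = p₀.map φ)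
    (Ψ : AdjoinRoot p₀ →+* AdjoinRoot p₁)
    (hΨof : ∀ c, Ψ (AdjoinRoot.of p₀ c) = AdjoinRoot.of p₁ (φ c))
    (hΨroot : Ψ (AdjoinRoot.root p₀) = AdjoinRoot.root p₁) (x : AdjoinRoot p₀) :
    PowerSeries.map Ψ (LT hp x) = LT hp₁ (Ψ x) := by
  have hdeg : p₁.natDegree = p₀.natDegree := by rw [hpp]; exact hp.natDegree_map φ
  have hc : ∀ n, n < p₀.natDegree → coord hp₁ n (Ψ x) = φ (coord hp n x) := by
    intro n hn
    have h3 : Ψ x = ∑ k ∈ Finset.range p₁.natDegree,
        AdjoinRoot.of p₁ (φ (coord hp k x)) * AdjoinRoot.root p₁ ^ k := by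
      conv_lhs => rw [repr_eq hp x]
      rw [map_sum, hdeg]
      refine Finset.sum_congr rfl fun k _ => ?_
      rw [map_mul, map_pow, hΨof, hΨroot]
    rw [h3]
    exact coord_sum hp₁ (fun k => φ (coord hp k x)) n (by omega)
  unfold LT
  rw [map_prod, hdeg]
  refine Finset.prod_congr rfl fun n hn => ?_
  rw [hc n (Finset.mem_range.mp hn), ← PowerSeries.rescale_map, map_pow, hΨroot,
    ← map_lamSeries' φ hφ]
  congr 1
  ext k
  simp [PowerSeries.coeff_map, hΨof]

end A

end Groth.Agent.Lib.Helper95.ElemLam
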