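import Groth.Agent.Lib.Helper95.ElemProjK1

set_option autoImplicit false
open LambdaRing Finset

namespace Groth.Agent.Lib.Helper95.ElemProjK

open Groth.Agent.Lib.Helper48 Groth.Agent.Lib.Helper95.ToddInv Groth.Agent.Lib.Helper95.ElemProj
  Groth.Agent.Lib.Helper95.Bridge

universe v

section Alg

variable {B : Type*} [CommRing B] {m : ℕ} (u : Fin m → B)

lemma Fh_C_mul_X_pow (b : B) (n : ℕ) : Fh u (Polynomial.C b * Polynomial.X ^ n) = b * hU u n := by
  rw [Fh_apply, Polynomial.C_mul_X_pow_eq_monomial, Polynomial.sum_monomial_index]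
  rw [zero_mul]

lemma fB_of_mul (b : B) (z : AdjoinRoot (pU u)) :
    fB u (AdjoinRoot.of (pU u) b * z) = b * fB u z := by
  have : AdjoinRoot.of (pU u) b * z = b • z := by
    rw [Algebra.smul_def, AdjoinRoot.algebraMap_eq]
  rw [this, map_smul, smul_eq_mul]

lemma fB_root_pow (hm : 1 ≤ m) (n : ℕ) : fB u (AdjoinRoot.root (pU u) ^ n) = hU u n := by
  have : AdjoinRoot.root (pU u) ^ n =
      AdjoinRoot.mk (pU u) (Polynomial.C (1 : B) * Polynomial.X ^ n) := by
    rw [map_mul, map_pow, AdjoinRoot.mk_X, map_one, map_one, one_mul]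
  rw [this, fB_mk u hm, Fh_C_mul_X_pow, one_mul]

lemma geom_reflect {A : Type*} [CommRing A] (ρ l a : A) (h : l * ρ = 1) (j : ℕ) :
    (∑ i ∈ Finset.range j, ρ ^ i * a ^ (j - 1 - i)) * l ^ (j - 1) =
      ∑ t ∈ Finset.range j, (a * l) ^ t := by
  rw [← Finset.sum_range_reflect (fun t => (a * l) ^ t) j, Finset.sum_mul]
  refine Finset.sum_congr rfl fun i hi => ?_
  have hi' := Finset.mem_range.mp hi
  have e : j - 1 = i + (j - 1 - i) := by omega
  have h2 : ρ ^ i * l ^ i = 1 := by rw [← mul_pow, mul_comm, h, one_pow]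
  calc ρ ^ i * a ^ (j - 1 - i) * l ^ (j - 1)
      = ρ ^ i * a ^ (j - 1 - i) * (l ^ i * l ^ (j - 1 - i)) := by rw [← pow_add, ← e]
    _ = (ρ ^ i * l ^ i) * (a ^ (j - 1 - i) * l ^ (j - 1 - i)) := by ring
    _ = (a * l) ^ (j - 1 - i) := by rw [h2, one_mul, mul_pow]

lemma prod_geom_eq (j : ℕ) (l : AdjoinRoot (pU u)) (h : l * AdjoinRoot.root (pU u) = 1) :
    ∏ k, ∑ t ∈ Finset.range j, (AdjoinRoot.of (pU u) (u k) * l) ^ t =
      AdjoinRoot.mk (pU u) (QU u j) * l ^ (m * (j - 1)) := by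
  unfold QU
  rw [map_prod]
  have h1 : ∀ k, ∑ t ∈ Finset.range j, (AdjoinRoot.of (pU u) (u k) * l) ^ t =
      AdjoinRoot.mk (pU u) (qU u j k) * l ^ (j - 1) := by
    intro k
    rw [← geom_reflect (AdjoinRoot.root (pU u)) l (AdjoinRoot.of (pU u) (u k)) h j]
    congr 1
    unfold qU
    rw [map_sum]
    refine Finset.sum_congr rfl fun i _ => ?_
    rw [map_mul, map_pow, map_pow, AdjoinRoot.mk_X, AdjoinRoot.mk_C]
  rw [Finset.prod_congr rfl fun k _ => h1 k, Finset.prod_mul_distrib, Finset.prod_const,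
    Finset.card_univ, Fintype.card_fin, ← pow_mul, mul_comm (j - 1) m]

lemma aeval_esymm_mul {A : Type*} [CommRing A] (a : Fin m → A) (c : A) (i : ℕ) :
    MvPolynomial.aeval (fun k => a k * c) (MvPolynomial.esymm (Fin m) ℤ i) =
      MvPolynomial.aeval a (MvPolynomial.esymm (Fin m) ℤ i) * c ^ i := by
  rw [aeval_esymmZ, aeval_esymmZ, Finset.sum_mul]
  refine Finset.sum_congr rfl fun t ht => ?_
  rw [Finset.prod_mul_distrib, Finset.prod_const, (Finset.mem_powersetCard.mp ht).2]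

lemma map_aeval_esymm {A A' : Type*} [CommRing A] [CommRing A'] (φ : A →+* A') (a : Fin m → A)
    (i : ℕ) : φ (MvPolynomial.aeval a (MvPolynomial.esymm (Fin m) ℤ i)) =
      MvPolynomial.aeval (fun k => φ (a k)) (MvPolynomial.esymm (Fin m) ℤ i) := by
  rw [aeval_esymmZ, aeval_esymmZ, map_sum]
  refine Finset.sum_congr rfl fun t _ => ?_
  rw [map_prod]

end Alg

section TensorDefs

open scoped TensorProduct

variable (R : Type) [CommRing R] {K L : Type v} [CommRing K] [CommRing L] (g : K →+* L) {m : ℕ}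
  (u : Fin m → L)

noncomputable def incl : L →+* R ⊗[ℤ] L :=
  (Algebra.TensorProduct.includeRight : L →ₐ[ℤ] R ⊗[ℤ] L).toRingHom

lemma incl_apply (y : L) : incl R y = (1 : R) ⊗ₜ[ℤ] y := rfl

noncomputable def gam : K →+* R ⊗[ℤ] L := (incl R).comp g

lemma gam_apply (c : K) : gam R g c = (1 : R) ⊗ₜ[ℤ] g c := rfl

noncomputable def uB : Fin m → R ⊗[ℤ] L := fun k => incl R (u k)

end TensorDefs

section Split

variable {K : Type v} [CommRing K] [LambdaOps K] (P : PosStructure K) (e : K)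
  {L : Type v} [CommRing L] [LambdaOps L] (PL : PosStructure L) (g : K →+* L)
  (m : ℕ) (u : Fin m → L)

structure SplitData : Prop where
  hg : IsExtension P PL g
  hm : P.aug e = (m : ℤ)
  hm1 : 1 ≤ m
  hu : ∀ k, PL.IsLine (u k)
  hsum : ∑ k, u k = g e
  hK : HasSplitting K P
  hL : HasSplitting L PL

variable {P e PL g m u} (D : SplitData P e PL g m u)

include D

lemma map_extPoly : (KRR.extPoly P e).map g = pU u := by
  have hm' : (P.aug e).toNat = m := by rw [D.hm, Int.toNat_natCast]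
  unfold KRR.extPoly
  rw [hm', Polynomial.map_sum, ← extPoly_eq_pU PL u D.hu, D.hsum]
  refine Finset.sum_congr rfl fun i _ => ?_
  rw [Polynomial.map_mul, Polynomial.map_C, Polynomial.map_pow, Polynomial.map_X, map_mul,
    map_pow, map_neg, map_one, D.hg.isLambdaHom]

lemma map_sigma (n : ℕ) : g (KRR.sigma n e) = hU u n := by
  have h1 := map_Lam_inv g D.hg.isLambdaHom e
  have h2 : Groth.Agent.Lib.Helper48.Lam (g e) = lamNeg u := by
    rw [← D.hsum]; exact rescale_lamSeries_sum_lines PL u D.hu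
  rw [h2] at h1
  have h3 := congrArg (PowerSeries.coeff n) h1
  rw [PowerSeries.coeff_map] at h3
  exact h3

lemma extPoly_monic : (KRR.extPoly P e).Monic :=
  Polynomial.monic_of_injective D.hg.injective
    (by rw [map_extPoly D]; exact pU_monic u)

lemma natDegree_extPoly_le : (KRR.extPoly P e).natDegree ≤ m := by
  rw [← Polynomial.natDegree_map_eq_of_injective D.hg.injective, map_extPoly D]
  exact natDegree_pU_le u

lemma exists_repr (x : AdjoinRoot (KRR.extPoly P e)) :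
    ∃ c : ℕ → K, x = ∑ n ∈ Finset.range m,
      AdjoinRoot.of (KRR.extPoly P e) (c n) * AdjoinRoot.root (KRR.extPoly P e) ^ n := by
  have : Nontrivial K := RingHom.domain_nontrivial P.aug
  obtain ⟨G, rfl⟩ := AdjoinRoot.mk_surjective x
  have hmon := extPoly_monic D
  have hdeg := natDegree_extPoly_le D
  have hm1 := D.hm1
  set H := G %ₘ KRR.extPoly P e with hH
  have h1 : AdjoinRoot.mk (KRR.extPoly P e) G = AdjoinRoot.mk (KRR.extPoly P e) H := by
    have := Polynomial.modByMonic_add_div G (KRR.extPoly P e)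
    conv_lhs => rw [← this]
    rw [map_add, map_mul, AdjoinRoot.mk_self, zero_mul, add_zero]
  have h2 : H.natDegree < m := by
    by_cases hH0 : H = 0
    · rw [hH0, Polynomial.natDegree_zero]; omega
    · have := Polynomial.degree_modByMonic_lt G hmon
      rw [← hH] at this
      have h3 := Polynomial.natDegree_lt_natDegree hH0 this
      omega
  refine ⟨fun n => H.coeff n, ?_⟩
  rw [h1]
  conv_lhs => rw [Polynomial.as_sum_range_C_mul_X_pow' H h2]
  rw [map_sum]
  refine Finset.sum_congr rfl fun n _ => ?_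
  rw [map_mul, map_pow, AdjoinRoot.mk_X, AdjoinRoot.mk_C]

lemma lam_esymm (k : ℕ) :
    g (LambdaOps.lam k e) = MvPolynomial.aeval u (MvPolynomial.esymm (Fin m) ℤ k) := by
  rw [D.hg.isLambdaHom, ← D.hsum, ← coeff_prod_one_add]
  have h := congrArg (PowerSeries.coeff k) (lamSeries_sum_lines PL u D.hu)
  rw [lamSeries, PowerSeries.coeff_mk] at h
  rw [h, ← Polynomial.coeff_coe]
  congr 1
  have := map_prod (Polynomial.coeToPowerSeries.ringHom (R := L))
    (fun k => (1 + Polynomial.C (u k) * Polynomial.X : Polynomial L)) Finset.univ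
  simp only [Polynomial.coeToPowerSeries.ringHom_apply] at this
  rw [this]
  refine Finset.prod_congr rfl fun k _ => ?_
  rw [Polynomial.coe_add, Polynomial.coe_one, Polynomial.coe_mul, Polynomial.coe_C,
    Polynomial.coe_X]

variable (R : Type) [CommRing R]

open scoped TensorProduct

lemma map_extPoly_B : (KRR.extPoly P e).map (gam R g) = pU (uB R u) := by
  unfold gam
  rw [← Polynomial.map_map, map_extPoly D, map_pU]
  rfl

lemma map_sigma_B (n : ℕ) : gam R g (KRR.sigma n e) = hU (uB R u) n := by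
  unfold gam
  rw [RingHom.comp_apply, map_sigma D, map_hU]
  rfl

lemma phiK_aux : pU (uB R u) ∣ (KRR.extPoly P e).map (gam R g) :=
  dvd_of_eq (map_extPoly_B D R).symm

noncomputable def phiK : AdjoinRoot (KRR.extPoly P e) →+* AdjoinRoot (pU (uB R u)) :=
  AdjoinRoot.map (gam R g) _ _ (phiK_aux D R)

lemma phiK_of (c : K) : phiK D R (AdjoinRoot.of _ c) = AdjoinRoot.of _ (gam R g c) :=
  AdjoinRoot.map_of _ _ _ _ _

lemma phiK_root : phiK D R (AdjoinRoot.root _) = AdjoinRoot.root _ :=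
  AdjoinRoot.map_root _ _ _ _

theorem fB_phiK (r : ℕ) (hr : m = r + 1) (f : AdjoinRoot (KRR.extPoly P e) →ₗ[K] K)
    (hf : ∀ i : ℕ, i ≤ r → f (AdjoinRoot.root (KRR.extPoly P e) ^ i) = KRR.sigma i e)
    (y : AdjoinRoot (KRR.extPoly P e)) :
    fB (uB R u) (phiK D R y) = gam R g (f y) := by
  obtain ⟨c, rfl⟩ := exists_repr D y
  rw [map_sum, map_sum, map_sum, map_sum]
  refine Finset.sum_congr rfl fun n hn => ?_
  have hn' : n ≤ r := by have := Finset.mem_range.mp hn; omega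
  rw [map_mul, map_pow, phiK_of, phiK_root, fB_of_mul, fB_root_pow _ D.hm1]
  have h1 : AdjoinRoot.of (KRR.extPoly P e) (c n) * AdjoinRoot.root (KRR.extPoly P e) ^ n =
      c n • AdjoinRoot.root (KRR.extPoly P e) ^ n := by
    rw [Algebra.smul_def, AdjoinRoot.algebraMap_eq]
  rw [h1, map_smul, hf n hn', smul_eq_mul, map_mul, map_sigma_B D R]

noncomputable def PhiT :
    R ⊗[ℤ] AdjoinRoot (KRR.extPoly P e) →+* AdjoinRoot (pU (uB R u)) :=
  (Algebra.TensorProduct.productMap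
    ((AdjoinRoot.of (pU (uB R u))).comp
      (Algebra.TensorProduct.includeLeftRingHom : R →+* R ⊗[ℤ] L)).toIntAlgHom
    (phiK D R).toIntAlgHom).toRingHom

lemma PhiT_tmul (a : R) (y : AdjoinRoot (KRR.extPoly P e)) :
    PhiT D R (a ⊗ₜ[ℤ] y) = AdjoinRoot.of (pU (uB R u)) (a ⊗ₜ[ℤ] (1 : L)) * phiK D R y := rfl

theorem fB_PhiT (r : ℕ) (hr : m = r + 1) (f : AdjoinRoot (KRR.extPoly P e) →ₗ[K] K)
    (hf : ∀ i : ℕ, i ≤ r → f (AdjoinRoot.root (KRR.extPoly P e) ^ i) = KRR.sigma i e)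
    (z : R ⊗[ℤ] AdjoinRoot (KRR.extPoly P e)) :
    fB (uB R u) (PhiT D R z) =
      LinearMap.lTensor R g.toAddMonoidHom.toIntLinearMap
        (LinearMap.lTensor R f.toAddMonoidHom.toIntLinearMap z) := by
  induction z using TensorProduct.induction_on with
  | zero => rw [map_zero, map_zero, map_zero, map_zero]
  | tmul a y =>
    rw [PhiT_tmul, fB_of_mul, fB_phiK D R r hr f hf, LinearMap.lTensor_tmul,
      LinearMap.lTensor_tmul, gam_apply, Algebra.TensorProduct.tmul_mul_tmul, mul_one, one_mul]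
    rfl
  | add z1 z2 h1 h2 => rw [map_add, map_add, map_add, map_add, h1, h2]

end Split

section LamGeneral

variable {K Ke : Type v} [CommRing K] [LambdaOps K] [CommRing Ke] [LambdaOps Ke]
  (P : PosStructure K) (Pe : PosStructure Ke) (ι : K →+* Ke) (hext : IsExtension P Pe ι)
  (hsplit : HasSplitting Ke Pe) (l linv : Ke) (hline : Pe.IsLine l) (hlinv : linv * l = 1)

include hline hlinv in
lemma aug_linv : Pe.aug linv = 1 := by
  have := congrArg Pe.aug hlinv
  rw [map_mul, hline.2, mul_one, map_one] at this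
  exact this

include hext hline hlinv in
lemma aug_mul_linv (e : K) : Pe.aug (ι e * linv) = P.aug e := by
  rw [map_mul, aug_linv Pe l linv hline hlinv, mul_one, hext.aug_comp]

include hext hsplit hline hlinv in
lemma lam_mul_linv (e : K) (k : ℕ) :
    LambdaOps.lam k (ι e * linv) = ι (LambdaOps.lam k e) * linv ^ k := by
  have h := lam_mul_line Pe hsplit (ι e * linv) l hline k
  have h1 : ι e * linv * l = ι e := by rw [mul_assoc, hlinv, mul_one]
  rw [h1, ← hext.isLambdaHom] at h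
  rw [h]
  calc LambdaOps.lam k (ι e * linv)
      = (linv * l) ^ k * LambdaOps.lam k (ι e * linv) := by rw [hlinv, one_pow, one_mul]
    _ = _ := by rw [mul_pow]; ring

lemma map_bott {A : Type*} [CommRing A] (φ : Ke →+* A) {m : ℕ} (a : Fin m → A) (z : Ke)
    (hz : Pe.aug z = (m : ℤ)) (c : A)
    (hφ : ∀ k : ℕ, φ (LambdaOps.lam k z) =
      MvPolynomial.aeval a (MvPolynomial.esymm (Fin m) ℤ k) * c ^ k) (j : ℕ) :
    φ (KRR.bott Pe j z) = ∏ k, ∑ t ∈ Finset.range j, (a k * c) ^ t := by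
  rw [bott_eq Pe j z m (by rw [hz, Int.toNat_natCast])]
  have h1 : φ (MvPolynomial.aeval (fun i : Fin m => LambdaOps.lam ((i : ℕ) + 1) z)
      (KRR.bottPoly j m)) =
      MvPolynomial.aeval (fun i : Fin m => φ (LambdaOps.lam ((i : ℕ) + 1) z))
      (KRR.bottPoly j m) := by
    have := MvPolynomial.comp_aeval (fun i : Fin m => LambdaOps.lam ((i : ℕ) + 1) z)
      (φ.toIntAlgHom)
    exact DFunLike.congr_fun this (KRR.bottPoly j m)
  rw [h1]
  simp only [hφ, ← aeval_esymm_mul]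
  exact aeval_bottPoly (fun k => a k * c) j

end LamGeneral

section KeSpecific

open scoped TensorProduct

variable {K : Type v} [CommRing K] [LambdaOps K] {P : PosStructure K} {e : K}
  {L : Type v} [CommRing L] [LambdaOps L] {PL : PosStructure L} {g : K →+* L}
  {m : ℕ} {u : Fin m → L} (D : SplitData P e PL g m u) (R : Type) [CommRing R]
  [LambdaOps (AdjoinRoot (KRR.extPoly P e))] (Pe : PosStructure (AdjoinRoot (KRR.extPoly P e)))
  (hext : IsExtension P Pe (AdjoinRoot.of (KRR.extPoly P e)))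
  (hline : Pe.IsLine (AdjoinRoot.root (KRR.extPoly P e)))
  (hsplit : HasSplitting (AdjoinRoot (KRR.extPoly P e)) Pe)
  (linv : AdjoinRoot (KRR.extPoly P e)) (hlinv : linv * AdjoinRoot.root (KRR.extPoly P e) = 1)

omit [LambdaOps (AdjoinRoot (KRR.extPoly P e))] in
include hlinv in
lemma phiK_linv_mul_root :
    phiK D R linv * AdjoinRoot.root (pU (uB R u)) = 1 := by
  rw [← phiK_root D R, ← map_mul, hlinv, map_one]

include hext hline hsplit hlinv in
theorem phiK_bott (j : ℕ) :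
    phiK D R (KRR.bott Pe j (AdjoinRoot.of (KRR.extPoly P e) e * linv)) =
      AdjoinRoot.mk (pU (uB R u)) (QU (uB R u) j) * (phiK D R linv) ^ (m * (j - 1)) := by
  rw [← prod_geom_eq (uB R u) j (phiK D R linv) (phiK_linv_mul_root D R linv hlinv)]
  refine map_bott Pe (phiK D R) (fun k => AdjoinRoot.of (pU (uB R u)) (uB R u k))
    (AdjoinRoot.of (KRR.extPoly P e) e * linv) ?_ (phiK D R linv) ?_ j
  · rw [aug_mul_linv P Pe _ hext _ linv hline hlinv, D.hm]
  · intro k
    rw [lam_mul_linv P Pe _ hext hsplit _ linv hline hlinv, map_mul, map_pow, phiK_of]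
    congr 1
    unfold gam
    rw [RingHom.comp_apply, lam_esymm D, map_aeval_esymm, map_aeval_esymm]
    rfl

include hext hline hsplit in
lemma adams_gen (j : ℕ) (c : K) (n : ℕ) :
    adams Pe j (AdjoinRoot.of (KRR.extPoly P e) c * AdjoinRoot.root (KRR.extPoly P e) ^ n) =
      AdjoinRoot.of (KRR.extPoly P e) (adams P j c) *
        AdjoinRoot.root (KRR.extPoly P e) ^ (n * j) := by
  rw [adams_mul Pe hsplit, ← map_adams P Pe _ hext, adams_line Pe _ (isLine_pow Pe hline n),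
    ← pow_mul]

include D in
omit [LambdaOps (AdjoinRoot (KRR.extPoly P e))] in
lemma lhs_gen (j : ℕ) (c : K) (n : ℕ) :
    (1 : R) ⊗ₜ[ℤ] g (adams P j (c * KRR.sigma n e)) =
      gam R g (adams P j c) * hU (fun k => uB R u k ^ j) n := by
  have h1 : g (adams P j (KRR.sigma n e)) = hU (fun k => u k ^ j) n := by
    rw [map_adams P PL g D.hg, map_sigma D]
    have := map_hU (GammaFil.adamsRingHom PL D.hL j) u n
    have h2 : (fun k => (GammaFil.adamsRingHom PL D.hL j) (u k)) = fun k => u k ^ j := by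
      funext k
      exact adams_line PL (u k) (D.hu k) j
    rw [h2] at this
    exact this
  rw [adams_mul P D.hK, map_mul, h1, ← incl_apply, map_mul, map_hU]
  have h3 : (fun k => incl R (u k ^ j)) = fun k => uB R u k ^ j := by
    funext k
    rw [map_pow]
    rfl
  rw [h3]
  rfl

include hext hline hsplit hlinv in
theorem key_gen (j : ℕ) (hj : 1 ≤ j)
    (w : R ⊗[ℤ] AdjoinRoot (KRR.extPoly P e))
    (hw : w * ((1 : R) ⊗ₜ[ℤ] KRR.bott Pe j (AdjoinRoot.of (KRR.extPoly P e) e * linv)) = 1)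
    (c : K) (n : ℕ) :
    fB (uB R u) (PhiT D R ((j : R ⊗[ℤ] AdjoinRoot (KRR.extPoly P e)) * w *
      ((1 : R) ⊗ₜ[ℤ] (AdjoinRoot.of (KRR.extPoly P e) c *
        AdjoinRoot.root (KRR.extPoly P e) ^ (n * j))))) =
      gam R g c * hU (fun k => uB R u k ^ j) n := by
  have hl' := phiK_linv_mul_root D R linv hlinv
  have hΦθ : PhiT D R ((1 : R) ⊗ₜ[ℤ]
      KRR.bott Pe j (AdjoinRoot.of (KRR.extPoly P e) e * linv)) =
      AdjoinRoot.mk (pU (uB R u)) (QU (uB R u) j) * (phiK D R linv) ^ (m * (j - 1)) := by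
    rw [PhiT_tmul, phiK_bott D R Pe hext hline hsplit linv hlinv, ← Algebra.TensorProduct.one_def,
      map_one, one_mul]
  have h1 : PhiT D R w * (AdjoinRoot.mk (pU (uB R u)) (QU (uB R u) j) *
      (phiK D R linv) ^ (m * (j - 1))) = 1 := by
    rw [← hΦθ, ← map_mul, hw, map_one]
  have hW : PhiT D R w * (phiK D R linv) ^ (m * (j - 1)) *
      AdjoinRoot.mk (pU (uB R u)) (QU (uB R u) j) = 1 := by
    rw [← h1]; ring
  have hΦw : PhiT D R w = PhiT D R w * (phiK D R linv) ^ (m * (j - 1)) *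
      AdjoinRoot.root (pU (uB R u)) ^ (m * (j - 1)) := by
    rw [mul_assoc, ← mul_pow, hl', one_pow, mul_one]
  have h2 : PhiT D R ((j : R ⊗[ℤ] AdjoinRoot (KRR.extPoly P e)) * w *
      ((1 : R) ⊗ₜ[ℤ] (AdjoinRoot.of (KRR.extPoly P e) c *
        AdjoinRoot.root (KRR.extPoly P e) ^ (n * j)))) =
      AdjoinRoot.of (pU (uB R u)) (gam R g c) *
        ((j : AdjoinRoot (pU (uB R u))) * (PhiT D R w * (phiK D R linv) ^ (m * (j - 1))) *
          AdjoinRoot.root (pU (uB R u)) ^ (m * (j - 1) + n * j)) := by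
    rw [map_mul, map_mul, map_natCast, PhiT_tmul, ← Algebra.TensorProduct.one_def, map_one, one_mul,
      map_mul, map_pow, phiK_of, phiK_root, pow_add]
    conv_lhs => rw [hΦw]
    ring
  rw [h2, fB_of_mul, final (uB R u) j D.hm1 hj _ hW n]

include D hext hline hsplit hlinv in
theorem main_inj (r : ℕ) (hr : m = r + 1) (f : AdjoinRoot (KRR.extPoly P e) →ₗ[K] K)
    (hf : ∀ i : ℕ, i ≤ r → f (AdjoinRoot.root (KRR.extPoly P e) ^ i) = KRR.sigma i e)
    (j : ℕ) (hj : 1 ≤ j)
    (w : R ⊗[ℤ] AdjoinRoot (KRR.extPoly P e))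
    (hw : w * ((1 : R) ⊗ₜ[ℤ] KRR.bott Pe j (AdjoinRoot.of (KRR.extPoly P e) e * linv)) = 1)
    (x : AdjoinRoot (KRR.extPoly P e)) :
    LinearMap.lTensor R g.toAddMonoidHom.toIntLinearMap ((1 : R) ⊗ₜ[ℤ] adams P j (f x)) =
      LinearMap.lTensor R g.toAddMonoidHom.toIntLinearMap
        (LinearMap.lTensor R f.toAddMonoidHom.toIntLinearMap
          ((j : R ⊗[ℤ] AdjoinRoot (KRR.extPoly P e)) * w * ((1 : R) ⊗ₜ[ℤ] adams Pe j x))) := by
  rw [← fB_PhiT D R r hr f hf, LinearMap.lTensor_tmul]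
  obtain ⟨c, rfl⟩ := exists_repr D x
  have hA : adams Pe j (∑ n ∈ Finset.range m, AdjoinRoot.of (KRR.extPoly P e) (c n) *
      AdjoinRoot.root (KRR.extPoly P e) ^ n) =
      ∑ n ∈ Finset.range m, adams Pe j (AdjoinRoot.of (KRR.extPoly P e) (c n) *
      AdjoinRoot.root (KRR.extPoly P e) ^ n) :=
    map_sum (GammaFil.adamsRingHom Pe hsplit j) _ _
  have hB : ∀ (F : ℕ → K), adams P j (∑ n ∈ Finset.range m, F n) =
      ∑ n ∈ Finset.range m, adams P j (F n) := fun F =>
    map_sum (GammaFil.adamsRingHom P D.hK j) _ _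
  rw [hA, TensorProduct.tmul_sum, Finset.mul_sum, map_sum, map_sum, map_sum, hB]
  show (1 : R) ⊗ₜ[ℤ] g (∑ n ∈ Finset.range m, _) = _
  rw [map_sum, TensorProduct.tmul_sum]
  refine Finset.sum_congr rfl fun n hn => ?_
  have hn' : n ≤ r := by have := Finset.mem_range.mp hn; omega
  have h1 : AdjoinRoot.of (KRR.extPoly P e) (c n) * AdjoinRoot.root (KRR.extPoly P e) ^ n =
      c n • AdjoinRoot.root (KRR.extPoly P e) ^ n := by
    rw [Algebra.smul_def, AdjoinRoot.algebraMap_eq]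
  rw [adams_gen Pe hext hline hsplit, key_gen D R Pe hext hline hsplit linv hlinv j hj w hw,
    h1, map_smul, hf n hn', smul_eq_mul, lhs_gen D R]

end KeSpecific

section PartOne

open scoped TensorProduct

variable {Ke : Type v} [CommRing Ke] [LambdaOps Ke] (Pe : PosStructure Ke)
  (hsplit : HasSplitting Ke Pe) (N : ℕ) (hN : gammaFiltration Pe N = ⊥)
  (R : Type) [CommRing R] (j : ℕ) (hjR : IsUnit (j : R))

include hsplit hN hjR in
theorem exists_inv_bott (z : Ke) (m : ℕ) (hz : Pe.aug z = (m : ℤ)) :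
    ∃ w : R ⊗[ℤ] Ke, w * ((1 : R) ⊗ₜ[ℤ] KRR.bott Pe j z) = 1 := by
  have haug : Pe.aug (KRR.bott Pe j z) = (j : ℤ) ^ m := aug_bott Pe hsplit j z m hz
  set ν : Ke := KRR.bott Pe j z - (j : Ke) ^ m with hν
  have hνaug : Pe.aug ν = 0 := by
    rw [hν, map_sub, haug, map_pow, map_natCast, sub_self]
  have hgam : gamma 1 ν = ν := by
    unfold gamma
    simp [Finset.sum_range_succ, LambdaOps.lam_one]
  have hpow : ν ^ N = 0 := by
    have := GammaFil.gamma_pow_mem Pe ν hνaug 1 N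
    rw [hgam, Nat.mul_one, hN] at this
    exact AddSubgroup.mem_bot.mp this
  have hθ : KRR.bott Pe j z = (j : Ke) ^ m + ν := by rw [hν]; ring
  have h1 : (1 : R) ⊗ₜ[ℤ] KRR.bott Pe j z =
      (j : R ⊗[ℤ] Ke) ^ m + (1 : R) ⊗ₜ[ℤ] ν := by
    rw [hθ, TensorProduct.tmul_add]
    congr 1
    rw [Algebra.TensorProduct.natCast_def' (R := ℤ) (A := R) (B := Ke),
      Algebra.TensorProduct.tmul_pow, one_pow]
  have hju : IsUnit ((j : R ⊗[ℤ] Ke) ^ m) := by
    apply IsUnit.pow
    rw [← map_natCast (Algebra.TensorProduct.includeLeftRingHom : R →+* R ⊗[ℤ] Ke) j]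
    exact hjR.map _
  have hnil : IsNilpotent ((1 : R) ⊗ₜ[ℤ] ν : R ⊗[ℤ] Ke) := by
    refine ⟨N, ?_⟩
    rw [Algebra.TensorProduct.tmul_pow, hpow, TensorProduct.tmul_zero]
  have hu : IsUnit ((1 : R) ⊗ₜ[ℤ] KRR.bott Pe j z : R ⊗[ℤ] Ke) := by
    rw [h1]
    exact hnil.isUnit_add_left_of_commute hju (Commute.all _ _)
  obtain ⟨w, hw⟩ := hu.exists_left_inv
  exact ⟨w, hw⟩

end PartOne

section Final

open scoped TensorProduct

lemma exists_fin_family {L : Type*} [AddCommMonoid L] (s : Multiset L) (n : ℕ)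
    (h : Multiset.card s = n) :
    ∃ u : Fin n → L, (∀ k, u k ∈ s) ∧ ∑ k, u k = s.sum := by
  obtain ⟨n', u', hu'⟩ : ∃ (n' : ℕ) (u' : Fin n' → L), (Finset.univ : Finset (Fin n')).val.map u' = s := by
    refine ⟨s.toList.length, s.toList.get, ?_⟩
    rw [Fin.univ_val_map, List.ofFn_get, Multiset.coe_toList]
  have hn' : n' = n := by
    rw [← h, ← hu', Multiset.card_map]
    simp
  subst hn'
  refine ⟨u', fun k => ?_, ?_⟩
  · rw [← hu']
    exact Multiset.mem_map_of_mem _ (Finset.mem_univ_val k)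
  · rw [← hu']
    rfl

theorem elementary_projection (K : Type v) [CommRing K] [LambdaOps K] (P : PosStructure K)
    (hK : HasSplitting K P) (e : K) (he : e ∈ P.pos) (r : ℕ) (hr : P.aug e = r + 1)
    [LambdaOps (AdjoinRoot (KRR.extPoly P e))] (Pe : PosStructure (AdjoinRoot (KRR.extPoly P e)))
    (hext : IsExtension P Pe (AdjoinRoot.of (KRR.extPoly P e)))
    (hline : Pe.IsLine (AdjoinRoot.root (KRR.extPoly P e)))
    (hsplit : HasSplitting (AdjoinRoot (KRR.extPoly P e)) Pe) (N : ℕ)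
    (hN : gammaFiltration Pe N = ⊥)
    (f : AdjoinRoot (KRR.extPoly P e) →ₗ[K] K)
    (hf : ∀ i : ℕ, i ≤ r → f (AdjoinRoot.root (KRR.extPoly P e) ^ i) = KRR.sigma i e)
    (linv : AdjoinRoot (KRR.extPoly P e)) (hlinv : linv * AdjoinRoot.root (KRR.extPoly P e) = 1)
    (j : ℕ) (hj : 1 ≤ j) (R : Type) [CommRing R] [Module.Flat ℤ R] (hjR : IsUnit (j : R)) :
    (∃ w : R ⊗[ℤ] AdjoinRoot (KRR.extPoly P e),
      w * ((1 : R) ⊗ₜ[ℤ] KRR.bott Pe j (AdjoinRoot.of (KRR.extPoly P e) e * linv)) = 1) ∧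
    ∀ w : R ⊗[ℤ] AdjoinRoot (KRR.extPoly P e),
      w * ((1 : R) ⊗ₜ[ℤ] KRR.bott Pe j (AdjoinRoot.of (KRR.extPoly P e) e * linv)) = 1 →
      ∀ x : AdjoinRoot (KRR.extPoly P e),
        (1 : R) ⊗ₜ[ℤ] adams P j (f x) =
          LinearMap.lTensor R f.toAddMonoidHom.toIntLinearMap
            ((j : R ⊗[ℤ] AdjoinRoot (KRR.extPoly P e)) * w * ((1 : R) ⊗ₜ[ℤ] adams Pe j x)) := by
  have hm : P.aug e = ((r + 1 : ℕ) : ℤ) := by rw [hr]; push_cast; rfl
  refine ⟨?_, ?_⟩
  · refine exists_inv_bott Pe hsplit N hN R j hjR _ (r + 1) ?_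
    rw [aug_mul_linv P Pe _ hext _ linv hline hlinv, hm]
  · intro w hw x
    have hK' := hK
    obtain ⟨C, hKC, hC⟩ := hK
    obtain ⟨L', hL', g, hg, s, hs, hsum⟩ := hC ⟨K, P⟩ hKC e he
    have hcard : Multiset.card s = r + 1 := by
      have h1 := aug_sum_lines L'.posStr s hs
      rw [hsum, hg.aug_comp, hm] at h1
      exact_mod_cast h1.symm
    obtain ⟨u, hu1, hu2⟩ := exists_fin_family s (r + 1) hcard
    have D : SplitData P e L'.posStr g (r + 1) u :=
      { hg := hg
        hm := hm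
        hm1 := by omega
        hu := fun k => hs _ (hu1 k)
        hsum := by rw [hu2, hsum]
        hK := hK'
        hL := ⟨C, hL', hC⟩ }
    have hinj : Function.Injective
        (LinearMap.lTensor R (g.toAddMonoidHom.toIntLinearMap)) :=
      Module.Flat.lTensor_preserves_injective_linearMap (M := R) _ hg.injective
    apply hinj
    exact main_inj D R Pe hext hline hsplit linv hlinv r rfl f hf j hj w hw x

end Final

end Groth.Agent.Lib.Helper95.ElemProjK
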