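import Groth.Agent.Lib.Helper95.ElemLamU
import Groth.Agent.Lib.Helper95.ElemProjK2

set_option autoImplicit false
open LambdaRing

namespace Groth.Agent.Lib.Helper95.ElemLamK

open Groth.Agent.Lib.Helper48 Groth.Agent.Lib.Helper95.ElemProj Groth.Agent.Lib.Helper95.ElemLam
  Groth.Agent.Lib.Helper95.ElemProjK
open scoped Groth.Agent.Lib.Helper95.ElemLam

universe v

section HomExt

lemma adjoinRoot_hom_ext {R S : Type*} [CommRing R] [Semiring S] {p : Polynomial R}
    (f₁ f₂ : AdjoinRoot p →+* S) (h1 : ∀ c, f₁ (AdjoinRoot.of p c) = f₂ (AdjoinRoot.of p c))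
    (h2 : f₁ (AdjoinRoot.root p) = f₂ (AdjoinRoot.root p)) : f₁ = f₂ := by
  apply RingHom.ext
  intro x
  obtain ⟨G, rfl⟩ := AdjoinRoot.mk_surjective x
  induction G using Polynomial.induction_on' with
  | add a b ha hb => rw [map_add, map_add, map_add, ha, hb]
  | monomial n a =>
    rw [← Polynomial.C_mul_X_pow_eq_monomial, map_mul, map_pow, AdjoinRoot.mk_X, AdjoinRoot.mk_C,
      map_mul, map_mul, map_pow, map_pow, h1, h2]

end HomExt

section Transfer

variable {K : Type v} [CommRing K] [LambdaOps K] {P : PosStructure K} {e : K}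
  {L : Type v} [CommRing L] [LambdaOps L] {PL : PosStructure L} {g : K →+* L}
  {m : ℕ} {u : Fin m → L} (D : SplitData P e PL g m u)

abbrev LineT (PL : PosStructure L) : Type v := {w : L // PL.IsLine w}

abbrev IdxT (m : ℕ) (PL : PosStructure L) : Type v := Fin m ⊕ LineT PL

noncomputable def asg (u : Fin m → L) (PL : PosStructure L) : IdxT m PL → L :=
  Sum.elim u Subtype.val

noncomputable def theta (u : Fin m → L) (PL : PosStructure L) : MvPolynomial (IdxT m PL) ℤ →+* L :=
  MvPolynomial.eval₂Hom (Int.castRingHom L) (asg u PL)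

include D in
lemma isLine_asg (i : IdxT m PL) : PL.IsLine (asg u PL i) := by
  rcases i with k | w
  · exact D.hu k
  · exact w.2

include D in
lemma isLine_theta_monomial (μ : IdxT m PL →₀ ℕ) :
    PL.IsLine (theta u PL (MvPolynomial.monomial μ (1 : ℤ))) := by
  unfold theta
  rw [MvPolynomial.eval₂Hom_monomial, map_one, one_mul, Finsupp.prod]
  apply Finset.prod_induction _ (fun x => PL.IsLine x)
  · intro a b ha hb
    exact isLine_mul PL ha hb
  · exact isLine_one PL
  · intro i _
    exact isLine_pow PL (isLine_asg D i) _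

include D in
lemma theta_lamSeries (c : MvPolynomial (IdxT m PL) ℤ) :
    PowerSeries.map (theta u PL) (lamSeries c) = lamSeries (theta u PL c) :=
  map_lamSeries_V (theta u PL)
    (fun μ => lamSeries_line PL _ (isLine_theta_monomial D μ)) c

include D in
lemma theta_lam (i : ℕ) (c : MvPolynomial (IdxT m PL) ℤ) :
    theta u PL (LambdaOps.lam i c) = LambdaOps.lam i (theta u PL c) := by
  have h := congrArg (PowerSeries.coeff i) (theta_lamSeries D c)
  rw [PowerSeries.coeff_map, lamSeries, PowerSeries.coeff_mk, lamSeries, PowerSeries.coeff_mk] at h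
  exact h

noncomputable def kap (m : ℕ) (PL : PosStructure L) : Fin m → IdxT m PL := Sum.inl

lemma kap_injective : Function.Injective (kap m PL) := Sum.inl_injective

lemma theta_Xk (k : Fin m) : theta u PL (Xk (kap m PL) k) = u k := by
  unfold theta Xk kap asg
  rw [MvPolynomial.eval₂Hom_X']
  rfl

lemma map_pU_theta : (pU (Xk (kap m PL))).map (theta u PL) = pU u := by
  rw [map_pU]
  congr 1
  funext k
  exact theta_Xk k

noncomputable def Theta (u : Fin m → L) (PL : PosStructure L) :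
    AdjoinRoot (pU (Xk (kap m PL))) →+* AdjoinRoot (pU u) :=
  AdjoinRoot.map (theta u PL) _ _ (dvd_of_eq map_pU_theta.symm)

noncomputable def jmap : AdjoinRoot (KRR.extPoly P e) →+* AdjoinRoot (pU u) :=
  AdjoinRoot.map g _ _ (dvd_of_eq (map_extPoly D).symm)

lemma jmap_of (c : K) : jmap D (AdjoinRoot.of _ c) = AdjoinRoot.of _ (g c) :=
  AdjoinRoot.map_of _ _ _ _ _

lemma jmap_root : jmap D (AdjoinRoot.root _) = AdjoinRoot.root _ :=
  AdjoinRoot.map_root _ _ _ _

lemma Theta_of (c : MvPolynomial (IdxT m PL) ℤ) :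
    Theta u PL (AdjoinRoot.of _ c) = AdjoinRoot.of _ (theta u PL c) :=
  AdjoinRoot.map_of _ _ _ _ _

lemma Theta_root : Theta u PL (AdjoinRoot.root _) = AdjoinRoot.root _ :=
  AdjoinRoot.map_root _ _ _ _

theorem map_LT_jmap (hpK : (KRR.extPoly P e).Monic) (x : AdjoinRoot (KRR.extPoly P e)) :
    PowerSeries.map (jmap D) (LT hpK x) = LT (pU_monic u) (jmap D x) := by
  have : Nontrivial L := RingHom.domain_nontrivial PL.aug
  have : Nontrivial K := RingHom.domain_nontrivial P.aug
  exact map_LT_map hpK g D.hg.isLambdaHom (pU_monic u) (map_extPoly D).symm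
    (jmap D) (jmap_of D) (jmap_root D) x

include D in
theorem map_LT_Theta (X : AdjoinRoot (pU (Xk (kap m PL)))) :
    PowerSeries.map (Theta u PL) (LT (pU_monic _) X) = LT (pU_monic u) (Theta u PL X) := by
  have : Nontrivial L := RingHom.domain_nontrivial PL.aug
  exact map_LT_map (pU_monic _) (theta u PL) (theta_lam D) (pU_monic u) map_pU_theta.symm
    (Theta u PL) Theta_of Theta_root X

theorem jmap_injective (hpK : (KRR.extPoly P e).Monic) : Function.Injective (jmap D) := by
  have : Nontrivial L := RingHom.domain_nontrivial PL.aug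
  have : Nontrivial K := RingHom.domain_nontrivial P.aug
  rw [injective_iff_map_eq_zero]
  intro x hx
  have hdeg : (pU u).natDegree = (KRR.extPoly P e).natDegree := by
    rw [← map_extPoly D]; exact hpK.natDegree_map g
  have h3 : jmap D x = ∑ k ∈ Finset.range (pU u).natDegree,
      AdjoinRoot.of (pU u) (g (coord hpK k x)) * AdjoinRoot.root (pU u) ^ k := by
    conv_lhs => rw [repr_eq hpK x]
    rw [map_sum, hdeg]
    refine Finset.sum_congr rfl fun k _ => ?_
    rw [map_mul, map_pow, jmap_of, jmap_root]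
  rw [repr_eq hpK x]
  apply Finset.sum_eq_zero
  intro n hn
  have h4 := coord_sum (pU_monic u) (fun k => g (coord hpK k x)) n
    (by rw [hdeg]; exact Finset.mem_range.mp hn)
  rw [← h3, hx] at h4
  have h5 : coord (pU_monic u) n (0 : AdjoinRoot (pU u)) = 0 := by
    unfold coord
    rw [map_zero, Polynomial.coeff_zero]
  rw [h5] at h4
  have h6 : coord hpK n x = 0 := D.hg.injective (by rw [← h4, map_zero])
  rw [h6, map_zero, zero_mul]

theorem transfer (hpK : (KRR.extPoly P e).Monic) (x : AdjoinRoot (KRR.extPoly P e))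
    (X : AdjoinRoot (pU (Xk (kap m PL)))) (h : Theta u PL X = jmap D x) (i : ℕ) :
    jmap D (PowerSeries.coeff i (LT hpK x)) =
      Theta u PL (PowerSeries.coeff i (LT (pU_monic _) X)) := by
  rw [← PowerSeries.coeff_map, ← PowerSeries.coeff_map, map_LT_jmap, map_LT_Theta D, h]

theorem lam_zero_of_univ (hpK : (KRR.extPoly P e).Monic) (x : AdjoinRoot (KRR.extPoly P e))
    (X : AdjoinRoot (pU (Xk (kap m PL)))) (h : Theta u PL X = jmap D x) (d : ℕ)
    (hX : ∀ k, IsMonSum d (evk (Xk (kap m PL)) k X)) (i : ℕ) (hi : d < i) :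
    PowerSeries.coeff i (LT hpK x) = 0 := by
  apply jmap_injective D hpK
  rw [transfer D hpK x X h, univ_lam_eq_zero _ kap_injective X d hX i hi, map_zero, map_zero]

theorem lam_top_mul_of_univ (hpK : (KRR.extPoly P e).Monic)
    (x y : AdjoinRoot (KRR.extPoly P e))
    (X Z : AdjoinRoot (pU (Xk (kap m PL)))) (hx : Theta u PL X = jmap D x)
    (hy : Theta u PL Z = jmap D y) (d d' : ℕ)
    (hX : ∀ k, IsMonSum d (evk (Xk (kap m PL)) k X))
    (hZ : ∀ k, IsMonSum d' (evk (Xk (kap m PL)) k Z)) :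
    PowerSeries.coeff (d * d') (LT hpK (x * y)) =
      PowerSeries.coeff d (LT hpK x) ^ d' * PowerSeries.coeff d' (LT hpK y) ^ d := by
  apply jmap_injective D hpK
  rw [transfer D hpK (x * y) (X * Z) (by rw [map_mul, map_mul, hx, hy]),
    univ_lam_top_mul _ kap_injective X Z d d' hX hZ, map_mul, map_pow, map_pow, map_mul, map_pow,
    map_pow, transfer D hpK x X hx, transfer D hpK y Z hy]

include D in
lemma eval₂_aug_pU : Polynomial.eval₂ PL.aug 1 (pU u) = 0 := by
  unfold pU
  rw [Polynomial.eval₂_finsetProd]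
  have hm1 := D.hm1
  apply Finset.prod_eq_zero (Finset.mem_univ (⟨0, by omega⟩ : Fin m))
  rw [Polynomial.eval₂_sub, Polynomial.eval₂_X, Polynomial.eval₂_C, (D.hu _).2, sub_self]

include D in
lemma eval₂_aug_extPoly : Polynomial.eval₂ P.aug 1 (KRR.extPoly P e) = 0 := by
  have h1 : P.aug = PL.aug.comp g := by
    ext x
    rw [RingHom.comp_apply, D.hg.aug_comp]
  rw [h1, ← Polynomial.eval₂_map, map_extPoly D]
  exact eval₂_aug_pU D

noncomputable def augL : AdjoinRoot (pU u) →+* ℤ := AdjoinRoot.lift PL.aug 1 (eval₂_aug_pU D)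

noncomputable def augK (h : Polynomial.eval₂ P.aug 1 (KRR.extPoly P e) = 0) :
    AdjoinRoot (KRR.extPoly P e) →+* ℤ := AdjoinRoot.lift P.aug 1 h

omit [LambdaOps L] in
lemma augK_of (h : Polynomial.eval₂ P.aug 1 (KRR.extPoly P e) = 0) (c : K) :
    augK h (AdjoinRoot.of _ c) = P.aug c := by
  unfold augK; rw [AdjoinRoot.lift_of]

omit [LambdaOps L] in
lemma augK_root (h : Polynomial.eval₂ P.aug 1 (KRR.extPoly P e) = 0) :
    augK h (AdjoinRoot.root _) = 1 := by
  unfold augK; rw [AdjoinRoot.lift_root]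

lemma augL_jmap (h : Polynomial.eval₂ P.aug 1 (KRR.extPoly P e) = 0)
    (x : AdjoinRoot (KRR.extPoly P e)) : augL D (jmap D x) = augK h x := by
  have : (augL D).comp (jmap D) = augK h := by
    apply adjoinRoot_hom_ext
    · intro c
      rw [RingHom.comp_apply, jmap_of, augK_of]
      unfold augL
      rw [AdjoinRoot.lift_of, D.hg.aug_comp]
    · rw [RingHom.comp_apply, jmap_root, augK_root]
      unfold augL
      rw [AdjoinRoot.lift_root]
  rw [← this, RingHom.comp_apply]

lemma augL_Theta (k : Fin m) (X : AdjoinRoot (pU (Xk (kap m PL)))) :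
    augL D (Theta u PL X) = PL.aug (theta u PL (evk (Xk (kap m PL)) k X)) := by
  have : (augL D).comp (Theta u PL) =
      (PL.aug.comp (theta u PL)).comp (evk (Xk (kap m PL)) k) := by
    apply adjoinRoot_hom_ext
    · intro c
      rw [RingHom.comp_apply, RingHom.comp_apply, RingHom.comp_apply, Theta_of, evk_of]
      unfold augL
      rw [AdjoinRoot.lift_of]
    · rw [RingHom.comp_apply, RingHom.comp_apply, RingHom.comp_apply, Theta_root, evk_root,
        theta_Xk, (D.hu k).2]
      unfold augL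
      rw [AdjoinRoot.lift_root]
  have h2 := congrArg (fun f => f X) this
  simpa [RingHom.comp_apply] using h2

include D in
lemma aug_theta_isMonSum {d : ℕ} {Y : MvPolynomial (IdxT m PL) ℤ} (hY : IsMonSum d Y) :
    PL.aug (theta u PL Y) = d := by
  obtain ⟨α, _, μ, rfl, rfl⟩ := hY
  rw [map_sum, map_sum]
  have : ∀ i ∈ (Finset.univ : Finset α),
      PL.aug (theta u PL (MvPolynomial.monomial (μ i) (1 : ℤ))) = 1 :=
    fun i _ => (isLine_theta_monomial D (μ i)).2
  rw [Finset.sum_congr rfl this]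
  simp

theorem size_eq (h : Polynomial.eval₂ P.aug 1 (KRR.extPoly P e) = 0)
    (x : AdjoinRoot (KRR.extPoly P e))
    (X : AdjoinRoot (pU (Xk (kap m PL)))) (hx : Theta u PL X = jmap D x) (k : Fin m) (d : ℕ)
    (hX : IsMonSum d (evk (Xk (kap m PL)) k X)) : augK h x = d := by
  rw [← augL_jmap D h, ← hx, augL_Theta D k, aug_theta_isMonSum D hX]

end Transfer

section SplitFinset

lemma isExtension_id {L : Type v} [CommRing L] [LambdaOps L] (PL : PosStructure L) :
    IsExtension PL PL (RingHom.id L) where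
  isLambdaHom := fun _ _ => rfl
  injective := fun _ _ h => h
  aug_comp := fun _ => rfl
  pos_subset := fun _ h => h

theorem split_finset (C : Set PosLambdaRing.{v})
    (hC : ∀ L ∈ C, ∀ e ∈ L.posStr.pos, ∃ L' ∈ C, ∃ f : L.carrier →+* L'.carrier,
      IsExtension L.posStr L'.posStr f ∧
      ∃ s : Multiset L'.carrier, (∀ u ∈ s, L'.posStr.IsLine u) ∧ s.sum = f e)
    (L : PosLambdaRing.{v}) (hL : L ∈ C) (S : Finset L.carrier)
    (hS : ∀ a ∈ S, a ∈ L.posStr.pos) :
    ∃ L' ∈ C, ∃ f : L.carrier →+* L'.carrier, IsExtension L.posStr L'.posStr f ∧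
      ∀ a ∈ S, ∃ s : Multiset L'.carrier, (∀ u ∈ s, L'.posStr.IsLine u) ∧ s.sum = f a := by
  classical
  induction S using Finset.induction_on with
  | empty => exact ⟨L, hL, RingHom.id _, isExtension_id _, by simp⟩
  | insert a S ha ih =>
    obtain ⟨L₁, hL₁, f₁, hf₁, h₁⟩ := ih fun b hb => hS b (Finset.mem_insert_of_mem hb)
    obtain ⟨L₂, hL₂, f₂, hf₂, s, hs, hsum⟩ := hC L₁ hL₁ (f₁ a)
      (hf₁.pos_subset a (hS a (Finset.mem_insert_self a S)))
    refine ⟨L₂, hL₂, f₂.comp f₁, isExtension_comp _ _ _ f₁ f₂ hf₁ hf₂, ?_⟩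
    intro b hb
    rcases Finset.mem_insert.mp hb with rfl | hb
    · exact ⟨s, hs, hsum⟩
    · obtain ⟨t, ht, htsum⟩ := h₁ b hb
      refine ⟨t.map f₂, ?_, ?_⟩
      · intro w hw
        obtain ⟨w', hw', rfl⟩ := Multiset.mem_map.mp hw
        exact isLine_map _ _ f₂ hf₂ (ht w' hw')
      · rw [RingHom.comp_apply, ← htsum, map_multiset_sum]

end SplitFinset

section Rep

variable {K : Type v} [CommRing K] [LambdaOps K] (P : PosStructure K) (e : K)

abbrev VarT : Type v := {x : K // x ∈ P.pos} ⊕ Fin 2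

noncomputable def PhiK : MvPolynomial (VarT P) ℕ →+* AdjoinRoot (KRR.extPoly P e) :=
  MvPolynomial.eval₂Hom (Nat.castRingHom _)
    (Sum.elim (fun a => AdjoinRoot.of _ a.1)
      (fun i => if i = 0 then AdjoinRoot.root _ else AdjoinRoot.of _ e - AdjoinRoot.root _))

lemma IsMonSum.multiset_X {ι : Type*} (t : Multiset ι) :
    IsMonSum (Multiset.card t) ((t.map fun i => (MvPolynomial.X i : MvPolynomial ι ℤ)).sum) := by
  induction t using Multiset.induction with
  | empty => simpa using IsMonSum.zero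
  | cons a t ih =>
    rw [Multiset.map_cons, Multiset.sum_cons, Multiset.card_cons, Nat.add_comm]
    exact (IsMonSum.X a).add ih

variable {P e}

theorem exists_rep (hK : HasSplitting K P) (he : e ∈ P.pos) (m : ℕ) (hm : P.aug e = (m : ℤ))
    (h0 : Polynomial.eval₂ P.aug 1 (KRR.extPoly P e) = 0)
    (vs : Finset (VarT P)) :
    ∃ (L : PosLambdaRing.{v}) (g : K →+* L.carrier) (u : Fin m → L.carrier)
      (D : SplitData P e L.posStr g m u)
      (PhiU : MvPolynomial (VarT P) ℕ →+* AdjoinRoot (pU (Xk (kap m L.posStr)))),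
      (∀ F : MvPolynomial (VarT P) ℕ, F.vars ⊆ vs →
        Theta u L.posStr (PhiU F) = jmap D (PhiK P e F)) ∧
      (∀ F : MvPolynomial (VarT P) ℕ, F.vars ⊆ vs → ∀ k,
        IsMonSum (augK h0 (PhiK P e F)).toNat (evk (Xk (kap m L.posStr)) k (PhiU F))) := by
  classical
  have hK' := hK
  obtain ⟨C, hKC, hC⟩ := hK
  have hm1 : 1 ≤ m := by
    have := P.aug_pos e he
    omega
  set A : Finset K := vs.image (Sum.elim (fun a => a.1) (fun _ => e)) ∪ {e} with hA
  have hApos : ∀ a ∈ A, a ∈ P.pos := by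
    intro a ha
    rcases Finset.mem_union.mp ha with ha | ha
    · obtain ⟨i, _, rfl⟩ := Finset.mem_image.mp ha
      rcases i with b | j
      · exact b.2
      · exact he
    · rw [Finset.mem_singleton.mp ha]; exact he
  obtain ⟨L, hL, g, hg, hsplit⟩ := split_finset C hC ⟨K, P⟩ hKC A hApos
  have heA : e ∈ A := Finset.mem_union_right _ (Finset.mem_singleton_self e)
  obtain ⟨s0, hs0, hsum0⟩ := hsplit e heA
  have hcard : Multiset.card s0 = m := by
    have h1 := aug_sum_lines L.posStr s0 hs0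
    rw [hsum0, hg.aug_comp, hm] at h1
    exact_mod_cast h1.symm
  obtain ⟨u, hu1, hu2⟩ := exists_fin_family s0 m hcard
  have D : SplitData P e L.posStr g m u :=
    { hg := hg
      hm := hm
      hm1 := hm1
      hu := fun k => hs0 _ (hu1 k)
      hsum := by rw [hu2, hsum0]
      hK := hK'
      hL := ⟨C, hL, hC⟩ }
  choose s hs1 hs2 using hsplit
  set S : {x : K // x ∈ P.pos} → MvPolynomial (IdxT m L.posStr) ℤ := fun a =>
    if ha : a.1 ∈ A then
      (((s a.1 ha).attach.map fun w => (Sum.inr ⟨w.1, hs1 a.1 ha w.1 w.2⟩ : IdxT m L.posStr)).map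
        fun i => (MvPolynomial.X i : MvPolynomial (IdxT m L.posStr) ℤ)).sum
    else 0 with hS
  have hS_theta : ∀ a : {x : K // x ∈ P.pos}, a.1 ∈ A → theta u L.posStr (S a) = g a.1 := by
    intro a ha
    rw [hS]
    simp only [dif_pos ha]
    rw [map_multiset_sum, Multiset.map_map, Multiset.map_map,
      Multiset.map_congr rfl (g := Subtype.val) ?_, Multiset.attach_map_val, hs2]
    intro w _
    simp only [Function.comp_apply]
    unfold theta asg
    rw [MvPolynomial.eval₂Hom_X']
    rfl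
  have hS_mon : ∀ a : {x : K // x ∈ P.pos}, ∃ d, IsMonSum d (S a) := by
    intro a
    rw [hS]
    by_cases ha : a.1 ∈ A
    · simp only [dif_pos ha]
      exact ⟨_, IsMonSum.multiset_X _⟩
    · simp only [dif_neg ha]
      exact ⟨0, IsMonSum.zero⟩
  set asgU : VarT P → AdjoinRoot (pU (Xk (kap m L.posStr))) :=
    Sum.elim (fun a => AdjoinRoot.of _ (S a))
      (fun i => if i = 0 then AdjoinRoot.root _
        else AdjoinRoot.of _ (∑ k, Xk (kap m L.posStr) k) - AdjoinRoot.root _) with hasgU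
  set PhiU : MvPolynomial (VarT P) ℕ →+* AdjoinRoot (pU (Xk (kap m L.posStr))) :=
    MvPolynomial.eval₂Hom (Nat.castRingHom _) asgU with hPhiU
  have hrep : ∀ F : MvPolynomial (VarT P) ℕ, F.vars ⊆ vs →
      Theta u L.posStr (PhiU F) = jmap D (PhiK P e F) := by
    intro F hF
    have := MvPolynomial.hom_congr_vars (f₁ := (Theta u L.posStr).comp PhiU)
      (f₂ := (jmap D).comp (PhiK P e)) (p₁ := F) (p₂ := F) (Subsingleton.elim _ _) ?_ rfl
    · simpa [RingHom.comp_apply] using this
    · intro i hi _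
      have hi' : i ∈ vs := hF hi
      rw [RingHom.comp_apply, RingHom.comp_apply, hPhiU, MvPolynomial.eval₂Hom_X']
      unfold PhiK
      rw [MvPolynomial.eval₂Hom_X', hasgU]
      rcases i with a | j
      · have haA : a.1 ∈ A := by
          apply Finset.mem_union_left
          exact Finset.mem_image.mpr ⟨Sum.inl a, hi', rfl⟩
        simp only [Sum.elim_inl]
        rw [Theta_of, hS_theta a haA, jmap_of]
      · simp only [Sum.elim_inr]
        by_cases hj : j = 0
        · rw [if_pos hj, if_pos hj, Theta_root, jmap_root]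
        · rw [if_neg hj, if_neg hj, map_sub, map_sub, Theta_of, Theta_root, jmap_of, jmap_root,
            map_sum]
          congr 2
          rw [← D.hsum]
          exact Finset.sum_congr rfl fun k _ => theta_Xk k
  have hmon : ∀ (F : MvPolynomial (VarT P) ℕ) (k : Fin m),
      ∃ d, IsMonSum d (evk (Xk (kap m L.posStr)) k (PhiU F)) := by
    intro F k
    induction F using MvPolynomial.induction_on with
    | C n =>
      refine ⟨n, ?_⟩
      rw [hPhiU, MvPolynomial.eval₂Hom_C]
      simp only [Nat.coe_castRingHom, map_natCast]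
      exact IsMonSum.natCast n
    | add F G hF hG =>
      obtain ⟨d1, h1⟩ := hF
      obtain ⟨d2, h2⟩ := hG
      exact ⟨d1 + d2, by rw [map_add, map_add]; exact h1.add h2⟩
    | mul_X F i hF =>
      obtain ⟨d1, h1⟩ := hF
      have h2 : ∃ d2, IsMonSum d2 (evk (Xk (kap m L.posStr)) k (PhiU (MvPolynomial.X i))) := by
        rw [hPhiU, MvPolynomial.eval₂Hom_X', hasgU]
        rcases i with a | j
        · simp only [Sum.elim_inl]
          rw [evk_of]
          exact hS_mon a
        · simp only [Sum.elim_inr]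
          by_cases hj : j = 0
          · rw [if_pos hj, evk_root]
            exact ⟨1, IsMonSum.X _⟩
          · rw [if_neg hj, map_sub, evk_of, evk_root, ← Finset.sum_erase_eq_sub (Finset.mem_univ k)]
            exact ⟨_, IsMonSum.sum _ (fun _ => 1) _ (fun l _ => IsMonSum.X _)⟩
      obtain ⟨d2, h2⟩ := h2
      exact ⟨d1 * d2, by rw [map_mul, map_mul]; exact h1.mul h2⟩
  refine ⟨L, g, u, D, PhiU, hrep, ?_⟩
  intro F hF k
  obtain ⟨d, hd⟩ := hmon F k
  have := size_eq D h0 (PhiK P e F) (PhiU F) (hrep F hF) k d hd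
  rw [this, Int.toNat_natCast]
  exact hd

end Rep

section Basis

variable {K₀ : Type*} [CommRing K₀] [LambdaOps K₀] [Nontrivial K₀] {p₀ : Polynomial K₀}
  (hp : p₀.Monic)

lemma LT_basis (n : ℕ) (hn : n < p₀.natDegree) (c : K₀) :
    LT hp (AdjoinRoot.of p₀ c * AdjoinRoot.root p₀ ^ n) =
      PowerSeries.rescale (AdjoinRoot.root p₀ ^ n)
        (PowerSeries.map (AdjoinRoot.of p₀) (lamSeries c)) := by
  have h1 : AdjoinRoot.of p₀ c * AdjoinRoot.root p₀ ^ n =
      ∑ k ∈ Finset.range p₀.natDegree,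
        AdjoinRoot.of p₀ (if k = n then c else 0) * AdjoinRoot.root p₀ ^ k := by
    rw [Finset.sum_eq_single n]
    · rw [if_pos rfl]
    · intro k _ hk
      rw [if_neg hk, map_zero, zero_mul]
    · intro h
      exact absurd (Finset.mem_range.mpr hn) h
  have hc : ∀ k, k < p₀.natDegree →
      coord hp k (AdjoinRoot.of p₀ c * AdjoinRoot.root p₀ ^ n) = if k = n then c else 0 := by
    intro k hk
    rw [h1]
    exact coord_sum hp (fun k => if k = n then c else 0) k hk
  unfold Groth.Agent.Lib.Helper95.ElemLam.LT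
  rw [Finset.prod_eq_single n]
  · rw [hc n hn, if_pos rfl]
  · intro k hk hkn
    rw [hc k (Finset.mem_range.mp hk), if_neg hkn, lamSeries_zero, map_one, map_one]
  · intro h
    exact absurd (Finset.mem_range.mpr hn) h

lemma LT_of (h1 : 1 ≤ p₀.natDegree) (c : K₀) :
    LT hp (AdjoinRoot.of p₀ c) = PowerSeries.map (AdjoinRoot.of p₀) (lamSeries c) := by
  have := LT_basis hp 0 (by omega) c
  rw [pow_zero, mul_one] at this
  rw [this]
  ext k
  rw [PowerSeries.coeff_rescale, one_pow, one_mul]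

end Basis

section PS

lemma coeff_add_mul_of_vanish {A : Type*} [CommRing A] (f h : PowerSeries A) (a b : ℕ)
    (hf : ∀ i, a < i → PowerSeries.coeff i f = 0) (hh : ∀ i, b < i → PowerSeries.coeff i h = 0) :
    PowerSeries.coeff (a + b) (f * h) = PowerSeries.coeff a f * PowerSeries.coeff b h := by
  rw [PowerSeries.coeff_mul, Finset.sum_eq_single (a, b)]
  · rintro ⟨i, j⟩ hij hne
    have hsum : i + j = a + b := Finset.HasAntidiagonal.mem_antidiagonal.mp hij
    by_cases hi : a < i
    · rw [hf i hi, zero_mul]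
    · have hj : b < j := by
        by_contra hj
        apply hne
        have : i = a := by omega
        have : j = b := by omega
        subst_vars
        rfl
      rw [hh j hj, mul_zero]
  · intro h'
    exact absurd (Finset.HasAntidiagonal.mem_antidiagonal.mpr (rfl : (a, b).1 + (a, b).2 = a + b)) h'

lemma coeff_succ_mul_one_add {A : Type*} [CommRing A] (f : PowerSeries A) (r : A) (k : ℕ) :
    PowerSeries.coeff (k + 1) (f * (1 + PowerSeries.C r * PowerSeries.X)) =
      PowerSeries.coeff (k + 1) f + PowerSeries.coeff k f * r := by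
  rw [mul_add, mul_one, map_add, ← mul_assoc, PowerSeries.coeff_succ_mul_X, PowerSeries.coeff_mul_C]

end PS

section Main

variable {K : Type v} [CommRing K] [LambdaOps K] {P : PosStructure K} {e : K}
  (hK : HasSplitting K P) (he : e ∈ P.pos) (m : ℕ) (hm : P.aug e = (m : ℤ))
  (hpK : (KRR.extPoly P e).Monic)
  (h0 : Polynomial.eval₂ P.aug 1 (KRR.extPoly P e) = 0)

noncomputable def dF (F : MvPolynomial (VarT P) ℕ) : ℕ := (augK h0 (PhiK P e F)).toNat

include hK he hm

theorem aug_eq_dF (F : MvPolynomial (VarT P) ℕ) : augK h0 (PhiK P e F) = (dF h0 F : ℤ) := by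
  obtain ⟨L, g, u, D, PhiU, h1, h2⟩ := exists_rep hK he m hm h0 F.vars
  have hm1 := D.hm1
  exact size_eq D h0 _ (PhiU F) (h1 F subset_rfl) ⟨0, by omega⟩ _ (h2 F subset_rfl _)

theorem lam_vanish (F : MvPolynomial (VarT P) ℕ) (i : ℕ) (hi : dF h0 F < i) :
    PowerSeries.coeff i (LT hpK (PhiK P e F)) = 0 := by
  obtain ⟨L, g, u, D, PhiU, h1, h2⟩ := exists_rep hK he m hm h0 F.vars
  exact lam_zero_of_univ D hpK _ (PhiU F) (h1 F subset_rfl) _ (h2 F subset_rfl) i hi

theorem lam_top_mul (F G : MvPolynomial (VarT P) ℕ) :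
    PowerSeries.coeff (dF h0 F * dF h0 G) (LT hpK (PhiK P e F * PhiK P e G)) =
      PowerSeries.coeff (dF h0 F) (LT hpK (PhiK P e F)) ^ dF h0 G *
        PowerSeries.coeff (dF h0 G) (LT hpK (PhiK P e G)) ^ dF h0 F := by
  classical
  obtain ⟨L, g, u, D, PhiU, h1, h2⟩ := exists_rep hK he m hm h0 (F.vars ∪ G.vars)
  exact lam_top_mul_of_univ D hpK _ _ (PhiU F) (PhiU G) (h1 F Finset.subset_union_left)
    (h1 G Finset.subset_union_right) _ _ (h2 F Finset.subset_union_left)
    (h2 G Finset.subset_union_right)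

theorem dF_add (F G : MvPolynomial (VarT P) ℕ) : dF h0 (F + G) = dF h0 F + dF h0 G := by
  have h1 := aug_eq_dF hK he m hm h0 (F + G)
  rw [map_add, map_add, aug_eq_dF hK he m hm h0 F, aug_eq_dF hK he m hm h0 G] at h1
  exact_mod_cast h1.symm

theorem dF_mul (F G : MvPolynomial (VarT P) ℕ) : dF h0 (F * G) = dF h0 F * dF h0 G := by
  have h1 := aug_eq_dF hK he m hm h0 (F * G)
  rw [map_mul, map_mul, aug_eq_dF hK he m hm h0 F, aug_eq_dF hK he m hm h0 G] at h1
  exact_mod_cast h1.symm

omit hK he hm in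
include hpK h0 in
lemma one_le_natDegree : 1 ≤ (KRR.extPoly P e).natDegree := by
  by_contra h
  have h1 : (KRR.extPoly P e).natDegree = 0 := by omega
  rw [hpK.natDegree_eq_zero] at h1
  rw [h1, Polynomial.eval₂_one] at h0
  exact one_ne_zero h0

omit hK he hm in
lemma dF_C (n : ℕ) : dF h0 (MvPolynomial.C n : MvPolynomial (VarT P) ℕ) = n := by
  unfold dF PhiK
  rw [MvPolynomial.eval₂Hom_C]
  simp

omit hK he hm in
lemma PhiK_X_inl (a : {x : K // x ∈ P.pos}) :
    PhiK P e (MvPolynomial.X (Sum.inl a)) = AdjoinRoot.of _ a.1 := by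
  unfold PhiK
  rw [MvPolynomial.eval₂Hom_X']
  rfl

omit hK he hm in
lemma PhiK_X_root : PhiK P e (MvPolynomial.X (Sum.inr 0)) = AdjoinRoot.root _ := by
  unfold PhiK
  rw [MvPolynomial.eval₂Hom_X']
  rfl

omit hK he hm in
lemma PhiK_X_q : PhiK P e (MvPolynomial.X (Sum.inr 1)) =
    AdjoinRoot.of _ e - AdjoinRoot.root _ := by
  unfold PhiK
  rw [MvPolynomial.eval₂Hom_X']
  rfl

omit hK he hm in
lemma dF_inl (a : {x : K // x ∈ P.pos}) :
    dF h0 (MvPolynomial.X (Sum.inl a)) = (P.aug a.1).toNat := by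
  unfold dF
  rw [PhiK_X_inl, augK_of]

omit hK he hm in
lemma dF_root : dF h0 (MvPolynomial.X (Sum.inr 0) : MvPolynomial (VarT P) ℕ) = 1 := by
  unfold dF
  rw [PhiK_X_root, augK_root]
  rfl

omit hK he in
lemma dF_q : dF h0 (MvPolynomial.X (Sum.inr 1) : MvPolynomial (VarT P) ℕ) = m - 1 := by
  unfold dF
  rw [PhiK_X_q, map_sub, augK_of, augK_root, hm]
  omega

include h0 in
theorem LT_root :
    LT hpK (AdjoinRoot.root (KRR.extPoly P e)) =
      1 + PowerSeries.C (AdjoinRoot.root (KRR.extPoly P e)) * PowerSeries.X := by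
  have : Nontrivial K := RingHom.domain_nontrivial P.aug
  have hq := QP_LT hpK (AdjoinRoot.root (KRR.extPoly P e))
  ext i
  rcases i with _ | _ | i
  · rw [PowerSeries.coeff_zero_eq_constantCoeff_apply, hq.1]
    simp
  · rw [hq.2]
    simp [PowerSeries.coeff_one, PowerSeries.coeff_succ_mul_X]
  · have h1 := lam_vanish hK he m hm hpK h0 (MvPolynomial.X (Sum.inr 0)) (i + 2)
      (by rw [dF_root]; omega)
    rw [PhiK_X_root] at h1
    rw [h1, map_add, PowerSeries.coeff_one, if_neg (by omega), PowerSeries.coeff_succ_mul_X,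
      PowerSeries.coeff_C, if_neg (by omega), add_zero]

omit hK in
lemma isUnit_root : IsUnit (AdjoinRoot.root (KRR.extPoly P e)) := by
  have hm' : (P.aug e).toNat = m := by rw [hm, Int.toNat_natCast]
  have h' : KRR.extPoly P e = ∑ i ∈ Finset.range (m + 1),
      Polynomial.C ((-1 : K) ^ i * LambdaOps.lam i e) * Polynomial.X ^ (m - i) := by
    unfold KRR.extPoly
    rw [hm']
  have h1 : AdjoinRoot.mk (KRR.extPoly P e) (∑ i ∈ Finset.range (m + 1),
      Polynomial.C ((-1 : K) ^ i * LambdaOps.lam i e) * Polynomial.X ^ (m - i)) = 0 := by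
    rw [AdjoinRoot.mk_eq_zero]
    exact dvd_of_eq h'
  rw [map_sum, Finset.sum_range_succ] at h1
  simp only [map_mul, map_pow, AdjoinRoot.mk_C, AdjoinRoot.mk_X,
    Nat.sub_self, pow_zero, mul_one] at h1
  have h2 : ∑ i ∈ Finset.range m, AdjoinRoot.of (KRR.extPoly P e) ((-1) ^ i * LambdaOps.lam i e) *
      AdjoinRoot.root (KRR.extPoly P e) ^ (m - i) =
      AdjoinRoot.root (KRR.extPoly P e) *
        ∑ i ∈ Finset.range m, AdjoinRoot.of (KRR.extPoly P e) ((-1) ^ i * LambdaOps.lam i e) *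
          AdjoinRoot.root (KRR.extPoly P e) ^ (m - i - 1) := by
    rw [Finset.mul_sum]
    refine Finset.sum_congr rfl fun i hi => ?_
    have : m - i = (m - i - 1) + 1 := by have := Finset.mem_range.mp hi; omega
    conv_lhs => rw [this, pow_succ]
    ring
  have h3 : IsUnit (AdjoinRoot.of (KRR.extPoly P e) ((-1) ^ m * LambdaOps.lam m e)) := by
    apply IsUnit.map
    apply IsUnit.mul
    · exact (isUnit_one.neg).pow m
    · have := P.isUnit_lam e he
      rwa [hm'] at this
  have h4 : AdjoinRoot.root (KRR.extPoly P e) *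
      (-∑ i ∈ Finset.range m, AdjoinRoot.of (KRR.extPoly P e) ((-1) ^ i * LambdaOps.lam i e) *
          AdjoinRoot.root (KRR.extPoly P e) ^ (m - i - 1)) =
      AdjoinRoot.of (KRR.extPoly P e) ((-1) ^ m * LambdaOps.lam m e) := by
    have h5 : AdjoinRoot.root (KRR.extPoly P e) *
        ∑ i ∈ Finset.range m, AdjoinRoot.of (KRR.extPoly P e) ((-1) ^ i * LambdaOps.lam i e) *
          AdjoinRoot.root (KRR.extPoly P e) ^ (m - i - 1) +
        AdjoinRoot.of (KRR.extPoly P e) ((-1) ^ m * LambdaOps.lam m e) = 0 := by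
      rw [← h2]
      simp only [map_mul, map_pow]
      exact h1
    linear_combination (-1 : AdjoinRoot (KRR.extPoly P e)) * h5
  rw [← h4] at h3
  exact isUnit_of_mul_isUnit_left h3

omit hK he hm in
include hpK h0 in
lemma isUnit_top_inl (a : {x : K // x ∈ P.pos}) :
    IsUnit (PowerSeries.coeff (dF h0 (MvPolynomial.X (Sum.inl a)))
      (LT hpK (PhiK P e (MvPolynomial.X (Sum.inl a))))) := by
  have : Nontrivial K := RingHom.domain_nontrivial P.aug
  rw [dF_inl, PhiK_X_inl, LT_of hpK (one_le_natDegree hpK h0), PowerSeries.coeff_map, lamSeries,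
    PowerSeries.coeff_mk]
  exact (P.isUnit_lam a.1 a.2).map _

omit hK in
include hpK h0 in
lemma isUnit_top_root :
    IsUnit (PowerSeries.coeff (dF h0 (MvPolynomial.X (Sum.inr 0) : MvPolynomial (VarT P) ℕ))
      (LT hpK (PhiK P e (MvPolynomial.X (Sum.inr 0))))) := by
  have : Nontrivial K := RingHom.domain_nontrivial P.aug
  rw [dF_root, PhiK_X_root, (QP_LT hpK _).2]
  exact isUnit_root he m hm

include hpK h0 in
lemma isUnit_top_q :
    IsUnit (PowerSeries.coeff (dF h0 (MvPolynomial.X (Sum.inr 1) : MvPolynomial (VarT P) ℕ))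
      (LT hpK (PhiK P e (MvPolynomial.X (Sum.inr 1))))) := by
  have : Nontrivial K := RingHom.domain_nontrivial P.aug
  have hm' : (P.aug e).toNat = m := by rw [hm, Int.toNat_natCast]
  have hm1 : 1 ≤ m := by
    have := P.aug_pos e he
    omega
  have hv := lam_vanish hK he m hm hpK h0 (MvPolynomial.X (Sum.inr 1)) m
    (by rw [dF_q m hm h0]; omega)
  rw [dF_q m hm h0, PhiK_X_q]
  rw [PhiK_X_q] at hv
  have h1 : LT hpK (AdjoinRoot.of _ e - AdjoinRoot.root _) * LT hpK (AdjoinRoot.root _) =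
      LT hpK (AdjoinRoot.of (KRR.extPoly P e) e) := by
    rw [← LT_add, sub_add_cancel]
  rw [LT_root hK he m hm hpK h0, LT_of hpK (one_le_natDegree hpK h0)] at h1
  have h2 := congrArg (PowerSeries.coeff m) h1
  obtain ⟨m', rfl⟩ : ∃ m', m = m' + 1 := ⟨m - 1, by omega⟩
  rw [coeff_succ_mul_one_add, hv, zero_add, PowerSeries.coeff_map, lamSeries,
    PowerSeries.coeff_mk] at h2
  have h3 : IsUnit (AdjoinRoot.of (KRR.extPoly P e) (LambdaOps.lam (m' + 1) e)) := by
    apply IsUnit.map
    have := P.isUnit_lam e he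
    rwa [hm'] at this
  rw [← h2] at h3
  rw [Nat.add_sub_cancel]
  exact isUnit_of_mul_isUnit_left h3

include hpK h0 in
theorem isUnit_top (F : MvPolynomial (VarT P) ℕ) :
    IsUnit (PowerSeries.coeff (dF h0 F) (LT hpK (PhiK P e F))) := by
  have : Nontrivial K := RingHom.domain_nontrivial P.aug
  induction F using MvPolynomial.induction_on with
  | C n =>
    rw [dF_C]
    have h1 : PhiK P e (MvPolynomial.C n) = AdjoinRoot.of _ ((n : ℕ) : K) := by
      unfold PhiK
      rw [MvPolynomial.eval₂Hom_C]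
      simp
    rw [h1, LT_of hpK (one_le_natDegree hpK h0), PowerSeries.coeff_map, lamSeries,
      PowerSeries.coeff_mk]
    apply IsUnit.map
    rcases Nat.eq_zero_or_pos n with rfl | hn
    · rw [LambdaOps.lam_zero]; exact isUnit_one
    · have := P.isUnit_lam (n : K) (P.natCast_mem n hn)
      rwa [map_natCast, Int.toNat_natCast] at this
  | add F G hF hG =>
    rw [dF_add hK he m hm h0, map_add, LT_add, coeff_add_mul_of_vanish _ _ _ _
      (lam_vanish hK he m hm hpK h0 F) (lam_vanish hK he m hm hpK h0 G)]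
    exact hF.mul hG
  | mul_X F i hF =>
    rw [dF_mul hK he m hm h0, map_mul, lam_top_mul hK he m hm hpK h0]
    apply IsUnit.mul (hF.pow _)
    apply IsUnit.pow
    rcases i with a | j
    · exact isUnit_top_inl hpK h0 a
    · fin_cases j
      · exact isUnit_top_root he m hm hpK h0
      · exact isUnit_top_q hK he m hm hpK h0

end Main

section Final

variable {K : Type v} [CommRing K] [LambdaOps K] [Nontrivial K] {P : PosStructure K} {e : K}
  (hK : HasSplitting K P) (he : e ∈ P.pos) (m : ℕ) (hm : P.aug e = (m : ℤ))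
  (hpK : (KRR.extPoly P e).Monic)
  (h0 : Polynomial.eval₂ P.aug 1 (KRR.extPoly P e) = 0)

omit [LambdaOps K] in
lemma coord_of_zero {p₀ : Polynomial K} (hp : p₀.Monic) (h1 : 1 ≤ p₀.natDegree) (c : K) :
    coord hp 0 (AdjoinRoot.of p₀ c) = c := by
  have h2 : AdjoinRoot.of p₀ c =
      ∑ k ∈ Finset.range p₀.natDegree,
        AdjoinRoot.of p₀ (if k = 0 then c else 0) * AdjoinRoot.root p₀ ^ k := by
    rw [Finset.sum_eq_single 0]
    · rw [if_pos rfl, pow_zero, mul_one]
    · intro k _ hk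
      rw [if_neg hk, map_zero, zero_mul]
    · intro h
      exact absurd (Finset.mem_range.mpr (by omega)) h
  rw [h2]
  have := coord_sum hp (fun k => if k = 0 then c else 0) 0 (by omega)
  simpa using this

omit [LambdaOps K] in
lemma of_injective {p₀ : Polynomial K} (hp : p₀.Monic) (h1 : 1 ≤ p₀.natDegree) :
    Function.Injective (AdjoinRoot.of p₀) := by
  intro c d hcd
  rw [← coord_of_zero hp h1 c, ← coord_of_zero hp h1 d, hcd]

lemma lam_def (i : ℕ) (x : AdjoinRoot (KRR.extPoly P e)) :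
    @LambdaOps.lam _ _ (elemLambdaOps hpK) i x = PowerSeries.coeff i (LT hpK x) := rfl

def posE : Set (AdjoinRoot (KRR.extPoly P e)) :=
  {x | ∃ F : MvPolynomial (VarT P) ℕ, PhiK P e F = x ∧ 0 < augK h0 x}

omit [Nontrivial K] in
lemma posE_add (x y : AdjoinRoot (KRR.extPoly P e)) (hx : x ∈ posE h0) (hy : y ∈ posE h0) :
    x + y ∈ posE h0 := by
  obtain ⟨F, rfl, hF⟩ := hx
  obtain ⟨G, rfl, hG⟩ := hy
  refine ⟨F + G, map_add _ _ _, ?_⟩
  rw [map_add]
  omega

omit [Nontrivial K] in
lemma posE_mul (x y : AdjoinRoot (KRR.extPoly P e)) (hx : x ∈ posE h0) (hy : y ∈ posE h0) :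
    x * y ∈ posE h0 := by
  obtain ⟨F, rfl, hF⟩ := hx
  obtain ⟨G, rfl, hG⟩ := hy
  refine ⟨F * G, map_mul _ _ _, ?_⟩
  rw [map_mul]
  exact mul_pos hF hG

omit [Nontrivial K] in
lemma posE_natCast (n : ℕ) (hn : 0 < n) : ((n : ℕ) : AdjoinRoot (KRR.extPoly P e)) ∈ posE h0 := by
  refine ⟨MvPolynomial.C n, ?_, ?_⟩
  · unfold PhiK
    rw [MvPolynomial.eval₂Hom_C]
    simp
  · rw [map_natCast]
    exact_mod_cast hn

include hpK in
lemma posE_exists_sub (x : AdjoinRoot (KRR.extPoly P e)) :
    ∃ a b, a ∈ posE h0 ∧ b ∈ posE h0 ∧ x = a - b := by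
  have hN := one_le_natDegree hpK h0
  have hc := fun n => P.exists_sub (coord hpK n x)
  choose a b ha hb hab using hc
  have key : ∀ (c : ℕ → K) (hc : ∀ n, c n ∈ P.pos),
      (∑ n ∈ Finset.range (KRR.extPoly P e).natDegree,
        AdjoinRoot.of (KRR.extPoly P e) (c n) * AdjoinRoot.root _ ^ n) ∈ posE h0 := by
    intro c hc
    refine ⟨∑ n ∈ Finset.range (KRR.extPoly P e).natDegree,
      MvPolynomial.X (Sum.inl ⟨c n, hc n⟩) * MvPolynomial.X (Sum.inr 0) ^ n, ?_, ?_⟩
    · rw [map_sum]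
      refine Finset.sum_congr rfl fun n _ => ?_
      rw [map_mul, map_pow, PhiK_X_inl, PhiK_X_root]
    · rw [map_sum]
      apply Finset.sum_pos
      · intro n _
        rw [map_mul, map_pow, augK_of, augK_root, one_pow, mul_one]
        exact P.aug_pos _ (hc n)
      · exact ⟨0, Finset.mem_range.mpr (by omega)⟩
  refine ⟨_, _, key a ha, key b hb, ?_⟩
  rw [← Finset.sum_sub_distrib]
  conv_lhs => rw [repr_eq hpK x]
  refine Finset.sum_congr rfl fun n _ => ?_
  rw [hab n, map_sub, sub_mul]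

noncomputable def posStrE :
    @PosStructure (AdjoinRoot (KRR.extPoly P e)) _ (elemLambdaOps hpK) :=
  letI := elemLambdaOps hpK
  { aug := augK h0
    aug_surjective := fun z => by
      obtain ⟨c, hc⟩ := P.aug_surjective z
      exact ⟨AdjoinRoot.of _ c, by rw [augK_of, hc]⟩
    pos := posE h0
    add_mem := posE_add h0
    mul_mem := posE_mul h0
    natCast_mem := posE_natCast h0
    exists_sub := posE_exists_sub hpK h0
    aug_pos := fun x hx => by
      obtain ⟨F, rfl, hF⟩ := hx
      exact hF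
    lam_eq_zero := fun x hx i hi => by
      obtain ⟨F, rfl, hF⟩ := hx
      rw [lam_def]
      apply lam_vanish hK he m hm hpK h0 F i
      rw [aug_eq_dF hK he m hm h0 F] at hi
      exact_mod_cast hi
    isUnit_lam := fun x hx => by
      obtain ⟨F, rfl, hF⟩ := hx
      rw [lam_def]
      exact isUnit_top hK he m hm hpK h0 F }

theorem final_props :
    (∀ (i : ℕ) (x : K), @LambdaOps.lam _ _ (elemLambdaOps hpK) i
        (AdjoinRoot.of (KRR.extPoly P e) x) =
        AdjoinRoot.of (KRR.extPoly P e) (LambdaOps.lam i x)) ∧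
      (∀ i : ℕ, 2 ≤ i → @LambdaOps.lam _ _ (elemLambdaOps hpK) i
        (AdjoinRoot.root (KRR.extPoly P e)) = 0) ∧
      @IsExtension K _ _ _ _ (elemLambdaOps hpK) P (posStrE hK he m hm hpK h0)
        (AdjoinRoot.of (KRR.extPoly P e)) ∧
      @PosStructure.IsLine _ _ (elemLambdaOps hpK) (posStrE hK he m hm hpK h0)
        (AdjoinRoot.root (KRR.extPoly P e)) ∧
      (2 ≤ P.aug e → AdjoinRoot.of (KRR.extPoly P e) e - AdjoinRoot.root (KRR.extPoly P e) ∈
        (@PosStructure.pos _ _ (elemLambdaOps hpK) (posStrE hK he m hm hpK h0))) := by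
  have hN := one_le_natDegree hpK h0
  have h1 : ∀ (i : ℕ) (x : K), @LambdaOps.lam _ _ (elemLambdaOps hpK) i
        (AdjoinRoot.of (KRR.extPoly P e) x) =
        AdjoinRoot.of (KRR.extPoly P e) (LambdaOps.lam i x) := by
    intro i x
    rw [lam_def, LT_of hpK hN, PowerSeries.coeff_map, lamSeries, PowerSeries.coeff_mk]
  refine ⟨h1, ?_, ?_, ?_, ?_⟩
  · intro i hi
    rw [lam_def, LT_root hK he m hm hpK h0, map_add, PowerSeries.coeff_one, if_neg (by omega)]
    obtain ⟨j, rfl⟩ : ∃ j, i = j + 1 := ⟨i - 1, by omega⟩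
    rw [PowerSeries.coeff_succ_mul_X, PowerSeries.coeff_C, if_neg (by omega), add_zero]
  · let _ := elemLambdaOps hpK
    refine ⟨fun i x => (h1 i x).symm, of_injective hpK hN, fun x => augK_of h0 x, ?_⟩
    intro a ha
    refine ⟨MvPolynomial.X (Sum.inl ⟨a, ha⟩), PhiK_X_inl _, ?_⟩
    rw [augK_of]
    exact P.aug_pos a ha
  · refine ⟨⟨MvPolynomial.X (Sum.inr 0), PhiK_X_root, ?_⟩, augK_root h0⟩
    rw [augK_root]
    exact one_pos
  · intro h2
    refine ⟨MvPolynomial.X (Sum.inr 1), PhiK_X_q, ?_⟩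
    rw [map_sub, augK_of, augK_root]
    omega

end Final

theorem main (K : Type v) [CommRing K] [LambdaOps K] (P : PosStructure K)
    (hK : HasSplitting K P) (e : K) (he : e ∈ P.pos) :
    ∃ (inst : LambdaOps (AdjoinRoot (KRR.extPoly P e))) (Pe : @PosStructure _ _ inst),
      (∀ (i : ℕ) (x : K), @LambdaOps.lam _ _ inst i (AdjoinRoot.of (KRR.extPoly P e) x) =
        AdjoinRoot.of (KRR.extPoly P e) (LambdaOps.lam i x)) ∧
      (∀ i : ℕ, 2 ≤ i → @LambdaOps.lam _ _ inst i (AdjoinRoot.root (KRR.extPoly P e)) = 0) ∧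
      @IsExtension K _ _ _ _ inst P Pe (AdjoinRoot.of (KRR.extPoly P e)) ∧
      @PosStructure.IsLine _ _ inst Pe (AdjoinRoot.root (KRR.extPoly P e)) ∧
      (2 ≤ P.aug e → AdjoinRoot.of (KRR.extPoly P e) e - AdjoinRoot.root (KRR.extPoly P e) ∈
        (@PosStructure.pos _ _ inst Pe)) := by
  have : Nontrivial K := RingHom.domain_nontrivial P.aug
  have hm : P.aug e = (((P.aug e).toNat : ℕ) : ℤ) :=
    (Groth.Agent.Lib.Helper95.GammaFil.aug_eq_toNat P e he).symm
  have hK' := hK
  obtain ⟨C, hKC, hC⟩ := hK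
  obtain ⟨L', hL', g, hg, s, hs, hsum⟩ := hC ⟨K, P⟩ hKC e he
  have hcard : Multiset.card s = (P.aug e).toNat := by
    have h1 := aug_sum_lines L'.posStr s hs
    rw [hsum, hg.aug_comp, hm] at h1
    exact_mod_cast h1.symm
  obtain ⟨u, hu1, hu2⟩ := exists_fin_family s (P.aug e).toNat hcard
  have hm1 : 1 ≤ (P.aug e).toNat := by
    have := P.aug_pos e he
    omega
  have D : SplitData P e L'.posStr g (P.aug e).toNat u :=
    { hg := hg
      hm := hm
      hm1 := hm1
      hu := fun k => hs _ (hu1 k)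
      hsum := by rw [hu2, hsum]
      hK := hK'
      hL := ⟨C, hL', hC⟩ }
  have hpK := extPoly_monic D
  have h0 := eval₂_aug_extPoly D
  exact ⟨elemLambdaOps hpK, posStrE hK' he _ hm hpK h0, final_props hK' he _ hm hpK h0⟩

end Groth.Agent.Lib.Helper95.ElemLamK
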