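import Groth.Agent.Lib.Helper95.ElemProj2

set_option autoImplicit false
open Polynomial Finset

namespace Groth.Agent.Lib.Helper95.ElemProj

section Consumer

variable {B : Type*} [CommRing B] {m : ℕ} (u : Fin m → B) (j : ℕ)

noncomputable def fB : AdjoinRoot (pU u) →ₗ[B] B :=
  (Fh u).comp (AdjoinRoot.modByMonicHom (pU_monic u))

lemma fB_mk (hm : 1 ≤ m) (G : B[X]) : fB u (AdjoinRoot.mk (pU u) G) = Fh u G := by
  unfold fB
  rw [LinearMap.comp_apply, AdjoinRoot.modByMonicHom_mk]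
  have h := Polynomial.modByMonic_add_div G (pU u)
  have h2 : Fh u G = Fh u (G %ₘ pU u) + Fh u (pU u * (G /ₘ pU u)) := by
    rw [← map_add, h]
  rw [h2, Fh_pU_mul u hm, add_zero]

lemma eval₂_pU (k : Fin m) : (pU u).eval₂ (RingHom.id B) (u k) = 0 := by
  rw [eval₂_id]
  unfold pU
  rw [eval_prod]
  apply Finset.prod_eq_zero (Finset.mem_univ k)
  simp

noncomputable def evk (k : Fin m) : AdjoinRoot (pU u) →+* B :=
  AdjoinRoot.lift (RingHom.id B) (u k) (eval₂_pU u k)

lemma evk_mk (k : Fin m) (G : B[X]) : evk u k (AdjoinRoot.mk (pU u) G) = G.eval (u k) := by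
  unfold evk
  rw [AdjoinRoot.lift_mk, eval₂_id]

theorem final (hm : 1 ≤ m) (hj : 1 ≤ j) (W : AdjoinRoot (pU u))
    (hW : W * AdjoinRoot.mk (pU u) (QU u j) = 1) (i : ℕ) :
    fB u ((j : AdjoinRoot (pU u)) * W * AdjoinRoot.root (pU u) ^ (m * (j - 1) + i * j)) =
      hU (fun k => u k ^ j) i := by
  obtain ⟨Y0, M, h1, h2⟩ := main_alg u j hm hj
  have hD : DU u j * ∏ k, evk u k W = 1 := by
    unfold DU
    rw [← Finset.prod_mul_distrib]
    apply Finset.prod_eq_one
    intro k _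
    have := congrArg (evk u k) hW
    rw [map_mul, evk_mk, map_one, mul_comm] at this
    exact this
  have hY : AdjoinRoot.mk (pU u) Y0 = AdjoinRoot.of (pU u) (DU u j) * W := by
    have h3 := congrArg (AdjoinRoot.mk (pU u)) h1
    rw [map_mul, map_add, map_mul, AdjoinRoot.mk_self, zero_mul, add_zero, AdjoinRoot.mk_C] at h3
    calc AdjoinRoot.mk (pU u) Y0
        = (W * AdjoinRoot.mk (pU u) (QU u j)) * AdjoinRoot.mk (pU u) Y0 := by rw [hW, one_mul]
      _ = W * (AdjoinRoot.mk (pU u) (QU u j) * AdjoinRoot.mk (pU u) Y0) := by ring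
      _ = _ := by rw [h3]; ring
  have h4 : fB u (AdjoinRoot.mk (pU u) (C (j : B) * Y0 * X ^ (m * (j - 1) + i * j))) =
      DU u j * hU (fun k => u k ^ j) i := by
    rw [fB_mk u hm, h2 i]
  have h5 : AdjoinRoot.mk (pU u) (C (j : B) * Y0 * X ^ (m * (j - 1) + i * j)) =
      (DU u j) • ((j : AdjoinRoot (pU u)) * W * AdjoinRoot.root (pU u) ^ (m * (j - 1) + i * j)) := by
    rw [map_mul, map_mul, map_pow, AdjoinRoot.mk_X, hY, AdjoinRoot.mk_C, Algebra.smul_def,
      AdjoinRoot.algebraMap_eq, map_natCast]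
    ring
  rw [h5, map_smul, smul_eq_mul] at h4
  calc fB u ((j : AdjoinRoot (pU u)) * W * AdjoinRoot.root (pU u) ^ (m * (j - 1) + i * j))
      = (DU u j * ∏ k, evk u k W) *
        fB u ((j : AdjoinRoot (pU u)) * W * AdjoinRoot.root (pU u) ^ (m * (j - 1) + i * j)) := by
        rw [hD, one_mul]
    _ = (∏ k, evk u k W) * (DU u j *
        fB u ((j : AdjoinRoot (pU u)) * W * AdjoinRoot.root (pU u) ^ (m * (j - 1) + i * j))) := by
        ring
    _ = (DU u j * ∏ k, evk u k W) * hU (fun k => u k ^ j) i := by rw [h4]; ring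
    _ = _ := by rw [hD, one_mul]

end Consumer

end Groth.Agent.Lib.Helper95.ElemProj
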