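import Groth.Agent.Lib.Helper95.ElemLamA
import Groth.Agent.Lib.Helper95.ElemProj3

set_option autoImplicit false
open LambdaRing

namespace Groth.Agent.Lib.Helper95.ElemLam

open Groth.Agent.Lib.Helper48 Groth.Agent.Lib.Helper95.ElemProj
open scoped Groth.Agent.Lib.Helper95.ElemLam

section U

variable {ι : Type*} {m : ℕ} (κ : Fin m → ι) (hκ : Function.Injective κ)

noncomputable def Xk : Fin m → MvPolynomial ι ℤ := fun k => MvPolynomial.X (κ k)

lemma evk_of (k : Fin m) (c : MvPolynomial ι ℤ) :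
    evk (Xk κ) k (AdjoinRoot.of _ c) = c := by
  unfold evk
  rw [AdjoinRoot.lift_of, RingHom.id_apply]

lemma evk_root (k : Fin m) : evk (Xk κ) k (AdjoinRoot.root _) = Xk κ k := by
  unfold evk
  rw [AdjoinRoot.lift_root]

theorem map_LT_evk (k : Fin m) (x : AdjoinRoot (pU (Xk κ))) :
    PowerSeries.map (evk (Xk κ) k) (LT (pU_monic (Xk κ)) x) = lamSeries (evk (Xk κ) k x) := by
  apply map_LT_ev
  · intro i c
    rw [evk_of, evk_of]
  · intro n _ c
    rw [evk_of, evk_root]
    have : Xk κ k ^ n = MvPolynomial.monomial (Finsupp.single (κ k) n) (1 : ℤ) := by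
      unfold Xk
      rw [MvPolynomial.X_pow_eq_monomial]
    rw [this]
    exact lamSeries_mul_monomial ι c _

include hκ in
theorem evk_injective (x y : AdjoinRoot (pU (Xk κ)))
    (h : ∀ k, evk (Xk κ) k x = evk (Xk κ) k y) : x = y := by
  have hp := pU_monic (Xk κ)
  rw [← sub_eq_zero]
  have h0 : ∀ k, evk (Xk κ) k (x - y) = 0 := fun k => by rw [map_sub, h k, sub_self]
  generalize x - y = z at h0
  by_cases h1 : pU (Xk κ) = 1
  · obtain ⟨G, rfl⟩ := AdjoinRoot.mk_surjective z
    rw [AdjoinRoot.mk_eq_zero, h1]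
    exact one_dvd _
  · have h3 := AdjoinRoot.mk_leftInverse hp z
    have h2 : (AdjoinRoot.modByMonicHom hp z).natDegree < m := by
      obtain ⟨G, rfl⟩ := AdjoinRoot.mk_surjective z
      rw [AdjoinRoot.modByMonicHom_mk]
      exact lt_of_lt_of_le (Polynomial.natDegree_modByMonic_lt G hp h1) (natDegree_pU_le _)
    have h4 : AdjoinRoot.modByMonicHom hp z = 0 := by
      apply Polynomial.eq_zero_of_natDegree_lt_card_of_eval_eq_zero _
        (f := Xk κ) (fun a b hab => hκ (MvPolynomial.X_injective hab))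
      · intro k
        have := h0 k
        rw [← h3, evk_mk] at this
        exact this
      · rwa [Fintype.card_fin]
    rw [← h3, h4, map_zero]

include hκ in
theorem univ_lam_eq_zero (X : AdjoinRoot (pU (Xk κ))) (d : ℕ)
    (hX : ∀ k, IsMonSum d (evk (Xk κ) k X)) (i : ℕ) (hi : d < i) :
    PowerSeries.coeff i (LT (pU_monic (Xk κ)) X) = 0 := by
  apply evk_injective κ hκ
  intro k
  rw [map_zero, ← PowerSeries.coeff_map, map_LT_evk, lamSeries, PowerSeries.coeff_mk]
  exact (hX k).lam_eq_zero i hi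

include hκ in
theorem univ_lam_top_mul (X Z : AdjoinRoot (pU (Xk κ))) (d d' : ℕ)
    (hX : ∀ k, IsMonSum d (evk (Xk κ) k X)) (hZ : ∀ k, IsMonSum d' (evk (Xk κ) k Z)) :
    PowerSeries.coeff (d * d') (LT (pU_monic (Xk κ)) (X * Z)) =
      PowerSeries.coeff d (LT (pU_monic (Xk κ)) X) ^ d' *
        PowerSeries.coeff d' (LT (pU_monic (Xk κ)) Z) ^ d := by
  apply evk_injective κ hκ
  intro k
  rw [map_mul, map_pow, map_pow, ← PowerSeries.coeff_map, ← PowerSeries.coeff_map,
    ← PowerSeries.coeff_map, map_LT_evk, map_LT_evk, map_LT_evk, map_mul]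
  simp only [lamSeries, PowerSeries.coeff_mk]
  exact (hX k).lam_top_mul (hZ k)

end U

end Groth.Agent.Lib.Helper95.ElemLam
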