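import Groth.Agent.Lib.Helper48.LambdaRing
import Mathlib

set_option autoImplicit false
open LambdaRing

namespace Groth.Agent.Lib.Helper95.ElemLam

open Groth.Agent.Lib.Helper48

universe u

section LineUnit

variable {A : Type*} [CommRing A]

noncomputable def lineUnit (a : A) : (PowerSeries A)ˣ where
  val := 1 + PowerSeries.C a * PowerSeries.X
  inv := (1 + PowerSeries.C a * PowerSeries.X).invOfUnit 1
  val_inv := PowerSeries.mul_invOfUnit _ _ (by simp)
  inv_val := by rw [mul_comm]; exact PowerSeries.mul_invOfUnit _ _ (by simp)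

lemma lineUnit_val (a : A) : (lineUnit a : PowerSeries A) = 1 + PowerSeries.C a * PowerSeries.X := rfl

end LineUnit

section Q

variable {A : Type*} [CommRing A]

def QP (g : PowerSeries A) (b : A) : Prop :=
  PowerSeries.constantCoeff g = 1 ∧ PowerSeries.coeff 1 g = b

lemma QP.mul {g h : PowerSeries A} {b c : A} (hg : QP g b) (hh : QP h c) : QP (g * h) (b + c) := by
  refine ⟨by rw [map_mul, hg.1, hh.1, mul_one], ?_⟩
  rw [PowerSeries.coeff_mul, Finset.Nat.sum_antidiagonal_eq_sum_range_succ_mk,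
    Finset.sum_range_succ, Finset.sum_range_one]
  simp only [Nat.sub_zero, Nat.sub_self, PowerSeries.coeff_zero_eq_constantCoeff]
  rw [hg.1, hg.2, hh.1, hh.2]
  ring

lemma QP.one : QP (1 : PowerSeries A) 0 := by
  refine ⟨map_one _, ?_⟩
  rw [PowerSeries.coeff_one, if_neg one_ne_zero]

lemma QP.inv {g : (PowerSeries A)ˣ} {b : A} (hg : QP (g : PowerSeries A) b) :
    QP ((g⁻¹ : (PowerSeries A)ˣ) : PowerSeries A) (-b) := by
  have h1 : (g : PowerSeries A) * ((g⁻¹ : (PowerSeries A)ˣ) : PowerSeries A) = 1 := g.mul_inv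
  have hc : PowerSeries.constantCoeff ((g⁻¹ : (PowerSeries A)ˣ) : PowerSeries A) = 1 := by
    have := congrArg PowerSeries.constantCoeff h1
    rw [map_mul, hg.1, one_mul, map_one] at this
    exact this
  refine ⟨hc, ?_⟩
  have h2 := congrArg (PowerSeries.coeff 1) h1
  rw [PowerSeries.coeff_mul, Finset.Nat.sum_antidiagonal_eq_sum_range_succ_mk,
    Finset.sum_range_succ, Finset.sum_range_one, PowerSeries.coeff_one, if_neg one_ne_zero] at h2
  simp only [Nat.sub_zero, Nat.sub_self, PowerSeries.coeff_zero_eq_constantCoeff] at h2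
  rw [hg.1, hg.2, hc, one_mul, mul_one] at h2
  linear_combination h2

lemma QP.zpow {g : (PowerSeries A)ˣ} {b : A} (hg : QP (g : PowerSeries A) b) (n : ℤ) :
    QP ((g ^ n : (PowerSeries A)ˣ) : PowerSeries A) (n • b) := by
  induction n using Int.induction_on with
  | zero => simpa using QP.one
  | succ n ih =>
    rw [zpow_add_one, Units.val_mul, add_smul, one_smul]
    exact ih.mul hg
  | pred n ih =>
    rw [zpow_sub_one, Units.val_mul, sub_smul, one_smul, sub_eq_add_neg]
    exact ih.mul hg.inv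

lemma QP.lineUnit (a : A) : QP (lineUnit a : PowerSeries A) a := by
  rw [lineUnit_val]
  refine ⟨by simp, ?_⟩
  rw [map_add, PowerSeries.coeff_one, if_neg one_ne_zero, zero_add]
  have : (1 : ℕ) = 0 + 1 := rfl
  rw [this, PowerSeries.coeff_succ_mul_X, PowerSeries.coeff_zero_eq_constantCoeff]
  simp

end Q

section V

variable (ι : Type*)

noncomputable def LamV : MvPolynomial ι ℤ →+ Additive (PowerSeries (MvPolynomial ι ℤ))ˣ :=
  (Finsupp.liftAddHom (fun μ : ι →₀ ℕ =>
    zmultiplesHom _ (Additive.ofMul (lineUnit (MvPolynomial.monomial μ (1 : ℤ)))))).comp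
    (AddMonoidAlgebra.coeffAddEquiv (R := ℤ) (M := ι →₀ ℕ)).toAddMonoidHom

lemma LamV_monomial (μ : ι →₀ ℕ) (n : ℤ) :
    LamV ι (MvPolynomial.monomial μ n) =
      n • Additive.ofMul (lineUnit (MvPolynomial.monomial μ (1 : ℤ))) := by
  unfold LamV
  rw [AddMonoidHom.comp_apply]
  have : (AddMonoidAlgebra.coeffAddEquiv (R := ℤ) (M := ι →₀ ℕ)).toAddMonoidHom
      (MvPolynomial.monomial μ n) = Finsupp.single μ n := by
    simp [MvPolynomial.monomial, AddMonoidAlgebra.coeffAddEquiv]
  rw [this, Finsupp.liftAddHom_apply_single]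
  rfl

noncomputable def lamV (f : MvPolynomial ι ℤ) : PowerSeries (MvPolynomial ι ℤ) :=
  ((LamV ι f).toMul : (PowerSeries (MvPolynomial ι ℤ))ˣ)

lemma lamV_add (f g : MvPolynomial ι ℤ) : lamV ι (f + g) = lamV ι f * lamV ι g := by
  unfold lamV
  rw [map_add]
  rfl

lemma lamV_monomial (μ : ι →₀ ℕ) (n : ℤ) :
    lamV ι (MvPolynomial.monomial μ n) =
      ((lineUnit (MvPolynomial.monomial μ (1 : ℤ)) ^ n : (PowerSeries (MvPolynomial ι ℤ))ˣ) :
        PowerSeries (MvPolynomial ι ℤ)) := by
  unfold lamV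
  rw [LamV_monomial]
  rfl

lemma QP_lamV (f : MvPolynomial ι ℤ) : QP (lamV ι f) f := by
  induction f using MvPolynomial.induction_on' with
  | monomial μ n =>
    rw [lamV_monomial]
    have := (QP.lineUnit (MvPolynomial.monomial μ (1 : ℤ))).zpow n
    have e : n • (MvPolynomial.monomial μ (1 : ℤ)) = MvPolynomial.monomial μ n := by
      rw [← map_zsmul]; simp
    rwa [e] at this
  | add f g hf hg =>
    rw [lamV_add]
    exact hf.mul hg

@[instance_reducible]
noncomputable def vLambdaOps : LambdaOps (MvPolynomial ι ℤ) where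
  lam i f := PowerSeries.coeff i (lamV ι f)
  lam_zero f := by
    rw [PowerSeries.coeff_zero_eq_constantCoeff_apply]; exact (QP_lamV ι f).1
  lam_one f := (QP_lamV ι f).2
  lam_add k f g := by
    rw [lamV_add, PowerSeries.coeff_mul, Finset.Nat.sum_antidiagonal_eq_sum_range_succ_mk]

attribute [scoped instance] vLambdaOps

lemma lamSeries_eq_lamV (f : MvPolynomial ι ℤ) : lamSeries f = lamV ι f := by
  ext i
  rw [lamSeries, PowerSeries.coeff_mk]
  rfl

lemma lamSeries_monomial_one (μ : ι →₀ ℕ) :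
    lamSeries (MvPolynomial.monomial μ (1 : ℤ)) =
      1 + PowerSeries.C (MvPolynomial.monomial μ (1 : ℤ)) * PowerSeries.X := by
  rw [lamSeries_eq_lamV, lamV_monomial, zpow_one, lineUnit_val]

lemma rescale_lineUnit_zpow {A : Type*} [CommRing A] (a b : A) (n : ℤ) :
    PowerSeries.rescale b ((lineUnit a ^ n : (PowerSeries A)ˣ) : PowerSeries A) =
      ((lineUnit (a * b) ^ n : (PowerSeries A)ˣ) : PowerSeries A) := by
  have h1 : Units.map (PowerSeries.rescale b : PowerSeries A →+* PowerSeries A).toMonoidHom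
      (lineUnit a) = lineUnit (a * b) := by
    apply Units.ext
    show PowerSeries.rescale b (1 + PowerSeries.C a * PowerSeries.X) =
      1 + PowerSeries.C (a * b) * PowerSeries.X
    rw [map_add, map_one, map_mul, PowerSeries.rescale_X]
    have : PowerSeries.rescale b (PowerSeries.C a) = PowerSeries.C a := by
      ext k
      rw [PowerSeries.coeff_rescale, PowerSeries.coeff_C]
      split_ifs with h
      · rw [h, pow_zero, one_mul]
      · rw [mul_zero]
    rw [this, map_mul]
    ring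
  have h2 := congrArg (fun u : (PowerSeries A)ˣ => (u : PowerSeries A))
    (map_zpow (Units.map (PowerSeries.rescale b : PowerSeries A →+* PowerSeries A).toMonoidHom)
      (lineUnit a) n)
  rw [h1] at h2
  exact h2

lemma map_lineUnit_zpow {A B : Type*} [CommRing A] [CommRing B] (φ : A →+* B) (a : A) (n : ℤ) :
    PowerSeries.map φ ((lineUnit a ^ n : (PowerSeries A)ˣ) : PowerSeries A) =
      ((lineUnit (φ a) ^ n : (PowerSeries B)ˣ) : PowerSeries B) := by
  have h1 : Units.map (PowerSeries.map φ : PowerSeries A →+* PowerSeries B).toMonoidHom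
      (lineUnit a) = lineUnit (φ a) := by
    apply Units.ext
    show PowerSeries.map φ (1 + PowerSeries.C a * PowerSeries.X) =
      1 + PowerSeries.C (φ a) * PowerSeries.X
    rw [map_add, map_one, map_mul, PowerSeries.map_C, PowerSeries.map_X]
  have h2 := congrArg (fun u : (PowerSeries B)ˣ => (u : PowerSeries B))
    (map_zpow (Units.map (PowerSeries.map φ : PowerSeries A →+* PowerSeries B).toMonoidHom)
      (lineUnit a) n)
  rw [h1] at h2
  exact h2

theorem lamSeries_mul_monomial (f : MvPolynomial ι ℤ) (ν : ι →₀ ℕ) :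
    lamSeries (f * MvPolynomial.monomial ν (1 : ℤ)) =
      PowerSeries.rescale (MvPolynomial.monomial ν (1 : ℤ)) (lamSeries f) := by
  rw [lamSeries_eq_lamV, lamSeries_eq_lamV]
  induction f using MvPolynomial.induction_on' with
  | monomial μ n =>
    rw [MvPolynomial.monomial_mul, mul_one, lamV_monomial, lamV_monomial, rescale_lineUnit_zpow,
      MvPolynomial.monomial_mul, mul_one]
  | add f g hf hg =>
    rw [add_mul, lamV_add, lamV_add, map_mul, hf, hg]

end V

section Hom

variable {ι : Type*} {L : Type*} [CommRing L] [LambdaOps L]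

noncomputable def lamUnit (x : L) : (PowerSeries L)ˣ where
  val := lamSeries x
  inv := lamSeries (-x)
  val_inv := by rw [← lamSeries_add, add_neg_cancel, lamSeries_zero]
  inv_val := by rw [← lamSeries_add, neg_add_cancel, lamSeries_zero]

noncomputable def lamUnitHom : L →+ Additive (PowerSeries L)ˣ where
  toFun x := Additive.ofMul (lamUnit x)
  map_zero' := by
    apply Additive.toMul.injective
    apply Units.ext
    exact lamSeries_zero
  map_add' x y := by
    apply Additive.toMul.injective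
    apply Units.ext
    exact lamSeries_add x y

lemma lamSeries_zsmul (n : ℤ) (w : L) :
    lamSeries (n • w) = ((lamUnit w ^ n : (PowerSeries L)ˣ) : PowerSeries L) := by
  have h := map_zsmul (lamUnitHom (L := L)) n w
  have h2 := congrArg (fun u : Additive (PowerSeries L)ˣ => ((Additive.toMul u : (PowerSeries L)ˣ) :
    PowerSeries L)) h
  exact h2

open scoped Groth.Agent.Lib.Helper95.ElemLam in
theorem map_lamSeries_V (θ : MvPolynomial ι ℤ →+* L)
    (hθ : ∀ μ : ι →₀ ℕ, lamSeries (θ (MvPolynomial.monomial μ (1 : ℤ))) =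
      1 + PowerSeries.C (θ (MvPolynomial.monomial μ (1 : ℤ))) * PowerSeries.X)
    (f : MvPolynomial ι ℤ) :
    PowerSeries.map θ (lamSeries f) = lamSeries (θ f) := by
  rw [lamSeries_eq_lamV]
  induction f using MvPolynomial.induction_on' with
  | monomial μ n =>
    have e : MvPolynomial.monomial μ n = n • (MvPolynomial.monomial μ (1 : ℤ)) := by
      rw [← map_zsmul]; simp
    rw [lamV_monomial, map_lineUnit_zpow, e, map_zsmul, lamSeries_zsmul]
    congr 2
    apply Units.ext
    show 1 + PowerSeries.C (θ (MvPolynomial.monomial μ (1 : ℤ))) * PowerSeries.X = lamSeries _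
    rw [hθ]
  | add f g hf hg =>
    rw [lamV_add, map_mul, hf, hg, map_add, lamSeries_add]

end Hom

section MonSum

open scoped Groth.Agent.Lib.Helper95.ElemLam

variable {ι : Type*}

lemma lamSeries_finset_sum {L : Type*} [CommRing L] [LambdaOps L] {α : Type*} (s : Finset α)
    (y : α → L) : lamSeries (∑ i ∈ s, y i) = ∏ i ∈ s, lamSeries (y i) := by
  classical
  induction s using Finset.induction_on with
  | empty => simp [lamSeries_zero]
  | insert a s ha ih => rw [Finset.sum_insert ha, Finset.prod_insert ha, lamSeries_add, ih]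

lemma prod_one_add_coeff {A : Type*} [CommRing A] {α : Type*} (s : Finset α) (a : α → A) :
    (∀ k, s.card < k → PowerSeries.coeff k
      (∏ i ∈ s, (1 + PowerSeries.C (a i) * PowerSeries.X : PowerSeries A)) = 0) ∧
    PowerSeries.coeff s.card
      (∏ i ∈ s, (1 + PowerSeries.C (a i) * PowerSeries.X : PowerSeries A)) = ∏ i ∈ s, a i := by
  classical
  induction s using Finset.induction_on with
  | empty =>
    refine ⟨fun k hk => ?_, by simp⟩
    rw [Finset.prod_empty, PowerSeries.coeff_one, if_neg]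
    rw [Finset.card_empty] at hk
    omega
  | insert b s hb ih =>
    have hmul : ∀ (f : PowerSeries A) (k : ℕ),
        PowerSeries.coeff (k + 1) ((1 + PowerSeries.C (a b) * PowerSeries.X) * f) =
        PowerSeries.coeff (k + 1) f + a b * PowerSeries.coeff k f := by
      intro f k
      rw [add_mul, one_mul, map_add, mul_assoc, PowerSeries.coeff_C_mul, mul_comm PowerSeries.X f,
        PowerSeries.coeff_succ_mul_X]
    rw [Finset.prod_insert hb, Finset.card_insert_of_notMem hb]
    refine ⟨fun k hk => ?_, ?_⟩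
    · obtain ⟨k, rfl⟩ : ∃ k', k = k' + 1 := ⟨k - 1, by omega⟩
      rw [hmul, ih.1 (k + 1) (by omega), ih.1 k (by omega), mul_zero, add_zero]
    · rw [hmul, ih.1 (s.card + 1) (by omega), ih.2, zero_add, Finset.prod_insert hb]

def IsMonSum (d : ℕ) (Y : MvPolynomial ι ℤ) : Prop :=
  ∃ (α : Type) (_ : Fintype α) (μ : α → (ι →₀ ℕ)), Fintype.card α = d ∧
    Y = ∑ i, MvPolynomial.monomial (μ i) (1 : ℤ)

lemma IsMonSum.add {d d' : ℕ} {Y Z : MvPolynomial ι ℤ} (hY : IsMonSum d Y) (hZ : IsMonSum d' Z) :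
    IsMonSum (d + d') (Y + Z) := by
  obtain ⟨α, _, μ, rfl, rfl⟩ := hY
  obtain ⟨β, _, ν, rfl, rfl⟩ := hZ
  refine ⟨α ⊕ β, inferInstance, Sum.elim μ ν, Fintype.card_sum, ?_⟩
  rw [Fintype.sum_sum_type]
  rfl

lemma IsMonSum.mul {d d' : ℕ} {Y Z : MvPolynomial ι ℤ} (hY : IsMonSum d Y) (hZ : IsMonSum d' Z) :
    IsMonSum (d * d') (Y * Z) := by
  obtain ⟨α, _, μ, rfl, rfl⟩ := hY
  obtain ⟨β, _, ν, rfl, rfl⟩ := hZ
  refine ⟨α × β, inferInstance, fun p => μ p.1 + ν p.2, Fintype.card_prod α β, ?_⟩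
  rw [Finset.sum_mul_sum, Fintype.sum_prod_type]
  refine Finset.sum_congr rfl fun i _ => Finset.sum_congr rfl fun j _ => ?_
  rw [MvPolynomial.monomial_mul, mul_one]

lemma IsMonSum.zero : IsMonSum 0 (0 : MvPolynomial ι ℤ) :=
  ⟨Empty, inferInstance, fun e => e.elim, by simp, by simp⟩

lemma IsMonSum.one : IsMonSum 1 (1 : MvPolynomial ι ℤ) :=
  ⟨Unit, inferInstance, fun _ => 0, by simp, by simp⟩

lemma IsMonSum.X (i : ι) : IsMonSum 1 (MvPolynomial.X i : MvPolynomial ι ℤ) :=
  ⟨Unit, inferInstance, fun _ => Finsupp.single i 1, by simp, by simp [MvPolynomial.X]⟩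

lemma IsMonSum.natCast (n : ℕ) : IsMonSum n ((n : ℕ) : MvPolynomial ι ℤ) := by
  induction n with
  | zero => simpa using IsMonSum.zero
  | succ n ih =>
    rw [Nat.cast_succ]
    exact ih.add IsMonSum.one

lemma IsMonSum.sum {β : Type*} (s : Finset β) (d : β → ℕ) (Y : β → MvPolynomial ι ℤ)
    (h : ∀ b ∈ s, IsMonSum (d b) (Y b)) : IsMonSum (∑ b ∈ s, d b) (∑ b ∈ s, Y b) := by
  classical
  induction s using Finset.induction_on with
  | empty => simpa using IsMonSum.zero
  | insert a s ha ih =>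
    rw [Finset.sum_insert ha, Finset.sum_insert ha]
    exact (h a (Finset.mem_insert_self a s)).add
      (ih fun b hb => h b (Finset.mem_insert_of_mem hb))

lemma IsMonSum.exists_lamSeries {d : ℕ} {Y : MvPolynomial ι ℤ} (hY : IsMonSum d Y) :
    ∃ (α : Type) (_ : Fintype α) (a : α → MvPolynomial ι ℤ), Fintype.card α = d ∧
      Y = ∑ i, a i ∧ (∀ i, ∃ μ, a i = MvPolynomial.monomial μ (1 : ℤ)) ∧
      lamSeries Y = ∏ i, (1 + PowerSeries.C (a i) * PowerSeries.X) := by
  obtain ⟨α, _, μ, rfl, rfl⟩ := hY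
  refine ⟨α, inferInstance, fun i => MvPolynomial.monomial (μ i) (1 : ℤ), rfl, rfl,
    fun i => ⟨μ i, rfl⟩, ?_⟩
  rw [lamSeries_finset_sum]
  exact Finset.prod_congr rfl fun i _ => lamSeries_monomial_one ι (μ i)

theorem IsMonSum.lam_eq_zero {d : ℕ} {Y : MvPolynomial ι ℤ} (hY : IsMonSum d Y) (k : ℕ)
    (hk : d < k) : LambdaOps.lam k Y = 0 := by
  obtain ⟨α, _, a, rfl, -, -, h⟩ := hY.exists_lamSeries
  have h2 := congrArg (PowerSeries.coeff k) h
  rw [LambdaRing.lamSeries, PowerSeries.coeff_mk] at h2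
  rw [h2]
  exact (prod_one_add_coeff Finset.univ a).1 k (by rwa [Finset.card_univ])

theorem IsMonSum.lam_top_mul {d d' : ℕ} {Y Z : MvPolynomial ι ℤ} (hY : IsMonSum d Y)
    (hZ : IsMonSum d' Z) :
    LambdaOps.lam (d * d') (Y * Z) = LambdaOps.lam d Y ^ d' * LambdaOps.lam d' Z ^ d := by
  obtain ⟨α, _, μ, rfl, rfl⟩ := hY
  obtain ⟨β, _, ν, rfl, rfl⟩ := hZ
  have top : ∀ (γ : Type) [Fintype γ] (ρ : γ → (ι →₀ ℕ)),
      LambdaOps.lam (Fintype.card γ) (∑ i, MvPolynomial.monomial (ρ i) (1 : ℤ)) =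
        ∏ i, MvPolynomial.monomial (ρ i) (1 : ℤ) := by
    intro γ _ ρ
    have h : lamSeries (∑ i, MvPolynomial.monomial (ρ i) (1 : ℤ)) =
        ∏ i, (1 + PowerSeries.C (MvPolynomial.monomial (ρ i) (1 : ℤ)) * PowerSeries.X) := by
      rw [lamSeries_finset_sum]
      exact Finset.prod_congr rfl fun i _ => lamSeries_monomial_one ι (ρ i)
    have h2 := congrArg (PowerSeries.coeff (Fintype.card γ)) h
    rw [LambdaRing.lamSeries, PowerSeries.coeff_mk] at h2
    rw [h2, ← Finset.card_univ]
    exact (prod_one_add_coeff Finset.univ _).2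
  have e : (∑ i, MvPolynomial.monomial (μ i) (1 : ℤ)) * (∑ j, MvPolynomial.monomial (ν j) (1 : ℤ)) =
      ∑ p : α × β, MvPolynomial.monomial (μ p.1 + ν p.2) (1 : ℤ) := by
    rw [Finset.sum_mul_sum, Fintype.sum_prod_type]
    refine Finset.sum_congr rfl fun i _ => Finset.sum_congr rfl fun j _ => ?_
    rw [MvPolynomial.monomial_mul, mul_one]
  rw [e, ← Fintype.card_prod, top (α × β), top α, top β, Fintype.prod_prod_type]
  have e2 : ∀ i j, MvPolynomial.monomial (μ i + ν j) (1 : ℤ) =
      MvPolynomial.monomial (μ i) (1 : ℤ) * MvPolynomial.monomial (ν j) (1 : ℤ) := by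
    intro i j
    rw [MvPolynomial.monomial_mul, mul_one]
  simp only [e2]
  simp only [Finset.prod_mul_distrib, Finset.prod_const, Finset.card_univ]
  rw [Finset.prod_pow]

end MonSum

end Groth.Agent.Lib.Helper95.ElemLam
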