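import Mathlib.Algebra.Polynomial.Reverse
import Mathlib.RingTheory.PowerSeries.Inverse
import Mathlib.RingTheory.PowerSeries.Basic
import Mathlib.RingTheory.AdjoinRoot
import Mathlib.Algebra.Ring.GeomSum
import Mathlib.Tactic

set_option autoImplicit false
open Polynomial Finset

namespace Groth.Agent.Lib.Helper95.ElemProj

section Defs

variable {B : Type*} [CommRing B] {m : ℕ} (u : Fin m → B)

noncomputable def pU : B[X] := ∏ k, (X - C (u k))

noncomputable def lamNegP : B[X] := ∏ k, (1 - C (u k) * X)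

noncomputable def lamNeg : PowerSeries B := (lamNegP u : B[X])

lemma reflect_prod_aux {ι : Type*} (s : Finset ι) (v : ι → B) :
    reflect (#s) (∏ k ∈ s, (X - C (v k))) = ∏ k ∈ s, (1 - C (v k) * X) ∧
      (∏ k ∈ s, (X - C (v k))).natDegree ≤ #s := by
  classical
  induction s using Finset.induction_on with
  | empty => simp
  | insert a s ha ih =>
    obtain ⟨ih1, ih2⟩ := ih
    have hdeg : (X - C (v a) : B[X]).natDegree ≤ 1 := natDegree_X_sub_C_le _
    constructor
    · rw [Finset.prod_insert ha, Finset.prod_insert ha, Finset.card_insert_of_notMem ha,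
        add_comm (#s) 1, reflect_mul _ _ hdeg ih2, ih1, reflect_sub, reflect_one_X, reflect_C,
        pow_one]
    · rw [Finset.prod_insert ha, Finset.card_insert_of_notMem ha]
      exact natDegree_mul_le.trans ((add_le_add hdeg ih2).trans (le_of_eq (Nat.add_comm _ _)))

lemma reflect_pU : reflect m (pU u) = lamNegP u := by
  have h := (reflect_prod_aux (univ : Finset (Fin m)) u).1
  rwa [Finset.card_univ, Fintype.card_fin] at h

lemma natDegree_pU_le : (pU u).natDegree ≤ m := by
  have h := (reflect_prod_aux (univ : Finset (Fin m)) u).2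
  rwa [Finset.card_univ, Fintype.card_fin] at h

lemma pU_monic : (pU u).Monic := monic_prod_of_monic _ _ fun k _ => monic_X_sub_C (u k)

lemma constantCoeff_lamNeg : PowerSeries.constantCoeff (lamNeg u) = 1 := by
  unfold lamNeg lamNegP
  rw [← PowerSeries.coeff_zero_eq_constantCoeff_apply, Polynomial.coeff_coe,
    Polynomial.coeff_zero_eq_eval_zero, eval_prod]
  simp

noncomputable def hSer : PowerSeries B := (lamNeg u).invOfUnit 1

lemma lamNeg_mul_hSer : lamNeg u * hSer u = 1 :=
  PowerSeries.mul_invOfUnit _ _ (by rw [constantCoeff_lamNeg]; rfl)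

noncomputable def hU (n : ℕ) : B := PowerSeries.coeff n (hSer u)

noncomputable def Fh : B[X] →ₗ[B] B :=
  Polynomial.lsum (fun n => LinearMap.mulRight B (hU u n))

lemma Fh_apply (G : B[X]) : Fh u G = G.sum fun n a => a * hU u n := rfl

lemma Fh_eq_sum_range (G : B[X]) (M : ℕ) (hM : G.natDegree ≤ M) :
    Fh u G = ∑ n ∈ range (M + 1), G.coeff n * hU u n := by
  rw [Fh_apply, Polynomial.sum_over_range' G (fun n => by rw [zero_mul]) (M + 1) (by omega)]

lemma Fh_eq_coeff (G : B[X]) (M : ℕ) (hM : G.natDegree ≤ M) :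
    Fh u G = PowerSeries.coeff M (((reflect M G : B[X]) : PowerSeries B) * hSer u) := by
  rw [Fh_eq_sum_range u G M hM, PowerSeries.coeff_mul,
    Finset.Nat.sum_antidiagonal_eq_sum_range_succ_mk, ← Finset.sum_range_reflect]
  refine Finset.sum_congr rfl fun n hn => ?_
  have hn' : n ≤ M := by have := Finset.mem_range.mp hn; omega
  rw [Polynomial.coeff_coe, coeff_reflect, revAt_le (by omega)]
  have e1 : M + 1 - 1 - n = M - n := by omega
  rw [e1]
  rfl

theorem Fh_pU_mul (hm : 1 ≤ m) (G : B[X]) : Fh u (pU u * G) = 0 := by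
  have hdeg : (pU u * G).natDegree ≤ m + G.natDegree :=
    natDegree_mul_le.trans (add_le_add (natDegree_pU_le u) (le_refl _))
  rw [Fh_eq_coeff u _ _ hdeg, reflect_mul _ _ (natDegree_pU_le u) (le_refl _), reflect_pU,
    Polynomial.coe_mul, mul_comm ((lamNegP u : B[X]) : PowerSeries B), mul_assoc]
  have h := lamNeg_mul_hSer u
  unfold lamNeg at h
  rw [h, mul_one, Polynomial.coeff_coe]
  apply coeff_eq_zero_of_natDegree_lt
  calc (reflect G.natDegree G).natDegree ≤ G.natDegree := by
        rw [natDegree_le_iff_coeff_eq_zero]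
        intro N hN
        rw [coeff_reflect, revAt_eq_self_of_lt hN]
        exact coeff_eq_zero_of_natDegree_lt hN
    _ < m + G.natDegree := by omega

variable (j : ℕ)

noncomputable def qU (k : Fin m) : B[X] := ∑ i ∈ range j, X ^ i * C (u k) ^ (j - 1 - i)

lemma qU_mul (k : Fin m) : qU u j k * (X - C (u k)) = X ^ j - C (u k) ^ j :=
  geom_sum₂_mul X (C (u k)) j

noncomputable def QU : B[X] := ∏ k, qU u j k

noncomputable def Qat (k : Fin m) : B := (QU u j).eval (u k)

noncomputable def DU : B := ∏ k, Qat u j k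

theorem exists_Y0 : ∃ Y0 M : B[X], QU u j * Y0 = C (DU u j) + pU u * M := by
  set chi : B[X] := ∏ k, (X - C (Qat u j k)) with hchi
  have h1 : chi.comp (QU u j) = ∏ k, (QU u j - C (Qat u j k)) := by
    rw [hchi, Polynomial.prod_comp]
    refine Finset.prod_congr rfl fun k _ => ?_
    rw [sub_comp, X_comp, C_comp]
  have h2 : pU u ∣ chi.comp (QU u j) := by
    rw [h1]
    unfold pU
    apply Finset.prod_dvd_prod_of_dvd
    intro k _
    exact X_sub_C_dvd_sub_C_eval
  obtain ⟨M', hM'⟩ := h2
  have h3 : chi.coeff 0 = (-1) ^ m * DU u j := by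
    rw [Polynomial.coeff_zero_eq_eval_zero, hchi, eval_prod]
    simp only [eval_sub, eval_X, eval_C, zero_sub]
    rw [Finset.prod_neg, Finset.card_univ, Fintype.card_fin]
    rfl
  have h4 := congrArg (fun q => q.comp (QU u j)) (divX_mul_X_add chi)
  simp only [add_comp, mul_comp, X_comp, C_comp] at h4
  rw [hM', h3] at h4
  refine ⟨C ((-1) ^ (m + 1)) * (divX chi).comp (QU u j), C ((-1) ^ (m + 1)) * M', ?_⟩
  have h5 : (divX chi).comp (QU u j) * QU u j = pU u * M' - C ((-1) ^ m * DU u j) :=
    eq_sub_of_add_eq h4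
  have h6 : ((-1 : B) ^ (m + 1)) * ((-1) ^ m * DU u j) = - DU u j := by
    rw [← mul_assoc, ← pow_add]
    have : m + 1 + m = 2 * m + 1 := by ring
    rw [this, pow_succ, pow_mul]
    simp
  calc QU u j * (C ((-1) ^ (m + 1)) * (divX chi).comp (QU u j))
      = C ((-1) ^ (m + 1)) * ((divX chi).comp (QU u j) * QU u j) := by ring
    _ = C ((-1) ^ (m + 1)) * (pU u * M') - C (((-1 : B) ^ (m + 1)) * ((-1) ^ m * DU u j)) := by
        rw [h5, mul_sub, ← C_mul]
    _ = _ := by rw [h6, C_neg]; ring

end Defs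

section Nat

variable {B B' : Type*} [CommRing B] [CommRing B'] (φ : B →+* B') {m : ℕ} (u : Fin m → B) (j : ℕ)

lemma map_pU : (pU u).map φ = pU (fun k => φ (u k)) := by
  unfold pU
  rw [Polynomial.map_prod]
  simp

lemma map_lamNegP : (lamNegP u).map φ = lamNegP (fun k => φ (u k)) := by
  unfold lamNegP
  rw [Polynomial.map_prod]
  simp

lemma map_lamNeg : PowerSeries.map φ (lamNeg u) = lamNeg (fun k => φ (u k)) := by
  unfold lamNeg
  rw [← Polynomial.polynomial_map_coe, map_lamNegP]

lemma map_hSer : PowerSeries.map φ (hSer u) = hSer (fun k => φ (u k)) := by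
  have h1 : lamNeg (fun k => φ (u k)) * PowerSeries.map φ (hSer u) = 1 := by
    rw [← map_lamNeg, ← map_mul, lamNeg_mul_hSer, map_one]
  have h2 := lamNeg_mul_hSer (fun k => φ (u k))
  calc PowerSeries.map φ (hSer u)
      = (lamNeg (fun k => φ (u k)) * hSer (fun k => φ (u k))) * PowerSeries.map φ (hSer u) := by
        rw [h2, one_mul]
    _ = (lamNeg (fun k => φ (u k)) * PowerSeries.map φ (hSer u)) * hSer (fun k => φ (u k)) := by
        ring
    _ = _ := by rw [h1, one_mul]

lemma map_hU (n : ℕ) : φ (hU u n) = hU (fun k => φ (u k)) n := by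
  unfold hU
  rw [← map_hSer, PowerSeries.coeff_map]

lemma map_Fh (G : B[X]) : φ (Fh u G) = Fh (fun k => φ (u k)) (G.map φ) := by
  rw [Fh_eq_sum_range u G G.natDegree (le_refl _),
    Fh_eq_sum_range _ (G.map φ) G.natDegree natDegree_map_le, map_sum]
  refine Finset.sum_congr rfl fun n _ => ?_
  rw [map_mul, map_hU, coeff_map]

lemma map_qU (k : Fin m) : (qU u j k).map φ = qU (fun k => φ (u k)) j k := by
  unfold qU
  rw [Polynomial.map_sum]
  simp

lemma map_QU : (QU u j).map φ = QU (fun k => φ (u k)) j := by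
  unfold QU
  rw [Polynomial.map_prod]
  simp only [map_qU]

lemma map_Qat (k : Fin m) : φ (Qat u j k) = Qat (fun k => φ (u k)) j k := by
  unfold Qat
  rw [← map_QU, eval_map, Polynomial.eval₂_at_apply]

lemma map_DU : φ (DU u j) = DU (fun k => φ (u k)) j := by
  unfold DU
  rw [map_prod]
  simp only [map_Qat]

end Nat

end Groth.Agent.Lib.Helper95.ElemProj
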