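import Groth.Agent.Lib.Helper95.ElemProj1
import Mathlib.LinearAlgebra.Lagrange
import Mathlib.RingTheory.Localization.FractionRing
import Mathlib.RingTheory.MvPolynomial.Basic

set_option autoImplicit false
open Polynomial Finset

namespace Groth.Agent.Lib.Helper95.ElemProj

section Generic

variable {F : Type*} [Field F] {m : ℕ} (u : Fin m → F)

noncomputable def cU (k : Fin m) : F := u k ^ (m - 1) / ∏ l ∈ univ.erase k, (u k - u l)

variable (hu : Function.Injective u) (hu0 : ∀ k, u k ≠ 0)

include hu in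
lemma prod_sub_ne_zero (k : Fin m) : ∏ l ∈ univ.erase k, (u k - u l) ≠ 0 := by
  rw [Finset.prod_ne_zero_iff]
  intro l hl
  rw [sub_ne_zero]
  intro h
  exact (Finset.mem_erase.mp hl).1 (hu h).symm

include hu hu0 in
theorem partial_fractions (hm : 1 ≤ m) :
    ∑ k, C (cU u k) * ∏ l ∈ univ.erase k, (1 - C (u l) * X) = (1 : F[X]) := by
  have hcard : ∀ k : Fin m, #(univ.erase k) = m - 1 := by
    intro k
    rw [Finset.card_erase_of_mem (Finset.mem_univ k), Finset.card_univ, Fintype.card_fin]
  have hv : Set.InjOn (fun k : Fin m => (u k)⁻¹) (univ : Finset (Fin m)) := by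
    intro a _ b _ h
    exact hu (inv_injective h)
  refine eq_of_degrees_lt_of_eval_index_eq (univ : Finset (Fin m)) hv ?_ ?_ ?_
  · rw [Finset.card_univ, Fintype.card_fin]
    refine lt_of_le_of_lt (degree_sum_le _ _) ?_
    rw [Finset.sup_lt_iff (by exact_mod_cast WithBot.bot_lt_coe m)]
    intro k _
    refine lt_of_le_of_lt (degree_mul_le _ _) ?_
    refine lt_of_le_of_lt (add_le_add degree_C_le (le_refl _)) ?_
    rw [zero_add]
    refine lt_of_le_of_lt (degree_prod_le _ _) ?_
    have : ∑ l ∈ univ.erase k, (1 - C (u l) * X : F[X]).degree ≤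
        ∑ _l ∈ univ.erase k, (1 : WithBot ℕ) := by
      apply Finset.sum_le_sum
      intro l _
      refine (degree_sub_le _ _).trans ?_
      rw [max_le_iff]
      constructor
      · rw [degree_one]; exact zero_le_one
      · exact (degree_C_mul_X_le _)
    refine lt_of_le_of_lt this ?_
    rw [Finset.sum_const, hcard, nsmul_eq_mul, mul_one]
    exact_mod_cast Nat.sub_lt hm Nat.one_pos
  · rw [Finset.card_univ, Fintype.card_fin, degree_one]
    exact_mod_cast hm
  · intro k _
    rw [eval_finsetSum, eval_one, Finset.sum_eq_single k]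
    · rw [eval_mul, eval_C, eval_prod]
      simp only [eval_sub, eval_one, eval_mul, eval_C, eval_X]
      unfold cU
      have h1 : ∀ l ∈ univ.erase k, (1 - u l * (u k)⁻¹) = (u k - u l) / u k := by
        intro l _
        field_simp [hu0 k]
      rw [Finset.prod_congr rfl h1, Finset.prod_div_distrib, Finset.prod_const, hcard]
      have h2 := prod_sub_ne_zero u hu k
      have h3 : u k ^ (m - 1) ≠ 0 := pow_ne_zero _ (hu0 k)
      field_simp
    · intro b _ hbk
      rw [eval_mul, eval_prod, Finset.prod_eq_zero (Finset.mem_erase.mpr ⟨Ne.symm hbk, Finset.mem_univ k⟩), mul_zero]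
      simp [hu0 k]
    · intro h; exact absurd (Finset.mem_univ k) h

include hu hu0 in
theorem hSer_eq (hm : 1 ≤ m) :
    hSer u = ∑ k, PowerSeries.C (cU u k) * PowerSeries.mk (fun n => u k ^ n) := by
  have hgeom : ∀ k : Fin m, (1 - PowerSeries.C (u k) * PowerSeries.X) *
      PowerSeries.mk (fun n => u k ^ n) = 1 := by
    intro k
    ext n
    rw [sub_mul, one_mul, map_sub, PowerSeries.coeff_mk, mul_assoc]
    rcases n with _ | n
    · simp
    · rw [PowerSeries.coeff_C_mul, PowerSeries.coeff_succ_X_mul, PowerSeries.coeff_mk,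
        PowerSeries.coeff_one, if_neg (Nat.succ_ne_zero n)]
      ring
  have hlam : ∀ k : Fin m, lamNeg u = (1 - PowerSeries.C (u k) * PowerSeries.X) *
      ((∏ l ∈ univ.erase k, (1 - C (u l) * X) : F[X]) : PowerSeries F) := by
    intro k
    unfold lamNeg lamNegP
    rw [← Finset.mul_prod_erase univ _ (Finset.mem_univ k), Polynomial.coe_mul]
    simp
  have h1 : lamNeg u * ∑ k, PowerSeries.C (cU u k) * PowerSeries.mk (fun n => u k ^ n) = 1 := by
    rw [Finset.mul_sum]
    have h2 : ∀ k ∈ (univ : Finset (Fin m)), lamNeg u * (PowerSeries.C (cU u k) *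
        PowerSeries.mk (fun n => u k ^ n)) =
        ((C (cU u k) * ∏ l ∈ univ.erase k, (1 - C (u l) * X) : F[X]) : PowerSeries F) := by
      intro k _
      rw [hlam k, Polynomial.coe_mul, Polynomial.coe_C]
      calc (1 - PowerSeries.C (u k) * PowerSeries.X) *
            ((∏ l ∈ univ.erase k, (1 - C (u l) * X) : F[X]) : PowerSeries F) *
            (PowerSeries.C (cU u k) * PowerSeries.mk (fun n => u k ^ n))
          = ((1 - PowerSeries.C (u k) * PowerSeries.X) * PowerSeries.mk (fun n => u k ^ n)) *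
            (PowerSeries.C (cU u k) *
              ((∏ l ∈ univ.erase k, (1 - C (u l) * X) : F[X]) : PowerSeries F)) := by ring
        _ = _ := by rw [hgeom, one_mul]
    rw [Finset.sum_congr rfl h2]
    have := congrArg (Polynomial.coeToPowerSeries.ringHom (R := F)) (partial_fractions u hu hu0 hm)
    rw [map_sum, map_one] at this
    exact this
  have h3 := lamNeg_mul_hSer u
  calc hSer u = (lamNeg u * ∑ k, PowerSeries.C (cU u k) * PowerSeries.mk (fun n => u k ^ n)) *
        hSer u := by rw [h1, one_mul]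
    _ = (lamNeg u * hSer u) *
        ∑ k, PowerSeries.C (cU u k) * PowerSeries.mk (fun n => u k ^ n) := by ring
    _ = _ := by rw [h3, one_mul]

include hu hu0 in
theorem hU_eq (hm : 1 ≤ m) (n : ℕ) : hU u n = ∑ k, cU u k * u k ^ n := by
  unfold hU
  rw [hSer_eq u hu hu0 hm, map_sum]
  refine Finset.sum_congr rfl fun k _ => ?_
  rw [PowerSeries.coeff_C_mul, PowerSeries.coeff_mk]

include hu hu0 in
theorem Fh_eq (hm : 1 ≤ m) (G : F[X]) : Fh u G = ∑ k, cU u k * G.eval (u k) := by
  rw [Fh_eq_sum_range u G G.natDegree (le_refl _)]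
  simp only [hU_eq u hu hu0 hm, Finset.mul_sum]
  rw [Finset.sum_comm]
  refine Finset.sum_congr rfl fun k _ => ?_
  rw [eval_eq_sum_range, Finset.mul_sum]
  refine Finset.sum_congr rfl fun n _ => ?_
  ring

variable (j : ℕ)

omit hu hu0 in
lemma Qat_eq (k : Fin m) :
    Qat u j k * ∏ l ∈ univ.erase k, (u k - u l) =
      (j : F) * u k ^ (j - 1) * ∏ l ∈ univ.erase k, (u k ^ j - u l ^ j) := by
  unfold Qat QU
  rw [eval_prod, ← Finset.mul_prod_erase univ _ (Finset.mem_univ k), mul_assoc,
    ← Finset.prod_mul_distrib]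
  congr 1
  · unfold qU
    rw [eval_finsetSum]
    have : ∀ i ∈ range j, eval (u k) (X ^ i * C (u k) ^ (j - 1 - i)) = u k ^ (j - 1) := by
      intro i hi
      have hi' := Finset.mem_range.mp hi
      rw [eval_mul, eval_pow, eval_pow, eval_X, eval_C, ← pow_add]
      congr 1
      omega
    rw [Finset.sum_congr rfl this, Finset.sum_const, Finset.card_range, nsmul_eq_mul]
  · refine Finset.prod_congr rfl fun l _ => ?_
    have := congrArg (eval (u k)) (qU_mul u j l)
    simpa using this

omit hu hu0 in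
lemma eval_pU (k : Fin m) : (pU u).eval (u k) = 0 := by
  unfold pU
  rw [eval_prod]
  apply Finset.prod_eq_zero (Finset.mem_univ k)
  simp

include hu hu0 in
theorem U2_field (hs : Function.Injective (fun k => u k ^ j)) (hj0 : (j : F) ≠ 0)
    (hm : 1 ≤ m) (hj : 1 ≤ j) (Y0 M : F[X])
    (h : QU u j * Y0 = C (DU u j) + pU u * M) (i : ℕ) :
    Fh u (C (j : F) * Y0 * X ^ (m * (j - 1) + i * j)) =
      DU u j * hU (fun k => u k ^ j) i := by
  have hs0 : ∀ k, (fun k => u k ^ j) k ≠ 0 := fun k => pow_ne_zero _ (hu0 k)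
  rw [Fh_eq u hu hu0 hm, hU_eq (fun k => u k ^ j) hs hs0 hm, Finset.mul_sum]
  refine Finset.sum_congr rfl fun k _ => ?_
  have hY : Qat u j k * Y0.eval (u k) = DU u j := by
    have := congrArg (eval (u k)) h
    rw [eval_mul, eval_add, eval_C, eval_mul, eval_pU, zero_mul, add_zero] at this
    exact this
  have hQ := Qat_eq u j k
  have hPu := prod_sub_ne_zero u hu k
  have hPs := prod_sub_ne_zero (fun k => u k ^ j) hs k
  simp only [eval_mul, eval_C, eval_pow, eval_X]
  unfold cU
  rw [← hY, div_mul_eq_mul_div, div_mul_eq_mul_div, mul_div_assoc', div_eq_div_iff hPu hPs]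
  have hexp : u k ^ (m - 1) * u k ^ (m * (j - 1) + i * j) =
      (u k ^ j) ^ (m - 1) * (u k ^ j) ^ i * u k ^ (j - 1) := by
    rw [← pow_mul, ← pow_mul, ← pow_add, ← pow_add, ← pow_add]
    congr 1
    obtain ⟨m', rfl⟩ : ∃ m', m = m' + 1 := ⟨m - 1, by omega⟩
    obtain ⟨j', rfl⟩ : ∃ j', j = j' + 1 := ⟨j - 1, by omega⟩
    simp only [Nat.add_sub_cancel]
    ring
  calc u k ^ (m - 1) * ((j : F) * eval (u k) Y0 * u k ^ (m * (j - 1) + i * j)) *
        ∏ l ∈ univ.erase k, (u k ^ j - u l ^ j)
      = (u k ^ (m - 1) * u k ^ (m * (j - 1) + i * j)) * eval (u k) Y0 *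
        ((j : F) * ∏ l ∈ univ.erase k, (u k ^ j - u l ^ j)) := by ring
    _ = (u k ^ j) ^ (m - 1) * (u k ^ j) ^ i * eval (u k) Y0 *
        ((j : F) * u k ^ (j - 1) * ∏ l ∈ univ.erase k, (u k ^ j - u l ^ j)) := by
        rw [hexp]; ring
    _ = _ := by rw [← hQ]; ring

end Generic

section Univ

variable (m j : ℕ)

abbrev UR : Type := MvPolynomial (Fin m) ℤ

abbrev UF : Type := FractionRing (UR m)

noncomputable def uX : Fin m → UR m := fun k => MvPolynomial.X k

theorem U2_univ (hm : 1 ≤ m) (hj : 1 ≤ j) :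
    ∃ Y0 M : (UR m)[X], QU (uX m) j * Y0 = C (DU (uX m) j) + pU (uX m) * M ∧
      ∀ i : ℕ, Fh (uX m) (C (j : UR m) * Y0 * X ^ (m * (j - 1) + i * j)) =
        DU (uX m) j * hU (fun k => uX m k ^ j) i := by
  obtain ⟨Y0, M, h⟩ := exists_Y0 (uX m) j
  refine ⟨Y0, M, h, fun i => ?_⟩
  set ι : UR m →+* UF m := algebraMap (UR m) (UF m) with hι
  have hinj : Function.Injective ι := IsFractionRing.injective (UR m) (UF m)
  apply hinj
  have hX : Function.Injective (uX m) := MvPolynomial.X_injective
  have hu : Function.Injective (fun k => ι (uX m k)) := hinj.comp hX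
  have hu0 : ∀ k, (fun k => ι (uX m k)) k ≠ 0 := by
    intro k
    show ι (uX m k) ≠ 0
    rw [Ne, map_eq_zero_iff ι hinj]
    exact MvPolynomial.X_ne_zero k
  have hs : Function.Injective (fun k => (fun k => ι (uX m k)) k ^ j) := by
    intro a b hab
    simp only at hab
    rw [← map_pow, ← map_pow] at hab
    have h1 := hinj hab
    unfold uX at h1
    rw [MvPolynomial.X_pow_eq_monomial, MvPolynomial.X_pow_eq_monomial] at h1
    have h2 := MvPolynomial.monomial_left_injective (R := ℤ) one_ne_zero h1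
    exact Finsupp.single_left_injective (by omega) h2
  have hj0 : ((j : ℕ) : UF m) ≠ 0 := by
    have : ((j : ℕ) : UF m) = ι ((j : ℕ) : UR m) := by rw [map_natCast]
    rw [this, Ne, map_eq_zero_iff ι hinj]
    exact_mod_cast (by omega : j ≠ 0)
  have h' : QU (fun k => ι (uX m k)) j * Y0.map ι =
      C (DU (fun k => ι (uX m k)) j) + pU (fun k => ι (uX m k)) * M.map ι := by
    have := congrArg (Polynomial.map ι) h
    rw [Polynomial.map_mul, Polynomial.map_add, Polynomial.map_mul, Polynomial.map_C, map_QU,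
      map_DU, map_pU] at this
    exact this
  have key := U2_field (fun k => ι (uX m k)) hu hu0 j hs hj0 hm hj (Y0.map ι) (M.map ι) h' i
  rw [map_Fh, map_mul, map_DU, map_hU]
  have e1 : (C (j : UR m) * Y0 * X ^ (m * (j - 1) + i * j)).map ι =
      C ((j : ℕ) : UF m) * Y0.map ι * X ^ (m * (j - 1) + i * j) := by
    rw [Polynomial.map_mul, Polynomial.map_mul, Polynomial.map_C, Polynomial.map_pow,
      Polynomial.map_X, map_natCast]
  have e2 : (fun k => ι ((fun k => uX m k ^ j) k)) = fun k => (fun k => ι (uX m k)) k ^ j := by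
    funext k
    simp only [map_pow]
  rw [e1, e2]
  exact key

end Univ

section Main

variable {B : Type*} [CommRing B] {m : ℕ} (u : Fin m → B) (j : ℕ)

theorem main_alg (hm : 1 ≤ m) (hj : 1 ≤ j) :
    ∃ Y0 M : B[X], QU u j * Y0 = C (DU u j) + pU u * M ∧
      ∀ i : ℕ, Fh u (C (j : B) * Y0 * X ^ (m * (j - 1) + i * j)) =
        DU u j * hU (fun k => u k ^ j) i := by
  obtain ⟨Y0, M, h, h2⟩ := U2_univ m j hm hj
  set φ : UR m →+* B := (MvPolynomial.aeval u : UR m →ₐ[ℤ] B).toRingHom with hφ
  have hφX : (fun k => φ (uX m k)) = u := by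
    funext k
    show MvPolynomial.aeval u (MvPolynomial.X k) = u k
    rw [MvPolynomial.aeval_X]
  refine ⟨Y0.map φ, M.map φ, ?_, fun i => ?_⟩
  · have := congrArg (Polynomial.map φ) h
    rw [Polynomial.map_mul, Polynomial.map_add, Polynomial.map_mul, Polynomial.map_C, map_QU,
      map_DU, map_pU, hφX] at this
    exact this
  · have := congrArg φ (h2 i)
    rw [map_Fh, map_mul, map_DU, map_hU, hφX] at this
    have e1 : (C (j : UR m) * Y0 * X ^ (m * (j - 1) + i * j)).map φ =
        C (j : B) * Y0.map φ * X ^ (m * (j - 1) + i * j) := by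
      rw [Polynomial.map_mul, Polynomial.map_mul, Polynomial.map_C, Polynomial.map_pow,
        Polynomial.map_X, map_natCast]
    have e2 : (fun k => φ ((fun k => uX m k ^ j) k)) = fun k => u k ^ j := by
      funext k
      simp only [map_pow]
      rw [← hφX]
    rw [e1, e2] at this
    exact this

end Main

end Groth.Agent.Lib.Helper95.ElemProj
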