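import Groth.Agent.Lib.Helper48.LambdaRing
import Groth.Prelude.Def_W4bkmilneecrracsp2Inv
import Mathlib.Algebra.Polynomial.Reverse
import Mathlib.Tactic

set_option autoImplicit false
open LambdaRing Finset

namespace Groth.Agent.Lib.Helper95.ToddInv

open Groth.Agent.Lib.Helper48

universe u

section Poly

variable {R : Type*} [CommRing R]

open Polynomial in
lemma reflect_prod (iv : R → R) (s : Multiset R) (h : ∀ u ∈ s, iv u * u = 1) :
    ((s.map fun u => (1 + C (iv u) * X : R[X])).prod * C s.prod =
      reflect (Multiset.card s) (s.map fun u => (1 + C u * X : R[X])).prod) ∧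
    (s.map fun u => (1 + C u * X : R[X])).prod.natDegree ≤ Multiset.card s := by
  induction s using Multiset.induction with
  | empty => simp
  | cons u s ih =>
    obtain ⟨ih1, ih2⟩ := ih (fun v hv => h v (Multiset.mem_cons_of_mem hv))
    have hu := h u (Multiset.mem_cons_self u s)
    have hdeg : (1 + C u * X : R[X]).natDegree ≤ 1 := by
      refine (natDegree_add_le _ _).trans ?_
      rw [natDegree_one]
      exact max_le (Nat.zero_le _) ((natDegree_C_mul_le u X).trans natDegree_X_le)
    constructor
    · rw [Multiset.map_cons, Multiset.prod_cons, Multiset.map_cons, Multiset.prod_cons,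
        Multiset.prod_cons, Multiset.card_cons, add_comm (Multiset.card s) 1,
        reflect_mul _ _ hdeg ih2, ← ih1, reflect_add, reflect_one, reflect_C_mul, reflect_one_X,
        C_mul]
      have : (C (iv u) * C u : R[X]) = 1 := by rw [← C_mul, hu, C_1]
      calc (1 + C (iv u) * X) * (Multiset.map (fun u => 1 + C (iv u) * X) s).prod *
            (C u * C s.prod)
          = (C u + (C (iv u) * C u) * X) *
            ((Multiset.map (fun u => 1 + C (iv u) * X) s).prod * C s.prod) := by ring
        _ = _ := by rw [this]; ring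
    · rw [Multiset.map_cons, Multiset.prod_cons, Multiset.card_cons]
      exact (natDegree_mul_le).trans ((add_le_add hdeg ih2).trans (le_of_eq (Nat.add_comm _ _)))

open Polynomial in
lemma coeff_prod_inv (iv : R → R) (s : Multiset R) (h : ∀ u ∈ s, iv u * u = 1) (j : ℕ)
    (hj : j ≤ Multiset.card s) :
    (s.map fun u => (1 + C (iv u) * X : R[X])).prod.coeff j * s.prod =
      (s.map fun u => (1 + C u * X : R[X])).prod.coeff (Multiset.card s - j) := by
  have h1 := congrArg (fun p => Polynomial.coeff p j) (reflect_prod iv s h).1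
  simp only [coeff_mul_C, coeff_reflect, revAt_le hj] at h1
  exact h1

lemma coe_prod_line (s : Multiset R) :
    (((s.map fun u => (1 + Polynomial.C u * Polynomial.X : Polynomial R)).prod : Polynomial R) :
      PowerSeries R) = (s.map fun u => (1 + PowerSeries.C u * PowerSeries.X : PowerSeries R)).prod := by
  induction s using Multiset.induction with
  | empty => simp
  | cons u s ih =>
    rw [Multiset.map_cons, Multiset.prod_cons, Multiset.map_cons, Multiset.prod_cons,
      Polynomial.coe_mul, ih]
    simp

end Poly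

section Lam

variable {K : Type u} [CommRing K] [LambdaOps K] (P : PosStructure K)

lemma lam_sum_lines (s : Multiset K) (hs : ∀ v ∈ s, P.IsLine v) (k : ℕ) :
    LambdaOps.lam k s.sum =
      (s.map fun u => (1 + Polynomial.C u * Polynomial.X : Polynomial K)).prod.coeff k := by
  have h1 : lamSeries s.sum =
      (s.map fun u => (1 + PowerSeries.C u * PowerSeries.X : PowerSeries K)).prod := by
    rw [lamSeries_multiset_sum]
    congr 1
    exact Multiset.map_congr rfl fun v hv => lamSeries_line P v (hs v hv)
  rw [← Polynomial.coeff_coe, coe_prod_line, ← h1, lamSeries, PowerSeries.coeff_mk]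

lemma inv_zero {inv : K → K} (hV : IsInvolution P inv) : inv 0 = 0 := by
  have h := hV.map_add 0 0
  rw [add_zero] at h
  exact left_eq_add.mp h

lemma inv_multiset_sum {inv : K → K} (hV : IsInvolution P inv) (s : Multiset K) :
    inv s.sum = (s.map inv).sum := by
  induction s using Multiset.induction with
  | empty => simpa using inv_zero P hV
  | cons a s ih => rw [Multiset.sum_cons, hV.map_add, ih, Multiset.map_cons, Multiset.sum_cons]

theorem lam_inv_sum_lines {inv : K → K} (hV : IsInvolution P inv) (s : Multiset K)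
    (hs : ∀ v ∈ s, P.IsLine v) (j : ℕ) (hj : j ≤ Multiset.card s) :
    LambdaOps.lam j (inv s.sum) * LambdaOps.lam (Multiset.card s) s.sum =
      LambdaOps.lam (Multiset.card s - j) s.sum := by
  rw [inv_multiset_sum P hV, lam_sum_lines P (s.map inv)
    (fun v hv => by
      obtain ⟨u, hu, rfl⟩ := Multiset.mem_map.mp hv
      exact hV.inv_line u (hs u hu)), Multiset.map_map,
    lam_sum_lines P s hs, lam_sum_lines P s hs]
  have h := coeff_prod_inv inv s (fun u hu => hV.inv_mul_self u (hs u hu)) j hj
  have htop : (s.map fun u => (1 + Polynomial.C u * Polynomial.X : Polynomial K)).prod.coeff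
      (Multiset.card s) = s.prod := by
    have h0 := coeff_prod_inv inv s (fun u hu => hV.inv_mul_self u (hs u hu)) 0 (Nat.zero_le _)
    rw [Nat.sub_zero] at h0
    rw [← h0]
    have : (s.map fun u => (1 + Polynomial.C (inv u) * Polynomial.X : Polynomial K)).prod.coeff 0 = 1 := by
      rw [Polynomial.coeff_zero_eq_eval_zero, Polynomial.eval_multiset_prod, Multiset.map_map]
      have : (s.map ((fun p : Polynomial K => Polynomial.eval 0 p) ∘
          fun u => (1 + Polynomial.C (inv u) * Polynomial.X : Polynomial K))) =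
          s.map fun _ => (1 : K) := Multiset.map_congr rfl fun u _ => by simp
      rw [this, Multiset.map_const', Multiset.prod_replicate, one_pow]
    rw [this, one_mul]
  rw [htop]
  exact h

end Lam

section Ext

variable {K : Type u} [CommRing K] [LambdaOps K] (P : PosStructure K)

theorem lam_inv_mul_top (inv : K → K) (hS : HasInvSplitting P inv) (e : K) (he : e ∈ P.pos)
    (m : ℕ) (hm : (m : ℤ) = P.aug e) (j : ℕ) (hj : j ≤ m) :
    LambdaOps.lam j (inv e) * LambdaOps.lam m e = LambdaOps.lam (m - j) e := by
  obtain ⟨L, inv', f, hf, hV', hcomm, s, hs, hsum⟩ := hS e he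
  have hcard : Multiset.card s = m := by
    have h1 := aug_sum_lines L.posStr s hs
    rw [hsum, hf.aug_comp, ← hm] at h1
    exact_mod_cast h1.symm
  apply hf.injective
  rw [map_mul, hf.isLambdaHom, hf.isLambdaHom, hf.isLambdaHom, hcomm, ← hsum, ← hcard]
  exact lam_inv_sum_lines L.posStr hV' s hs j (by omega)

theorem lamNeg_inv_mul_top (inv : K → K) (hS : HasInvSplitting P inv) (e : K) (he : e ∈ P.pos)
    (m : ℕ) (hm : (m : ℤ) = P.aug e) :
    (∑ i ∈ range (m + 1), (-1 : K) ^ i * LambdaOps.lam i (inv e)) * LambdaOps.lam m e =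
      (-1) ^ m * ∑ a ∈ range (m + 1), (-1) ^ a * LambdaOps.lam a e := by
  rw [Finset.sum_mul, Finset.mul_sum,
    ← Finset.sum_range_reflect (fun a => (-1 : K) ^ m * ((-1) ^ a * LambdaOps.lam a e)) (m + 1)]
  refine Finset.sum_congr rfl fun i hi => ?_
  have hi' : i ≤ m := by have := Finset.mem_range.mp hi; omega
  rw [mul_assoc, lam_inv_mul_top P inv hS e he m hm i hi']
  have e1 : m + 1 - 1 - i = m - i := by omega
  rw [e1, ← mul_assoc]
  congr 1
  have h2 : (-1 : K) ^ m = (-1) ^ (m - i) * (-1) ^ i := by
    rw [← pow_add]; congr 1; omega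
  rw [h2]
  have h3 : ((-1 : K) ^ (m - i)) * (-1) ^ (m - i) = 1 := by
    rw [← pow_add, Even.neg_one_pow ⟨m - i, rfl⟩]
  calc (-1 : K) ^ i = ((-1 : K) ^ (m - i) * (-1) ^ (m - i)) * (-1) ^ i := by rw [h3, one_mul]
    _ = _ := by ring

end Ext

end Groth.Agent.Lib.Helper95.ToddInv
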