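import Groth.Prelude.Def_KRR
import Groth.Agent.Lib.Helper95.ToddInv
import Groth.Agent.Lib.Helper95.Bridge4
import Groth.Agent.Lib.Helper95.ElemProj3

set_option autoImplicit false
open LambdaRing Finset

namespace Groth.Agent.Lib.Helper95.ElemProjK

open Groth.Agent.Lib.Helper48 Groth.Agent.Lib.Helper95.ToddInv Groth.Agent.Lib.Helper95.ElemProj
  Groth.Agent.Lib.Helper95.Bridge

universe u

section LML

variable {K : Type u} [CommRing K] [LambdaOps K] (P : PosStructure K) (hK : HasSplitting K P)

include hK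

lemma lam_mul_line_pos (x : K) (hx : x ∈ P.pos) (v : K) (hv : P.IsLine v) (n : ℕ) :
    LambdaOps.lam n (x * v) = v ^ n * LambdaOps.lam n x := by
  obtain ⟨C, hKC, hC⟩ := hK
  obtain ⟨L', _, f, hf, s, hs, hsum⟩ := hC ⟨K, P⟩ hKC x hx
  apply hf.injective
  have hfv : L'.posStr.IsLine (f v) := isLine_map P L'.posStr f hf hv
  have h1 : f (x * v) = (s.map fun w => w * f v).sum := by
    rw [map_mul, ← hsum, Multiset.sum_map_mul_right]
    simp
  rw [hf.isLambdaHom, h1, lam_sum_lines L'.posStr (s.map fun w => w * f v)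
    (fun y hy => by
      obtain ⟨w, hw, rfl⟩ := Multiset.mem_map.mp hy
      exact isLine_mul L'.posStr (hs w hw) hfv), map_mul, map_pow, hf.isLambdaHom, ← hsum,
    lam_sum_lines L'.posStr s hs, Multiset.map_map]
  have h2 : (s.map ((fun u => (1 + Polynomial.C u * Polynomial.X : Polynomial L'.carrier)) ∘
      fun w => w * f v)).prod =
      ((s.map fun u => (1 + Polynomial.C u * Polynomial.X : Polynomial L'.carrier)).prod).comp
        (Polynomial.C (f v) * Polynomial.X) := by
    rw [Polynomial.multiset_prod_comp, Multiset.map_map]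
    congr 1
    apply Multiset.map_congr rfl
    intro w _
    simp only [Function.comp_apply, Polynomial.add_comp, Polynomial.one_comp, Polynomial.mul_comp,
      Polynomial.C_comp, Polynomial.X_comp, map_mul]
    ring
  rw [h2, Polynomial.comp_C_mul_X_coeff, mul_comm]

theorem lam_mul_line (x v : K) (hv : P.IsLine v) (n : ℕ) :
    LambdaOps.lam n (x * v) = v ^ n * LambdaOps.lam n x := by
  obtain ⟨a, b, ha, hb, rfl⟩ := P.exists_sub x
  have h1 : lamSeries ((a - b) * v) * lamSeries (b * v) = lamSeries (a * v) := by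
    rw [← lamSeries_add]; congr 1; ring
  have h2 : lamSeries (a - b) * lamSeries b = lamSeries a := by
    rw [← lamSeries_add]; congr 1; ring
  have hr : ∀ y ∈ P.pos, lamSeries (y * v) = PowerSeries.rescale v (lamSeries y) := by
    intro y hy
    ext n
    rw [PowerSeries.coeff_rescale, lamSeries, PowerSeries.coeff_mk, lamSeries, PowerSeries.coeff_mk]
    exact lam_mul_line_pos P hK y hy v hv n
  rw [hr a ha, hr b hb, ← h2, map_mul] at h1
  have hunit : IsUnit (PowerSeries.rescale v (lamSeries b)) := by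
    rw [PowerSeries.isUnit_iff_constantCoeff, ← PowerSeries.coeff_zero_eq_constantCoeff_apply,
      PowerSeries.coeff_rescale, pow_zero, one_mul, PowerSeries.coeff_zero_eq_constantCoeff_apply,
      constantCoeff_lamSeries]
    exact isUnit_one
  have h3 := hunit.mul_left_injective h1
  have h4 := congrArg (PowerSeries.coeff n) h3
  rw [PowerSeries.coeff_rescale, lamSeries, PowerSeries.coeff_mk, lamSeries,
    PowerSeries.coeff_mk] at h4
  exact h4

end LML

section Vieta

variable {L : Type u} [CommRing L] [LambdaOps L] (PL : PosStructure L) {m : ℕ} (u : Fin m → L)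
  (hu : ∀ k, PL.IsLine (u k))

include hu

lemma lamSeries_sum_lines : lamSeries (∑ k, u k) =
    ∏ k, (1 + PowerSeries.C (u k) * PowerSeries.X) := by
  have h := lamSeries_multiset_sum ((Finset.univ : Finset (Fin m)).val.map u)
  rw [Multiset.map_map] at h
  have e : ((Finset.univ : Finset (Fin m)).val.map u).sum = ∑ k, u k := rfl
  rw [e] at h
  rw [h]
  show ∏ k, lamSeries (u k) = _
  exact Finset.prod_congr rfl fun k _ => lamSeries_line PL (u k) (hu k)

lemma rescale_lamSeries_sum_lines :
    PowerSeries.rescale (-1 : L) (lamSeries (∑ k, u k)) = lamNeg u := by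
  rw [lamSeries_sum_lines PL u hu, map_prod]
  unfold lamNeg lamNegP
  have := map_prod (Polynomial.coeToPowerSeries.ringHom (R := L))
    (fun k => (1 - Polynomial.C (u k) * Polynomial.X : Polynomial L)) Finset.univ
  simp only [Polynomial.coeToPowerSeries.ringHom_apply] at this
  rw [this]
  refine Finset.prod_congr rfl fun k _ => ?_
  rw [map_add, map_one, map_mul, PowerSeries.rescale_X, Polynomial.coe_sub, Polynomial.coe_one,
    Polynomial.coe_mul, Polynomial.coe_C, Polynomial.coe_X]
  have : PowerSeries.rescale (-1 : L) (PowerSeries.C (u k)) = PowerSeries.C (u k) := by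
    ext n
    rw [PowerSeries.coeff_rescale, PowerSeries.coeff_C]
    split_ifs with h
    · rw [h, pow_zero, one_mul]
    · rw [mul_zero]
  rw [this, map_neg, map_one]
  ring

lemma coeff_lamNegP (i : ℕ) :
    (lamNegP u).coeff i = (-1) ^ i * LambdaOps.lam i (∑ k, u k) := by
  have h := congrArg (PowerSeries.coeff i) (rescale_lamSeries_sum_lines PL u hu)
  unfold lamNeg at h
  rw [Polynomial.coeff_coe, PowerSeries.coeff_rescale, lamSeries, PowerSeries.coeff_mk] at h
  exact h.symm

omit hu [LambdaOps L] in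
lemma natDegree_lamNegP_le : (lamNegP u).natDegree ≤ m := by
  unfold lamNegP
  refine (Polynomial.natDegree_prod_le _ _).trans ?_
  have : ∑ k : Fin m, (1 - Polynomial.C (u k) * Polynomial.X : Polynomial L).natDegree ≤
      ∑ _k : Fin m, 1 := by
    apply Finset.sum_le_sum
    intro k _
    refine (Polynomial.natDegree_sub_le _ _).trans ?_
    rw [Polynomial.natDegree_one]
    exact max_le (Nat.zero_le _)
      ((Polynomial.natDegree_C_mul_le _ _).trans Polynomial.natDegree_X_le)
  simpa using this

theorem extPoly_eq_pU :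
    ∑ i ∈ Finset.range (m + 1),
      Polynomial.C ((-1 : L) ^ i * LambdaOps.lam i (∑ k, u k)) * Polynomial.X ^ (m - i) = pU u := by
  have h1 : pU u = Polynomial.reflect m (lamNegP u) := by
    rw [← reflect_pU, Polynomial.reflect_reflect]
  rw [h1]
  ext n
  rw [Polynomial.finsetSum_coeff, Polynomial.coeff_reflect]
  simp only [Polynomial.coeff_C_mul, Polynomial.coeff_X_pow]
  by_cases hn : n ≤ m
  · rw [Polynomial.revAt_le hn, coeff_lamNegP PL u hu, Finset.sum_eq_single (m - n)]
    · rw [if_pos (by omega), mul_one]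
    · intro i hi hne
      have := Finset.mem_range.mp hi
      rw [if_neg (by omega), mul_zero]
    · intro h
      exfalso
      apply h
      rw [Finset.mem_range]
      omega
  · rw [not_le] at hn
    rw [Polynomial.revAt_eq_self_of_lt hn,
      Polynomial.coeff_eq_zero_of_natDegree_lt (lt_of_le_of_lt (natDegree_lamNegP_le u) hn)]
    apply Finset.sum_eq_zero
    intro i hi
    rw [if_neg (by omega), mul_zero]

end Vieta

section Esymm

variable {A : Type*} [CommRing A] {m : ℕ} (W : Fin m → A)

lemma aeval_esymmZ (i : ℕ) : MvPolynomial.aeval W (MvPolynomial.esymm (Fin m) ℤ i) =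
    ∑ t ∈ Finset.powersetCard i Finset.univ, ∏ k ∈ t, W k := by
  unfold MvPolynomial.esymm
  simp only [map_sum, map_prod, MvPolynomial.aeval_X]

theorem coeff_prod_one_add (i : ℕ) :
    (∏ k, (1 + Polynomial.C (W k) * Polynomial.X : Polynomial A)).coeff i =
      MvPolynomial.aeval W (MvPolynomial.esymm (Fin m) ℤ i) := by
  classical
  rw [Finset.prod_one_add, Polynomial.finsetSum_coeff, aeval_esymmZ]
  have h1 : ∀ t ∈ (Finset.univ : Finset (Fin m)).powerset,
      (∏ k ∈ t, (Polynomial.C (W k) * Polynomial.X : Polynomial A)).coeff i =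
        if t.card = i then ∏ k ∈ t, W k else 0 := by
    intro t _
    rw [Finset.prod_mul_distrib, Finset.prod_const, ← map_prod, Polynomial.coeff_C_mul,
      Polynomial.coeff_X_pow]
    split_ifs with h1 h2 h2
    · rw [mul_one]
    · exact absurd h1.symm h2
    · exact absurd h2.symm h1
    · rw [mul_zero]
  rw [Finset.sum_congr rfl h1, ← Finset.sum_filter, Finset.powersetCard_eq_filter]

theorem aeval_bottPoly (j : ℕ) :
    MvPolynomial.aeval (fun i : Fin m => MvPolynomial.aeval W
      (MvPolynomial.esymm (Fin m) ℤ ((i : ℕ) + 1))) (KRR.bottPoly j m) =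
      ∏ k, ∑ a ∈ Finset.range j, W k ^ a := by
  have h := (MvPolynomial.esymmAlgEquiv (Fin m) ℤ (Fintype.card_fin m)).apply_symm_apply
    ⟨KRR.bottSym j m, KRR.bottSym_isSymmetric j m⟩
  have h2 := congrArg Subtype.val h
  rw [MvPolynomial.esymmAlgEquiv_apply, MvPolynomial.esymmAlgHom_apply] at h2
  have h3 := MvPolynomial.comp_aeval
    (fun i : Fin m => MvPolynomial.esymm (Fin m) ℤ ((i : ℕ) + 1))
    (MvPolynomial.aeval W : MvPolynomial (Fin m) ℤ →ₐ[ℤ] A)
  have h4 := DFunLike.congr_fun h3 (KRR.bottPoly j m)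
  rw [← h4, AlgHom.comp_apply]
  have h5 : MvPolynomial.aeval (fun i : Fin m => MvPolynomial.esymm (Fin m) ℤ ((i : ℕ) + 1))
      (KRR.bottPoly j m) = KRR.bottSym j m := h2
  rw [h5]
  unfold KRR.bottSym
  simp only [map_prod, map_sum, map_pow, MvPolynomial.aeval_X]

end Esymm

section Bott

variable {K : Type u} [CommRing K] [LambdaOps K] (P : PosStructure K)

lemma bott_eq (j : ℕ) (z : K) (m : ℕ) (hz : (P.aug z).toNat = m) :
    KRR.bott P j z = MvPolynomial.aeval (fun i : Fin m => LambdaOps.lam ((i : ℕ) + 1) z)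
      (KRR.bottPoly j m) := by
  subst hz
  rfl

theorem aug_bott (hK : HasSplitting K P) (j : ℕ) (z : K) (m : ℕ) (hz : P.aug z = (m : ℤ)) :
    P.aug (KRR.bott P j z) = (j : ℤ) ^ m := by
  rw [bott_eq P j z m (by rw [hz, Int.toNat_natCast])]
  have h1 : P.aug (MvPolynomial.aeval (fun i : Fin m => LambdaOps.lam ((i : ℕ) + 1) z)
      (KRR.bottPoly j m)) = MvPolynomial.aeval (fun i : Fin m => P.aug (LambdaOps.lam ((i : ℕ) + 1) z))
      (KRR.bottPoly j m) := by
    have := MvPolynomial.comp_aeval (fun i : Fin m => LambdaOps.lam ((i : ℕ) + 1) z)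
      (P.aug.toIntAlgHom)
    exact DFunLike.congr_fun this (KRR.bottPoly j m)
  rw [h1]
  have h2 : ∀ i : ℕ, P.aug (LambdaOps.lam i z) =
      MvPolynomial.aeval (fun _ : Fin m => (1 : ℤ)) (MvPolynomial.esymm (Fin m) ℤ i) := by
    intro i
    have := congrArg (PowerSeries.coeff i) (map_aug_lamSeries P hK z)
    rw [PowerSeries.coeff_map, lamSeries, PowerSeries.coeff_mk, hz,
      PowerSeries.binomialSeries_coeff, Ring.choose_natCast, smul_eq_mul, mul_one] at this
    rw [this, aeval_esymmZ]
    simp
  simp only [h2]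
  rw [aeval_bottPoly (fun _ : Fin m => (1 : ℤ)) j]
  simp

end Bott

end Groth.Agent.Lib.Helper95.ElemProjK
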