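import Groth.Agent.Lib.Helper95.TruncModel

set_option autoImplicit false
open MvPolynomial Finset

namespace Groth.Agent.Lib.Helper95.EsymmRestrict

open Groth.Agent.Lib.Helper95.ChNewton

section Mset

variable {R : Type*} [CommRing R]

lemma mesymm_zero_cons (s : Multiset R) (n : ℕ) : ((0 : R) ::ₘ s).esymm n = s.esymm n := by
  rcases n with _ | n
  · simp [Multiset.esymm, Multiset.powersetCard_zero_left]
  · unfold Multiset.esymm
    rw [Multiset.powersetCard_cons, Multiset.map_add, Multiset.sum_add, Multiset.map_map,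
      add_eq_left]
    apply Multiset.sum_eq_zero
    intro x hx
    obtain ⟨t, _, rfl⟩ := Multiset.mem_map.mp hx
    simp

lemma mesymm_add_replicate_zero (s : Multiset R) (r n : ℕ) :
    (s + Multiset.replicate r (0 : R)).esymm n = s.esymm n := by
  induction r with
  | zero => simp
  | succ r ih => rw [Multiset.replicate_succ, Multiset.add_cons, mesymm_zero_cons, ih]

end Mset

variable (m r : ℕ)

noncomputable def piW : Fin (m + r) → MvPolynomial (Fin m) ℚ :=
  Fin.append (fun i : Fin m => (X i : MvPolynomial (Fin m) ℚ)) (fun _ : Fin r => 0)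

lemma piW_castAdd (i : Fin m) : piW m r (Fin.castAdd r i) = X i := by
  unfold piW
  rw [Fin.append_left]

lemma piW_natAdd (i : Fin r) : piW m r (Fin.natAdd m i) = 0 := by
  unfold piW
  rw [Fin.append_right]

theorem aeval_piW_esymm (k : ℕ) :
    aeval (piW m r) (esymm (Fin (m + r)) ℚ k) = esymm (Fin m) ℚ k := by
  rw [aeval_esymm_eq_multiset_esymm, Fin.univ_val_map]
  unfold piW
  rw [List.ofFn_fin_append, List.ofFn_const, ← Multiset.coe_add, ← Fin.univ_val_map,
    Multiset.coe_replicate, mesymm_add_replicate_zero, esymm_eq_multiset_esymm]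

lemma esymm_eq_zero_of_lt (k : ℕ) (hk : m < k) : esymm (Fin m) ℚ k = 0 := by
  unfold esymm
  rw [Finset.powersetCard_eq_empty.mpr (by rw [Finset.card_univ, Fintype.card_fin]; exact hk),
    Finset.sum_empty]

noncomputable def rho : MvPolynomial (Fin (m + r)) ℚ →ₐ[ℚ] MvPolynomial (Fin m) ℚ :=
  aeval (piW m r)

lemma aevalE_rho (p : MvPolynomial (Fin (m + r)) ℚ) :
    aeval (EE m) (rho m r p) = aeval (piW m r) (aeval (EE (m + r)) p) := by
  have h : ((aeval (EE m) : MvPolynomial (Fin m) ℚ →ₐ[ℚ] _).comp (rho m r)) =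
      (aeval (piW m r) : MvPolynomial (Fin (m + r)) ℚ →ₐ[ℚ] _).comp (aeval (EE (m + r))) := by
    apply MvPolynomial.algHom_ext
    intro i
    rw [AlgHom.comp_apply, AlgHom.comp_apply, aeval_X]
    unfold rho
    rw [aeval_X]
    unfold EE
    rw [aeval_piW_esymm]
    refine Fin.addCases (fun j => ?_) (fun j => ?_) i
    · rw [piW_castAdd, aeval_X]
      rfl
    · rw [piW_natAdd, map_zero, esymm_eq_zero_of_lt]
      simp
  exact DFunLike.congr_fun h p

lemma aeval_toddPoly (d : ℕ) :
    aeval (EE d) (KGr.toddPoly d) =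
      ∏ i : Fin d, Polynomial.aeval (X i : MvPolynomial (Fin d) ℚ) (KGr.toddTrunc d) := by
  have h := (esymmAlgEquiv (Fin d) ℚ (Fintype.card_fin d)).apply_symm_apply
    ⟨∏ i : Fin d, Polynomial.aeval (MvPolynomial.X i) (KGr.toddTrunc d),
      KGr.isSymmetric_prod_aeval d (KGr.toddTrunc d)⟩
  have h2 := congrArg Subtype.val h
  rw [esymmAlgEquiv_apply, esymmAlgHom_apply] at h2
  exact h2

lemma toddTrunc_aeval_zero {A : Type*} [CommRing A] [Algebra ℚ A] (d : ℕ) :
    Polynomial.aeval (0 : A) (KGr.toddTrunc d) = 1 := by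
  unfold KGr.toddTrunc
  rw [map_sum, Finset.sum_range_succ']
  simp

theorem aevalE_rho_toddPoly :
    aeval (EE m) (rho m r (KGr.toddPoly (m + r))) =
      ∏ i : Fin m, Polynomial.aeval (X i : MvPolynomial (Fin m) ℚ) (KGr.toddTrunc (m + r)) := by
  rw [aevalE_rho, aeval_toddPoly, map_prod, Fin.prod_univ_add]
  have h1 : ∀ i : Fin m, aeval (piW m r) (Polynomial.aeval
      (X (Fin.castAdd r i) : MvPolynomial (Fin (m + r)) ℚ) (KGr.toddTrunc (m + r))) =
      Polynomial.aeval (X i : MvPolynomial (Fin m) ℚ) (KGr.toddTrunc (m + r)) := by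
    intro i
    rw [← Polynomial.aeval_algHom_apply, aeval_X, piW_castAdd]
  have h2 : ∀ i : Fin r, aeval (piW m r) (Polynomial.aeval
      (X (Fin.natAdd m i) : MvPolynomial (Fin (m + r)) ℚ) (KGr.toddTrunc (m + r))) = 1 := by
    intro i
    rw [← Polynomial.aeval_algHom_apply, aeval_X, piW_natAdd, toddTrunc_aeval_zero]
  simp only [h1, h2, Finset.prod_const_one, mul_one]

theorem aeval_rho {G : Type*} [CommRing G] [Algebra ℚ G] (v : Fin (m + r) → G)
    (hv : ∀ i : Fin r, v (Fin.natAdd m i) = 0) (p : MvPolynomial (Fin (m + r)) ℚ) :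
    aeval (fun i : Fin m => v (Fin.castAdd r i)) (rho m r p) = aeval v p := by
  have h : ((aeval (fun i : Fin m => v (Fin.castAdd r i)) : MvPolynomial (Fin m) ℚ →ₐ[ℚ] G).comp
      (rho m r)) = aeval v := by
    apply MvPolynomial.algHom_ext
    intro i
    rw [AlgHom.comp_apply, aeval_X]
    unfold rho
    rw [aeval_X]
    refine Fin.addCases (fun j => ?_) (fun j => ?_) i
    · rw [piW_castAdd, aeval_X]
    · rw [piW_natAdd, map_zero, hv]
  exact DFunLike.congr_fun h p

end Groth.Agent.Lib.Helper95.EsymmRestrict
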