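import Mathlib

set_option autoImplicit false
set_option linter.unusedSectionVars false
universe u
open Polynomial

namespace Groth.Agent.Lib.Helper95.FlatFam

variable {k : Type u} [Field k] {A : Type u} [CommRing A] [IsDomain A] [Algebra k A]

noncomputable def fam (y f : A) (𝔟 : Ideal A) : Ideal A[X] :=
  Ideal.span {C f} ⊔ Ideal.span {C y - X} * Ideal.map C 𝔟

theorem mem_fam {y f : A} {𝔟 : Ideal A} {G : A[X]} :
    G ∈ fam y f 𝔟 ↔ ∃ q : A[X], ∃ b ∈ Ideal.map C 𝔟, G = C f * q + (C y - X) * b := by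
  unfold fam
  rw [Submodule.mem_sup]
  constructor
  · rintro ⟨u, hu, v, hv, rfl⟩
    rw [Ideal.mem_span_singleton'] at hu
    obtain ⟨q, rfl⟩ := hu
    rw [Ideal.mem_span_singleton_mul] at hv
    obtain ⟨b, hb, rfl⟩ := hv
    exact ⟨q, b, hb, by ring⟩
  · rintro ⟨q, b, hb, rfl⟩
    refine ⟨C f * q, ?_, (C y - X) * b, ?_, rfl⟩
    · exact Ideal.mul_mem_right _ _ (Ideal.subset_span rfl)
    · exact Ideal.mul_mem_mul (Ideal.subset_span rfl) hb

theorem Cf_mem_fam (y f : A) (𝔟 : Ideal A) : C f ∈ fam y f 𝔟 :=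
  Ideal.mem_sup_left (Ideal.subset_span rfl)

theorem mul_mem_fam {y f : A} {𝔟 : Ideal A} {b : A[X]} (hb : b ∈ Ideal.map C 𝔟) :
    (C y - X) * b ∈ fam y f 𝔟 :=
  Ideal.mem_sup_right (Ideal.mul_mem_mul (Ideal.subset_span rfl) hb)

theorem CyX_ne_zero (y : A) : (C y - X : A[X]) ≠ 0 := by
  intro h
  have h1 := congrArg (fun p => Polynomial.coeff p 1) h
  simp at h1

theorem colon_fam {y f : A} {𝔟 : Ideal A} (hf : f ∈ 𝔟) (hf0 : f ≠ 0) {h : A[X]}
    (hh : (C y - X) * h ∈ fam y f 𝔟) : h ∈ Ideal.map C 𝔟 := by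
  rw [mem_fam] at hh
  obtain ⟨q, b, hb, hq⟩ := hh
  have h1 : (C y - X) * (h - b) = C f * q := by rw [mul_sub, hq]; ring
  have h2 : q.eval y = 0 := by
    have := congrArg (Polynomial.eval y) h1
    simp only [eval_mul, eval_sub, eval_C, eval_X, sub_self, zero_mul] at this
    rcases mul_eq_zero.1 this.symm with h3 | h3
    · exact absurd h3 hf0
    · exact h3
  have h3 : (X - C y) ∣ q := Polynomial.dvd_iff_isRoot.2 h2
  obtain ⟨q', rfl⟩ := h3
  have h4 : (C y - X) * (h - b) = (C y - X) * (-(C f * q')) := by rw [h1]; ring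
  have h5 := mul_left_cancel₀ (CyX_ne_zero y) h4
  have h6 : h = b - C f * q' := by linear_combination h5
  rw [h6]
  exact Ideal.sub_mem _ hb (Ideal.mul_mem_right _ _ (Ideal.mem_map_of_mem C hf))

theorem torsionFree_mapC (𝔟 : Ideal A) {p : k[X]} (hp : p ≠ 0) {h : A[X]}
    (hh : p.map (algebraMap k A) * h ∈ Ideal.map C 𝔟) : h ∈ Ideal.map C 𝔟 := by
  have hker : ∀ g : A[X], g ∈ Ideal.map C 𝔟 ↔ g.map (Ideal.Quotient.mk 𝔟) = 0 := by
    intro g
    rw [Ideal.mem_map_C_iff]
    constructor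
    · intro hg
      ext n
      rw [coeff_map, coeff_zero, Ideal.Quotient.eq_zero_iff_mem]
      exact hg n
    · intro hg n
      have := congrArg (fun q => Polynomial.coeff q n) hg
      simpa [coeff_map, Ideal.Quotient.eq_zero_iff_mem] using this
  rw [hker] at hh ⊢
  rw [Polynomial.map_mul, Polynomial.map_map] at hh
  set ψ : k →+* A ⧸ 𝔟 := (Ideal.Quotient.mk 𝔟).comp (algebraMap k A) with hψ
  have hlc : p.leadingCoeff ≠ 0 := leadingCoeff_ne_zero.2 hp
  have hmonic : (p * C (p.leadingCoeff⁻¹)).Monic := monic_mul_leadingCoeff_inv hp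
  have hmonic' : ((p * C (p.leadingCoeff⁻¹)).map ψ).Monic := hmonic.map ψ
  have h0 : (p * C (p.leadingCoeff⁻¹)).map ψ * h.map (Ideal.Quotient.mk 𝔟) = 0 := by
    rw [Polynomial.map_mul, mul_right_comm, hh, zero_mul]
  exact (hmonic'.mul_right_eq_zero_iff).1 h0

theorem torsionFree_fam {y f : A} {𝔟 : Ideal A} (hf : f ∈ 𝔟) (hf0 : f ≠ 0)
    (h3 : ∀ p : k[X], p ≠ 0 → ∀ g : A, f ∣ (aeval y p) * g → f ∣ g)
    {p : k[X]} (hp : p ≠ 0) {G : A[X]}
    (hG : p.map (algebraMap k A) * G ∈ fam y f 𝔟) : G ∈ fam y f 𝔟 := by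
  have hG' := hG
  rw [mem_fam] at hG'
  obtain ⟨q, b, hb, hq⟩ := hG'
  have h1 : aeval y p * G.eval y = f * q.eval y := by
    have := congrArg (Polynomial.eval y) hq
    simpa [eval_mul, eval_add, eval_sub, eval_C, eval_X, eval_map_algebraMap] using this
  have h2 : f ∣ G.eval y := h3 p hp _ ⟨_, h1⟩
  obtain ⟨g₁, hg₁⟩ := h2
  have h4 : (G - C (f * g₁)).eval y = 0 := by simp [hg₁]
  obtain ⟨h', hh'⟩ := Polynomial.dvd_iff_isRoot.2 h4
  have h5 : G = C f * C g₁ + (C y - X) * (-h') := by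
    have : G = C (f * g₁) + (X - C y) * h' := by rw [← hh']; ring
    rw [this, C_mul]; ring
  have h6 : (C y - X) * (p.map (algebraMap k A) * (-h')) ∈ fam y f 𝔟 := by
    have : (C y - X) * (p.map (algebraMap k A) * (-h'))
        = p.map (algebraMap k A) * G - C f * (p.map (algebraMap k A) * C g₁) := by
      rw [h5]; ring
    rw [this]
    exact Ideal.sub_mem _ hG (Ideal.mul_mem_right _ _ (Cf_mem_fam y f 𝔟))
  have h7 := colon_fam hf hf0 h6
  have h8 := torsionFree_mapC 𝔟 hp h7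
  rw [h5]
  exact Ideal.add_mem _ (Ideal.mul_mem_right _ _ (Cf_mem_fam y f 𝔟)) (mul_mem_fam h8)

theorem map_eval_fam (y f : A) (𝔟 : Ideal A) (a : A) :
    Ideal.map (Polynomial.evalRingHom a) (fam y f 𝔟)
      = Ideal.span {f} ⊔ Ideal.span {y - a} * 𝔟 := by
  unfold fam
  rw [Ideal.map_sup, Ideal.map_mul, Ideal.map_span, Ideal.map_span, Ideal.map_map]
  have h1 : (Polynomial.evalRingHom a).comp (C : A →+* A[X]) = RingHom.id A := by
    ext x; simp
  rw [h1, Ideal.map_id]
  simp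


theorem flat_fam {y f : A} {𝔟 : Ideal A} (hf : f ∈ 𝔟) (hf0 : f ≠ 0)
    (h3 : ∀ p : k[X], p ≠ 0 → ∀ g : A, f ∣ (aeval y p) * g → f ∣ g) :
    RingHom.Flat (R := k[X]) (S := A[X] ⧸ fam y f 𝔟)
      ((Ideal.Quotient.mk (fam y f 𝔟)).comp (Polynomial.mapRingHom (algebraMap k A))) := by
  unfold RingHom.Flat
  let _ : Algebra k[X] (A[X] ⧸ fam y f 𝔟) :=
    ((Ideal.Quotient.mk (fam y f 𝔟)).comp (Polynomial.mapRingHom (algebraMap k A))).toAlgebra
  rw [Module.Flat.flat_iff_torsion_eq_bot_of_isBezout, eq_bot_iff]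
  intro m hm
  rw [Submodule.mem_torsion_iff] at hm
  obtain ⟨⟨r, hr⟩, hrm⟩ := hm
  obtain ⟨G, rfl⟩ := Ideal.Quotient.mk_surjective m
  have hr0 : r ≠ 0 := nonZeroDivisors.ne_zero hr
  have h1 : (r.map (algebraMap k A)) * G ∈ fam y f 𝔟 := by
    rw [← Ideal.Quotient.eq_zero_iff_mem, map_mul]
    exact hrm
  have h2 := torsionFree_fam hf hf0 h3 hr0 h1
  rw [Submodule.mem_bot, Ideal.Quotient.eq_zero_iff_mem]
  exact h2


theorem finite_fam {x y f : A} {𝔟 : Ideal A} (hgen : Algebra.adjoin k ({x, y} : Set A) = ⊤)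
    {N : ℕ} (hyN : y ^ N ∈ 𝔟) {P : k[X][X]} (hP : P.Monic)
    (hfP : f = P.eval₂ (aeval y : k[X] →ₐ[k] A).toRingHom x) :
    RingHom.Finite (A := k[X]) (B := A[X] ⧸ fam y f 𝔟)
      ((Ideal.Quotient.mk (fam y f 𝔟)).comp (Polynomial.mapRingHom (algebraMap k A))) := by
  unfold RingHom.Finite
  let _ : Algebra k[X] (A[X] ⧸ fam y f 𝔟) :=
    ((Ideal.Quotient.mk (fam y f 𝔟)).comp (Polynomial.mapRingHom (algebraMap k A))).toAlgebra
  set Q := A[X] ⧸ fam y f 𝔟 with hQ
  set mk := Ideal.Quotient.mk (fam y f 𝔟) with hmk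
  have halg : ∀ r : k[X], algebraMap k[X] Q r = mk (r.map (algebraMap k A)) := fun r => rfl
  set yb : Q := mk (C y) with hyb
  set xb : Q := mk (C x) with hxb
  have hyint : IsIntegral k[X] yb := by
    refine ⟨(X - C X) * X ^ N, (monic_X_sub_C X).mul (monic_X_pow N), ?_⟩
    rw [eval₂_mul, eval₂_sub, eval₂_X, eval₂_C, eval₂_pow, eval₂_X, halg, Polynomial.map_X, hyb,
      ← map_sub, ← map_pow, ← map_mul, ← C_pow, Ideal.Quotient.eq_zero_iff_mem]
    exact mul_mem_fam (Ideal.mem_map_of_mem C hyN)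
  set S := integralClosure k[X] Q with hS
  set θ : k[X] →+* Q := (mk.comp C).comp (aeval y : k[X] →ₐ[k] A).toRingHom with hθ
  have hθS : ∀ c : k[X], θ c ∈ S := by
    intro c
    induction c using Polynomial.induction_on with
    | C a =>
      have : θ (C a) = algebraMap k[X] Q (C a) := by
        simp [hθ, halg]
      rw [this]
      exact S.algebraMap_mem _
    | add p q hp hq => rw [map_add]; exact S.add_mem hp hq
    | monomial n a h =>
      rw [pow_succ, ← mul_assoc, map_mul]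
      refine S.mul_mem h ?_
      have : θ X = yb := by simp [hθ, hyb]
      rw [this]
      exact hyint
  have hxS : IsIntegral S xb := by
    let θS : k[X] →+* S := θ.codRestrict S hθS
    refine ⟨P.map θS, hP.map θS, ?_⟩
    rw [eval₂_map]
    have h1 : (algebraMap S Q).comp θS = θ := by
      ext c <;> rfl
    rw [h1]
    have h2 : mk (C f) = 0 := by
      rw [Ideal.Quotient.eq_zero_iff_mem]; exact Cf_mem_fam y f 𝔟
    have h3 := Polynomial.hom_eval₂ P (aeval y : k[X] →ₐ[k] A).toRingHom (mk.comp C) x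
    rw [← hfP] at h3
    rw [RingHom.comp_apply, h2] at h3
    exact h3.symm
  have hxint : IsIntegral k[X] xb := isIntegral_trans (A := S) xb hxS
  have hadj : Algebra.adjoin k[X] ({xb, yb} : Set Q) = ⊤ := by
    rw [eq_top_iff]
    rintro m -
    obtain ⟨G, rfl⟩ := Ideal.Quotient.mk_surjective m
    have hC : ∀ a : A, mk (C a) ∈ Algebra.adjoin k[X] ({xb, yb} : Set Q) := by
      intro a
      have ha : a ∈ Algebra.adjoin k ({x, y} : Set A) := by rw [hgen]; trivial
      induction ha using Algebra.adjoin_induction with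
      | mem z hz =>
        rcases hz with rfl | rfl
        · exact Algebra.subset_adjoin (by simp [hxb])
        · exact Algebra.subset_adjoin (by simp [hyb])
      | algebraMap c =>
        have : mk (C (algebraMap k A c)) = algebraMap k[X] Q (C c) := by
          simp [halg]
        rw [this]
        exact Subalgebra.algebraMap_mem _ _
      | add p q _ _ hp hq => rw [C_add, map_add]; exact Subalgebra.add_mem _ hp hq
      | mul p q _ _ hp hq => rw [C_mul, map_mul]; exact Subalgebra.mul_mem _ hp hq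
    have hX : mk X ∈ Algebra.adjoin k[X] ({xb, yb} : Set Q) := by
      have : mk X = algebraMap k[X] Q X := by simp [halg]
      rw [this]
      exact Subalgebra.algebraMap_mem _ _
    induction G using Polynomial.induction_on with
    | C a => exact hC a
    | add p q hp hq => rw [map_add]; exact Subalgebra.add_mem _ hp hq
    | monomial n a h =>
      rw [pow_succ, ← mul_assoc, map_mul]
      exact Subalgebra.mul_mem _ h hX
  have hfg := fg_adjoin_of_finite (R := k[X]) (s := ({xb, yb} : Set Q)) (by simp)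
    (by
      rintro z hz
      rcases hz with rfl | rfl
      · exact hxint
      · exact hyint)
  rw [hadj] at hfg
  exact ⟨by simpa using hfg⟩

end Groth.Agent.Lib.Helper95.FlatFam
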