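import Mathlib

set_option autoImplicit false
set_option linter.unusedSectionVars false
universe u
open Polynomial

namespace Groth.Agent.Lib.Helper95.FlatFam

variable {k : Type u} [Field k]

noncomputable def rho : k[X][X] →+* k[X] := Polynomial.mapRingHom (Polynomial.evalRingHom (0 : k))
noncomputable def iot : k[X] →+* k[X][X] := Polynomial.mapRingHom (C : k →+* k[X])

theorem spanCX_eq : Ideal.span {(C X : k[X][X])} = Ideal.map C (Ideal.span {(X : k[X])}) := by
  rw [Ideal.map_span, Set.image_singleton]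

theorem sub_iot_rho_mem (h : k[X][X]) : h - iot (rho h) ∈ Ideal.span {(C X : k[X][X])} := by
  rw [spanCX_eq, Ideal.mem_map_C_iff]
  intro n
  rw [Ideal.mem_span_singleton, Polynomial.X_dvd_iff]
  simp [iot, rho, coeff_map, coeff_zero_eq_eval_zero]

theorem rho_CX : rho (C X : k[X][X]) = 0 := by simp [rho]

theorem rho_X : rho (X : k[X][X]) = X := by simp [rho]

theorem iot_X : iot (X : k[X]) = X := by simp [iot]

theorem exists_monic (𝔞₂ : Ideal k[X][X]) (N : ℕ) (hx : (X : k[X][X]) ^ N ∈ 𝔞₂)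
    (hy : (C X : k[X][X]) ^ N ∈ 𝔞₂) (hne : 𝔞₂ ≠ ⊤) :
    ∃ m : ℕ, 1 ≤ m ∧ ∃ F : k[X][X], F.Monic ∧ F.natDegree = m ∧ F ∈ 𝔞₂ ∧
      𝔞₂ ≤ Ideal.span {F} ⊔ Ideal.span {(C X : k[X][X])} := by
  classical
  set J' : Ideal k[X][X] := 𝔞₂ ⊔ Ideal.span {(C X : k[X][X])} with hJ'
  have hex : ∃ j : ℕ, (X : k[X][X]) ^ j ∈ J' := ⟨N, Ideal.mem_sup_left hx⟩
  set m := Nat.find hex with hm
  have hmJ : (X : k[X][X]) ^ m ∈ J' := Nat.find_spec hex
  have hmin : ∀ j, (X : k[X][X]) ^ j ∈ J' → m ≤ j := fun j hj => Nat.find_min' hex hj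
  have hm1 : 1 ≤ m := by
    by_contra hlt
    have hm0 : m = 0 := by omega
    rw [hm0, pow_zero, hJ', Submodule.mem_sup] at hmJ
    obtain ⟨a, ha, b, hb, hab⟩ := hmJ
    rw [Ideal.mem_span_singleton'] at hb
    obtain ⟨v, rfl⟩ := hb
    apply hne
    rw [Ideal.eq_top_iff_one]
    have h1 : (1 : k[X][X]) - v * C X ∈ 𝔞₂ := by
      have : (1 : k[X][X]) - v * C X = a := by rw [← hab]; ring
      rw [this]; exact ha
    have h2 : (1 : k[X][X]) - v * C X ∣ 1 ^ N - (v * C X) ^ N := sub_dvd_pow_sub_pow _ _ N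
    have h3 : (1 : k[X][X]) ^ N - (v * C X) ^ N ∈ 𝔞₂ := by
      obtain ⟨w, hw⟩ := h2
      rw [hw]; exact Ideal.mul_mem_right _ _ h1
    have h4 : (v * C X) ^ N ∈ 𝔞₂ := by
      rw [mul_pow]; exact Ideal.mul_mem_left _ _ hy
    have : (1 : k[X][X]) = (1 ^ N - (v * C X) ^ N) + (v * C X) ^ N := by ring
    rw [this]
    exact Ideal.add_mem _ h3 h4
  have hL2 : 𝔞₂ ≤ Ideal.span {(X : k[X][X]) ^ m} ⊔ Ideal.span {(C X : k[X][X])} := by
    intro h hh
    have hdec : h = iot (rho h) + (h - iot (rho h)) := by ring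
    rw [hdec]
    refine Ideal.add_mem _ (Ideal.mem_sup_left ?_) (Ideal.mem_sup_right (sub_iot_rho_mem h))
    set Jk : Ideal k[X] := Ideal.comap iot J' with hJk
    have hrJ : rho h ∈ Jk := by
      rw [hJk, Ideal.mem_comap]
      have : iot (rho h) = h - (h - iot (rho h)) := by ring
      rw [this]
      exact Ideal.sub_mem _ (Ideal.mem_sup_left hh) (Ideal.mem_sup_right (sub_iot_rho_mem h))
    have hXN : (X : k[X]) ^ N ∈ Jk := by
      rw [hJk, Ideal.mem_comap, map_pow, iot_X]; exact Ideal.mem_sup_left hx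
    have hprinc : Jk = Ideal.span {Submodule.IsPrincipal.generator Jk} :=
      (Ideal.span_singleton_generator Jk).symm
    set g₀ := Submodule.IsPrincipal.generator Jk with hg₀
    have hdvd : g₀ ∣ (X : k[X]) ^ N := by
      rw [← Ideal.mem_span_singleton, ← hprinc]; exact hXN
    obtain ⟨j, hjN, hassoc⟩ := (dvd_prime_pow Polynomial.prime_X N).1 hdvd
    have hJk' : Jk = Ideal.span {(X : k[X]) ^ j} := by
      rw [hprinc, Ideal.span_singleton_eq_span_singleton]; exact hassoc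
    have hmj : m ≤ j := by
      apply hmin
      have : (X : k[X]) ^ j ∈ Jk := by rw [hJk']; exact Ideal.subset_span rfl
      rw [hJk, Ideal.mem_comap, map_pow, iot_X] at this
      exact this
    have hjm : j ≤ m := by
      have : (X : k[X]) ^ m ∈ Jk := by
        rw [hJk, Ideal.mem_comap, map_pow, iot_X]; exact hmJ
      rw [hJk', Ideal.mem_span_singleton] at this
      exact (pow_dvd_pow_iff Polynomial.X_ne_zero Polynomial.not_isUnit_X).1 this
    have hjeq : j = m := le_antisymm hjm hmj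
    rw [hJk', hjeq, Ideal.mem_span_singleton] at hrJ
    obtain ⟨u, hu⟩ := hrJ
    rw [hu, map_mul, map_pow, iot_X]
    exact Ideal.mul_mem_right _ _ (Ideal.subset_span rfl)
  obtain ⟨a₁, ha₁, b₁, hb₁, hab₁⟩ := Submodule.mem_sup.1 hmJ
  rw [Ideal.mem_span_singleton'] at hb₁
  obtain ⟨s, rfl⟩ := hb₁
  have hL3 : ∀ j : ℕ, ∀ h : k[X][X], ∃ w : k[X][X], w.degree < m ∧ ∃ a ∈ 𝔞₂, ∃ r : k[X][X],
      h = w + a + (C X) ^ j * r := by
    intro j
    induction j with
    | zero =>
      intro h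
      refine ⟨0, ?_, 0, Ideal.zero_mem _, h, by simp⟩
      rw [degree_zero]; exact WithBot.bot_lt_coe _
    | succ j ih =>
      intro h
      obtain ⟨w, hw, a, ha, r, hr⟩ := ih h
      have hmon : ((X : k[X][X]) ^ m).Monic := monic_X_pow m
      have hdiv := Polynomial.modByMonic_add_div r ((X : k[X][X]) ^ m)
      have hdeg : (r %ₘ (X : k[X][X]) ^ m).degree < m := by
        have := Polynomial.degree_modByMonic_lt r hmon
        rwa [degree_X_pow] at this
      refine ⟨w + (C X) ^ j * (r %ₘ (X : k[X][X]) ^ m), ?_,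
        a + (C X) ^ j * (a₁ * (r /ₘ (X : k[X][X]) ^ m)), ?_, s * (r /ₘ (X : k[X][X]) ^ m), ?_⟩
      · refine lt_of_le_of_lt (degree_add_le _ _) (max_lt hw ?_)
        rw [← C_pow, C_mul']
        exact lt_of_le_of_lt (degree_smul_le _ _) hdeg
      · exact Ideal.add_mem _ ha (Ideal.mul_mem_left _ _ (Ideal.mul_mem_right _ _ ha₁))
      · linear_combination hr - (C X) ^ j * hdiv - (C X) ^ j * (r /ₘ (X : k[X][X]) ^ m) * hab₁
  obtain ⟨w, hw, a, ha, r, hr⟩ := hL3 N ((X : k[X][X]) ^ m)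
  set F : k[X][X] := X ^ m - w with hF
  have hFmon : F.Monic := monic_X_pow_sub hw
  have hFdeg : F.natDegree = m := by
    have h1 : F.degree = m := by
      rw [hF, degree_sub_eq_left_of_degree_lt] <;> rw [degree_X_pow]
      exact hw
    exact natDegree_eq_of_degree_eq_some h1
  have hFmem : F ∈ 𝔞₂ := by
    have : F = a + (C X) ^ N * r := by rw [hF, hr]; ring
    rw [this]
    exact Ideal.add_mem _ ha (Ideal.mul_mem_right _ _ hy)
  refine ⟨m, hm1, F, hFmon, hFdeg, hFmem, ?_⟩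
  have hw' : w ∈ Ideal.span {(C X : k[X][X])} := by
    have h1 : w ∈ Ideal.span {(X : k[X][X]) ^ m} ⊔ Ideal.span {(C X : k[X][X])} := by
      have : w = X ^ m - F := by rw [hF]; ring
      rw [this]
      exact Ideal.sub_mem _ (Ideal.mem_sup_left (Ideal.subset_span rfl)) (hL2 hFmem)
    obtain ⟨u, hu, v, hv, huv⟩ := Submodule.mem_sup.1 h1
    rw [Ideal.mem_span_singleton'] at hu hv
    obtain ⟨u', rfl⟩ := hu
    obtain ⟨v', rfl⟩ := hv
    have h2 : rho w = rho u' * X ^ m := by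
      rw [← huv, map_add, map_mul, map_mul, map_pow, rho_X, rho_CX, mul_zero, add_zero]
    have h3 : (rho w).degree < m := lt_of_le_of_lt (degree_map_le) hw
    have h4 : rho w = 0 := by
      by_contra hne0
      have h5 : ((X : k[X]) ^ m).degree ≤ (rho w).degree :=
        Polynomial.degree_le_of_dvd ⟨rho u', by rw [h2]; ring⟩ hne0
      rw [degree_X_pow] at h5
      exact absurd (lt_of_le_of_lt h5 h3) (lt_irrefl _)
    have h6 := sub_iot_rho_mem w
    rwa [h4, map_zero, sub_zero] at h6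
  have hXm : (X : k[X][X]) ^ m ∈ Ideal.span {F} ⊔ Ideal.span {(C X : k[X][X])} := by
    have : (X : k[X][X]) ^ m = F + w := by rw [hF]; ring
    rw [this]
    exact Ideal.add_mem _ (Ideal.mem_sup_left (Ideal.subset_span rfl)) (Ideal.mem_sup_right hw')
  refine le_trans hL2 (sup_le ?_ le_sup_right)
  rw [Ideal.span_singleton_le_iff_mem]
  exact hXm

theorem monic_dvd_cancel {F : k[X][X]} (hF : F.Monic) {p : k[X]} (hp : p ≠ 0) {g : k[X][X]}
    (h : F ∣ C p * g) : F ∣ g := by
  rw [← Polynomial.modByMonic_eq_zero_iff_dvd hF]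
  have hdiv := Polynomial.modByMonic_add_div g F
  have h1 : F ∣ C p * (g %ₘ F) := by
    have : C p * (g %ₘ F) = C p * g - F * (C p * (g /ₘ F)) := by
      linear_combination (C p : k[X][X]) * hdiv
    rw [this]
    exact dvd_sub h (dvd_mul_right _ _)
  by_contra hne
  have hCp : (C p : k[X][X]) ≠ 0 := by simpa using hp
  have h2 : C p * (g %ₘ F) ≠ 0 := mul_ne_zero hCp hne
  have h3 := Polynomial.degree_le_of_dvd h1 h2
  have h4 : (C p * (g %ₘ F)).degree < F.degree :=
    lt_of_le_of_lt (by rw [C_mul']; exact degree_smul_le _ _) (Polynomial.degree_modByMonic_lt g hF)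
  exact absurd (lt_of_le_of_lt h3 h4) (lt_irrefl _)

end Groth.Agent.Lib.Helper95.FlatFam
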