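import Mathlib
import Groth.Agent.Lib.Helper95.FlatFam
import Groth.Agent.Lib.Helper95.FlatFam2

set_option autoImplicit false
set_option linter.unusedSectionVars false
universe u
open Polynomial

namespace Groth.Agent.Lib.Helper95.FlatFam

variable {k : Type u} [Field k]

theorem sub_C_eval_mem (p : Fin 2 → k) (g : MvPolynomial (Fin 2) k) :
    g - MvPolynomial.C (MvPolynomial.eval p g) ∈
      Ideal.span (Set.range (fun l : Fin 2 => MvPolynomial.X l - MvPolynomial.C (p l))) := by
  induction g using MvPolynomial.induction_on with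
  | C a => simp
  | add g₁ g₂ h₁ h₂ =>
    have : g₁ + g₂ - MvPolynomial.C (MvPolynomial.eval p (g₁ + g₂))
        = (g₁ - MvPolynomial.C (MvPolynomial.eval p g₁))
          + (g₂ - MvPolynomial.C (MvPolynomial.eval p g₂)) := by
      rw [map_add, map_add]; ring
    rw [this]
    exact Ideal.add_mem _ h₁ h₂
  | mul_X g l h =>
    have : g * MvPolynomial.X l - MvPolynomial.C (MvPolynomial.eval p (g * MvPolynomial.X l))
        = (g - MvPolynomial.C (MvPolynomial.eval p g)) * MvPolynomial.X l
          + MvPolynomial.C (MvPolynomial.eval p g) * (MvPolynomial.X l - MvPolynomial.C (p l)) := by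
      rw [map_mul, MvPolynomial.eval_X, map_mul]; ring
    rw [this]
    exact Ideal.add_mem _ (Ideal.mul_mem_right _ _ h)
      (Ideal.mul_mem_left _ _ (Ideal.subset_span ⟨l, rfl⟩))

theorem range_zero_eq :
    Set.range (fun l : Fin 2 => (MvPolynomial.X l : MvPolynomial (Fin 2) k)
      - MvPolynomial.C ((0 : Fin 2 → k) l))
      = {MvPolynomial.X 0, MvPolynomial.X 1} := by
  ext z
  simp only [Set.mem_range, Pi.zero_apply, map_zero, sub_zero, Set.mem_insert_iff,
    Set.mem_singleton_iff]
  constructor
  · rintro ⟨l, rfl⟩
    fin_cases l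
    · left; rfl
    · right; rfl
  · rintro (rfl | rfl)
    · exact ⟨0, rfl⟩
    · exact ⟨1, rfl⟩

theorem origin_eq_ker :
    Ideal.span {(MvPolynomial.X 0 : MvPolynomial (Fin 2) k), MvPolynomial.X 1}
      = RingHom.ker (MvPolynomial.eval (0 : Fin 2 → k)) := by
  apply le_antisymm
  · rw [Ideal.span_le]
    rintro z (rfl | rfl) <;> simp [RingHom.mem_ker]
  · intro g hg
    rw [RingHom.mem_ker] at hg
    have := sub_C_eval_mem (0 : Fin 2 → k) g
    rw [hg, map_zero, sub_zero, range_zero_eq] at this
    exact this

theorem origin_isMaximal :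
    (Ideal.span {(MvPolynomial.X 0 : MvPolynomial (Fin 2) k), MvPolynomial.X 1}).IsMaximal := by
  rw [origin_eq_ker]
  apply RingHom.ker_isMaximal_of_surjective
  intro a
  exact ⟨MvPolynomial.C a, by simp⟩

noncomputable def toR (i : Fin 2) : MvPolynomial (Fin 2) k →ₐ[k] k[X][X] :=
  MvPolynomial.aeval (fun l => if l = i then (X : k[X][X]) else C X)

noncomputable def fromR (i j : Fin 2) : k[X][X] →+* MvPolynomial (Fin 2) k :=
  Polynomial.eval₂RingHom
    (Polynomial.aeval (MvPolynomial.X j : MvPolynomial (Fin 2) k) : k[X] →ₐ[k] _).toRingHom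
    (MvPolynomial.X i)

theorem fin2_cases {i j : Fin 2} (hij : i ≠ j) (l : Fin 2) : l = i ∨ l = j := by
  fin_cases i <;> fin_cases j <;> fin_cases l <;> simp_all

theorem fromR_toR {i j : Fin 2} (hij : i ≠ j) (g : MvPolynomial (Fin 2) k) :
    fromR i j (toR i g) = g := by
  have h : (fromR (k := k) i j).comp (toR i).toRingHom = RingHom.id _ := by
    apply MvPolynomial.ringHom_ext
    · intro a
      simp [fromR, toR]
    · intro l
      rcases fin2_cases hij l with rfl | rfl
      · simp [fromR, toR]
      · have : ¬ (l = i) := fun h => hij h.symm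
        simp [fromR, toR, this]
  exact RingHom.congr_fun h g

theorem toR_fromR {i j : Fin 2} (hij : i ≠ j) (F : k[X][X]) :
    toR i (fromR i j F) = F := by
  have h : (toR (k := k) i).toRingHom.comp (fromR i j) = RingHom.id _ := by
    apply Polynomial.ringHom_ext
    · intro p
      have h2 : ((toR (k := k) i).toRingHom.comp (fromR i j)).comp (C : k[X] →+* k[X][X])
          = (RingHom.id _).comp C := by
        apply Polynomial.ringHom_ext
        · intro a
          simp [fromR, toR]
        · have : ¬ (j = i) := fun h => hij h.symm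
          simp [fromR, toR, this]
      exact RingHom.congr_fun h2 p
    · simp [fromR, toR]
  exact RingHom.congr_fun h F

theorem toR_aeval {i j : Fin 2} (hij : i ≠ j) (p : k[X]) :
    toR i (Polynomial.aeval (MvPolynomial.X j : MvPolynomial (Fin 2) k) p) = C p := by
  have := toR_fromR hij (C p : k[X][X])
  simpa [fromR] using this

theorem eval_fromR (i j : Fin 2) (hij : i ≠ j) (x₀ c : k) (F : k[X][X]) :
    MvPolynomial.eval (fun l => if l = i then x₀ else c) (fromR i j F)
      = (F.map (Polynomial.evalRingHom c)).eval x₀ := by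
  have h : (MvPolynomial.eval (fun l : Fin 2 => if l = i then x₀ else c)).comp (fromR i j)
      = (Polynomial.evalRingHom x₀).comp (Polynomial.mapRingHom (Polynomial.evalRingHom c)) := by
    apply Polynomial.ringHom_ext
    · intro p
      have h2 : ((MvPolynomial.eval (fun l : Fin 2 => if l = i then x₀ else c)).comp
          (fromR i j)).comp (C : k[X] →+* k[X][X])
          = ((Polynomial.evalRingHom x₀).comp
            (Polynomial.mapRingHom (Polynomial.evalRingHom c))).comp C := by
        apply Polynomial.ringHom_ext
        · intro a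
          simp [fromR]
        · have : ¬ (j = i) := fun h => hij h.symm
          simp [fromR, this]
      exact RingHom.congr_fun h2 p
    · simp [fromR]
  exact RingHom.congr_fun h F

end Groth.Agent.Lib.Helper95.FlatFam
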