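import Mathlib
import Groth.Agent.Lib.Helper95.FlatFam
import Groth.Agent.Lib.Helper95.FlatFam2
import Groth.Agent.Lib.Helper95.FlatFam3

set_option autoImplicit false
set_option linter.unusedSectionVars false
universe u
open Polynomial

namespace Groth.Agent.Lib.Helper95.FlatFam

variable {k : Type u} [Field k]

def colonY {A : Type u} [CommRing A] (𝔞 : Ideal A) (y : A) : Ideal A where
  carrier := {b | y * b ∈ 𝔞}
  add_mem' := by
    intro a b ha hb
    simp only [Set.mem_ofPred_eq] at ha hb ⊢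
    rw [mul_add]; exact Ideal.add_mem _ ha hb
  zero_mem' := by simp
  smul_mem' := by
    intro c b hb
    simp only [Set.mem_ofPred_eq, smul_eq_mul] at hb ⊢
    rw [mul_left_comm]; exact Ideal.mul_mem_left _ _ hb

theorem mem_colonY {A : Type u} [CommRing A] {𝔞 : Ideal A} {y b : A} :
    b ∈ colonY 𝔞 y ↔ y * b ∈ 𝔞 := Iff.rfl

set_option maxHeartbeats 1600000 in
theorem main_ij [IsAlgClosed k] (i j : Fin 2) (hij : i ≠ j)
    (𝔞 : Ideal (MvPolynomial (Fin 2) k))
    (hsupp : 𝔞.radical = Ideal.span {MvPolynomial.X 0, MvPolynomial.X 1})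
    (hy : (MvPolynomial.X j : MvPolynomial (Fin 2) k) ∉ 𝔞) :
    ∃ 𝔞' : Ideal (MvPolynomial (Fin 2) k)[X],
      RingHom.Flat (R := k[X]) (S := (MvPolynomial (Fin 2) k)[X] ⧸ 𝔞')
        ((Ideal.Quotient.mk 𝔞').comp (Polynomial.mapRingHom (algebraMap k (MvPolynomial (Fin 2) k)))) ∧
      RingHom.Finite (A := k[X]) (B := (MvPolynomial (Fin 2) k)[X] ⧸ 𝔞')
        ((Ideal.Quotient.mk 𝔞').comp (Polynomial.mapRingHom (algebraMap k (MvPolynomial (Fin 2) k)))) ∧
      Ideal.map (Polynomial.evalRingHom (0 : MvPolynomial (Fin 2) k)) 𝔞' = 𝔞 ∧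
      ∀ c : k, c ≠ 0 →
        Ideal.map (Polynomial.evalRingHom (MvPolynomial.C c)) 𝔞' ≤ Ideal.span {MvPolynomial.X 0, MvPolynomial.X 1} ∧
        ∃ p : Fin 2 → k, p ≠ 0 ∧
          Ideal.map (Polynomial.evalRingHom (MvPolynomial.C c)) 𝔞' ≤
            Ideal.span (Set.range (fun i : Fin 2 => MvPolynomial.X i - MvPolynomial.C (p i))) := by
  classical
  set M₀ : Ideal (MvPolynomial (Fin 2) k) := Ideal.span {MvPolynomial.X 0, MvPolynomial.X 1} with hM₀
  have hXmem : ∀ l : Fin 2, (MvPolynomial.X l : MvPolynomial (Fin 2) k) ∈ M₀ := by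
    intro l
    fin_cases l
    · exact Ideal.subset_span (by simp)
    · exact Ideal.subset_span (by simp)
  have hpow : ∀ l : Fin 2, ∃ n : ℕ, (MvPolynomial.X l : MvPolynomial (Fin 2) k) ^ n ∈ 𝔞 := by
    intro l
    have := hXmem l
    rw [← hsupp] at this
    exact this
  obtain ⟨n₁, hn₁⟩ := hpow i
  obtain ⟨n₂, hn₂⟩ := hpow j
  set N := n₁ + n₂ with hN
  have hxN : (MvPolynomial.X i : MvPolynomial (Fin 2) k) ^ N ∈ 𝔞 :=
    𝔞.pow_mem_of_pow_mem hn₁ (by omega)
  have hyN : (MvPolynomial.X j : MvPolynomial (Fin 2) k) ^ N ∈ 𝔞 :=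
    𝔞.pow_mem_of_pow_mem hn₂ (by omega)
  obtain ⟨x, hx⟩ : ∃ x : MvPolynomial (Fin 2) k, x = MvPolynomial.X i := ⟨_, rfl⟩
  obtain ⟨y, hy'⟩ : ∃ y : MvPolynomial (Fin 2) k, y = MvPolynomial.X j := ⟨_, rfl⟩
  rw [← hx] at hxN
  rw [← hy'] at hyN hy
  obtain ⟨𝔞₂, h𝔞₂⟩ : ∃ 𝔞₂ : Ideal k[X][X], 𝔞₂ = Ideal.comap (fromR i j) 𝔞 := ⟨_, rfl⟩
  have hfromX : fromR (k := k) i j X = x := by simp [fromR, hx]
  have hfromCX : fromR (k := k) i j (C X) = y := by simp [fromR, hy']
  have h1 : (X : k[X][X]) ^ N ∈ 𝔞₂ := by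
    rw [h𝔞₂, Ideal.mem_comap, map_pow, hfromX]; exact hxN
  have h2 : (C X : k[X][X]) ^ N ∈ 𝔞₂ := by
    rw [h𝔞₂, Ideal.mem_comap, map_pow, hfromCX]; exact hyN
  have h3 : 𝔞₂ ≠ ⊤ := by
    intro htop
    have : (1 : k[X][X]) ∈ 𝔞₂ := by rw [htop]; trivial
    rw [h𝔞₂, Ideal.mem_comap, map_one] at this
    exact hy ((Ideal.eq_top_iff_one _).2 this ▸ Submodule.mem_top)
  obtain ⟨m, hm1, F, hFmon, hFdeg, hFmem, hle⟩ := exists_monic 𝔞₂ N h1 h2 h3
  obtain ⟨f, hf⟩ : ∃ f : MvPolynomial (Fin 2) k, f = fromR i j F := ⟨_, rfl⟩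
  have hf𝔞 : f ∈ 𝔞 := by
    rw [h𝔞₂, Ideal.mem_comap] at hFmem
    rw [hf]; exact hFmem
  obtain ⟨𝔟, h𝔟⟩ : ∃ 𝔟 : Ideal (MvPolynomial (Fin 2) k), 𝔟 = colonY 𝔞 y := ⟨_, rfl⟩
  have hfP : f = F.eval₂ (aeval y : k[X] →ₐ[k] MvPolynomial (Fin 2) k).toRingHom x := by
    rw [hf, hy', hx]; rfl
  have hf𝔟 : f ∈ 𝔟 := by rw [h𝔟, mem_colonY]; exact Ideal.mul_mem_left _ _ hf𝔞
  have h𝔞𝔟 : 𝔞 ≤ 𝔟 := fun a ha => by rw [h𝔟, mem_colonY]; exact Ideal.mul_mem_left _ _ ha
  have hf0 : f ≠ 0 := by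
    intro h0
    have := toR_fromR hij F
    rw [← hf, h0, map_zero] at this
    exact hFmon.ne_zero this.symm
  have hcancel : ∀ p : k[X], p ≠ 0 → ∀ g : MvPolynomial (Fin 2) k,
      f ∣ (aeval y p) * g → f ∣ g := by
    intro p hp g hdvd
    obtain ⟨w, hw⟩ := hdvd
    have e1 : toR i f = F := by rw [hf]; exact toR_fromR hij F
    have e3 : C p * toR i g = F * toR i w := by
      have := congrArg (toR i) hw
      rw [map_mul, map_mul, hy', toR_aeval hij, e1] at this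
      exact this
    obtain ⟨w', hw'⟩ := monic_dvd_cancel hFmon hp ⟨_, e3⟩
    refine ⟨fromR i j w', ?_⟩
    have := congrArg (fromR i j) hw'
    rw [fromR_toR hij, map_mul, ← hf] at this
    exact this
  have hgen : Algebra.adjoin k ({x, y} : Set (MvPolynomial (Fin 2) k)) = ⊤ := by
    rw [← MvPolynomial.adjoin_range_X]
    congr 1
    ext z
    simp only [Set.mem_insert_iff, Set.mem_singleton_iff, Set.mem_range]
    constructor
    · rintro (rfl | rfl)
      · exact ⟨i, hx.symm⟩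
      · exact ⟨j, hy'.symm⟩
    · rintro ⟨l, rfl⟩
      rcases fin2_cases hij l with rfl | rfl
      · left; exact hx.symm
      · right; exact hy'.symm
  have hyN𝔟 : y ^ N ∈ 𝔟 := by rw [h𝔟, mem_colonY]; exact Ideal.mul_mem_left _ _ hyN
  have h𝔟M : 𝔟 ≤ M₀ := by
    have h𝔟ne : 𝔟 ≠ ⊤ := by
      intro htop
      have : (1 : MvPolynomial (Fin 2) k) ∈ 𝔟 := by rw [htop]; trivial
      rw [h𝔟, mem_colonY, mul_one] at this
      exact hy this
    obtain ⟨M', hM'max, hM'le⟩ := Ideal.exists_le_maximal 𝔟 h𝔟ne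
    have h7 : M₀ ≤ M' := by
      rw [← hsupp, hM'max.isPrime.radical_le_iff]
      exact le_trans h𝔞𝔟 hM'le
    have h8 : M₀ = M' := (origin_isMaximal (k := k)).eq_of_le hM'max.ne_top h7
    rw [h8]; exact hM'le
  have h𝔞M : 𝔞 ≤ M₀ := by rw [← hsupp]; exact Ideal.le_radical
  refine ⟨fam y f 𝔟, flat_fam hf𝔟 hf0 hcancel, finite_fam (x := x) hgen hyN𝔟 hFmon hfP, ?_, ?_⟩
  · rw [map_eval_fam, sub_zero]
    apply le_antisymm
    · refine sup_le ?_ ?_
      · rw [Ideal.span_singleton_le_iff_mem]; exact hf𝔞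
      · rw [Ideal.span_singleton_mul_le_iff]
        intro z hz
        rw [h𝔟, mem_colonY] at hz
        exact hz
    · intro h hh
      have h9 : toR i h ∈ 𝔞₂ := by
        rw [h𝔞₂, Ideal.mem_comap, fromR_toR hij]; exact hh
      obtain ⟨u, hu, v, hv, huv⟩ := Submodule.mem_sup.1 (hle h9)
      rw [Ideal.mem_span_singleton'] at hu hv
      obtain ⟨u', rfl⟩ := hu
      obtain ⟨v', rfl⟩ := hv
      have h10 : h = fromR i j u' * f + fromR i j v' * y := by
        have := congrArg (fromR i j) huv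
        rw [fromR_toR hij, map_add, map_mul, map_mul, hfromCX, ← hf] at this
        exact this.symm
      have h11 : fromR i j v' ∈ 𝔟 := by
        rw [h𝔟, mem_colonY]
        have : y * fromR i j v' = h - fromR i j u' * f := by rw [h10]; ring
        rw [this]
        exact Ideal.sub_mem _ hh (Ideal.mul_mem_left _ _ hf𝔞)
      rw [h10]
      refine Ideal.add_mem _ (Ideal.mem_sup_left (Ideal.mul_mem_left _ _ (Ideal.subset_span rfl)))
        (Ideal.mem_sup_right ?_)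
      exact Ideal.mul_mem_mul_rev (Ideal.subset_span rfl) h11
  · intro c hc
    rw [map_eval_fam]
    refine ⟨sup_le ?_ (le_trans Ideal.mul_le_right h𝔟M), ?_⟩
    · rw [Ideal.span_singleton_le_iff_mem]; exact h𝔞M hf𝔞
    · set Fc : k[X] := F.map (Polynomial.evalRingHom c) with hFc
      have hFcmon : Fc.Monic := hFmon.map _
      have hFcdeg : Fc.degree ≠ 0 := by
        have h12 : Fc.natDegree = m := by
          rw [hFc, hFmon.natDegree_map, hFdeg]
        intro h0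
        have h14 : Fc.natDegree = 0 := by
          rw [Polynomial.natDegree, h0]; rfl
        omega
      obtain ⟨x₀, hx₀⟩ := IsAlgClosed.exists_root Fc hFcdeg
      refine ⟨fun l => if l = i then x₀ else c, ?_, ?_⟩
      · intro h0
        have := congrFun h0 j
        have hji : ¬ (j = i) := fun h => hij h.symm
        simp [hji] at this
        exact hc this
      · refine sup_le ?_ (le_trans Ideal.mul_le_left ?_)
        · rw [Ideal.span_singleton_le_iff_mem]
          have h13 := sub_C_eval_mem (fun l => if l = i then x₀ else c) f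
          rw [hf, eval_fromR i j hij, ← hFc] at h13
          rw [Polynomial.IsRoot.def] at hx₀
          rw [hx₀, map_zero, sub_zero, ← hf] at h13
          exact h13
        · rw [Ideal.span_singleton_le_iff_mem]
          refine Ideal.subset_span ⟨j, ?_⟩
          have hji : ¬ (j = i) := fun h => hij h.symm
          simp [hji, hy']

end Groth.Agent.Lib.Helper95.FlatFam
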