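import Groth.Agent.Lib.Helper95.KW
import Groth.Agent.Lib.Helper95.GamFil

set_option autoImplicit false
open MvPolynomial Finset LambdaRing

namespace Groth.Agent.Lib.Helper95.GammaClosure

open Groth.Agent.Lib.Helper95.Rep Groth.Agent.Lib.Helper95.Transfer
  Groth.Agent.Lib.Helper95.KW Groth.Agent.Lib.Helper95.GamFil
  Groth.Agent.Lib.Helper26.LambdaGamma

universe u v

variable {K : Type u} {B : Type v} [CommRing K] [LambdaOps K] [BinomialRing K]
  [CommRing B] [LambdaOps B] [Algebra K B]

def SGood (I : ℕ → Ideal B) (z : B) : Prop := ∀ i, gamma i z ∈ I i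

omit [Algebra K B] [LambdaOps K] [BinomialRing K] [CommRing K] in
lemma sgood_zero {I : ℕ → Ideal B} (hI : IsFilt I) : SGood I 0 := by
  intro i
  rw [gamma_zero_right]
  split_ifs with h
  · subst h; rw [hI.zero]; trivial
  · exact zero_mem _

omit [Algebra K B] [LambdaOps K] [BinomialRing K] [CommRing K] in
lemma SGood.add {I : ℕ → Ideal B} (hI : IsFilt I) {z z' : B} (hz : SGood I z) (hz' : SGood I z') :
    SGood I (z + z') := by
  intro i
  rw [gamma_add]
  refine sum_mem fun p hp => ?_
  have := hI.mul (hz p.1) (hz' p.2)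
  rwa [Finset.HasAntidiagonal.mem_antidiagonal.mp hp] at this

omit [Algebra K B] [LambdaOps K] [BinomialRing K] [CommRing K] in
lemma SGood.sum {I : ℕ → Ideal B} (hI : IsFilt I) {ι : Type*} (s : Finset ι) (f : ι → B)
    (h : ∀ i ∈ s, SGood I (f i)) : SGood I (∑ i ∈ s, f i) := by
  classical
  induction s using Finset.induction_on with
  | empty => simpa using sgood_zero hI
  | insert a s ha ih =>
    rw [Finset.sum_insert ha]
    exact (h a (Finset.mem_insert_self a s)).add hI (ih fun i hi => h i (Finset.mem_insert_of_mem hi))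

lemma SGood.smul {I : ℕ → Ideal B} (hI : IsFilt I) (hB : IsSpecial B) (hKb : IsBinomial K)
    (hAlg : IsLambdaAlg K B) (κ : K) {z : B} (hz : SGood I z) :
    SGood I (algebraMap K B κ * z) := by
  intro i
  obtain ⟨W, hW, hWid⟩ := exists_scalar_poly.{v} κ i
  rw [hWid B hB hKb hAlg z]
  exact hI.aeval_mem wY _ (fun q => hz (q + 1)) i W hW

omit [Algebra K B] [LambdaOps K] [BinomialRing K] [CommRing K] in
lemma SGood.evG {I : ℕ → Ideal B} (hI : IsFilt I) (hB : IsSpecial B)
    (F : MvPolynomial (Fin 2 × ℕ) ℤ) (hF : constantCoeff F = 0) (x : Fin 2 → B)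
    (hx : ∀ g, SGood I (x g)) : SGood I (evG x F) := by
  intro c
  obtain ⟨G, hG, hGw⟩ := transfer.{v} F hF c
  rw [hG B hB x]
  exact hI.aeval_mem wt _ (fun ip => hx ip.1 (ip.2 + 1)) c G hGw

omit [Algebra K B] [LambdaOps K] [BinomialRing K] [CommRing K] in
lemma SGood.mul {I : ℕ → Ideal B} (hI : IsFilt I) (hB : IsSpecial B) {z z' : B}
    (hz : SGood I z) (hz' : SGood I z') : SGood I (z * z') := by
  have := SGood.evG hI hB F0 (by simp [F0]) ![z, z'] (by
    intro g; fin_cases g
    · simpa using hz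
    · simpa using hz')
  simpa [F0, gamma_one_left] using this

end Groth.Agent.Lib.Helper95.GammaClosure
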