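import Groth.Prelude.Def_KGr
import Groth.Agent.Lib.Helper95.GammaFil

set_option autoImplicit false
open LambdaRing KGr LaurentPolynomial
open scoped TensorProduct

namespace Groth.Agent.Lib.Helper95.GrLib

open Groth.Agent.Lib.Helper95.GammaFil

universe v

variable {K : Type v} [CommRing K] [LambdaOps K] (P : PosStructure K)

noncomputable def rho (n : ℕ) (x : K) (hx : x ∈ gammaFiltration P n) : rees P :=
  ⟨C x * T (-(n : ℤ)), Subring.subset_closure (Set.mem_insert_of_mem _ ⟨n, x, hx, rfl⟩)⟩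

lemma rho_val (n : ℕ) (x : K) (hx : x ∈ gammaFiltration P n) :
    (rho P n x hx : LaurentPolynomial K) = C x * T (-(n : ℤ)) := rfl

noncomputable def gz (n : ℕ) : gammaFiltration P n →+ GrZ P where
  toFun x := Ideal.Quotient.mk _ (rho P n x.1 x.2)
  map_zero' := by
    have : rho P n (0 : gammaFiltration P n).1 (0 : gammaFiltration P n).2 = 0 := by
      apply Subtype.ext
      simp [rho_val]
    rw [this, map_zero]
  map_add' x y := by
    rw [← map_add]
    congr 1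
    apply Subtype.ext
    simp [rho_val, add_mul]

lemma gz_apply (n : ℕ) (x : K) (hx : x ∈ gammaFiltration P n) :
    gz P n ⟨x, hx⟩ = Ideal.Quotient.mk _ (rho P n x hx) := rfl

lemma gz_mul (n m : ℕ) (x y : K) (hx : x ∈ gammaFiltration P n) (hy : y ∈ gammaFiltration P m) :
    gz P n ⟨x, hx⟩ * gz P m ⟨y, hy⟩ = gz P (n + m) ⟨x * y, fil_mul_mem P hx hy⟩ := by
  rw [gz_apply, gz_apply, gz_apply, ← map_mul]
  congr 1
  apply Subtype.ext
  rw [Subring.coe_mul, rho_val, rho_val, rho_val, map_mul]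
  push_cast
  rw [neg_add, T_add]
  ring

lemma gz_of_succ (n : ℕ) (x : K) (hx : x ∈ gammaFiltration P (n + 1)) :
    gz P n ⟨x, gammaFiltration_anti P (Nat.le_succ n) hx⟩ = 0 := by
  rw [gz_apply, Ideal.Quotient.eq_zero_iff_mem, Ideal.mem_span_singleton']
  refine ⟨rho P (n + 1) x hx, ?_⟩
  apply Subtype.ext
  rw [Subring.coe_mul, rho_val, rho_val]
  show C x * T (-((n + 1 : ℕ) : ℤ)) * T 1 = _
  rw [mul_assoc, ← T_add]
  congr 2
  push_cast
  ring

lemma gz_one : gz P 0 ⟨1, by rw [gammaFiltration_zero]; trivial⟩ = 1 := by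
  rw [gz_apply]
  have : rho P 0 1 (by rw [gammaFiltration_zero]; trivial) = 1 := by
    apply Subtype.ext
    simp [rho_val]
  rw [this, map_one]

lemma grK_aux (n : ℕ) (x : K) (hx : x ∈ gammaFiltration P n) (N : ℕ) (hN : 1 ≤ N)
    (hmem : C ((N : K) * x) * T (-(n : ℤ)) ∈ rees P) :
    ((1 : ℚ) / (N : ℚ)) ⊗ₜ[ℤ] Ideal.Quotient.mk (Ideal.span {tGen P})
      (⟨C ((N : K) * x) * T (-(n : ℤ)), hmem⟩ : rees P) = (1 : ℚ) ⊗ₜ[ℤ] gz P n ⟨x, hx⟩ := by
  have e1 : (⟨C ((N : K) * x) * T (-(n : ℤ)), hmem⟩ : rees P) = (N : rees P) * rho P n x hx := by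
    apply Subtype.ext
    rw [Subring.coe_mul, rho_val, Subring.coe_natCast]
    show C ((N : K) * x) * T (-(n : ℤ)) = _
    rw [map_mul, map_natCast, mul_assoc]
  rw [e1, map_mul, map_natCast, ← gz_apply, ← nsmul_eq_mul, ← Nat.cast_smul_eq_nsmul ℤ,
    ← TensorProduct.smul_tmul]
  congr 1
  have : (N : ℚ) ≠ 0 := by
    have : 0 < N := hN
    positivity
  simp only [zsmul_eq_mul, Int.cast_natCast]
  field_simp

lemma grK_eq (n : ℕ) (x : K) (hx : x ∈ gammaFiltration P n) :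
    grK P (n : ℤ) x = (1 : ℚ) ⊗ₜ[ℤ] gz P n ⟨x, hx⟩ := by
  classical
  have h : ∃ N : ℕ, 1 ≤ N ∧ C ((N : K) * x) * T (-(n : ℤ)) ∈ rees P :=
    ⟨1, le_refl 1, by rw [Nat.cast_one, one_mul]; exact (rho P n x hx).2⟩
  unfold grK
  rw [dif_pos h]
  exact grK_aux P n x hx _ h.choose_spec.1 h.choose_spec.2

end Groth.Agent.Lib.Helper95.GrLib
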