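import Groth.Agent.Lib.Helper95.GrRees

set_option autoImplicit false
open LambdaRing KGr LaurentPolynomial
open scoped TensorProduct

namespace Groth.Agent.Lib.Helper95.GrLib

open Groth.Agent.Lib.Helper95.GammaFil

universe v

variable {K : Type v} [CommRing K] [LambdaOps K] (P : PosStructure K)

lemma grK_add {n : ℕ} {x y : K} (hx : x ∈ gammaFiltration P n) (hy : y ∈ gammaFiltration P n) :
    grK P (n : ℤ) (x + y) = grK P (n : ℤ) x + grK P (n : ℤ) y := by
  rw [grK_eq P n x hx, grK_eq P n y hy, grK_eq P n (x + y) (add_mem hx hy), ← TensorProduct.tmul_add,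
    ← map_add]
  rfl

lemma grK_zero (n : ℕ) : grK P (n : ℤ) (0 : K) = 0 := by
  rw [grK_eq P n 0 (zero_mem _)]
  have : (⟨0, zero_mem _⟩ : gammaFiltration P n) = 0 := rfl
  rw [this, map_zero, TensorProduct.tmul_zero]

lemma grK_neg {n : ℕ} {x : K} (hx : x ∈ gammaFiltration P n) :
    grK P (n : ℤ) (-x) = -grK P (n : ℤ) x := by
  rw [grK_eq P n x hx, grK_eq P n (-x) (neg_mem hx), ← TensorProduct.tmul_neg, ← map_neg]
  rfl

lemma grK_sum {n : ℕ} {ι : Type*} (s : Finset ι) (f : ι → K)
    (hf : ∀ i ∈ s, f i ∈ gammaFiltration P n) :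
    grK P (n : ℤ) (∑ i ∈ s, f i) = ∑ i ∈ s, grK P (n : ℤ) (f i) := by
  classical
  induction s using Finset.induction_on with
  | empty => simpa using grK_zero P n
  | insert a s ha ih =>
    rw [Finset.sum_insert ha, Finset.sum_insert ha,
      grK_add P (hf a (Finset.mem_insert_self a s))
        (sum_mem fun i hi => hf i (Finset.mem_insert_of_mem hi)),
      ih fun i hi => hf i (Finset.mem_insert_of_mem hi)]

lemma grK_mul {n m : ℕ} {x y : K} (hx : x ∈ gammaFiltration P n) (hy : y ∈ gammaFiltration P m) :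
    grK P (n : ℤ) x * grK P (m : ℤ) y = grK P ((n + m : ℕ) : ℤ) (x * y) := by
  rw [grK_eq P n x hx, grK_eq P m y hy, grK_eq P (n + m) (x * y) (fil_mul_mem P hx hy),
    Algebra.TensorProduct.tmul_mul_tmul, one_mul, gz_mul]

lemma grK_of_succ {n : ℕ} {x : K} (hx : x ∈ gammaFiltration P (n + 1)) :
    grK P (n : ℤ) x = 0 := by
  rw [grK_eq P n x (gammaFiltration_anti P (Nat.le_succ n) hx), gz_of_succ P n x hx,
    TensorProduct.tmul_zero]

lemma grK_one : grK P ((0 : ℕ) : ℤ) (1 : K) = 1 := by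
  rw [grK_eq P 0 1 (by rw [gammaFiltration_zero]; trivial), gz_one]
  rfl

lemma grK_natCast_mul {n : ℕ} (M : ℕ) {x : K} (hx : x ∈ gammaFiltration P n) :
    grK P (n : ℤ) ((M : K) * x) = (M : ℚ) • grK P (n : ℤ) x := by
  induction M with
  | zero => simp [grK_zero]
  | succ M ih =>
    have : ((M + 1 : ℕ) : K) * x = (M : K) * x + x := by push_cast; ring
    rw [this, grK_add P (fil_smul_mem P _ hx) hx, ih]
    push_cast
    rw [add_smul, one_smul]

lemma grK_intCast_mul {n : ℕ} (M : ℤ) {x : K} (hx : x ∈ gammaFiltration P n) :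
    grK P (n : ℤ) ((M : K) * x) = (M : ℚ) • grK P (n : ℤ) x := by
  rcases Int.eq_nat_or_neg M with ⟨m, rfl | rfl⟩
  · simpa using grK_natCast_mul P m hx
  · have : ((-(m : ℤ) : ℤ) : K) * x = -((m : K) * x) := by push_cast; ring
    rw [this, grK_neg P (fil_smul_mem P _ hx), grK_natCast_mul P m hx]
    push_cast
    rw [neg_smul]

noncomputable def Dn (n : ℕ) : Submodule ℚ (Gr P) :=
  Submodule.span ℚ {z | ∃ x ∈ gammaFiltration P n, z = grK P (n : ℤ) x}

lemma grK_mem_Dn {n : ℕ} {x : K} (hx : x ∈ gammaFiltration P n) : grK P (n : ℤ) x ∈ Dn P n :=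
  Submodule.subset_span ⟨x, hx, rfl⟩

lemma Dn_mul {a b : ℕ} {y z : Gr P} (hy : y ∈ Dn P a) (hz : z ∈ Dn P b) :
    y * z ∈ Dn P (a + b) := by
  unfold Dn at hy
  induction hy using Submodule.span_induction with
  | mem y hy =>
    obtain ⟨x, hx, rfl⟩ := hy
    unfold Dn at hz
    induction hz using Submodule.span_induction with
    | mem z hz =>
      obtain ⟨x', hx', rfl⟩ := hz
      rw [grK_mul P hx hx']
      exact grK_mem_Dn P (fil_mul_mem P hx hx')
    | zero => rw [mul_zero]; exact zero_mem _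
    | add y z _ _ hy hz => rw [mul_add]; exact add_mem hy hz
    | smul c y _ hy => rw [mul_smul_comm]; exact Submodule.smul_mem _ c hy
  | zero => rw [zero_mul]; exact zero_mem _
  | add y z _ _ hy hz => rw [add_mul]; exact add_mem hy hz
  | smul c y _ hy => rw [smul_mul_assoc]; exact Submodule.smul_mem _ c hy

lemma Dn_eq_bot {n : ℕ} (h : gammaFiltration P n = ⊥) : Dn P n = ⊥ := by
  unfold Dn
  rw [Submodule.span_eq_bot]
  rintro z ⟨x, hx, rfl⟩
  rw [h, AddSubgroup.mem_bot] at hx
  subst hx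
  exact grK_zero P n

lemma mem_iSup_Dn (y : Gr P) : y ∈ ⨆ n, Dn P n := by
  induction y using TensorProduct.induction_on with
  | zero => exact zero_mem _
  | tmul q z =>
    have hz := grZ_span P z
    induction hz using AddSubgroup.closure_induction with
    | mem w hw =>
      obtain ⟨n, x, hx, rfl⟩ := hw
      have : q ⊗ₜ[ℤ] gz P n ⟨x, hx⟩ = q • grK P (n : ℤ) x := by
        rw [grK_eq P n x hx, TensorProduct.smul_tmul', smul_eq_mul, mul_one]
      rw [this]
      exact Submodule.smul_mem _ q (Submodule.mem_iSup_of_mem n (grK_mem_Dn P hx))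
    | zero => rw [TensorProduct.tmul_zero]; exact zero_mem _
    | add y z _ _ hy hz => rw [TensorProduct.tmul_add]; exact add_mem hy hz
    | neg y _ hy => rw [TensorProduct.tmul_neg]; exact neg_mem hy
  | add y z hy hz => exact add_mem hy hz

lemma piQ_grK (n m : ℕ) {x : K} (hx : x ∈ gammaFiltration P m) :
    piQ P n (grK P (m : ℤ) x) =
      if m = n then (1 : ℚ) ⊗ₜ[ℤ] Ideal.Quotient.mk (FI P (n + 1)) x else 0 := by
  rw [grK_eq P m x hx, piQ_tmul, pi_gz]
  split_ifs
  · rfl
  · rw [TensorProduct.tmul_zero]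

lemma piQ_Dn {n m : ℕ} (hmn : m ≠ n) {y : Gr P} (hy : y ∈ Dn P m) : piQ P n y = 0 := by
  unfold Dn at hy
  induction hy using Submodule.span_induction with
  | mem y hy =>
    obtain ⟨x, hx, rfl⟩ := hy
    rw [piQ_grK P n m hx, if_neg hmn]
  | zero => rw [map_zero]
  | add y z _ _ hy hz => rw [map_add, hy, hz, add_zero]
  | smul c y _ hy => rw [map_smul, hy, smul_zero]

end Groth.Agent.Lib.Helper95.GrLib
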