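import Groth.Agent.Lib.Helper95.GrBasic

set_option autoImplicit false
open LambdaRing KGr LaurentPolynomial
open scoped TensorProduct

namespace Groth.Agent.Lib.Helper95.GrLib

open Groth.Agent.Lib.Helper95.GammaFil

universe v

variable {K : Type v} [CommRing K] [LambdaOps K] (P : PosStructure K)

lemma rees_coeff_mem {p : LaurentPolynomial K} (hp : p ∈ rees P) (a : ℤ) :
    p.coeff a ∈ gammaFiltration P (-a).toNat := by
  classical
  unfold rees at hp
  induction hp using Subring.closure_induction generalizing a with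
  | mem x hx =>
    rcases hx with rfl | ⟨n, y, hy, rfl⟩
    · rw [T_apply]
      split_ifs with h
      · subst h
        simp [gammaFiltration_zero]
      · exact zero_mem _
    · rw [← single_eq_C_mul_T, AddMonoidAlgebra.coeff_single, Finsupp.single_apply]
      split_ifs with h
      · subst h
        simpa using hy
      · exact zero_mem _
  | zero => simp
  | one =>
    have : (1 : LaurentPolynomial K) = C 1 := by simp
    rw [this, C_apply]
    split_ifs with h
    · subst h; simp [gammaFiltration_zero]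
    · exact zero_mem _
  | add x y _ _ hx hy =>
    rw [AddMonoidAlgebra.coeff_add, Finsupp.add_apply]
    exact add_mem (hx a) (hy a)
  | neg x _ hx =>
    rw [AddMonoidAlgebra.coeff_neg, Finsupp.neg_apply]
    exact neg_mem (hx a)
  | mul x y _ _ hx hy =>
    rw [AddMonoidAlgebra.coeff_mul, Finsupp.sum]
    refine sum_mem fun m₁ _ => ?_
    rw [Finsupp.sum]
    refine sum_mem fun m₂ _ => ?_
    split_ifs with h
    · subst h
      exact gammaFiltration_anti P (by omega) (fil_mul_mem P (hx m₁) (hy m₂))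
    · exact zero_mem _

lemma span_coeff_mem {p : rees P} (hp : p ∈ Ideal.span {tGen P}) (n : ℕ) :
    (p : LaurentPolynomial K).coeff (-(n : ℤ)) ∈ gammaFiltration P (n + 1) := by
  obtain ⟨q, rfl⟩ := Ideal.mem_span_singleton'.mp hp
  rw [Subring.coe_mul]
  show ((q : LaurentPolynomial K) * T 1).coeff (-(n : ℤ)) ∈ _
  have : (T 1 : LaurentPolynomial K) = AddMonoidAlgebra.single 1 1 := rfl
  rw [this, AddMonoidAlgebra.coeff_mul_single_apply, mul_one]
  have h := rees_coeff_mem P q.2 (-(n : ℤ) + -1)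
  have e : (-(-(n : ℤ) + -1)).toNat = n + 1 := by omega
  rwa [e] at h

def FI (n : ℕ) : Ideal K where
  carrier := gammaFiltration P n
  add_mem' := add_mem
  zero_mem' := zero_mem _
  smul_mem' c _ hx := fil_smul_mem P c hx

lemma mem_FI {n : ℕ} {x : K} : x ∈ FI P n ↔ x ∈ gammaFiltration P n := Iff.rfl

noncomputable def coeffAt (a : ℤ) : LaurentPolynomial K →+ K where
  toFun p := p.coeff a
  map_zero' := by simp
  map_add' p q := by rw [AddMonoidAlgebra.coeff_add, Finsupp.add_apply]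

noncomputable def piRees (n : ℕ) : rees P →ₗ[ℤ] K ⧸ FI P (n + 1) :=
  ((Ideal.Quotient.mk (FI P (n + 1))).toAddMonoidHom.comp
    ((coeffAt (-(n : ℤ))).comp (rees P).subtype.toAddMonoidHom)).toIntLinearMap

lemma piRees_apply (n : ℕ) (p : rees P) :
    piRees P n p = Ideal.Quotient.mk (FI P (n + 1)) ((p : LaurentPolynomial K).coeff (-(n : ℤ))) := rfl

noncomputable def pi (n : ℕ) : GrZ P →ₗ[ℤ] K ⧸ FI P (n + 1) :=
  (Submodule.liftQ ((Ideal.span {tGen P}).restrictScalars ℤ) (piRees P n) (by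
    intro p hp
    rw [LinearMap.mem_ker, piRees_apply, Ideal.Quotient.eq_zero_iff_mem, mem_FI]
    exact span_coeff_mem P hp n)).comp
    (Submodule.Quotient.restrictScalarsEquiv ℤ (Ideal.span {tGen P})).symm.toLinearMap

lemma pi_mk (n : ℕ) (p : rees P) :
    pi P n (Ideal.Quotient.mk (Ideal.span {tGen P}) p) =
      Ideal.Quotient.mk (FI P (n + 1)) ((p : LaurentPolynomial K).coeff (-(n : ℤ))) := by
  unfold pi
  rw [LinearMap.comp_apply]
  have : (Submodule.Quotient.restrictScalarsEquiv ℤ (Ideal.span {tGen P})).symm.toLinearMap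
      (Ideal.Quotient.mk (Ideal.span {tGen P}) p) = Submodule.Quotient.mk p := rfl
  rw [this, Submodule.liftQ_apply, piRees_apply]

lemma pi_gz (n m : ℕ) (x : K) (hx : x ∈ gammaFiltration P m) :
    pi P n (gz P m ⟨x, hx⟩) = if m = n then Ideal.Quotient.mk (FI P (n + 1)) x else 0 := by
  classical
  rw [gz_apply, pi_mk, rho_val, ← single_eq_C_mul_T, AddMonoidAlgebra.coeff_single,
    Finsupp.single_apply]
  by_cases h : m = n
  · subst h; simp
  · rw [if_neg h, if_neg (by omega), map_zero]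

noncomputable def piQ (n : ℕ) : Gr P →ₗ[ℚ] ℚ ⊗[ℤ] (K ⧸ FI P (n + 1)) :=
  LinearMap.baseChange ℚ (pi P n)

lemma piQ_tmul (n : ℕ) (q : ℚ) (y : GrZ P) : piQ P n (q ⊗ₜ[ℤ] y) = q ⊗ₜ[ℤ] pi P n y :=
  LinearMap.baseChange_tmul _ _ _

lemma tmul_eq_zero_torsion {A : Type*} [AddCommGroup A] (a : A) (h : (1 : ℚ) ⊗ₜ[ℤ] a = 0) :
    ∃ M : ℕ, 1 ≤ M ∧ M • a = 0 := by
  have hloc : IsLocalizedModule (nonZeroDivisors ℤ) (TensorProduct.mk ℤ ℚ A 1) :=
    (isLocalizedModule_iff_isBaseChange (nonZeroDivisors ℤ) ℚ _).mpr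
      (TensorProduct.isBaseChange ℤ A ℚ)
  obtain ⟨s, hs⟩ := (IsLocalizedModule.eq_zero_iff (nonZeroDivisors ℤ)
    (TensorProduct.mk ℤ ℚ A 1)).mp h
  have hs0 : (s : ℤ) ≠ 0 := nonZeroDivisors.coe_ne_zero s
  have hs' : (s : ℤ) • a = 0 := hs
  refine ⟨(s : ℤ).natAbs, Int.natAbs_pos.mpr hs0, ?_⟩
  rcases Int.natAbs_eq (s : ℤ) with h1 | h1
  · rw [← natCast_zsmul, ← h1, hs']
  · have : ((s : ℤ).natAbs : ℤ) = -(s : ℤ) := by omega
    rw [← natCast_zsmul, this, neg_smul, hs', neg_zero]

def gzSet : Set (GrZ P) :=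
  {z | ∃ (n : ℕ) (x : K) (hx : x ∈ gammaFiltration P n), z = gz P n ⟨x, hx⟩}

lemma gzSpan_mul {a b : GrZ P} (ha : a ∈ AddSubgroup.closure (gzSet P))
    (hb : b ∈ AddSubgroup.closure (gzSet P)) : a * b ∈ AddSubgroup.closure (gzSet P) := by
  induction ha using AddSubgroup.closure_induction with
  | mem x hx =>
    induction hb using AddSubgroup.closure_induction with
    | mem y hy =>
      obtain ⟨n, x, hx, rfl⟩ := hx
      obtain ⟨m, y, hy, rfl⟩ := hy
      rw [gz_mul]
      exact AddSubgroup.subset_closure ⟨n + m, x * y, _, rfl⟩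
    | zero => rw [mul_zero]; exact zero_mem _
    | add y z _ _ hy hz => rw [mul_add]; exact add_mem hy hz
    | neg y _ hy => rw [mul_neg]; exact neg_mem hy
  | zero => rw [zero_mul]; exact zero_mem _
  | add y z _ _ hy hz => rw [add_mul]; exact add_mem hy hz
  | neg y _ hy => rw [neg_mul]; exact neg_mem hy

lemma grZ_span (y : GrZ P) : y ∈ AddSubgroup.closure (gzSet P) := by
  obtain ⟨p, rfl⟩ := Ideal.Quotient.mk_surjective y
  obtain ⟨q, hq⟩ := p
  have key : ∀ (q : LaurentPolynomial K) (hq : q ∈ Subring.closure (reesGens P)),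
      Ideal.Quotient.mk (Ideal.span {tGen P}) (⟨q, hq⟩ : rees P) ∈
        AddSubgroup.closure (gzSet P) := by
    intro q hq
    refine Subring.closure_induction
      (p := fun q hq => Ideal.Quotient.mk (Ideal.span {tGen P}) (⟨q, hq⟩ : rees P) ∈
        AddSubgroup.closure (gzSet P)) ?_ ?_ ?_ ?_ ?_ ?_ hq
    · intro x hx
      rcases hx with rfl | ⟨n, y, hy, rfl⟩
      · have : Ideal.Quotient.mk (Ideal.span {tGen P})
            (⟨T 1, Subring.subset_closure (Set.mem_insert _ _)⟩ : rees P) = 0 := by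
          rw [Ideal.Quotient.eq_zero_iff_mem]
          exact Ideal.subset_span rfl
        rw [this]
        exact zero_mem _
      · exact AddSubgroup.subset_closure ⟨n, y, hy, rfl⟩
    · have : (⟨0, Subring.zero_mem _⟩ : rees P) = 0 := rfl
      rw [this, map_zero]
      exact zero_mem _
    · have : (⟨1, Subring.one_mem _⟩ : rees P) = 1 := rfl
      rw [this, map_one, ← gz_one P]
      exact AddSubgroup.subset_closure ⟨0, 1, _, rfl⟩
    · intro x y hx hy h1 h2
      have : (⟨x + y, Subring.add_mem _ hx hy⟩ : rees P) = ⟨x, hx⟩ + ⟨y, hy⟩ := rfl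
      rw [this, map_add]
      exact add_mem h1 h2
    · intro x hx h1
      have : (⟨-x, Subring.neg_mem _ hx⟩ : rees P) = -⟨x, hx⟩ := rfl
      rw [this, map_neg]
      exact neg_mem h1
    · intro x y hx hy h1 h2
      have : (⟨x * y, Subring.mul_mem _ hx hy⟩ : rees P) = ⟨x, hx⟩ * ⟨y, hy⟩ := rfl
      rw [this, map_mul]
      exact gzSpan_mul P h1 h2
  exact key q hq

end Groth.Agent.Lib.Helper95.GrLib
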