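import Mathlib.RingTheory.HopfAlgebra.Convolution
import Mathlib.RingTheory.Bialgebra.Basic
import Mathlib.RingTheory.TensorProduct.Maps

set_option autoImplicit false
universe u v
open TensorProduct

namespace Groth.Agent.Lib.Helper95.HG1

variable {R : Type u} {H : Type v} [CommRing R] [CommRing H] [HopfAlgebra R H]

variable (R H) in
noncomputable def sh : H ⊗[R] H →ₐ[R] H ⊗[R] H :=
  Algebra.TensorProduct.productMap Algebra.TensorProduct.includeLeft (Bialgebra.comulAlgHom R H)

variable (R H) in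
noncomputable def sh' : H ⊗[R] H →ₐ[R] H ⊗[R] H :=
  Algebra.TensorProduct.productMap Algebra.TensorProduct.includeLeft
    ((Algebra.TensorProduct.map (HopfAlgebra.antipodeAlgHom R H) (AlgHom.id R H)).comp
      (Bialgebra.comulAlgHom R H))

theorem sh_tmul (x y : H) : sh R H (x ⊗ₜ y) = (x ⊗ₜ 1) * Coalgebra.comul (R := R) y := by
  simp [sh]

theorem sh'_one_tmul (h : H) :
    sh' R H (1 ⊗ₜ h) = Algebra.TensorProduct.map (HopfAlgebra.antipodeAlgHom R H) (AlgHom.id R H)
      (Coalgebra.comul (R := R) h) := by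
  simp only [sh', Algebra.TensorProduct.productMap_apply_tmul, map_one, AlgHom.comp_apply]
  rw [one_mul]
  rfl

noncomputable def Gl : (H ⊗[R] H) ⊗[R] H →ₗ[R] H ⊗[R] H :=
  (LinearMap.mul' R H ∘ₗ (HopfAlgebra.antipode R).rTensor H).rTensor H

theorem aux_a (x : H) (w : H ⊗[R] H) :
    ((HopfAlgebra.antipode R x) ⊗ₜ[R] (1 : H)) * w =
      Gl ((TensorProduct.assoc R H H H).symm (x ⊗ₜ w)) := by
  induction w using TensorProduct.induction_on with
  | zero => simp
  | tmul y z => simp [Gl]
  | add a b ha hb => rw [mul_add, ha, hb, TensorProduct.tmul_add, map_add, map_add]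

theorem aux_b (w : H ⊗[R] H) :
    sh R H (Algebra.TensorProduct.map (HopfAlgebra.antipodeAlgHom R H) (AlgHom.id R H) w) =
      Gl ((TensorProduct.assoc R H H H).symm
        ((Coalgebra.comul (R := R) (A := H)).lTensor H w)) := by
  induction w using TensorProduct.induction_on with
  | zero => simp
  | tmul x y =>
    rw [Algebra.TensorProduct.map_tmul, sh_tmul, LinearMap.lTensor_tmul, ← aux_a]
    rfl
  | add a b ha hb => simp only [map_add, ha, hb]

theorem sh_sh'_one_tmul (h : H) : sh R H (sh' R H (1 ⊗ₜ h)) = 1 ⊗ₜ h := by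
  rw [sh'_one_tmul, aux_b, Coalgebra.coassoc_symm_apply]
  unfold Gl
  rw [← LinearMap.comp_apply, ← LinearMap.rTensor_comp, LinearMap.comp_assoc,
    HopfAlgebra.mul_antipode_rTensor_comul, LinearMap.rTensor_comp, LinearMap.comp_apply,
    Coalgebra.rTensor_counit_comul]
  simp

theorem sh_sh' : (sh R H).comp (sh' R H) = AlgHom.id R (H ⊗[R] H) := by
  apply Algebra.TensorProduct.ext'
  intro x y
  have h1 : (x ⊗ₜ[R] y : H ⊗[R] H) = (x ⊗ₜ 1) * (1 ⊗ₜ y) := by simp
  rw [AlgHom.comp_apply, h1, map_mul, map_mul, sh_sh'_one_tmul]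
  simp [sh, sh']

theorem sh_surjective : Function.Surjective (sh R H) := by
  intro w
  exact ⟨sh' R H w, AlgHom.congr_fun sh_sh' w⟩

end Groth.Agent.Lib.Helper95.HG1
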