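import Groth.Agent.Lib.Helper15.ProjCharpoly
import Groth.Agent.Lib.Helper95.HG1
import Mathlib.Algebra.Category.Ring.Constructions
import Mathlib.RingTheory.IsTensorProduct
import Mathlib.RingTheory.TensorProduct.Finite
import Mathlib.RingTheory.FiniteType
import Mathlib.CategoryTheory.Limits.Shapes.Pullback.IsPullback.Basic

set_option autoImplicit false
universe u w
open TensorProduct CategoryTheory CategoryTheory.Limits

namespace Groth.Agent.Lib.Helper95.HG2

open Groth.Agent.Lib.Helper15.ProjCharpoly Polynomial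

section general

variable {R A B Y : Type u} [CommRing R] [CommRing A] [CommRing B] [CommRing Y] [Algebra R A]
  [Algebra B Y]

theorem cp_one (τ : R →+* B) (φ : A →+* Y)
    (H : IsPushout (CommRingCat.ofHom τ) (CommRingCat.ofHom (algebraMap R A))
      (CommRingCat.ofHom (algebraMap B Y)) (CommRingCat.ofHom φ))
    (π : Pres R A) (π' : Pres B Y) (a : A) :
    (Polynomial.X : Polynomial B) ^ π'.n * (π.cp (LinearMap.mulLeft R a)).map τ =
      (Polynomial.X : Polynomial B) ^ π.n * π'.cp (LinearMap.mulLeft B (φ a)) := by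
  letI : Algebra R B := τ.toAlgebra
  letI : Algebra A Y := φ.toAlgebra
  letI : Algebra R Y := ((algebraMap B Y).comp τ).toAlgebra
  haveI : IsScalarTower R B Y := .of_algebraMap_eq' rfl
  haveI : IsScalarTower R A Y := .of_algebraMap_eq' (by
    have := congrArg (fun k => k.hom) H.w
    exact this)
  haveI : Algebra.IsPushout R B A Y := CommRingCat.isPushout_iff_isPushout.mp H
  have hf : IsBaseChange B (IsScalarTower.toAlgHom R A Y).toLinearMap := Algebra.IsPushout.out
  exact Pres.map_cp_mul π hf (LinearMap.mulLeft R a) (LinearMap.mulLeft B (φ a))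
    (fun x => (map_mul φ a x).symm) π'

theorem exists_pres (τ : R →+* B) (φ : A →+* Y)
    (H : IsPushout (CommRingCat.ofHom τ) (CommRingCat.ofHom (algebraMap R A))
      (CommRingCat.ofHom (algebraMap B Y)) (CommRingCat.ofHom φ))
    (π : Pres R A) : Nonempty (Pres B Y) := by
  letI : Algebra R B := τ.toAlgebra
  letI : Algebra A Y := φ.toAlgebra
  letI : Algebra R Y := ((algebraMap B Y).comp τ).toAlgebra
  haveI : IsScalarTower R B Y := .of_algebraMap_eq' rfl
  haveI : IsScalarTower R A Y := .of_algebraMap_eq' (by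
    have := congrArg (fun k => k.hom) H.w
    exact this)
  haveI : Algebra.IsPushout R B A Y := CommRingCat.isPushout_iff_isPushout.mp H
  have hf : IsBaseChange B (IsScalarTower.toAlgHom R A Y).toLinearMap := Algebra.IsPushout.out
  exact ⟨π.baseChange hf⟩

theorem cp_two (τ₁ τ₂ : R →+* B) (φ₁ φ₂ : A →+* Y)
    (H₁ : IsPushout (CommRingCat.ofHom τ₁) (CommRingCat.ofHom (algebraMap R A))
      (CommRingCat.ofHom (algebraMap B Y)) (CommRingCat.ofHom φ₁))
    (H₂ : IsPushout (CommRingCat.ofHom τ₂) (CommRingCat.ofHom (algebraMap R A))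
      (CommRingCat.ofHom (algebraMap B Y)) (CommRingCat.ofHom φ₂))
    (π : Pres R A) (a : A) (ha : φ₁ a = φ₂ a) :
    (π.cp (LinearMap.mulLeft R a)).map τ₁ = (π.cp (LinearMap.mulLeft R a)).map τ₂ := by
  obtain ⟨π'⟩ := exists_pres τ₁ φ₁ H₁ π
  have h1 := cp_one τ₁ φ₁ H₁ π π' a
  have h2 := cp_one τ₂ φ₂ H₂ π π' a
  rw [ha, ← h2] at h1
  exact (isRegular_X_pow π'.n).left h1

end general

section baseChange

variable {C : Type w} [CommRing C]

theorem isPushout_baseChange {X Y : Type u} [CommRing X] [CommRing Y] [Algebra C X] [Algebra C Y]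
    (f : X →ₐ[C] Y) (C2 : Type u) [CommRing C2] [Algebra C C2] :
    IsPushout (CommRingCat.ofHom f.toRingHom)
      (CommRingCat.ofHom (Algebra.TensorProduct.includeLeftRingHom : X →+* X ⊗[C] C2))
      (CommRingCat.ofHom (Algebra.TensorProduct.includeLeftRingHom : Y →+* Y ⊗[C] C2))
      (CommRingCat.ofHom (Algebra.TensorProduct.map f (AlgHom.id C C2)).toRingHom) := by
  letI algXY : Algebra X Y := f.toRingHom.toAlgebra
  haveI : IsScalarTower C X Y := IsScalarTower.of_algebraMap_eq' (by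
    ext c
    exact (f.commutes c).symm)
  letI algT : Algebra (X ⊗[C] C2) (Y ⊗[C] C2) :=
    (Algebra.TensorProduct.map f (AlgHom.id C C2)).toRingHom.toAlgebra
  haveI : IsScalarTower X (X ⊗[C] C2) (Y ⊗[C] C2) := IsScalarTower.of_algebraMap_eq' (by
    ext x
    change (f x) ⊗ₜ[C] (1 : C2) = Algebra.TensorProduct.map f (AlgHom.id C C2) (x ⊗ₜ 1)
    simp)
  have hP : Algebra.IsPushout X Y (X ⊗[C] C2) (Y ⊗[C] C2) :=
    Algebra.IsPushout.tensorProduct_tensorProduct C C2 X Y (by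
      ext c
      change Algebra.TensorProduct.map f (AlgHom.id C C2) ((1 : X) ⊗ₜ c) = (1 : Y) ⊗ₜ c
      simp)
  exact (CommRingCat.isPushout_iff_isPushout (R := X) (S := X ⊗[C] C2) (R' := Y)
    (S' := Y ⊗[C] C2)).mpr hP

end baseChange


section comodule

open Groth.Agent.Lib.Helper95.HG1

variable {R : Type w} {H B : Type u} [CommRing R] [CommRing H] [HopfAlgebra R H] [CommRing B]
  [Algebra R B]

variable (R H B) in
noncomputable def J : H ⊗[R] H →ₐ[R] (B ⊗[R] H) ⊗[R] H :=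
  Algebra.TensorProduct.map (Algebra.TensorProduct.includeRight : H →ₐ[R] B ⊗[R] H)
    (AlgHom.id R H)

variable (R H B) in
noncomputable def κ : H →ₐ[R] (B ⊗[R] H) ⊗[R] H := (J R H B).comp (Bialgebra.comulAlgHom R H)

variable (R H B) in
noncomputable def θ : (B ⊗[R] H) ⊗[R] H →ₐ[R] (B ⊗[R] H) ⊗[R] H :=
  Algebra.TensorProduct.productMap Algebra.TensorProduct.includeLeft (κ R H B)

theorem θ_tmul (z : B ⊗[R] H) (h : H) :
    θ R H B (z ⊗ₜ h) = (z ⊗ₜ 1) * κ R H B h := by
  simp [θ]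

theorem θ_left (z : B ⊗[R] H) : θ R H B (z ⊗ₜ 1) = z ⊗ₜ 1 := by
  rw [θ_tmul, map_one, mul_one]

theorem θ_J (w : H ⊗[R] H) : θ R H B (J R H B w) = J R H B (sh R H w) := by
  induction w using TensorProduct.induction_on with
  | zero => simp
  | tmul x y =>
    have h1 : J R H B (x ⊗ₜ y) = (((1 : B) ⊗ₜ[R] x) ⊗ₜ[R] y : (B ⊗[R] H) ⊗[R] H) := by
      simp [J]
    have h2 : J R H B (x ⊗ₜ 1) = (((1 : B) ⊗ₜ[R] x) ⊗ₜ[R] (1 : H) : (B ⊗[R] H) ⊗[R] H) := by
      simp [J]
    rw [h1, θ_tmul, sh_tmul, map_mul, h2]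
    rfl
  | add a b ha hb => simp only [map_add, ha, hb]

theorem θ_surjective : Function.Surjective (θ R H B) := by
  intro y
  induction y using TensorProduct.induction_on with
  | zero => exact ⟨0, map_zero _⟩
  | tmul z h =>
    refine ⟨(z ⊗ₜ 1) * J R H B (sh' R H (1 ⊗ₜ h)), ?_⟩
    rw [map_mul, θ_left, θ_J, sh_sh'_one_tmul]
    simp only [J, Algebra.TensorProduct.map_tmul, AlgHom.id_apply,
      Algebra.TensorProduct.includeRight_apply, Algebra.TensorProduct.tmul_mul_tmul, one_mul]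
    rw [← Algebra.TensorProduct.one_def, mul_one]
  | add a b ha hb =>
    obtain ⟨a', rfl⟩ := ha
    obtain ⟨b', rfl⟩ := hb
    exact ⟨a' + b', map_add _ _ _⟩

theorem θ_bijective [Module.Finite R H] : Function.Bijective (θ R H B) := by
  refine ⟨?_, θ_surjective⟩
  let θL : (B ⊗[R] H) ⊗[R] H →ₗ[B ⊗[R] H] (B ⊗[R] H) ⊗[R] H :=
    { toFun := θ R H B
      map_add' := map_add _
      map_smul' := fun z y => by
        have hs : ∀ y' : (B ⊗[R] H) ⊗[R] H, z • y' = (z ⊗ₜ[R] (1 : H)) * y' :=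
          fun y' => Algebra.smul_def z y'
        simp only [RingHom.id_apply]
        rw [hs, hs, map_mul, θ_left] }
  exact OrzechProperty.injective_of_surjective_endomorphism θL θ_surjective

variable (R H B) in
noncomputable def φ₁ : B ⊗[R] H →ₐ[R] (B ⊗[R] H) ⊗[R] H :=
  (θ R H B).comp (Algebra.TensorProduct.map
    (Algebra.TensorProduct.includeLeft : B →ₐ[R] B ⊗[R] H) (AlgHom.id R H))

theorem φ₁_left (b : B) : φ₁ R H B (b ⊗ₜ 1) = (b ⊗ₜ[R] (1 : H)) ⊗ₜ[R] (1 : H) := by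
  simp [φ₁, θ_left]

theorem isPushout_φ₁ [Module.Finite R H] :
    IsPushout (CommRingCat.ofHom (algebraMap B (B ⊗[R] H)))
      (CommRingCat.ofHom (algebraMap B (B ⊗[R] H)))
      (CommRingCat.ofHom (algebraMap (B ⊗[R] H) ((B ⊗[R] H) ⊗[R] H)))
      (CommRingCat.ofHom (φ₁ R H B).toRingHom) := by
  have H₁ := isPushout_baseChange (C := R)
    (Algebra.TensorProduct.includeLeft : B →ₐ[R] B ⊗[R] H) H
  let eθ : (B ⊗[R] H) ⊗[R] H ≃+* (B ⊗[R] H) ⊗[R] H :=
    RingEquiv.ofBijective (θ R H B).toRingHom θ_bijective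
  refine H₁.of_iso (Iso.refl _) (Iso.refl _) (Iso.refl _) eθ.toCommRingCatIso ?_ ?_ ?_ ?_
  · rfl
  · rfl
  · apply CommRingCat.hom_ext
    apply RingHom.ext
    intro z
    change θ R H B (z ⊗ₜ 1) = z ⊗ₜ 1
    exact θ_left z
  · apply CommRingCat.hom_ext
    apply RingHom.ext
    intro z
    rfl

theorem isPushout_ρ (ρ : B →ₐ[R] B ⊗[R] H) :
    IsPushout (CommRingCat.ofHom ρ.toRingHom)
      (CommRingCat.ofHom (algebraMap B (B ⊗[R] H)))
      (CommRingCat.ofHom (algebraMap (B ⊗[R] H) ((B ⊗[R] H) ⊗[R] H)))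
      (CommRingCat.ofHom (Algebra.TensorProduct.map ρ (AlgHom.id R H)).toRingHom) :=
  isPushout_baseChange (C := R) ρ H

theorem cp_inv [Module.Finite R H] (ρ : B →ₐ[R] B ⊗[R] H)
    (hco : ∀ b, φ₁ R H B (ρ b) = Algebra.TensorProduct.map ρ (AlgHom.id R H) (ρ b))
    (π : Pres B (B ⊗[R] H)) (b : B) :
    (π.cp (LinearMap.mulLeft B (ρ b))).map (algebraMap B (B ⊗[R] H)) =
      (π.cp (LinearMap.mulLeft B (ρ b))).map ρ.toRingHom :=
  cp_two (algebraMap B (B ⊗[R] H)) ρ.toRingHom (φ₁ R H B).toRingHom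
    (Algebra.TensorProduct.map ρ (AlgHom.id R H)).toRingHom isPushout_φ₁ (isPushout_ρ ρ) π (ρ b)
    (hco b)

end comodule

end Groth.Agent.Lib.Helper95.HG2
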