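import Groth.Agent.Lib.Helper95.HG2
import Groth.Agent.Lib.Helper95.Q7

set_option autoImplicit false
universe u w
open TensorProduct

namespace Groth.Agent.Lib.Helper95.HG3

open Groth.Agent.Lib.Helper15.ProjCharpoly Groth.Agent.Lib.Helper95.HG2 Groth.Agent.Lib.Helper95

variable {R : Type w} {H B : Type u} [CommRing R] [CommRing H] [HopfAlgebra R H] [CommRing B]
  [Algebra R B]

variable (R H B) in
noncomputable def eB : B ⊗[R] H →ₐ[R] B :=
  Algebra.TensorProduct.productMap (AlgHom.id R B)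
    ((Algebra.ofId R B).comp (Bialgebra.counitAlgHom R H))

theorem eB_left (b : B) : eB R H B (algebraMap B (B ⊗[R] H) b) = b := by
  change eB R H B (b ⊗ₜ 1) = b
  simp [eB]

theorem exists_comp (ρ : B →ₐ[R] B ⊗[R] H)
    (hco : ∀ b, φ₁ R H B (ρ b) = Algebra.TensorProduct.map ρ (AlgHom.id R H) (ρ b))
    (BB : Type u) [CommRing BB] (ιL ιR : B ⊗[R] H →+* BB)
    (h : ∀ b, ιL (algebraMap B (B ⊗[R] H) b) = ιR (ρ b)) :
    ∃ c' : B ⊗[R] H →+* BB, (∀ b, c' (algebraMap B (B ⊗[R] H) b) =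
      ιR (algebraMap B (B ⊗[R] H) b)) ∧ (∀ b, c' (ρ b) = ιL (ρ b)) := by
  letI algBB : Algebra R BB := (ιR.comp (algebraMap R (B ⊗[R] H))).toAlgebra
  let ιR' : B ⊗[R] H →ₐ[R] BB := { ιR with commutes' := fun r => rfl }
  let ιL' : H →ₐ[R] BB :=
    { ιL.comp (Algebra.TensorProduct.includeRight : H →ₐ[R] B ⊗[R] H).toRingHom with
      commutes' := fun r => by
        change ιL ((1 : B) ⊗ₜ[R] (algebraMap R H r)) = ιR (algebraMap R (B ⊗[R] H) r)
        have e1 : ((1 : B) ⊗ₜ[R] (algebraMap R H r) : B ⊗[R] H) =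
            algebraMap B (B ⊗[R] H) (algebraMap R B r) := by
          rw [Algebra.TensorProduct.algebraMap_apply, Algebra.algebraMap_self_apply,
            Algebra.algebraMap_eq_smul_one, Algebra.algebraMap_eq_smul_one,
            TensorProduct.smul_tmul]
        rw [e1, h, AlgHom.commutes] }
  let Ξ : (B ⊗[R] H) ⊗[R] H →ₐ[R] BB := Algebra.TensorProduct.productMap ιR' ιL'
  have hΞ : ∀ (z : B ⊗[R] H) (x : H), Ξ (z ⊗ₜ x) = ιR z * ιL ((1 : B) ⊗ₜ x) := by
    intro z x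
    simp [Ξ, ιR', ιL']
  refine ⟨(Ξ.comp (φ₁ R H B)).toRingHom, ?_, ?_⟩
  · intro b
    change Ξ (φ₁ R H B (b ⊗ₜ 1)) = ιR (b ⊗ₜ 1)
    rw [φ₁_left, hΞ]
    have : ((1 : B) ⊗ₜ[R] (1 : H) : B ⊗[R] H) = 1 := rfl
    rw [this, map_one, mul_one]
  · intro b
    change Ξ (φ₁ R H B (ρ b)) = ιL (ρ b)
    rw [hco]
    generalize ρ b = w
    induction w using TensorProduct.induction_on with
    | zero => simp
    | tmul b' x =>
      rw [Algebra.TensorProduct.map_tmul, AlgHom.id_apply, hΞ, ← h, ← map_mul]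
      congr 1
      rw [Algebra.TensorProduct.algebraMap_apply, Algebra.algebraMap_self_apply,
        Algebra.TensorProduct.tmul_mul_tmul, mul_one, one_mul]
    | add a b ha hb => simp only [map_add, ha, hb]

theorem main [Module.Finite R H] [Module.Projective R H] (ρ : B →ₐ[R] B ⊗[R] H)
    (hco : ∀ b, φ₁ R H B (ρ b) = Algebra.TensorProduct.map ρ (AlgHom.id R H) (ρ b))
    (hcounit : ∀ b, eB R H B (ρ b) = b)
    (hfree : Submodule.span B (Set.range ρ) = ⊤)
    (hint : Algebra.IsIntegral (RingHom.eqLocus (algebraMap B (B ⊗[R] H)) ρ.toRingHom) B) :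
    ((RingHom.eqLocus (algebraMap B (B ⊗[R] H)) ρ.toRingHom).subtype.Finite ∧
      (RingHom.eqLocus (algebraMap B (B ⊗[R] H)) ρ.toRingHom).subtype.Flat ∧
      (RingHom.eqLocus (algebraMap B (B ⊗[R] H)) ρ.toRingHom).subtype.FinitePresentation) ∧
    (∀ φ : B ⊗[RingHom.eqLocus (algebraMap B (B ⊗[R] H)) ρ.toRingHom] B →ₗ[
        RingHom.eqLocus (algebraMap B (B ⊗[R] H)) ρ.toRingHom] (B ⊗[R] H),
      (∀ a a' : B, φ (a ⊗ₜ[RingHom.eqLocus (algebraMap B (B ⊗[R] H)) ρ.toRingHom] a') =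
        ρ a * algebraMap B (B ⊗[R] H) a') → Function.Bijective φ) := by
  obtain ⟨π⟩ := Groth.Agent.Lib.Helper15.ProjCharpoly.exists_pres (R := B) (P := B ⊗[R] H)
  have hNinv : ∀ x, algebraMap B (B ⊗[R] H) (Q1.dn π (ρ x)) = ρ (Q1.dn π (ρ x)) := by
    intro x
    have h := cp_inv ρ hco π (1 - x)
    have h1 : ρ (1 - x) = 1 - ρ x := by rw [map_sub, map_one]
    rw [h1] at h
    have h2 := congrArg (Polynomial.eval 1) h
    rw [Polynomial.eval_one_map, Polynomial.eval_one_map] at h2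
    exact h2
  have key := Q7.ring_main (t := ρ.toRingHom) (eB R H B).toRingHom eB_left hcounit
    (fun BB _ ιL ιR h1 => exists_comp ρ hco BB ιL ιR h1) hfree hint
    (fun x => Q1.dn π (ρ x)) hNinv (fun x => Q1.dvd_dn π _)
    (fun x q hq h => Q1.exists_prime_of_dn_mem π _ q h)
  refine ⟨key.1, fun φ hφ => ?_⟩
  letI algC : Algebra (RingHom.eqLocus (algebraMap B (B ⊗[R] H)) ρ.toRingHom) (B ⊗[R] H) :=
    ((algebraMap B (B ⊗[R] H)).comp
      (RingHom.eqLocus (algebraMap B (B ⊗[R] H)) ρ.toRingHom).subtype).toAlgebra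
  let φ' : @LinearMap _ _ _ _ (RingHom.id _)
      (B ⊗[RingHom.eqLocus (algebraMap B (B ⊗[R] H)) ρ.toRingHom] B) (B ⊗[R] H) _ _ _
      algC.toModule :=
    @LinearMap.mk _ _ _ _ (RingHom.id _) _ _ _ _ _ algC.toModule
      ⟨φ, map_add φ⟩ (fun c x => by
        change φ (c • x) = ((c : B) ⊗ₜ[R] (1 : H)) * φ x
        rw [φ.map_smul]
        exact Algebra.smul_def (c : B) (φ x))
  exact key.2 φ' (fun a a' => hφ a a')

end Groth.Agent.Lib.Helper95.HG3
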