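import Groth.Agent.Lib.Helper95.HG3
import Mathlib.RingTheory.HopfAlgebra.Quotient

set_option autoImplicit false
universe u v
open TensorProduct

namespace Groth.Agent.Lib.Helper95.HG4

open Groth.Agent.Lib.Helper95.HG1 Groth.Agent.Lib.Helper95.HG2 Groth.Agent.Lib.Helper95.HG3

variable {R : Type u} {A : Type v} [CommRing R] [CommRing A] [HopfAlgebra R A] (I : Ideal A)
  [I.IsHopfIdeal R]

noncomputable abbrev pq : A →ₐ[R] A ⧸ I := Ideal.Quotient.mkₐ R I

variable (R) in
noncomputable def ρ : A →ₐ[R] A ⊗[R] (A ⧸ I) :=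
  (Algebra.TensorProduct.map (AlgHom.id R A) (pq (R := R) I)).comp (Bialgebra.comulAlgHom R A)

omit [I.IsHopfIdeal R] in
theorem ρ_apply (a : A) : ρ R I a =
    Algebra.TensorProduct.map (AlgHom.id R A) (pq (R := R) I) (Coalgebra.comul (R := R) a) := rfl

noncomputable def G₃ : (A ⊗[R] A) ⊗[R] A →ₐ[R] (A ⊗[R] (A ⧸ I)) ⊗[R] (A ⧸ I) :=
  Algebra.TensorProduct.map (Algebra.TensorProduct.map (AlgHom.id R A) (pq (R := R) I))
    (pq (R := R) I)

theorem aux_L1 (x : A) (v : A ⊗[R] A) :
    LinearMap.mulLeft R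
      (((x ⊗ₜ[R] (1 : A ⧸ I)) ⊗ₜ[R] (1 : A ⧸ I) : (A ⊗[R] (A ⧸ I)) ⊗[R] (A ⧸ I)))
      (J R (A ⧸ I) A (Algebra.TensorProduct.map (pq (R := R) I) (pq (R := R) I) v)) =
    G₃ I ((TensorProduct.assoc R A A A).symm (x ⊗ₜ v)) := by
  induction v using TensorProduct.induction_on with
  | zero => simp only [map_zero, TensorProduct.tmul_zero]
  | tmul y z => simp [G₃, J]
  | add a b ha hb => simp only [map_add, ha, hb, TensorProduct.tmul_add]

theorem aux_L (w : A ⊗[R] A) :
    θ R (A ⧸ I) A (Algebra.TensorProduct.map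
      (Algebra.TensorProduct.includeLeft : A →ₐ[R] A ⊗[R] (A ⧸ I)) (pq (R := R) I) w) =
    G₃ I ((TensorProduct.assoc R A A A).symm
      ((Coalgebra.comul (R := R) (A := A)).lTensor A w)) := by
  induction w using TensorProduct.induction_on with
  | zero => simp
  | tmul x y =>
    rw [Algebra.TensorProduct.map_tmul, θ_tmul, LinearMap.lTensor_tmul, ← aux_L1,
      LinearMap.mulLeft_apply]
    rfl
  | add a b ha hb => simp only [map_add, ha, hb]

omit [I.IsHopfIdeal R] in
theorem aux_R (w : A ⊗[R] A) :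
    Algebra.TensorProduct.map (ρ R I) (pq (R := R) I) w =
      G₃ I ((Coalgebra.comul (R := R) (A := A)).rTensor A w) := by
  induction w using TensorProduct.induction_on with
  | zero => simp
  | tmul x y =>
    rw [Algebra.TensorProduct.map_tmul, LinearMap.rTensor_tmul]
    rfl
  | add a b ha hb => simp only [map_add, ha, hb]

theorem hco (a : A) : φ₁ R (A ⧸ I) A (ρ R I a) =
    Algebra.TensorProduct.map (ρ R I) (AlgHom.id R (A ⧸ I)) (ρ R I a) := by
  have e1 : φ₁ R (A ⧸ I) A (ρ R I a) = θ R (A ⧸ I) A (Algebra.TensorProduct.map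
      (Algebra.TensorProduct.includeLeft : A →ₐ[R] A ⊗[R] (A ⧸ I)) (pq (R := R) I)
      (Coalgebra.comul (R := R) a)) := by
    rw [ρ_apply]
    unfold φ₁
    rw [AlgHom.comp_apply]
    congr 1
    generalize Coalgebra.comul (R := R) a = w
    induction w using TensorProduct.induction_on with
    | zero => simp
    | tmul x y => simp
    | add a b ha hb => simp only [map_add, ha, hb]
  have e2 : Algebra.TensorProduct.map (ρ R I) (AlgHom.id R (A ⧸ I)) (ρ R I a) =
      Algebra.TensorProduct.map (ρ R I) (pq (R := R) I) (Coalgebra.comul (R := R) a) := by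
    rw [ρ_apply]
    generalize Coalgebra.comul (R := R) a = w
    induction w using TensorProduct.induction_on with
    | zero => simp
    | tmul x y => simp
    | add a b ha hb => simp only [map_add, ha, hb]
  rw [e1, e2, aux_L, aux_R, Coalgebra.coassoc_symm_apply]

theorem hcounit (a : A) : eB R (A ⧸ I) A (ρ R I a) = a := by
  have h : ∀ w : A ⊗[R] A, eB R (A ⧸ I) A
      (Algebra.TensorProduct.map (AlgHom.id R A) (pq (R := R) I) w) =
      TensorProduct.rid R A ((Coalgebra.counit (R := R) (A := A)).lTensor A w) := by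
    intro w
    induction w using TensorProduct.induction_on with
    | zero => simp
    | tmul x y =>
      simp only [eB, Algebra.TensorProduct.map_tmul, AlgHom.id_apply,
        Algebra.TensorProduct.productMap_apply_tmul, AlgHom.comp_apply, LinearMap.lTensor_tmul,
        TensorProduct.rid_tmul]
      rw [Algebra.smul_def, mul_comm]
      rfl
    | add a b ha hb => simp only [map_add, ha, hb]
  rw [ρ_apply, h, Coalgebra.lTensor_counit_comul]
  simp

theorem hfree : Submodule.span A (Set.range (ρ R I)) = ⊤ := by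
  have h1 : ∀ w : A ⊗[R] A, Algebra.TensorProduct.map (AlgHom.id R A) (pq (R := R) I)
      (sh R A w) ∈ Submodule.span A (Set.range (ρ R I)) := by
    intro w
    induction w using TensorProduct.induction_on with
    | zero =>
      rw [map_zero, map_zero]
      exact Submodule.zero_mem _
    | tmul x y =>
      rw [sh_tmul, map_mul]
      have e : Algebra.TensorProduct.map (AlgHom.id R A) (pq (R := R) I) (x ⊗ₜ[R] (1 : A)) *
          Algebra.TensorProduct.map (AlgHom.id R A) (pq (R := R) I) (Coalgebra.comul (R := R) y) =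
          x • ρ R I y := by
        rw [show x • ρ R I y = (x ⊗ₜ[R] (1 : A ⧸ I)) * ρ R I y from
          Algebra.smul_def x (ρ R I y), ρ_apply]
        congr 1
      rw [e]
      exact Submodule.smul_mem _ _ (Submodule.subset_span ⟨y, rfl⟩)
    | add a b ha hb =>
      rw [map_add, map_add]
      exact Submodule.add_mem _ ha hb
  have h2 : ∀ b : A, ((1 : A) ⊗ₜ[R] (pq (R := R) I b) : A ⊗[R] (A ⧸ I)) ∈
      Submodule.span A (Set.range (ρ R I)) := by
    intro b
    have := h1 (sh' R A (1 ⊗ₜ b))
    rw [sh_sh'_one_tmul] at this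
    simpa using this
  rw [eq_top_iff]
  rintro z -
  induction z using TensorProduct.induction_on with
  | zero => exact Submodule.zero_mem _
  | tmul a h =>
    obtain ⟨b, rfl⟩ := Ideal.Quotient.mk_surjective h
    have e : (a ⊗ₜ[R] (Ideal.Quotient.mk I b) : A ⊗[R] (A ⧸ I)) =
        a • ((1 : A) ⊗ₜ[R] (pq (R := R) I b)) := by
      rw [TensorProduct.smul_tmul', smul_eq_mul, mul_one]
      rfl
    rw [e]
    exact Submodule.smul_mem _ _ (h2 b)
  | add a b ha hb => exact Submodule.add_mem _ ha hb

omit [I.IsHopfIdeal R] in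
theorem hint [Module.Finite R A] :
    Algebra.IsIntegral (RingHom.eqLocus (algebraMap A (A ⊗[R] (A ⧸ I))) (ρ R I).toRingHom) A := by
  refine ⟨fun a => ?_⟩
  obtain ⟨p, hp, hpa⟩ := Algebra.IsIntegral.isIntegral (R := R) a
  let j : R →+* RingHom.eqLocus (algebraMap A (A ⊗[R] (A ⧸ I))) (ρ R I).toRingHom :=
    (algebraMap R A).codRestrict _ (fun r => by
      change algebraMap A (A ⊗[R] (A ⧸ I)) (algebraMap R A r) = ρ R I (algebraMap R A r)
      rw [AlgHom.commutes, ← IsScalarTower.algebraMap_apply])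
  refine ⟨p.map j, hp.map j, ?_⟩
  rw [Polynomial.eval₂_map]
  exact hpa

end Groth.Agent.Lib.Helper95.HG4
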