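import Mathlib

set_option autoImplicit false

namespace Groth.Agent.Lib.Helper95.Nine

noncomputable section

theorem exists_addHom_of_rel {G H : Type*} [AddCommGroup G] [AddCommGroup H] (R : G → H → Prop)
    (htot : ∀ g, ∃ h, R g h)
    (hsub : ∀ g g' h h', R g h → R g' h' → R (g - g') (h - h'))
    (huniq : ∀ h, R 0 h → h = 0) :
    ∃ δ : G →+ H, ∀ g h, R g h ↔ δ g = h := by
  classical
  choose f hf using htot
  have h00 : R 0 0 := by simpa using hsub 0 0 _ _ (hf 0) (hf 0)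
  have huq : ∀ g h h', R g h → R g h' → h = h' := by
    intro g h h' h1 h2
    have := hsub g g h h' h1 h2
    rw [sub_self] at this
    exact sub_eq_zero.mp (huniq _ this)
  have hadd : ∀ g g' h h', R g h → R g' h' → R (g + g') (h + h') := by
    intro g g' h h' h1 h2
    have hn : R (-g') (-h') := by simpa using hsub 0 g' 0 h' h00 h2
    simpa using hsub g (-g') h (-h') h1 hn
  refine ⟨AddMonoidHom.mk' f (fun a b => ?_), fun g h => ⟨fun hR => ?_, fun hE => ?_⟩⟩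
  · exact huq _ _ _ (hf (a + b)) (hadd _ _ _ _ (hf a) (hf b))
  · exact huq _ _ _ (hf g) hR
  · subst hE; exact hf g

lemma exact_of_equiv {M N P M' N' P' : Type*} [Zero P] [Zero P'] (f : M → N) (g : N → P)
    (f' : M' → N') (g' : N' → P') (e1 : M ≃ M') (e2 : N ≃ N') (e3 : P ≃ P') (h3 : e3 0 = 0)
    (hf : ∀ x, f' (e1 x) = e2 (f x)) (hg : ∀ y, g' (e2 y) = e3 (g y))
    (h : Function.Exact f g) : Function.Exact f' g' := by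
  intro y'
  obtain ⟨y, rfl⟩ := e2.surjective y'
  rw [hg]
  constructor
  · intro h0
    have : g y = 0 := e3.injective (h0.trans h3.symm)
    obtain ⟨x, rfl⟩ := (h y).mp this
    exact ⟨e1 x, hf x⟩
  · rintro ⟨x', hx'⟩
    obtain ⟨x, rfl⟩ := e1.surjective x'
    rw [hf] at hx'
    have : f x = y := e2.injective hx'
    have h0 : g y = 0 := (h y).mpr ⟨x, this⟩
    rw [h0, h3]

section Cx

variable {K0 K1 K2 : Type*} [AddCommGroup K0] [AddCommGroup K1] [AddCommGroup K2]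
variable {L0 L1 L2 : Type*} [AddCommGroup L0] [AddCommGroup L1] [AddCommGroup L2]

abbrev H0 (d0 : K0 →+ K1) : Type _ := d0.ker
abbrev H1 (d0 : K0 →+ K1) (d1 : K1 →+ K2) : Type _ := d1.ker ⧸ (d0.range.addSubgroupOf d1.ker)
abbrev H2 (d1 : K1 →+ K2) : Type _ := K2 ⧸ d1.range

variable (d0 : K0 →+ K1) (d1 : K1 →+ K2) (e0 : L0 →+ L1) (e1 : L1 →+ L2)
variable (f0 : K0 →+ L0) (f1 : K1 →+ L1) (f2 : K2 →+ L2)

def H0map (c0 : ∀ x, f1 (d0 x) = e0 (f0 x)) : H0 d0 →+ H0 e0 :=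
  (f0.comp d0.ker.subtype).codRestrict e0.ker (fun x => by
    rw [AddMonoidHom.mem_ker, AddMonoidHom.comp_apply, ← c0]
    have : d0 x.1 = 0 := x.2
    rw [AddSubgroup.coe_subtype, this, map_zero])

@[simp] lemma H0map_coe (c0 : ∀ x, f1 (d0 x) = e0 (f0 x)) (x : H0 d0) :
    (H0map d0 e0 f0 f1 c0 x : L0) = f0 x.1 := rfl

def Z1map (c1 : ∀ x, f2 (d1 x) = e1 (f1 x)) : d1.ker →+ e1.ker :=
  (f1.comp d1.ker.subtype).codRestrict e1.ker (fun x => by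
    rw [AddMonoidHom.mem_ker, AddMonoidHom.comp_apply, ← c1]
    have : d1 x.1 = 0 := x.2
    rw [AddSubgroup.coe_subtype, this, map_zero])

@[simp] lemma Z1map_coe (c1 : ∀ x, f2 (d1 x) = e1 (f1 x)) (x : d1.ker) :
    (Z1map d1 e1 f1 f2 c1 x : L1) = f1 x.1 := rfl

def H1map (c0 : ∀ x, f1 (d0 x) = e0 (f0 x)) (c1 : ∀ x, f2 (d1 x) = e1 (f1 x)) :
    H1 d0 d1 →+ H1 e0 e1 :=
  QuotientAddGroup.map _ _ (Z1map d1 e1 f1 f2 c1) (by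
    intro x hx
    rw [AddSubgroup.mem_comap, AddSubgroup.mem_addSubgroupOf]
    rw [AddSubgroup.mem_addSubgroupOf] at hx
    obtain ⟨y, hy⟩ := hx
    exact ⟨f0 y, by rw [← c0, hy]; rfl⟩)

lemma H1map_mk (c0 : ∀ x, f1 (d0 x) = e0 (f0 x)) (c1 : ∀ x, f2 (d1 x) = e1 (f1 x)) (x : d1.ker) :
    H1map d0 d1 e0 e1 f0 f1 f2 c0 c1 (QuotientAddGroup.mk x) =
      QuotientAddGroup.mk (Z1map d1 e1 f1 f2 c1 x) := rfl

def H2map (c1 : ∀ x, f2 (d1 x) = e1 (f1 x)) : H2 d1 →+ H2 e1 :=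
  QuotientAddGroup.map _ _ f2 (by
    rintro _ ⟨y, rfl⟩
    exact ⟨f1 y, (c1 y).symm⟩)

lemma H2map_mk (c1 : ∀ x, f2 (d1 x) = e1 (f1 x)) (x : K2) :
    H2map d1 e1 f1 f2 c1 (QuotientAddGroup.mk x) = QuotientAddGroup.mk (f2 x) := rfl

lemma H1_mk_eq_zero_iff (x : d1.ker) :
    (QuotientAddGroup.mk x : H1 d0 d1) = 0 ↔ ∃ y, d0 y = x.1 := by
  rw [QuotientAddGroup.eq_zero_iff, AddSubgroup.mem_addSubgroupOf]
  rfl

lemma H2_mk_eq_zero_iff (x : K2) :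
    (QuotientAddGroup.mk x : H2 d1) = 0 ↔ ∃ y, d1 y = x := by
  rw [QuotientAddGroup.eq_zero_iff]
  rfl

lemma H1_mk_eq_mk_iff (x x' : d1.ker) :
    (QuotientAddGroup.mk x : H1 d0 d1) = QuotientAddGroup.mk x' ↔ ∃ y, d0 y = x.1 - x'.1 := by
  rw [← sub_eq_zero, ← QuotientAddGroup.mk_sub, H1_mk_eq_zero_iff]
  rfl

lemma H2_mk_eq_mk_iff (x x' : K2) :
    (QuotientAddGroup.mk x : H2 d1) = QuotientAddGroup.mk x' ↔ ∃ y, d1 y = x - x' := by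
  rw [← sub_eq_zero, ← QuotientAddGroup.mk_sub, H2_mk_eq_zero_iff]

end Cx

structure NineTerm {X0 X1 X2 Y0 Y1 Y2 Z0 Z1 Z2 : Type*}
    [AddCommGroup X0] [AddCommGroup X1] [AddCommGroup X2]
    [AddCommGroup Y0] [AddCommGroup Y1] [AddCommGroup Y2]
    [AddCommGroup Z0] [AddCommGroup Z1] [AddCommGroup Z2]
    (a0 : X0 → Y0) (b0 : Y0 → Z0) (a1 : X1 → Y1) (b1 : Y1 → Z1) (a2 : X2 → Y2) (b2 : Y2 → Z2) :
    Prop where
  inj : Function.Injective a0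
  ex0 : Function.Exact a0 b0
  ex1 : Function.Exact a1 b1
  ex2 : Function.Exact a2 b2
  conn : ∃ (δ₀ : Z0 →+ X1) (δ₁ : Z1 →+ X2), Function.Exact b0 δ₀ ∧ Function.Exact δ₀ a1 ∧
      Function.Exact b1 δ₁ ∧ Function.Exact δ₁ a2

section Transfer

variable {X0 X1 X2 Y0 Y1 Y2 Z0 Z1 Z2 : Type*}
    [AddCommGroup X0] [AddCommGroup X1] [AddCommGroup X2]
    [AddCommGroup Y0] [AddCommGroup Y1] [AddCommGroup Y2]
    [AddCommGroup Z0] [AddCommGroup Z1] [AddCommGroup Z2]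
variable {X0' X1' X2' Y0' Y1' Y2' Z0' Z1' Z2' : Type*}
    [AddCommGroup X0'] [AddCommGroup X1'] [AddCommGroup X2']
    [AddCommGroup Y0'] [AddCommGroup Y1'] [AddCommGroup Y2']
    [AddCommGroup Z0'] [AddCommGroup Z1'] [AddCommGroup Z2']

theorem NineTerm.transfer
    {a0 : X0 → Y0} {b0 : Y0 → Z0} {a1 : X1 → Y1} {b1 : Y1 → Z1} {a2 : X2 → Y2} {b2 : Y2 → Z2}
    (h : NineTerm a0 b0 a1 b1 a2 b2)
    (a0' : X0' → Y0') (b0' : Y0' → Z0') (a1' : X1' → Y1') (b1' : Y1' → Z1') (a2' : X2' → Y2')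
    (b2' : Y2' → Z2')
    (ξ0 : X0 ≃+ X0') (ξ1 : X1 ≃+ X1') (ξ2 : X2 ≃+ X2')
    (η0 : Y0 ≃+ Y0') (η1 : Y1 ≃+ Y1') (η2 : Y2 ≃+ Y2')
    (ζ0 : Z0 ≃+ Z0') (ζ1 : Z1 ≃+ Z1') (ζ2 : Z2 ≃+ Z2')
    (ha0 : ∀ x, a0' (ξ0 x) = η0 (a0 x)) (hb0 : ∀ y, b0' (η0 y) = ζ0 (b0 y))
    (ha1 : ∀ x, a1' (ξ1 x) = η1 (a1 x)) (hb1 : ∀ y, b1' (η1 y) = ζ1 (b1 y))
    (ha2 : ∀ x, a2' (ξ2 x) = η2 (a2 x)) (hb2 : ∀ y, b2' (η2 y) = ζ2 (b2 y)) :
    NineTerm a0' b0' a1' b1' a2' b2' := by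
  obtain ⟨δ₀, δ₁, h1, h2, h3, h4⟩ := h.conn
  refine ⟨?_, ?_, ?_, ?_, ?_⟩
  · intro x y hxy
    obtain ⟨x, rfl⟩ := ξ0.surjective x
    obtain ⟨y, rfl⟩ := ξ0.surjective y
    rw [ha0, ha0] at hxy
    rw [h.inj (η0.injective hxy)]
  · exact exact_of_equiv a0 b0 a0' b0' ξ0.toEquiv η0.toEquiv ζ0.toEquiv (map_zero ζ0) ha0 hb0 h.ex0
  · exact exact_of_equiv a1 b1 a1' b1' ξ1.toEquiv η1.toEquiv ζ1.toEquiv (map_zero ζ1) ha1 hb1 h.ex1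
  · exact exact_of_equiv a2 b2 a2' b2' ξ2.toEquiv η2.toEquiv ζ2.toEquiv (map_zero ζ2) ha2 hb2 h.ex2
  · refine ⟨(ξ1.toAddMonoidHom.comp δ₀).comp ζ0.symm.toAddMonoidHom,
      (ξ2.toAddMonoidHom.comp δ₁).comp ζ1.symm.toAddMonoidHom, ?_, ?_, ?_, ?_⟩
    · exact exact_of_equiv b0 δ₀ b0' _ η0.toEquiv ζ0.toEquiv ξ1.toEquiv (map_zero ξ1) hb0
        (fun y => by simp) h1
    · exact exact_of_equiv δ₀ a1 _ a1' ζ0.toEquiv ξ1.toEquiv η1.toEquiv (map_zero η1)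
        (fun y => by simp) ha1 h2
    · exact exact_of_equiv b1 δ₁ b1' _ η1.toEquiv ζ1.toEquiv ξ2.toEquiv (map_zero ξ2) hb1
        (fun y => by simp) h3
    · exact exact_of_equiv δ₁ a2 _ a2' ζ1.toEquiv ξ2.toEquiv η2.toEquiv (map_zero η2)
        (fun y => by simp) ha2 h4

end Transfer

section Main

variable {X0 X1 X2 Y0 Y1 Y2 Z0 Z1 Z2 : Type*}
    [AddCommGroup X0] [AddCommGroup X1] [AddCommGroup X2]
    [AddCommGroup Y0] [AddCommGroup Y1] [AddCommGroup Y2]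
    [AddCommGroup Z0] [AddCommGroup Z1] [AddCommGroup Z2]

set_option maxHeartbeats 1600000 in
theorem nineTerm
    (dX0 : X0 →+ X1) (dX1 : X1 →+ X2) (dY0 : Y0 →+ Y1) (dY1 : Y1 →+ Y2)
    (dZ0 : Z0 →+ Z1) (dZ1 : Z1 →+ Z2)
    (i0 : X0 →+ Y0) (i1 : X1 →+ Y1) (i2 : X2 →+ Y2)
    (p0 : Y0 →+ Z0) (p1 : Y1 →+ Z1) (p2 : Y2 →+ Z2)
    (ddY : ∀ y, dY1 (dY0 y) = 0)
    (ci0 : ∀ x, i1 (dX0 x) = dY0 (i0 x)) (ci1 : ∀ x, i2 (dX1 x) = dY1 (i1 x))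
    (cp0 : ∀ y, p1 (dY0 y) = dZ0 (p0 y)) (cp1 : ∀ y, p2 (dY1 y) = dZ1 (p1 y))
    (inj0 : Function.Injective i0) (inj1 : Function.Injective i1) (inj2 : Function.Injective i2)
    (ex0 : ∀ y, p0 y = 0 ↔ ∃ x, i0 x = y) (ex1 : ∀ y, p1 y = 0 ↔ ∃ x, i1 x = y)
    (ex2 : ∀ y, p2 y = 0 ↔ ∃ x, i2 x = y)
    (sur0 : Function.Surjective p0) (sur1 : Function.Surjective p1) :
    NineTerm (H0map dX0 dY0 i0 i1 ci0) (H0map dY0 dZ0 p0 p1 cp0)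
      (H1map dX0 dX1 dY0 dY1 i0 i1 i2 ci0 ci1) (H1map dY0 dY1 dZ0 dZ1 p0 p1 p2 cp0 cp1)
      (H2map dX1 dY1 i1 i2 ci1) (H2map dY1 dZ1 p1 p2 cp1) := by
  have pi0 : ∀ x, p0 (i0 x) = 0 := fun x => (ex0 _).mpr ⟨x, rfl⟩
  have pi1 : ∀ x, p1 (i1 x) = 0 := fun x => (ex1 _).mpr ⟨x, rfl⟩
  have pi2 : ∀ x, p2 (i2 x) = 0 := fun x => (ex2 _).mpr ⟨x, rfl⟩
  -- closedness of x from i1 x = dY0 y
  have hcl : ∀ (x : X1) (y : Y0), dY0 y = i1 x → dX1 x = 0 := by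
    intro x y hxy
    apply inj2
    rw [ci1, ← hxy, ddY, map_zero]
  -- the relation for δ₀
  let R0 : H0 dZ0 → H1 dX0 dX1 → Prop := fun z t =>
    ∃ (y : Y0) (x : dX1.ker), p0 y = z.1 ∧ dY0 y = i1 x.1 ∧ t = QuotientAddGroup.mk x
  have R0tot : ∀ z, ∃ t, R0 z t := by
    rintro ⟨z, hz⟩
    obtain ⟨y, hy⟩ := sur0 z
    have h1 : p1 (dY0 y) = 0 := by
      rw [cp0, hy]; exact hz
    obtain ⟨x, hx⟩ := (ex1 _).mp h1
    exact ⟨_, y, ⟨x, hcl x y hx.symm⟩, hy, hx.symm, rfl⟩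
  have R0sub : ∀ g g' h h', R0 g h → R0 g' h' → R0 (g - g') (h - h') := by
    rintro g g' h h' ⟨y, x, h1, h2, rfl⟩ ⟨y', x', h1', h2', rfl⟩
    refine ⟨y - y', x - x', ?_, ?_, rfl⟩
    · rw [map_sub, h1, h1']; rfl
    · rw [map_sub, h2, h2', ← map_sub]; rfl
  have R0uniq : ∀ h, R0 0 h → h = 0 := by
    rintro h ⟨y, x, h1, h2, rfl⟩
    have h1' : p0 y = 0 := h1
    obtain ⟨x0, rfl⟩ := (ex0 _).mp h1'
    rw [H1_mk_eq_zero_iff]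
    refine ⟨x0, inj1 ?_⟩
    rw [ci0, h2]
  obtain ⟨δ₀, hδ₀⟩ := exists_addHom_of_rel R0 R0tot R0sub R0uniq
  -- the relation for δ₁
  let R1 : H1 dZ0 dZ1 → H2 dX1 → Prop := fun t s =>
    ∃ (z : dZ1.ker) (y : Y1) (x : X2), t = QuotientAddGroup.mk z ∧ p1 y = z.1 ∧ dY1 y = i2 x ∧
      s = QuotientAddGroup.mk x
  have R1tot : ∀ t, ∃ s, R1 t s := by
    intro t
    obtain ⟨⟨z, hz⟩, rfl⟩ := QuotientAddGroup.mk_surjective t
    obtain ⟨y, hy⟩ := sur1 z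
    have h1 : p2 (dY1 y) = 0 := by
      rw [cp1, hy]; exact hz
    obtain ⟨x, hx⟩ := (ex2 _).mp h1
    exact ⟨_, ⟨z, hz⟩, y, x, rfl, hy, hx.symm, rfl⟩
  have R1sub : ∀ g g' h h', R1 g h → R1 g' h' → R1 (g - g') (h - h') := by
    rintro g g' h h' ⟨z, y, x, rfl, h1, h2, rfl⟩ ⟨z', y', x', rfl, h1', h2', rfl⟩
    refine ⟨z - z', y - y', x - x', rfl, ?_, ?_, rfl⟩
    · rw [map_sub, h1, h1']; rfl
    · rw [map_sub, h2, h2', ← map_sub]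
  have R1uniq : ∀ h, R1 0 h → h = 0 := by
    rintro h ⟨z, y, x, h0, h1, h2, rfl⟩
    obtain ⟨z0, hz0⟩ := (H1_mk_eq_zero_iff dZ0 dZ1 z).mp h0.symm
    obtain ⟨y0, rfl⟩ := sur0 z0
    have h3 : p1 (y - dY0 y0) = 0 := by
      rw [map_sub, h1, cp0, hz0, sub_self]
    obtain ⟨x1, hx1⟩ := (ex1 _).mp h3
    rw [H2_mk_eq_zero_iff]
    refine ⟨x1, inj2 ?_⟩
    rw [ci1, hx1, map_sub, ddY, sub_zero, h2]
  obtain ⟨δ₁, hδ₁⟩ := exists_addHom_of_rel R1 R1tot R1sub R1uniq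
  refine ⟨?_, ?_, ?_, ?_, ⟨δ₀, δ₁, ?_, ?_, ?_, ?_⟩⟩
  · -- injectivity on H0
    rintro ⟨x, hx⟩ ⟨x', hx'⟩ h
    have : i0 x = i0 x' := congrArg Subtype.val h
    exact Subtype.ext (inj0 this)
  · -- exact at H0 Y
    rintro ⟨y, hy⟩
    constructor
    · intro h
      have h' : p0 y = 0 := congrArg Subtype.val h
      obtain ⟨x, rfl⟩ := (ex0 _).mp h'
      have hx : dX0 x = 0 := by
        apply inj1
        rw [ci0, map_zero]; exact hy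
      exact ⟨⟨x, hx⟩, Subtype.ext rfl⟩
    · rintro ⟨⟨x, hx⟩, h⟩
      have h' : i0 x = y := congrArg Subtype.val h
      apply Subtype.ext
      change p0 y = 0
      rw [← h', pi0]
  · -- exact at H1 Y
    intro t
    obtain ⟨⟨y, hy⟩, rfl⟩ := QuotientAddGroup.mk_surjective t
    rw [H1map_mk, H1_mk_eq_zero_iff]
    constructor
    · rintro ⟨z0, hz0⟩
      have hz0' : dZ0 z0 = p1 y := hz0
      obtain ⟨y0, rfl⟩ := sur0 z0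
      have h3 : p1 (y - dY0 y0) = 0 := by
        rw [map_sub, cp0, hz0', sub_self]
      obtain ⟨x, hx⟩ := (ex1 _).mp h3
      have hy' : dY1 y = 0 := hy
      have hxc : dX1 x = 0 := by
        apply inj2
        rw [ci1, hx, map_sub, ddY, hy', sub_zero, map_zero]
      refine ⟨QuotientAddGroup.mk ⟨x, hxc⟩, ?_⟩
      rw [H1map_mk, H1_mk_eq_mk_iff]
      refine ⟨-y0, ?_⟩
      change dY0 (-y0) = i1 x - y
      rw [hx, map_neg]; abel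
    · rintro ⟨s, hs⟩
      obtain ⟨⟨x, hx⟩, rfl⟩ := QuotientAddGroup.mk_surjective s
      rw [H1map_mk, H1_mk_eq_mk_iff] at hs
      obtain ⟨y0, hy0⟩ := hs
      have hy0' : dY0 y0 = i1 x - y := hy0
      refine ⟨p0 (-y0), ?_⟩
      change dZ0 (p0 (-y0)) = p1 y
      rw [← cp0, map_neg, hy0', map_neg, map_sub, pi1, zero_sub, neg_neg]
  · -- exact at H2 Y
    intro t
    obtain ⟨y, rfl⟩ := QuotientAddGroup.mk_surjective t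
    rw [H2map_mk, H2_mk_eq_zero_iff]
    constructor
    · rintro ⟨z1, hz1⟩
      obtain ⟨y1, rfl⟩ := sur1 z1
      have h3 : p2 (y - dY1 y1) = 0 := by
        rw [map_sub, cp1, hz1, sub_self]
      obtain ⟨x, hx⟩ := (ex2 _).mp h3
      refine ⟨QuotientAddGroup.mk x, ?_⟩
      rw [H2map_mk, H2_mk_eq_mk_iff]
      exact ⟨-y1, by rw [hx, map_neg]; abel⟩
    · rintro ⟨s, hs⟩
      obtain ⟨x, rfl⟩ := QuotientAddGroup.mk_surjective s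
      rw [H2map_mk, H2_mk_eq_mk_iff] at hs
      obtain ⟨y1, hy1⟩ := hs
      refine ⟨p1 (-y1), ?_⟩
      rw [← cp1, map_neg, hy1, map_neg, map_sub, pi2, zero_sub, neg_neg]
  · -- exact H0 Y → H0 Z → H1 X
    intro z
    constructor
    · intro h
      obtain ⟨y, x, h1, h2, h3⟩ := (hδ₀ z 0).mpr h
      obtain ⟨x0, hx0⟩ := (H1_mk_eq_zero_iff dX0 dX1 x).mp h3.symm
      have hy' : dY0 (y - i0 x0) = 0 := by
        rw [map_sub, h2, ← ci0, hx0, sub_self]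
      refine ⟨⟨y - i0 x0, hy'⟩, Subtype.ext ?_⟩
      change p0 (y - i0 x0) = z.1
      rw [map_sub, pi0, sub_zero, h1]
    · rintro ⟨⟨y, hy⟩, rfl⟩
      refine (hδ₀ _ 0).mp ⟨y, 0, rfl, ?_, rfl⟩
      have hy' : dY0 y = 0 := hy
      rw [hy']; exact (map_zero i1).symm
  · -- exact H0 Z → H1 X → H1 Y
    intro t
    obtain ⟨⟨x, hx⟩, rfl⟩ := QuotientAddGroup.mk_surjective t
    rw [H1map_mk, H1_mk_eq_zero_iff]
    constructor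
    · rintro ⟨y, hy⟩
      have hy' : dY0 y = i1 x := hy
      have hz : dZ0 (p0 y) = 0 := by rw [← cp0, hy', pi1]
      exact ⟨⟨p0 y, hz⟩, (hδ₀ _ _).mp ⟨y, ⟨x, hx⟩, rfl, hy', rfl⟩⟩
    · rintro ⟨z, hz⟩
      obtain ⟨y, x', h1, h2, h3⟩ := (hδ₀ z _).mpr hz
      obtain ⟨x0, hx0⟩ := (H1_mk_eq_mk_iff dX0 dX1 _ _).mp h3
      have hx0' : dX0 x0 = x - x'.1 := hx0
      refine ⟨y + i0 x0, ?_⟩
      change dY0 (y + i0 x0) = i1 x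
      rw [map_add, ← ci0, hx0', h2, map_sub]; abel
  · -- exact H1 Y → H1 Z → H2 X
    intro t
    constructor
    · intro h
      obtain ⟨z, y, x, h0, h1, h2, h3⟩ := (hδ₁ t 0).mpr h
      obtain ⟨x1, hx1⟩ := (H2_mk_eq_zero_iff dX1 x).mp h3.symm
      have hyc : dY1 (y - i1 x1) = 0 := by
        rw [map_sub, h2, ← ci1, hx1, sub_self]
      refine ⟨QuotientAddGroup.mk ⟨y - i1 x1, hyc⟩, ?_⟩
      rw [H1map_mk, h0, H1_mk_eq_mk_iff]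
      refine ⟨0, ?_⟩
      change dZ0 0 = p1 (y - i1 x1) - z.1
      rw [map_zero, map_sub, pi1, sub_zero, h1, sub_self]
    · rintro ⟨s, rfl⟩
      obtain ⟨⟨y, hy⟩, rfl⟩ := QuotientAddGroup.mk_surjective s
      have hy' : dY1 y = 0 := hy
      have hz : dZ1 (p1 y) = 0 := by rw [← cp1, hy', map_zero]
      refine (hδ₁ _ 0).mp ⟨⟨p1 y, hz⟩, y, 0, rfl, rfl, ?_, rfl⟩
      rw [hy']; exact (map_zero i2).symm
  · -- exact H1 Z → H2 X → H2 Y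
    intro t
    obtain ⟨x, rfl⟩ := QuotientAddGroup.mk_surjective t
    rw [H2map_mk, H2_mk_eq_zero_iff]
    constructor
    · rintro ⟨y, hy⟩
      have hz : dZ1 (p1 y) = 0 := by rw [← cp1, hy, pi2]
      exact ⟨QuotientAddGroup.mk ⟨p1 y, hz⟩, (hδ₁ _ _).mp ⟨⟨p1 y, hz⟩, y, x, rfl, rfl, hy, rfl⟩⟩
    · rintro ⟨s, hs⟩
      obtain ⟨z, y, x', h0, h1, h2, h3⟩ := (hδ₁ s _).mpr hs
      obtain ⟨x1, hx1⟩ := (H2_mk_eq_mk_iff dX1 _ _).mp h3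
      refine ⟨y + i1 x1, ?_⟩
      rw [map_add, ← ci1, hx1, h2, map_sub]; abel

end Main

end

end Groth.Agent.Lib.Helper95.Nine
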