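import Mathlib
import Groth.Agent.Lib.Helper97.CotT2.AddVars
import Groth.Agent.Lib.Helper97.CotT2.Indep
import Groth.Agent.Lib.Helper95.Nine

set_option autoImplicit false

namespace Groth.Agent.Lib.Helper95.HM

open Groth.Agent.Lib.Helper97.CotT2 Groth.Agent.Lib.Helper95

noncomputable section

universe u

structure Dat (C : Type u) [CommRing C] where
  R : Type u
  [cr : CommRing R]
  A0 : Type u
  [ca : CommRing A0]
  β : A0 →+* R
  π : R →+* C
  σ : Type u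
  r : σ → R
  hr : ∀ s, π (r s) = 0

attribute [instance] Dat.cr Dat.ca

variable {C : Type u} [CommRing C] (M : Type*) [AddCommGroup M] [Module C M]

namespace Dat

variable (D : Dat C)

abbrev F : Type u := D.σ →₀ D.R

lemma π_jm (f : D.F) : D.π (jm D.r f) = 0 := by
  induction f using Finsupp.induction_linear with
  | zero => simp
  | add f g hf hg => rw [map_add, map_add, hf, hg, add_zero]
  | single s x => rw [jm_single, map_mul, D.hr, mul_zero]

lemma π_span {y : D.R} (hy : y ∈ Ideal.span (Set.range D.r)) : D.π y = 0 := by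
  obtain ⟨c, rfl⟩ := Finsupp.mem_span_range_iff_exists_finsupp.mp hy
  have : (c.sum fun i a => a • D.r i) = jm D.r c := by
    rw [jm, Finsupp.linearCombination_apply]
  rw [this, D.π_jm]

lemma exists_jm_eq {y : D.R} (hy : y ∈ Ideal.span (Set.range D.r)) : ∃ f : D.F, jm D.r f = y := by
  obtain ⟨c, rfl⟩ := Finsupp.mem_span_range_iff_exists_finsupp.mp hy
  exact ⟨c, by rw [jm, Finsupp.linearCombination_apply]⟩

lemma jm_mem_span (f : D.F) : jm D.r f ∈ Ideal.span (Set.range D.r) := by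
  rw [jm, Finsupp.linearCombination_apply]
  exact Finsupp.mem_span_range_iff_exists_finsupp.mpr ⟨f, rfl⟩

def K0 : AddSubgroup (D.R →+ M) where
  carrier := {δ | (∀ x y, δ (x * y) = D.π x • δ y + D.π y • δ x) ∧ ∀ a, δ (D.β a) = 0}
  zero_mem' := ⟨fun x y => by simp, fun a => rfl⟩
  add_mem' := by
    rintro δ δ' ⟨h1, h2⟩ ⟨h1', h2'⟩
    refine ⟨fun x y => ?_, fun a => ?_⟩
    · simp only [AddMonoidHom.add_apply, h1, h1', smul_add]; abel
    · simp [h2, h2']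
  neg_mem' := by
    rintro δ ⟨h1, h2⟩
    refine ⟨fun x y => ?_, fun a => ?_⟩
    · simp only [AddMonoidHom.neg_apply, h1, smul_neg, neg_add]
    · simp [h2]

def K1 : AddSubgroup (D.F →+ M) where
  carrier := {ψ | ∀ x f, ψ (x • f) = D.π x • ψ f}
  zero_mem' := fun x f => by simp
  add_mem' := by
    rintro ψ ψ' h h' x f
    simp only [AddMonoidHom.add_apply, h x f, h' x f, smul_add]
  neg_mem' := by
    rintro ψ h x f
    simp only [AddMonoidHom.neg_apply, h x f, smul_neg]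

def K2 : AddSubgroup (Q D.r →+ M) where
  carrier := {φ | (∀ x q, φ (x • q) = D.π x • φ q) ∧
    ∀ q : Q D.r, (q : D.F) ∈ F0 D.r → φ q = 0}
  zero_mem' := ⟨fun x q => by simp, fun q _ => rfl⟩
  add_mem' := by
    rintro φ φ' ⟨h1, h2⟩ ⟨h1', h2'⟩
    refine ⟨fun x q => ?_, fun q hq => ?_⟩
    · simp only [AddMonoidHom.add_apply, h1 x q, h1' x q, smul_add]
    · simp only [AddMonoidHom.add_apply, h2 q hq, h2' q hq, add_zero]
  neg_mem' := by
    rintro φ ⟨h1, h2⟩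
    refine ⟨fun x q => ?_, fun q hq => ?_⟩
    · simp only [AddMonoidHom.neg_apply, h1 x q, smul_neg]
    · simp only [AddMonoidHom.neg_apply, h2 q hq, neg_zero]

variable {M}

lemma K0_mul (δ : D.K0 M) (x y : D.R) : δ.1 (x * y) = D.π x • δ.1 y + D.π y • δ.1 x := δ.2.1 x y
lemma K0_β (δ : D.K0 M) (a : D.A0) : δ.1 (D.β a) = 0 := δ.2.2 a
lemma K1_smul (ψ : D.K1 M) (x : D.R) (f : D.F) : ψ.1 (x • f) = D.π x • ψ.1 f := ψ.2 x f
lemma K2_smul (φ : D.K2 M) (x : D.R) (q : Q D.r) : φ.1 (x • q) = D.π x • φ.1 q := φ.2.1 x q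
lemma K2_F0 (φ : D.K2 M) (q : Q D.r) (hq : (q : D.F) ∈ F0 D.r) : φ.1 q = 0 := φ.2.2 q hq

lemma K1_apply_F0 (ψ : D.K1 M) {y : D.F} (hy : y ∈ F0 D.r) : ψ.1 y = 0 := by
  induction hy using Submodule.span_induction with
  | mem y hy =>
    obtain ⟨a, b, rfl⟩ := hy
    rw [map_sub, D.K1_smul, D.K1_smul, D.π_jm, D.π_jm, zero_smul, zero_smul, sub_zero]
  | zero => exact map_zero _
  | add x y _ _ hx hy => rw [map_add, hx, hy, add_zero]
  | smul c x _ hx => rw [D.K1_smul, hx, smul_zero]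

variable (M)

def d0 : D.K0 M →+ D.K1 M where
  toFun δ := ⟨δ.1.comp (jm D.r).toAddMonoidHom, fun x f => by
    change δ.1 (jm D.r (x • f)) = D.π x • δ.1 (jm D.r f)
    rw [map_smul, smul_eq_mul, D.K0_mul, D.π_jm, zero_smul, add_zero]⟩
  map_zero' := rfl
  map_add' _ _ := rfl

def d1 : D.K1 M →+ D.K2 M where
  toFun ψ := ⟨ψ.1.comp (Q D.r).subtype.toAddMonoidHom, fun x q => D.K1_smul ψ x q,
    fun q hq => D.K1_apply_F0 ψ hq⟩
  map_zero' := rfl
  map_add' _ _ := rfl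

variable {M}

@[simp] lemma d0_apply (δ : D.K0 M) (f : D.F) : (D.d0 M δ).1 f = δ.1 (jm D.r f) := rfl
@[simp] lemma d1_apply (ψ : D.K1 M) (q : Q D.r) : (D.d1 M ψ).1 q = ψ.1 (q : D.F) := rfl

lemma d1_d0 (δ : D.K0 M) : D.d1 M (D.d0 M δ) = 0 := by
  apply Subtype.ext
  refine AddMonoidHom.ext fun q => ?_
  change δ.1 (jm D.r (q : D.F)) = 0
  rw [(mem_Q D.r).mp q.2, map_zero]

variable (M)

abbrev H0 : Type _ := Nine.H0 (D.d0 M)
abbrev H1 : Type _ := Nine.H1 (D.d0 M) (D.d1 M)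
abbrev H2 : Type _ := Nine.H2 (D.d1 M)

variable {M}

lemma K1_ext {ψ ψ' : D.K1 M} (h : ∀ s, ψ.1 (Finsupp.single s 1) = ψ'.1 (Finsupp.single s 1)) :
    ψ = ψ' := by
  apply Subtype.ext
  refine AddMonoidHom.ext fun f => ?_
  induction f using Finsupp.induction_linear with
  | zero => rw [map_zero, map_zero]
  | add f g hf hg => rw [map_add, map_add, hf, hg]
  | single s x =>
    have : Finsupp.single s x = x • (Finsupp.single s 1 : D.F) := by
      rw [Finsupp.smul_single, smul_eq_mul, mul_one]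
    rw [this, D.K1_smul, D.K1_smul, h]

def K1ofFun (g : D.σ → M) : D.K1 M :=
  ⟨Finsupp.liftAddHom (fun s => ((smulAddHom C M).flip (g s)).comp D.π.toAddMonoidHom), by
    intro x f
    induction f using Finsupp.induction_linear with
    | zero => simp
    | add f g hf hg => rw [smul_add, map_add, map_add, hf, hg, smul_add]
    | single s y =>
      rw [Finsupp.smul_single, Finsupp.liftAddHom_apply_single, Finsupp.liftAddHom_apply_single]
      simp only [AddMonoidHom.comp_apply, AddMonoidHom.flip_apply, smulAddHom_apply, smul_eq_mul,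
        RingHom.toAddMonoidHom_eq_coe, AddMonoidHom.coe_coe, map_mul, mul_smul]⟩

@[simp] lemma K1ofFun_single (g : D.σ → M) (s : D.σ) (x : D.R) :
    (D.K1ofFun g).1 (Finsupp.single s x) = D.π x • g s := by
  change Finsupp.liftAddHom _ (Finsupp.single s x) = _
  rw [Finsupp.liftAddHom_apply_single]
  rfl

end Dat

structure Hom (D D' : Dat C) where
  h : DHom D.r D'.r
  hβ : ∀ a, ∃ a', h.α (D.β a) = D'.β a'
  hπ : ∀ x, D'.π (h.α x) = D.π x

namespace Hom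

variable {D D' D'' : Dat C} (g : Hom D D')

def θQ : Q D.r →+ Q D'.r where
  toFun q := ⟨g.h.θ q, g.h.θ_mem_Q q.2⟩
  map_zero' := Subtype.ext (map_zero _)
  map_add' a b := Subtype.ext (map_add _ _ _)

@[simp] lemma θQ_coe (q : Q D.r) : (g.θQ q : D'.F) = g.h.θ q := rfl

def pull0 : D'.K0 M →+ D.K0 M where
  toFun δ := ⟨δ.1.comp g.h.α.toAddMonoidHom, fun x y => by
      change δ.1 (g.h.α (x * y)) = D.π x • δ.1 (g.h.α y) + D.π y • δ.1 (g.h.α x)
      rw [map_mul, D'.K0_mul, g.hπ, g.hπ], fun a => by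
      change δ.1 (g.h.α (D.β a)) = 0
      obtain ⟨a', ha'⟩ := g.hβ a
      rw [ha', D'.K0_β]⟩
  map_zero' := rfl
  map_add' _ _ := rfl

def pull1 : D'.K1 M →+ D.K1 M where
  toFun ψ := ⟨ψ.1.comp g.h.θ, fun x f => by
      change ψ.1 (g.h.θ (x • f)) = D.π x • ψ.1 (g.h.θ f)
      rw [g.h.θ_smul, D'.K1_smul, g.hπ]⟩
  map_zero' := rfl
  map_add' _ _ := rfl

def pull2 : D'.K2 M →+ D.K2 M where
  toFun φ := ⟨φ.1.comp g.θQ, fun x q => by
      change φ.1 (g.θQ (x • q)) = D.π x • φ.1 (g.θQ q)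
      have : g.θQ (x • q) = g.h.α x • g.θQ q := Subtype.ext (g.h.θ_smul x q)
      rw [this, D'.K2_smul, g.hπ], fun q hq => by
      change φ.1 (g.θQ q) = 0
      exact D'.K2_F0 φ _ (g.h.θ_mem_F0 hq)⟩
  map_zero' := rfl
  map_add' _ _ := rfl

variable {M}

@[simp] lemma pull0_apply (δ : D'.K0 M) (x : D.R) : (g.pull0 M δ).1 x = δ.1 (g.h.α x) := rfl
@[simp] lemma pull1_apply (ψ : D'.K1 M) (f : D.F) : (g.pull1 M ψ).1 f = ψ.1 (g.h.θ f) := rfl
@[simp] lemma pull2_apply (φ : D'.K2 M) (q : Q D.r) : (g.pull2 M φ).1 q = φ.1 (g.θQ q) := rfl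

lemma c0 (δ : D'.K0 M) : g.pull1 M (D'.d0 M δ) = D.d0 M (g.pull0 M δ) := by
  apply Subtype.ext
  refine AddMonoidHom.ext fun f => ?_
  change δ.1 (jm D'.r (g.h.θ f)) = δ.1 (g.h.α (jm D.r f))
  rw [g.h.jm_θ]

lemma c1 (ψ : D'.K1 M) : g.pull2 M (D'.d1 M ψ) = D.d1 M (g.pull1 M ψ) := rfl

variable (M)

def H0 : D'.H0 M →+ D.H0 M := Nine.H0map (D'.d0 M) (D.d0 M) (g.pull0 M) (g.pull1 M) g.c0
def H1 : D'.H1 M →+ D.H1 M :=
  Nine.H1map (D'.d0 M) (D'.d1 M) (D.d0 M) (D.d1 M) (g.pull0 M) (g.pull1 M) (g.pull2 M) g.c0 g.c1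
def H2 : D'.H2 M →+ D.H2 M := Nine.H2map (D'.d1 M) (D.d1 M) (g.pull1 M) (g.pull2 M) g.c1

variable {M}

lemma H0_coe (t : D'.H0 M) : (g.H0 M t).1 = g.pull0 M t.1 := rfl
lemma H1_mk (z : (D'.d1 M).ker) :
    g.H1 M (QuotientAddGroup.mk z) =
      QuotientAddGroup.mk (Nine.Z1map (D'.d1 M) (D.d1 M) (g.pull1 M) (g.pull2 M) g.c1 z) := rfl
lemma H2_mk (φ : D'.K2 M) :
    g.H2 M (QuotientAddGroup.mk φ) = QuotientAddGroup.mk (g.pull2 M φ) := rfl

end Hom

end

end Groth.Agent.Lib.Helper95.HM
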