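import Mathlib.RingTheory.Binomial
import Mathlib.RingTheory.Flat.TorsionFree
import Mathlib.RingTheory.TensorProduct.Basic
import Mathlib.RingTheory.Polynomial.Pochhammer
import Mathlib.Algebra.MvPolynomial.Basic
import Mathlib.Tactic

set_option autoImplicit false
open TensorProduct Polynomial

namespace Groth.Agent.Lib.Helper95.IVP

noncomputable def bp (m : ℕ) : ℚ[X] := C ((m.factorial : ℚ)⁻¹) * descPochhammer ℚ m

lemma eval_bp (N m : ℕ) : (bp m).eval (N : ℚ) = (N.choose m : ℚ) := by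
  rw [bp, eval_mul, eval_C, descPochhammer_eval_eq_descFactorial,
    Nat.descFactorial_eq_factorial_mul_choose]
  have : (m.factorial : ℚ) ≠ 0 := by exact_mod_cast Nat.factorial_ne_zero m
  push_cast
  field_simp

section K

variable {K : Type*} [CommRing K] [BinomialRing K]

noncomputable def iK : K →+* ℚ ⊗[ℤ] K :=
  (Algebra.TensorProduct.includeRight : K →ₐ[ℤ] ℚ ⊗[ℤ] K).toRingHom

lemma iK_injective : Function.Injective (iK (K := K)) := by
  have := BinomialRing.toIsAddTorsionFree (R := K)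
  have : Module.Flat ℤ K := by
    rw [Module.Flat.flat_iff_torsion_eq_bot_of_isBezout,
      ← Submodule.isTorsionFree_iff_torsion_eq_bot]
    infer_instance
  exact Algebra.TensorProduct.includeRight_injective (Int.cast_injective)

lemma aeval_bp (κ : K) (m : ℕ) :
    aeval (iK κ) (bp m) = iK (Ring.choose κ m) := by
  have hunit : IsUnit ((m.factorial : ℚ ⊗[ℤ] K)) := by
    have : (m.factorial : ℚ ⊗[ℤ] K) = algebraMap ℚ (ℚ ⊗[ℤ] K) (m.factorial : ℚ) := by simp
    rw [this]
    apply IsUnit.map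
    exact IsUnit.mk0 _ (by exact_mod_cast Nat.factorial_ne_zero m)
  apply hunit.mul_left_cancel
  have h1 : (m.factorial : ℚ ⊗[ℤ] K) * aeval (iK κ) (bp m) =
      aeval (iK κ) (descPochhammer ℚ m) := by
    rw [bp, map_mul, aeval_C, ← mul_assoc]
    have : (m.factorial : ℚ ⊗[ℤ] K) * algebraMap ℚ (ℚ ⊗[ℤ] K) ((m.factorial : ℚ)⁻¹) = 1 := by
      have h2 : (m.factorial : ℚ ⊗[ℤ] K) = algebraMap ℚ (ℚ ⊗[ℤ] K) (m.factorial : ℚ) := by simp
      rw [h2, ← map_mul, mul_inv_cancel₀ (by exact_mod_cast Nat.factorial_ne_zero m), map_one]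
    rw [this, one_mul]
  have h3 : (m.factorial : ℚ ⊗[ℤ] K) * iK (Ring.choose κ m) =
      aeval (iK κ) (descPochhammer ℚ m) := by
    have h4 : (m.factorial : ℚ ⊗[ℤ] K) * iK (Ring.choose κ m) =
        iK (m.factorial • Ring.choose κ m) := by
      rw [nsmul_eq_mul, map_mul, map_natCast]
    rw [h4, ← Ring.descPochhammer_eq_factorial_smul_choose, ← aeval_eq_smeval,
      ← descPochhammer_map (Int.castRingHom ℚ) m,
      show Int.castRingHom ℚ = algebraMap ℤ ℚ from rfl, aeval_map_algebraMap]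
    exact (aeval_algHom_apply (Algebra.TensorProduct.includeRight : K →ₐ[ℤ] ℚ ⊗[ℤ] K) κ
      (descPochhammer ℤ m)).symm
  rw [h1, h3]

end K

theorem ivp {τ : Type*} (P : MvPolynomial (ℕ ⊕ τ) ℤ)
    (hP : ∀ N : ℕ, MvPolynomial.aeval (Sum.elim (fun m : ℕ => MvPolynomial.C ((N.choose m : ℤ)))
      (fun t : τ => (MvPolynomial.X t : MvPolynomial τ ℤ))) P = 0)
    {K : Type*} [CommRing K] [BinomialRing K] (κ : K) :
    MvPolynomial.aeval (Sum.elim (fun m : ℕ => MvPolynomial.C (Ring.choose κ m))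
      (fun t : τ => (MvPolynomial.X t : MvPolynomial τ K))) P = 0 := by
  classical
  set ΦT : MvPolynomial (ℕ ⊕ τ) ℤ →ₐ[ℤ] MvPolynomial τ ℚ[X] :=
    MvPolynomial.aeval (Sum.elim (fun m : ℕ => MvPolynomial.C (bp m))
      (fun t : τ => (MvPolynomial.X t : MvPolynomial τ ℚ[X]))) with hΦT
  have hzero : ΦT P = 0 := by
    refine MvPolynomial.ext _ _ fun d => ?_
    rw [MvPolynomial.coeff_zero]
    apply Polynomial.eq_zero_of_infinite_isRoot
    have hsub : Set.range (fun N : ℕ => (N : ℚ)) ⊆ {x | (MvPolynomial.coeff d (ΦT P)).IsRoot x} := by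
      rintro _ ⟨N, rfl⟩
      show (MvPolynomial.coeff d (ΦT P)).eval (N : ℚ) = 0
      have h1 : (MvPolynomial.map (Polynomial.evalRingHom (N : ℚ))).comp ΦT.toRingHom =
          (MvPolynomial.map (Int.castRingHom ℚ)).comp
            ((MvPolynomial.aeval (Sum.elim (fun m : ℕ => MvPolynomial.C ((N.choose m : ℤ)))
              (fun t : τ => (MvPolynomial.X t : MvPolynomial τ ℤ))) :
                MvPolynomial (ℕ ⊕ τ) ℤ →ₐ[ℤ] MvPolynomial τ ℤ) : _ →+* _) := by
        apply MvPolynomial.ringHom_ext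
        · intro r; simp [hΦT]
        · rintro (m | t)
          · simp [hΦT, eval_bp]
          · simp [hΦT]
      have h2 := congrArg (fun φ => φ P) h1
      simp only [RingHom.comp_apply, RingHom.coe_coe] at h2
      rw [hP N, map_zero] at h2
      have h3 := congrArg (MvPolynomial.coeff d) h2
      rw [MvPolynomial.coeff_map, MvPolynomial.coeff_zero] at h3
      exact h3
    exact Set.Infinite.mono hsub (Set.infinite_range_of_injective Nat.cast_injective)
  apply MvPolynomial.map_injective _ (iK_injective (K := K))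
  rw [map_zero]
  have h1 : (MvPolynomial.map (iK (K := K))).comp
      ((MvPolynomial.aeval (Sum.elim (fun m : ℕ => MvPolynomial.C (Ring.choose κ m))
        (fun t : τ => (MvPolynomial.X t : MvPolynomial τ K))) :
          MvPolynomial (ℕ ⊕ τ) ℤ →ₐ[ℤ] MvPolynomial τ K) : _ →+* _) =
      (MvPolynomial.map ((Polynomial.aeval (iK κ) : ℚ[X] →ₐ[ℚ] ℚ ⊗[ℤ] K) : ℚ[X] →+* _)).comp
        ΦT.toRingHom := by
    apply MvPolynomial.ringHom_ext
    · intro r; simp [hΦT]
    · rintro (m | t)
      · simp [hΦT, aeval_bp]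
      · simp [hΦT]
  have h2 := congrArg (fun φ => φ P) h1
  simp only [RingHom.comp_apply, RingHom.coe_coe] at h2
  rw [h2]
  have h5 : ΦT.toRingHom P = 0 := hzero
  rw [h5, map_zero]

end Groth.Agent.Lib.Helper95.IVP
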