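import Groth.Agent.Lib.Helper95.ToddInv
import Groth.Agent.Lib.Helper95.GammaFil
import Groth.Agent.Lib.Helper48.LambdaGamma
import Groth.Agent.Lib.Helper95.GamFil

set_option autoImplicit false
open LambdaRing Finset

namespace Groth.Agent.Lib.Helper95.InvGamma

open Groth.Agent.Lib.Helper48 Groth.Agent.Lib.Helper95.ToddInv Groth.Agent.Lib.Helper95.GammaFil

universe u

variable {K : Type u} [CommRing K] [LambdaOps K] (P : PosStructure K)

theorem gamma_top_eq (e : K) (he : e ∈ P.pos) :
    gamma (P.aug e).toNat (e - ((P.aug e).toNat : K)) =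
      (-1) ^ (P.aug e).toNat *
        ∑ a ∈ range ((P.aug e).toNat + 1), (-1 : K) ^ a * LambdaOps.lam a e := by
  set m := (P.aug e).toNat with hm
  have h := congrArg (Polynomial.eval 0) (gamma_sub_aug_identity P e he)
  rw [← hm] at h
  rw [Polynomial.eval_finsetSum, Polynomial.eval_finsetSum] at h
  simp only [Polynomial.eval_mul, Polynomial.eval_C, Polynomial.eval_pow, Polynomial.eval_X,
    Polynomial.eval_sub, Polynomial.eval_one, zero_sub] at h
  rw [Finset.sum_eq_single m] at h
  · rw [Nat.sub_self, pow_zero, mul_one] at h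
    rw [h, Finset.mul_sum]
    refine Finset.sum_congr rfl fun i hi => ?_
    have hi' : i ≤ m := by have := Finset.mem_range.mp hi; omega
    have h2 : (-1 : K) ^ m = (-1) ^ (m - i) * (-1) ^ i := by
      rw [← pow_add]; congr 1; omega
    have h3 : ((-1 : K) ^ i) * (-1) ^ i = 1 := by
      rw [← pow_add, Even.neg_one_pow ⟨i, rfl⟩]
    rw [h2]
    calc LambdaOps.lam i e * (-1) ^ (m - i)
        = (-1) ^ (m - i) * (((-1 : K) ^ i) * (-1) ^ i) * LambdaOps.lam i e := by
          rw [h3, mul_one, mul_comm]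
      _ = _ := by ring
  · intro i hi hne
    have hi' : i < m := by have := Finset.mem_range.mp hi; omega
    rw [zero_pow (by omega), mul_zero]
  · intro h'
    exact absurd (Finset.mem_range.mpr (by omega)) h'

theorem gamma_inv_top (inv : K → K) (hS : HasInvSplitting P inv) (q : K) (hq : q ∈ P.pos) :
    gamma (P.aug q).toNat (inv q - ((P.aug q).toNat : K)) =
      LambdaOps.lam (P.aug q).toNat (inv q) *
        ∑ i ∈ range ((P.aug q).toNat + 1), (-1 : K) ^ i * LambdaOps.lam i q := by
  set d := (P.aug q).toNat with hd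
  have hdq : ((d : ℕ) : ℤ) = P.aug q := aug_eq_toNat P q hq
  obtain ⟨L, inv', f, hf, hV', hcomm, s, hs, hsum⟩ := hS q hq
  have hcard : Multiset.card s = d := by
    have h1 := aug_sum_lines L.posStr s hs
    rw [hsum, hf.aug_comp, ← hdq] at h1
    exact_mod_cast h1.symm
  have hdpos : 0 < d := by
    have := P.aug_pos q hq
    omega
  set s' := s.map inv' with hs'
  have hs'l : ∀ v ∈ s', L.posStr.IsLine v := by
    intro v hv
    obtain ⟨u, hu, rfl⟩ := Multiset.mem_map.mp hv
    exact hV'.inv_line u (hs u hu)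
  have hcard' : Multiset.card s' = d := by rw [hs', Multiset.card_map, hcard]
  have hsum' : s'.sum = f (inv q) := by
    rw [hcomm, ← hsum, inv_multiset_sum L.posStr hV']
  have hinv : inv' s'.sum = s.sum := by
    rw [hsum', hcomm, hV'.inv_inv, hsum]
  have hpos' : ∀ (t : Multiset L.carrier), (∀ v ∈ t, L.posStr.IsLine v) → 0 < Multiset.card t →
      t.sum ∈ L.posStr.pos := by
    intro t
    induction t using Multiset.induction with
    | empty => intro _ h; simp at h
    | cons a t ih =>
      intro ht _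
      rw [Multiset.sum_cons]
      by_cases h0 : Multiset.card t = 0
      · rw [Multiset.card_eq_zero.mp h0, Multiset.sum_zero, add_zero]
        exact (ht a (Multiset.mem_cons_self a t)).1
      · exact L.posStr.add_mem _ _ (ht a (Multiset.mem_cons_self a t)).1
          (ih (fun v hv => ht v (Multiset.mem_cons_of_mem hv)) (Nat.pos_of_ne_zero h0))
  have hE' : s'.sum ∈ L.posStr.pos := hpos' s' hs'l (by omega)
  have haugE' : (L.posStr.aug s'.sum).toNat = d := by
    rw [aug_sum_lines L.posStr s' hs'l, hcard', Int.toNat_natCast]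
  apply hf.injective
  rw [Groth.Agent.Lib.Helper95.GamFil.map_gamma_of_map_lam f hf.isLambdaHom, map_sub, map_natCast,
    map_mul, map_sum, hf.isLambdaHom, ← hsum']
  have h1 := gamma_top_eq L.posStr s'.sum hE'
  rw [haugE'] at h1
  rw [h1, Finset.mul_sum, Finset.mul_sum,
    ← Finset.sum_range_reflect (fun a => (-1 : L.carrier) ^ d * ((-1) ^ a * LambdaOps.lam a s'.sum))
      (d + 1)]
  refine Finset.sum_congr rfl fun i hi => ?_
  have hi' : i ≤ d := by have := Finset.mem_range.mp hi; omega
  have h2 := lam_inv_sum_lines L.posStr hV' s' hs'l i (by omega)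
  rw [hinv, hcard'] at h2
  rw [map_mul, map_pow, map_neg, map_one, hf.isLambdaHom, ← hsum]
  have e1 : d + 1 - 1 - i = d - i := by omega
  rw [e1, ← h2]
  have h3 : (-1 : L.carrier) ^ d = (-1) ^ (d - i) * (-1) ^ i := by
    rw [← pow_add]; congr 1; omega
  have h4 : ((-1 : L.carrier) ^ (d - i)) * (-1) ^ (d - i) = 1 := by
    rw [← pow_add, Even.neg_one_pow ⟨d - i, rfl⟩]
  rw [h3]
  calc (-1 : L.carrier) ^ (d - i) * (-1) ^ i *
        ((-1) ^ (d - i) * (LambdaOps.lam i s.sum * LambdaOps.lam d s'.sum))
      = ((-1 : L.carrier) ^ (d - i) * (-1) ^ (d - i)) *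
        ((-1) ^ i * (LambdaOps.lam i s.sum * LambdaOps.lam d s'.sum)) := by ring
    _ = _ := by rw [h4]; ring

end Groth.Agent.Lib.Helper95.InvGamma
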