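import Groth.Agent.Lib.Helper95.Transfer
import Groth.Agent.Lib.Helper95.IVP

set_option autoImplicit false
open MvPolynomial Finset LambdaRing

namespace Groth.Agent.Lib.Helper95.KW

open Groth.Agent.Lib.Helper95.UnivRing Groth.Agent.Lib.Helper95.MinDegR
  Groth.Agent.Lib.Helper95.UnivGamma Groth.Agent.Lib.Helper95.Rep
  Groth.Agent.Lib.Helper95.UnivPoly Groth.Agent.Lib.Helper95.Transfer

section Comp

variable {σ τ M R : Type*} [AddCommMonoid M] [CommRing R]

lemma isWeightedHomogeneous_aeval' (w : σ → M) (w' : τ → M) (g : σ → MvPolynomial τ R)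
    (hg : ∀ s, IsWeightedHomogeneous w' (g s) (w s)) {P : MvPolynomial σ ℤ} {m : M}
    (hP : IsWeightedHomogeneous w P m) : IsWeightedHomogeneous w' (aeval g P) m := by
  classical
  rw [P.as_sum, map_sum]
  refine IsWeightedHomogeneous.sum _ _ _ fun d hd => ?_
  rw [aeval_monomial]
  have hd' : Finsupp.weight w d = m := hP (mem_support_iff.mp hd)
  rw [MvPolynomial.algebraMap_apply]
  refine IsWeightedHomogeneous.C_mul ?_ _
  rw [← hd', Finsupp.weight_apply, Finsupp.prod, Finsupp.sum]
  refine IsWeightedHomogeneous.prod _ _ _ fun i _ => ?_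
  exact (hg i).pow _

lemma component_aeval' [DecidableEq M] (w : σ → M) (w' : τ → M) (g : σ → MvPolynomial τ R)
    (hg : ∀ s, IsWeightedHomogeneous w' (g s) (w s)) (P : MvPolynomial σ ℤ) (m : M) :
    weightedHomogeneousComponent w' m (aeval g P) =
      aeval g (weightedHomogeneousComponent w m P) := by
  classical
  have hfin := weightedHomogeneousComponent_finsupp (w := w) P
  have hP : P = ∑ k ∈ hfin.toFinset, weightedHomogeneousComponent w k P := by
    conv_lhs => rw [← sum_weightedHomogeneousComponent w P]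
    rw [finsum_eq_sum _ hfin]
  conv_lhs => rw [hP]
  rw [map_sum, map_sum]
  have h3 : ∀ k ∈ hfin.toFinset, weightedHomogeneousComponent w' m
      (aeval g (weightedHomogeneousComponent w k P)) =
      if k = m then aeval g (weightedHomogeneousComponent w m P) else 0 := by
    intro k _
    have hk := isWeightedHomogeneous_aeval' w w' g hg
      (weightedHomogeneousComponent_isWeightedHomogeneous (w := w) k P)
    split_ifs with hkm
    · subst hkm
      exact hk.weightedHomogeneousComponent_same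
    · exact hk.weightedHomogeneousComponent_ne _ (Ne.symm hkm)
  rw [Finset.sum_congr rfl h3, Finset.sum_ite_eq']
  split_ifs with hm
  · rfl
  · have : weightedHomogeneousComponent w m P = 0 := by
      by_contra hne
      exact hm (hfin.mem_toFinset.mpr hne)
    rw [this, map_zero]

lemma weights_of_components {w : τ → ℕ} {n : ℕ} {W : MvPolynomial τ R}
    (h : ∀ k < n, weightedHomogeneousComponent w k W = 0) :
    ∀ d ∈ W.support, n ≤ Finsupp.weight w d := by
  intro d hd
  by_contra hlt
  push Not at hlt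
  have h4 := congrArg (coeff d) (h _ hlt)
  rw [coeff_weightedHomogeneousComponent, if_pos rfl, coeff_zero] at h4
  exact (mem_support_iff.mp hd) h4

lemma components_of_weights {w : τ → ℕ} {n : ℕ} {W : MvPolynomial τ R}
    (h : ∀ d ∈ W.support, n ≤ Finsupp.weight w d) (k : ℕ) (hk : k < n) :
    weightedHomogeneousComponent w k W = 0 := by
  apply weightedHomogeneousComponent_eq_zero'
  intro d hd
  have := h d hd
  omega

end Comp

def wY : ℕ → ℕ := fun q => q + 1

def wS : ℕ ⊕ ℕ → ℕ := Sum.elim (fun _ => 0) (fun q => q + 1)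

noncomputable def Psi : MvPolynomial (Fin 2 × ℕ) ℤ →ₐ[ℤ] MvPolynomial (ℕ ⊕ ℕ) ℤ :=
  aeval (fun ip : Fin 2 × ℕ => if ip.1 = 0 then
    ∑ j ∈ range (ip.2 + 1), (ip.2.choose j : MvPolynomial (ℕ ⊕ ℕ) ℤ) * X (Sum.inl (j + 1))
    else X (Sum.inr ip.2))

noncomputable def EN (N : ℕ) : MvPolynomial (ℕ ⊕ ℕ) ℤ →ₐ[ℤ] MvPolynomial ℕ ℤ :=
  aeval (Sum.elim (fun m : ℕ => C ((N.choose m : ℤ))) (fun q : ℕ => (X q : MvPolynomial ℕ ℤ)))

noncomputable def EK {K : Type*} [CommRing K] [BinomialRing K] (κ : K) :
    MvPolynomial (ℕ ⊕ ℕ) ℤ →ₐ[ℤ] MvPolynomial ℕ K :=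
  aeval (Sum.elim (fun m : ℕ => C (Ring.choose κ m)) (fun q : ℕ => (X q : MvPolynomial ℕ K)))

noncomputable def F0 : MvPolynomial (Fin 2 × ℕ) ℤ := X (0, 0) * X (1, 0)

lemma weight_mapDomain_one (d : ℕ →₀ ℕ) :
    Finsupp.weight wt (Finsupp.mapDomain (fun q : ℕ => ((1 : Fin 2), q)) d) =
      Finsupp.weight wY d := by
  rw [Finsupp.weight_apply, Finsupp.weight_apply, Finsupp.sum_mapDomain_index]
  · rfl
  · intro i; simp
  · intro i m m'; rw [add_smul]

lemma ux_one_mem_T (m : ℕ) : ux m 1 ∈ T (Fin m ⊕ Fin m) := by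
  simp only [ux, Fin.isValue, Matrix.cons_val_one, Matrix.cons_val_fin_one]
  exact sum_mem fun i _ => X_mem_T _ _

lemma stepA (G : MvPolynomial (Fin 2 × ℕ) ℤ) (n : ℕ) (hG : GoodG.{0} F0 n G) (N : ℕ) :
    ∀ d ∈ (EN N (Psi G)).support, n ≤ Finsupp.weight wY d := by
  classical
  have hinj : Function.Injective (fun q : ℕ => ((1 : Fin 2), q)) := fun a b h => by
    simpa using h
  have hw := weights_of_md (rename (fun q : ℕ => ((1 : Fin 2), q)) (EN N (Psi G))) n (fun m => ?_)
  · intro d hd
    rw [← weight_mapDomain_one]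
    apply hw
    rw [support_rename_of_injective hinj]
    exact Finset.mem_image_of_mem _ hd
  · set x : Fin 2 → MvPolynomial (Fin m ⊕ Fin m) ℚ :=
      ![(N : MvPolynomial (Fin m ⊕ Fin m) ℚ), ux m 1] with hx
    have e1 : evG (ux m) (rename (fun q : ℕ => ((1 : Fin 2), q)) (EN N (Psi G))) = evG x G := by
      have : (evG (ux m)).toRingHom.comp
          ((rename (fun q : ℕ => ((1 : Fin 2), q)) : MvPolynomial ℕ ℤ →ₐ[ℤ] _).toRingHom.comp
            ((EN N).comp Psi).toRingHom) = (evG x).toRingHom := by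
        apply MvPolynomial.ringHom_ext
        · intro r; simp
        · rintro ⟨g, p⟩
          fin_cases g
          · simp only [AlgHom.toRingHom_eq_coe, RingHom.comp_apply, RingHom.coe_coe,
              AlgHom.comp_apply, Psi, EN, aeval_X, Fin.zero_eta, Fin.isValue, if_pos, map_sum,
              map_mul, map_natCast, Sum.elim_inl, evG_X, hx, Matrix.cons_val_zero]
            rw [gamma_succ]
            refine Finset.sum_congr rfl fun j _ => ?_
            congr 1
            have := lam_intCast (A := MvPolynomial (Fin m ⊕ Fin m) ℚ) (lam_one_univ _) (N : ℤ)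
              (j + 1)
            rw [Int.cast_natCast] at this
            rw [this, Ring.choose_natCast]
            simp
          · simp [Psi, EN, hx]
      exact congrArg (fun φ => φ G) this
    rw [e1, ← hG _ (univ_isSpecial _) x]
    have e2 : evG x F0 = (N : MvPolynomial (Fin m ⊕ Fin m) ℚ) * ux m 1 := by
      simp [evG, F0, hx, Groth.Agent.Lib.Helper26.LambdaGamma.gamma_one_left]
    rw [e2]
    apply goodElt_of_mem_T
    rw [← nsmul_eq_mul]
    exact AddSubgroup.nsmul_mem _ (ux_one_mem_T m) N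

lemma EK_homogeneous {K : Type*} [CommRing K] (f : ℕ → K) (s : ℕ ⊕ ℕ) :
    IsWeightedHomogeneous wY
      (Sum.elim (fun m : ℕ => C (f m)) (fun q : ℕ => (X q : MvPolynomial ℕ K)) s) (wS s) := by
  rcases s with m | q
  · exact isWeightedHomogeneous_C _ _
  · exact isWeightedHomogeneous_X _ _ _

lemma stepC (G : MvPolynomial (Fin 2 × ℕ) ℤ) (n : ℕ) (hG : GoodG.{0} F0 n G)
    {K : Type*} [CommRing K] [BinomialRing K] (κ : K) :
    ∀ d ∈ (EK κ (Psi G)).support, n ≤ Finsupp.weight wY d := by
  classical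
  apply weights_of_components
  intro k hk
  rw [EK, component_aeval' wS wY _ (EK_homogeneous _) (Psi G) k]
  apply Groth.Agent.Lib.Helper95.IVP.ivp
  intro N
  have := component_aeval' wS wY _ (EK_homogeneous (fun m => ((N.choose m : ℤ)))) (Psi G) k
  rw [← this]
  exact components_of_weights (stepA G n hG N) k hk

universe v

theorem exists_scalar_poly {K : Type*} [CommRing K] [BinomialRing K] (κ : K) (n : ℕ) :
    ∃ W : MvPolynomial ℕ K, (∀ d ∈ W.support, n ≤ Finsupp.weight wY d) ∧
      ∀ (A : Type v) [CommRing A] [LambdaOps A] [Algebra K A] [LambdaOps K],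
        IsSpecial A → IsBinomial K → IsLambdaAlg K A → ∀ y : A,
          gamma n (algebraMap K A κ * y) = aeval (fun q : ℕ => gamma (q + 1) y) W := by
  obtain ⟨Gs, hGs⟩ := exists_goodG.{v} F0
  refine ⟨EK κ (Psi (Gs n)), stepC _ n (hGs n).2 κ, ?_⟩
  intro A _ _ _ _ hA hKb hAlg y
  set x : Fin 2 → A := ![algebraMap K A κ, y] with hx
  have h1 := (hGs n).1 A hA x
  have e2 : evG x F0 = algebraMap K A κ * y := by
    simp [evG, F0, hx, Groth.Agent.Lib.Helper26.LambdaGamma.gamma_one_left]
  rw [e2] at h1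
  rw [h1]
  have : (evG x).toRingHom =
      ((aeval (fun q : ℕ => gamma (q + 1) y) : MvPolynomial ℕ K →ₐ[K] A).toRingHom).comp
        ((EK κ).comp Psi).toRingHom := by
    apply MvPolynomial.ringHom_ext
    · intro r; simp
    · rintro ⟨g, p⟩
      fin_cases g
      · simp only [AlgHom.toRingHom_eq_coe, RingHom.coe_coe, evG_X, hx, Fin.zero_eta, Fin.isValue,
          Matrix.cons_val_zero, RingHom.comp_apply, AlgHom.comp_apply, Psi, EK, aeval_X, if_pos,
          map_sum, map_mul, map_natCast, Sum.elim_inl, aeval_C]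
        rw [gamma_succ]
        refine Finset.sum_congr rfl fun j _ => ?_
        rw [← hAlg, hKb]
      · simp [hx, Psi, EK]
  exact congrArg (fun φ => φ (Gs n)) this

end Groth.Agent.Lib.Helper95.KW
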