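import Mathlib
import Groth.Prelude.Def_LieS
import Groth.Agent.S12627
import Groth.Agent.S8034
set_option autoImplicit false
universe u
open CategoryTheory CategoryTheory.Limits MonoidalCategory CartesianMonoidalCategory MonObj GrpObj AlgebraicGeometry
open IsLocalRing
open Groth.Agent.Lib.Helper19 Groth.Agent.Lib.Helper19.Cartier
open Groth.Agent.S12627

namespace Groth.Agent.Lib.Helper95.LieKerK8

theorem K8 {k : Type u} [Field k] {G H : Over (Spec (CommRingCat.of k))} [GrpObj G] [GrpObj H] (φ : A H ⟶ A G) (w : sA H ≫ φ = sA G) (haug : φ ≫ εA G = εA H) (hfs : φ.hom.FormallySmooth) (v : TanVec H k) : ∃ u : TanVec G k, push φ w haug u = v := by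
  algebraize [φ.hom]
  letI algK : Algebra (A H) (TrivSqZeroExt k k) := v.hom.hom.toAlgebra
  letI algk : Algebra (A H) k := (εA H).hom.toAlgebra
  -- the two algebra maps to `k`
  let f : (A G) →ₐ[A H] k :=
    { (εA G).hom with
      commutes' := fun x => by
        change (εA G).hom (φ.hom x) = (εA H).hom x
        rw [← haug]; rfl }
  let g : TrivSqZeroExt k k →ₐ[A H] k :=
    { (TrivSqZeroExt.fstHom k k k).toRingHom with
      commutes' := fun x => by
        change (fstKM k k).hom (v.hom.hom x) = (εA H).hom x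
        rw [← v.aug]; rfl }
  have hg : Function.Surjective g := fun c => ⟨TrivSqZeroExt.inl c, TrivSqZeroExt.fst_inl k c⟩
  have hg' : IsNilpotent (RingHom.ker (g : TrivSqZeroExt k k →+* k)) := by
    refine ⟨2, ?_⟩
    rw [Ideal.zero_eq_bot, eq_bot_iff]
    have hsq : RingHom.ker (g : TrivSqZeroExt k k →+* k) ^ 2 =
        RingHom.ker (g : TrivSqZeroExt k k →+* k) * RingHom.ker (g : TrivSqZeroExt k k →+* k) :=
      sq _
    rw [hsq, Ideal.mul_le]
    intro x hx y hy
    rw [RingHom.mem_ker] at hx hy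
    have hx' : x.fst = 0 := hx
    have hy' : y.fst = 0 := hy
    rw [Ideal.mem_bot]
    apply TrivSqZeroExt.ext
    · rw [TrivSqZeroExt.fst_mul, hx', zero_mul, TrivSqZeroExt.fst_zero]
    · rw [TrivSqZeroExt.snd_mul, hx', hy']
      simp
  let l := Algebra.FormallySmooth.liftOfSurjective f g hg hg'
  have hl : ∀ x, g (l x) = f x := Algebra.FormallySmooth.liftOfSurjective_apply f g hg hg'
  have hlφ : φ ≫ CommRingCat.ofHom (l : A G →+* TrivSqZeroExt k k) = v.hom := by
    apply CommRingCat.hom_ext
    refine RingHom.ext fun x => ?_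
    exact l.commutes x
  have hlaug : CommRingCat.ofHom (l : A G →+* TrivSqZeroExt k k) ≫ fstKM k k = εA G := by
    apply CommRingCat.hom_ext
    refine RingHom.ext fun x => ?_
    exact hl x
  have hlw : sA G ≫ CommRingCat.ofHom (l : A G →+* TrivSqZeroExt k k) = sKM k k := by
    rw [← w, Category.assoc, hlφ, v.w]
  refine ⟨⟨CommRingCat.ofHom (l : A G →+* TrivSqZeroExt k k), hlw, hlaug⟩, ?_⟩
  cases v with
  | mk vh vw va =>
    unfold push
    congr 1

end Groth.Agent.Lib.Helper95.LieKerK8
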