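import Mathlib.AlgebraicGeometry.Sites.MorphismProperty
import Mathlib.AlgebraicGeometry.Morphisms.Basic
import Mathlib.CategoryTheory.MorphismProperty.Local
import Mathlib.Tactic

set_option autoImplicit false
universe u

namespace Groth.Agent.Lib.Helper95

open AlgebraicGeometry CategoryTheory CategoryTheory.Limits MorphismProperty

section

variable {Qc : MorphismProperty Scheme.{u}} {P : MorphismProperty Scheme.{u}}

lemma prop_snd_congr {X Y T : Scheme.{u}} (f : X ⟶ Y) {b b' : T ⟶ Y} (h : b = b') :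
    P (pullback.snd f b) ↔ P (pullback.snd f b') := by
  subst h; rfl

lemma prop_snd_cover [P.IsLocalAtTarget (Scheme.precoverage Qc)]
    {X Y T T' : Scheme.{u}} (f : X ⟶ Y) (b : T ⟶ Y) (k : T' ⟶ T)
    (hk : Function.Surjective k.base) (hk' : Qc k) :
    P (pullback.snd f (k ≫ b)) ↔ P (pullback.snd f b) := by
  have hmem : Presieve.singleton k ∈ Scheme.precoverage Qc T :=
    (Scheme.singleton_mem_precoverage_iff Qc k).mpr ⟨hk, hk'⟩
  rw [← P.cancel_left_of_respectsIso (pullbackLeftPullbackSndIso f b k).hom,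
    pullbackLeftPullbackSndIso_hom_snd]
  constructor
  · intro h
    refine IsLocalAtTarget.of_forall_pullbackSnd hmem ?_
    rintro U g _ ⟨⟩
    exact h
  · intro h
    exact IsLocalAtTarget.pullbackSnd hmem (Presieve.singleton.mk) h

lemma prop_snd_of_isPullback [P.RespectsIso] {X X' Y Y' T : Scheme.{u}} {fst : X' ⟶ X} {q : X' ⟶ Y'}
    {f : X ⟶ Y} {g : Y' ⟶ Y} (h : IsPullback fst q f g) (a : T ⟶ Y') :
    P (pullback.snd q a) ↔ P (pullback.snd f (a ≫ g)) := by
  have h1 : IsPullback (pullback.fst q a) (pullback.snd q a) q a := IsPullback.of_hasPullback q a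
  have h2 := h1.paste_horiz h
  rw [← P.cancel_left_of_respectsIso h2.isoPullback.hom, h2.isoPullback_hom_snd]

lemma prop_restrict_iff [P.RespectsIso] {X Y : Scheme.{u}} (f : X ⟶ Y) (W : Y.Opens) :
    P (f ∣_ W) ↔ P (pullback.snd f W.ι) := by
  rw [← pullbackRestrictIsoRestrict_hom_morphismRestrict, P.cancel_left_of_respectsIso]

end

section

variable {Qc : MorphismProperty Scheme.{u}} [Qc.IsStableUnderBaseChange]
  [Qc.IsStableUnderComposition]
  {P : MorphismProperty Scheme.{u}} [P.IsLocalAtTarget (Scheme.precoverage Qc)]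

theorem preimage_le_of_key
    (hopen_imm : ∀ {X Y : Scheme.{u}} (f : X ⟶ Y), IsOpenImmersion f → Qc f)
    (hopen_map : ∀ {X Y : Scheme.{u}} (f : X ⟶ Y), Qc f → IsOpenMap f.base)
    {X U R : Scheme.{u}} (f : X ⟶ U) (s t : R ⟶ U)
    (hs : Function.Surjective s.base) (hs' : Qc s) (ht' : Qc t)
    (key : ∀ {T : Scheme.{u}} (a : T ⟶ R),
      P (pullback.snd f (a ≫ s)) → P (pullback.snd f (a ≫ t)))
    (W : U.Opens) (hW : P (f ∣_ W)) (hmax : ∀ W' : U.Opens, P (f ∣_ W') → W' ≤ W) :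
    s ⁻¹ᵁ W ≤ t ⁻¹ᵁ W := by
  set V := s ⁻¹ᵁ W with hV
  have hPW : P (pullback.snd f W.ι) := (prop_restrict_iff f W).mp hW
  have hsW_surj : Function.Surjective (s ∣_ W).base := by
    rintro ⟨w, hw⟩
    obtain ⟨r, rfl⟩ := hs w
    refine ⟨⟨r, hw⟩, ?_⟩
    apply Subtype.ext
    exact congrArg (fun g : (s ⁻¹ᵁ W).toScheme ⟶ U => g.base ⟨r, hw⟩) (morphismRestrict_ι s W)
  have hsW_Qc : Qc (s ∣_ W) := Qc.of_isPullback (isPullback_morphismRestrict s W).flip hs'
  have step1 : P (pullback.snd f ((s ∣_ W) ≫ W.ι)) :=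
    (prop_snd_cover f W.ι (s ∣_ W) hsW_surj hsW_Qc).mpr hPW
  have step1' := (prop_snd_congr (P := P) f (morphismRestrict_ι s W)).mp step1
  have step2 := key _ step1'
  let W' : U.Opens := ⟨t.base '' (V : Set R), hopen_map t ht' _ V.isOpen⟩
  have hrange : Set.range (V.ι ≫ t).base ⊆ Set.range W'.ι.base := by
    rintro _ ⟨v, rfl⟩
    have : (V.ι ≫ t).base v ∈ (W' : Set U) := ⟨v.1, v.2, rfl⟩
    simpa using this
  let tV : V.toScheme ⟶ W'.toScheme := IsOpenImmersion.lift W'.ι (V.ι ≫ t) hrange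
  have htV : tV ≫ W'.ι = V.ι ≫ t := IsOpenImmersion.lift_fac _ _ _
  have htV_surj : Function.Surjective tV.base := by
    rintro ⟨w, r, hr, rfl⟩
    refine ⟨⟨r, hr⟩, ?_⟩
    apply Subtype.ext
    exact congrArg (fun g : V.toScheme ⟶ U => g.base ⟨r, hr⟩) htV
  have htV_Qc : Qc tV := by
    have hpb : IsPullback (𝟙 V.toScheme) tV (V.ι ≫ t) W'.ι :=
      IsPullback.of_horiz_isIso_mono ⟨by rw [Category.id_comp, htV]⟩
    exact Qc.of_isPullback hpb (Qc.comp_mem _ _ (hopen_imm _ inferInstance) ht')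
  have step2' := (prop_snd_congr (P := P) f htV).mpr step2
  have step3 : P (pullback.snd f W'.ι) := (prop_snd_cover f W'.ι tV htV_surj htV_Qc).mp step2'
  have hle : W' ≤ W := hmax W' ((prop_restrict_iff f W').mpr step3)
  intro x hx
  exact hle ⟨x, hx, rfl⟩

theorem preimage_eq_of_key
    (hopen_imm : ∀ {X Y : Scheme.{u}} (f : X ⟶ Y), IsOpenImmersion f → Qc f)
    (hopen_map : ∀ {X Y : Scheme.{u}} (f : X ⟶ Y), Qc f → IsOpenMap f.base)
    {X U R : Scheme.{u}} (f : X ⟶ U) (s t : R ⟶ U)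
    (hs : Function.Surjective s.base) (hs' : Qc s) (ht : Function.Surjective t.base) (ht' : Qc t)
    (key : ∀ {T : Scheme.{u}} (a : T ⟶ R),
      P (pullback.snd f (a ≫ s)) ↔ P (pullback.snd f (a ≫ t)))
    (W : U.Opens) (hW : P (f ∣_ W)) (hmax : ∀ W' : U.Opens, P (f ∣_ W') → W' ≤ W) :
    s ⁻¹ᵁ W = t ⁻¹ᵁ W :=
  le_antisymm
    (preimage_le_of_key hopen_imm hopen_map f s t hs hs' ht' (fun a => (key a).mp) W hW hmax)
    (preimage_le_of_key hopen_imm hopen_map f t s ht ht' hs' (fun a => (key a).mpr) W hW hmax)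

end

end Groth.Agent.Lib.Helper95
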