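import Mathlib.Algebra.Polynomial.Derivative
import Mathlib.Algebra.Polynomial.AlgebraMap
import Mathlib.Algebra.Polynomial.Eval.Degree
import Mathlib.Algebra.Ring.GeomSum
import Mathlib.RingTheory.Coprime.Lemmas
import Mathlib.Tactic

set_option autoImplicit false

namespace Groth.Agent.Lib.Helper95.LogPoly

open Polynomial

noncomputable def L (d : ℕ) : ℚ[X] :=
  ∑ n ∈ Finset.range (d + 1), C ((-1 : ℚ) ^ n / ((n : ℚ) + 1)) * X ^ (n + 1)

noncomputable def M (d : ℕ) : ℚ[X] := ∑ n ∈ Finset.range (d + 1), (-X) ^ n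

noncomputable def G (j : ℕ) : ℚ[X] := (1 + X) ^ j - 1

lemma derivative_L (d : ℕ) : derivative (L d) = M d := by
  unfold L M
  rw [derivative_sum]
  refine Finset.sum_congr rfl fun n _ => ?_
  rw [derivative_C_mul, derivative_X_pow, Nat.add_sub_cancel]
  have h : ((-1 : ℚ) ^ n / ((n : ℚ) + 1)) * ((n + 1 : ℕ) : ℚ) = (-1) ^ n := by
    have : ((n : ℚ) + 1) ≠ 0 := by positivity
    push_cast
    field_simp
  rw [← mul_assoc, ← C_mul, h, neg_pow (X : ℚ[X]), map_pow, map_neg, map_one]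

lemma M_mul (d : ℕ) : (1 + X) * M d = 1 - (-X) ^ (d + 1) := by
  unfold M
  have := geom_sum_mul (-X : ℚ[X]) (d + 1)
  linear_combination -this

lemma eval_L (d : ℕ) : (L d).eval 0 = 0 := by
  unfold L
  rw [eval_finsetSum]
  refine Finset.sum_eq_zero fun n _ => ?_
  simp

lemma eval_G (j : ℕ) : (G j).eval 0 = 0 := by
  simp [G]

lemma X_dvd_G (j : ℕ) : X ∣ G j := by
  rw [X_dvd_iff, coeff_zero_eq_eval_zero, eval_G]

lemma derivative_G (j : ℕ) (hj : 1 ≤ j) : derivative (G j) = C (j : ℚ) * (1 + X) ^ (j - 1) := by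
  unfold G
  rw [derivative_sub, derivative_one, sub_zero, derivative_pow, derivative_add, derivative_one,
    zero_add, derivative_X, mul_one]

noncomputable def p (d j : ℕ) : ℚ[X] := (L d).comp (G j) - C (j : ℚ) * L d

lemma key1 (d j : ℕ) (hj : 1 ≤ j) :
    (1 + X) ^ j * derivative (p d j) =
      C (j : ℚ) * (1 + X) ^ (j - 1) * ((-X) ^ (d + 1) - (-(G j)) ^ (d + 1)) := by
  unfold p
  rw [derivative_sub, derivative_comp, derivative_C_mul, derivative_L, derivative_G j hj]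
  have h1 : (1 + X) ^ j * (M d).comp (G j) = 1 - (-(G j)) ^ (d + 1) := by
    have := congrArg (fun q => q.comp (G j)) (M_mul d)
    simp only [mul_comp, add_comp, one_comp, X_comp, sub_comp, pow_comp, neg_comp] at this
    rw [← this]
    congr 1
    unfold G; ring
  have h2 : (1 + X : ℚ[X]) ^ j = (1 + X) ^ (j - 1) * (1 + X) := by
    rw [← pow_succ, Nat.sub_add_cancel hj]
  have h3 := M_mul d
  calc (1 + X) ^ j * (C (j : ℚ) * (1 + X) ^ (j - 1) * (M d).comp (G j) - C (j : ℚ) * M d)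
      = C (j : ℚ) * (1 + X) ^ (j - 1) * ((1 + X) ^ j * (M d).comp (G j))
          - C (j : ℚ) * ((1 + X) ^ j * M d) := by ring
    _ = C (j : ℚ) * (1 + X) ^ (j - 1) * (1 - (-(G j)) ^ (d + 1))
          - C (j : ℚ) * ((1 + X) ^ (j - 1) * ((1 + X) * M d)) := by rw [h1, h2]; ring
    _ = _ := by rw [h3]; ring

lemma X_pow_dvd_derivative_p (d j : ℕ) (hj : 1 ≤ j) : X ^ (d + 1) ∣ derivative (p d j) := by
  have h1 : X ^ (d + 1) ∣ (1 + X) ^ j * derivative (p d j) := by
    rw [key1 d j hj]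
    apply Dvd.dvd.mul_left
    apply dvd_sub
    · rw [neg_pow]; exact Dvd.intro_left _ rfl
    · rw [neg_pow]
      exact Dvd.dvd.mul_left (pow_dvd_pow_of_dvd (X_dvd_G j) _) _
  have hcop : IsCoprime (X ^ (d + 1) : ℚ[X]) ((1 + X) ^ j) := by
    apply IsCoprime.pow
    exact ⟨-1, 1, by ring⟩
  exact hcop.dvd_of_dvd_mul_left h1

lemma X_pow_dvd_p (d j : ℕ) (hj : 1 ≤ j) : X ^ (d + 1) ∣ p d j := by
  rw [X_pow_dvd_iff]
  intro i hi
  rcases i with _ | i
  · rw [coeff_zero_eq_eval_zero]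
    unfold p
    rw [eval_sub, eval_comp, eval_G, eval_mul, eval_L, mul_zero, sub_zero]
  · have h := (X_pow_dvd_iff.mp (X_pow_dvd_derivative_p d j hj)) i (by omega)
    rw [coeff_derivative] at h
    have h2 : ((i : ℚ) + 1) ≠ 0 := by positivity
    exact (mul_eq_zero.mp h).resolve_right h2

theorem aeval_identity {A : Type*} [CommRing A] [Algebra ℚ A] (d j : ℕ) (hj : 1 ≤ j) (T : A)
    (hT : T ^ (d + 1) = 0) :
    aeval ((1 + T) ^ j - 1) (L d) = (j : ℚ) • aeval T (L d) := by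
  obtain ⟨q, hq⟩ := X_pow_dvd_p d j hj
  have h1 : aeval T (p d j) = 0 := by
    rw [hq, map_mul, map_pow, aeval_X, hT, zero_mul]
  unfold p at h1
  rw [map_sub, aeval_comp, map_mul, aeval_C, ← Algebra.smul_def] at h1
  have h2 : aeval T (G j) = (1 + T) ^ j - 1 := by
    unfold G
    simp
  rw [h2] at h1
  exact sub_eq_zero.mp h1

theorem aeval_L {A : Type*} [CommRing A] [Algebra ℚ A] (d : ℕ) (T : A) :
    aeval T (L d) = ∑ n ∈ Finset.range (d + 1), ((-1 : ℚ) ^ n / ((n : ℚ) + 1)) • T ^ (n + 1) := by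
  unfold L
  rw [map_sum]
  refine Finset.sum_congr rfl fun n _ => ?_
  rw [map_mul, aeval_C, map_pow, aeval_X, ← Algebra.smul_def]

end Groth.Agent.Lib.Helper95.LogPoly
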