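import Mathlib
import Groth.Agent.Lib.Helper95.NewtonIdem

set_option autoImplicit false

namespace Groth.Agent.Lib.Helper95.MatIdem

open Groth.Agent.Lib.Helper95.NewtonIdem

variable {A : Type*} [CommRing A] {r : ℕ}

def matIdeal (I : Ideal A) : AddSubgroup (Matrix (Fin r) (Fin r) A) where
  carrier := {M | ∀ i j, M i j ∈ I}
  add_mem' := by
    intro a b ha hb i j
    rw [Matrix.add_apply]
    exact I.add_mem (ha i j) (hb i j)
  zero_mem' := by
    intro i j
    rw [Matrix.zero_apply]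
    exact I.zero_mem
  neg_mem' := by
    intro a ha i j
    rw [Matrix.neg_apply]
    exact I.neg_mem (ha i j)

lemma mem_matIdeal (I : Ideal A) (M : Matrix (Fin r) (Fin r) A) :
    M ∈ matIdeal I ↔ ∀ i j, M i j ∈ I := Iff.rfl

lemma matIdeal_mul_mem (I I' : Ideal A) (a b : Matrix (Fin r) (Fin r) A)
    (ha : a ∈ matIdeal I) (hb : b ∈ matIdeal I') : a * b ∈ matIdeal (I * I') := by
  intro i j
  rw [Matrix.mul_apply]
  exact Ideal.sum_mem _ fun l _ => Ideal.mul_mem_mul (ha i l) (hb l j)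

lemma matIdeal_left (I : Ideal A) (a : Matrix (Fin r) (Fin r) A) (ha : a ∈ matIdeal I)
    (b : Matrix (Fin r) (Fin r) A) : b * a ∈ matIdeal I := by
  intro i j
  rw [Matrix.mul_apply]
  exact Ideal.sum_mem _ fun l _ => I.mul_mem_left _ (ha l j)

lemma matIdeal_right (I : Ideal A) (a : Matrix (Fin r) (Fin r) A) (ha : a ∈ matIdeal I)
    (b : Matrix (Fin r) (Fin r) A) : a * b ∈ matIdeal I := by
  intro i j
  rw [Matrix.mul_apply]
  exact Ideal.sum_mem _ fun l _ => I.mul_mem_right _ (ha i l)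

lemma matIdeal_pow (I : Ideal A) (a : Matrix (Fin r) (Fin r) A) (ha : a ∈ matIdeal I) (k : ℕ) :
    a ^ k ∈ matIdeal (I ^ k) := by
  induction k with
  | zero => intro i j; simp
  | succ k ih =>
    rw [pow_succ a k, pow_succ I k]
    exact matIdeal_mul_mem _ _ _ _ ih ha

lemma matIdeal_mono {I I' : Ideal A} (h : I ≤ I') (a : Matrix (Fin r) (Fin r) A)
    (ha : a ∈ matIdeal I) : a ∈ matIdeal I' := fun i j => h (ha i j)

lemma exists_pow_eq_zero_of_nilpotent_entries (M : Matrix (Fin r) (Fin r) A)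
    (hM : ∀ i j, IsNilpotent (M i j)) : ∃ m, M ^ m = 0 := by
  set 𝔫 : Ideal A := Ideal.span (Set.range (fun ij : Fin r × Fin r => M ij.1 ij.2)) with h𝔫
  have hfg : 𝔫.FG := Submodule.fg_span (Set.finite_range _)
  have hle : 𝔫 ≤ nilradical A := by
    rw [h𝔫, Ideal.span_le]
    rintro x ⟨ij, rfl⟩
    exact (mem_nilradical).mpr (hM ij.1 ij.2)
  obtain ⟨m, hm⟩ := (Ideal.FG.isNilpotent_iff_le_nilradical hfg).mpr hle
  refine ⟨m, ?_⟩
  have h1 : M ∈ matIdeal 𝔫 := fun i j => Ideal.subset_span ⟨(i, j), rfl⟩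
  have h2 := matIdeal_pow 𝔫 M h1 m
  rw [hm] at h2
  ext i j
  have := h2 i j
  simpa using this

theorem exists_idempotent_matrix (I : ℕ → Ideal A)
    (hsep : ∀ w : A, (∀ n, w ∈ I n) → w = 0)
    (hcomp : ∀ w : ℕ → A, (∀ n, w (n + 1) - w n ∈ I n) → ∃ L, ∀ n, L - w n ∈ I n)
    (𝔧 : Ideal A) (hclosed : ∀ x, (∀ n, ∃ j ∈ 𝔧, x - j ∈ I n) → x ∈ 𝔧)
    (X₀ : Matrix (Fin r) (Fin r) A) (hd : X₀ ^ 2 - X₀ ∈ matIdeal 𝔧)
    (hnil : ∀ n, ∃ N, (X₀ ^ 2 - X₀) ^ N ∈ matIdeal (I n)) :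
    ∃ X : Matrix (Fin r) (Fin r) A, X * X = X ∧ X - X₀ ∈ matIdeal 𝔧 := by
  refine exists_idempotent (fun n => matIdeal (I n)) (fun n => matIdeal_left (I n))
    (fun n => matIdeal_right (I n)) ?_ ?_ (matIdeal 𝔧) (matIdeal_right 𝔧) ?_ X₀ hd hnil
  · intro x hx
    ext i j
    exact hsep _ fun n => hx n i j
  · intro y hy
    have h1 : ∀ i j, ∃ L : A, ∀ n, L - y n i j ∈ I n := by
      intro i j
      apply hcomp (fun n => y n i j)
      intro n
      have := hy n i j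
      simpa using this
    choose L hL using h1
    refine ⟨Matrix.of L, fun n i j => ?_⟩
    simpa using hL i j n
  · intro x hx i j
    apply hclosed
    intro n
    obtain ⟨m, hm, hxm⟩ := hx n
    exact ⟨m i j, hm i j, by simpa using hxm i j⟩

end Groth.Agent.Lib.Helper95.MatIdem
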