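import Mathlib.RingTheory.MvPolynomial.WeightedHomogeneous
import Mathlib.Tactic

set_option autoImplicit false
open MvPolynomial Finset

namespace Groth.Agent.Lib.Helper95.MinDegR

variable {σ : Type*} {R : Type*} [CommRing R]

def MD (D : ℕ) (p : MvPolynomial σ R) : Prop :=
  ∀ d ∈ p.support, D ≤ Finsupp.weight (fun _ : σ => (1 : ℕ)) d

lemma MD.mono {D D' : ℕ} {p : MvPolynomial σ R} (h : MD D p) (hD : D' ≤ D) :
    MD D' p := fun d hd => hD.trans (h d hd)

lemma md_zero (p : MvPolynomial σ R) : MD 0 p := fun _ _ => Nat.zero_le _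

lemma md_of_eq_zero (D : ℕ) : MD D (0 : MvPolynomial σ R) := by
  intro d hd; simp at hd

lemma MD.add {D : ℕ} {p q : MvPolynomial σ R} (hp : MD D p) (hq : MD D q) :
    MD D (p + q) := by
  classical
  intro d hd
  rcases Finset.mem_union.mp (support_add hd) with h | h
  · exact hp d h
  · exact hq d h

lemma MD.neg {D : ℕ} {p : MvPolynomial σ R} (hp : MD D p) : MD D (-p) := by
  intro d hd
  rw [support_neg] at hd
  exact hp d hd

lemma MD.sub {D : ℕ} {p q : MvPolynomial σ R} (hp : MD D p) (hq : MD D q) :
    MD D (p - q) := by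
  rw [sub_eq_add_neg]; exact hp.add hq.neg

lemma MD.mul {D E : ℕ} {p q : MvPolynomial σ R} (hp : MD D p) (hq : MD E q) :
    MD (D + E) (p * q) := by
  classical
  intro d hd
  obtain ⟨a, ha, b, hb, rfl⟩ := Finset.mem_add.mp (support_mul p q hd)
  rw [map_add]
  exact add_le_add (hp a ha) (hq b hb)

lemma MD.sum {ι : Type*} {D : ℕ} (s : Finset ι) (f : ι → MvPolynomial σ R)
    (h : ∀ i ∈ s, MD D (f i)) : MD D (∑ i ∈ s, f i) := by
  classical
  induction s using Finset.induction_on with
  | empty => intro d hd; simp at hd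
  | insert a s ha ih =>
    rw [Finset.sum_insert ha]
    exact (h a (Finset.mem_insert_self a s)).add
      (ih fun i hi => h i (Finset.mem_insert_of_mem hi))

lemma md_one_iff (p : MvPolynomial σ R) : MD 1 p ↔ constantCoeff p = 0 := by
  classical
  constructor
  · intro h
    by_contra hne
    have h0 : (0 : σ →₀ ℕ) ∈ p.support := by
      rw [mem_support_iff]; exact hne
    have := h 0 h0
    simp at this
  · intro h d hd
    by_contra hlt
    have hw : Finsupp.weight (fun _ : σ => (1 : ℕ)) d = 0 := by omega
    have hd0 : d = 0 := by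
      ext i
      by_contra hi
      have h1 : d i ≤ Finsupp.weight (fun _ : σ => (1 : ℕ)) d :=
        Finsupp.le_weight (fun _ : σ => (1 : ℕ)) (s := i) one_ne_zero d
      simp only [Finsupp.coe_zero, Pi.zero_apply] at hi
      omega
    subst hd0
    exact (mem_support_iff.mp hd) h

lemma MD.map {S : Type*} [CommRing S] (f : R →+* S) {D : ℕ} {p : MvPolynomial σ R}
    (h : MD D p) : MD D (MvPolynomial.map f p) := by
  intro d hd
  exact h d (MvPolynomial.support_map_subset f p hd)

lemma md_of_map {S : Type*} [CommRing S] (f : R →+* S) (hf : Function.Injective f) {D : ℕ}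
    {p : MvPolynomial σ R} (h : MD D (MvPolynomial.map f p)) : MD D p := by
  intro d hd
  apply h d
  rw [MvPolynomial.support_map_of_injective p hf]
  exact hd

lemma MD.component_eq_zero {D : ℕ} {p : MvPolynomial σ R} (h : MD D p) (w : ℕ) (hw : w < D) :
    weightedHomogeneousComponent (fun _ : σ => (1 : ℕ)) w p = 0 := by
  apply weightedHomogeneousComponent_eq_zero'
  intro d hd
  have := h d hd
  omega

end Groth.Agent.Lib.Helper95.MinDegR
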