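import Groth.Agent.Lib.Helper95.UnivGamma
import Groth.Agent.Lib.Helper95.GamFil
import Groth.Agent.Lib.Helper95.Rep
import Mathlib.Algebra.Group.ForwardDiff

set_option autoImplicit false
open MvPolynomial Finset LambdaRing

namespace Groth.Agent.Lib.Helper95.UnivLead

open Groth.Agent.Lib.Helper95.UnivRing Groth.Agent.Lib.Helper95.MinDegR
  Groth.Agent.Lib.Helper95.UnivGamma Groth.Agent.Lib.Helper95.Rep
  Groth.Agent.Lib.Helper95.UnivPoly Groth.Agent.Lib.Helper95.GamFil

section MDIdeal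

variable {σ : Type*} {R : Type*} [CommRing R]

def mdIdeal (σ : Type*) (R : Type*) [CommRing R] (c : ℕ) : Ideal (MvPolynomial σ R) where
  carrier := {p | MD c p}
  add_mem' := fun ha hb => MD.add ha hb
  zero_mem' := md_of_eq_zero c
  smul_mem' := fun a p hp => by
    have := MD.mul (md_zero a) hp
    rw [Nat.zero_add] at this
    exact this

lemma mem_mdIdeal {c : ℕ} {p : MvPolynomial σ R} : p ∈ mdIdeal σ R c ↔ MD c p := Iff.rfl

lemma mdIdeal_isFilt : IsFilt (mdIdeal σ R) where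
  anti := fun hab p hp => MD.mono hp hab
  zero := by
    rw [eq_top_iff]
    intro p _
    exact md_zero p
  mul := fun hx hy => MD.mul hx hy

lemma md_monomial {c : ℕ} (d : σ →₀ ℕ) (a : R) (h : c ≤ Finsupp.weight (fun _ : σ => (1 : ℕ)) d) :
    MD c (monomial d a) := by
  classical
  intro e he
  have := support_monomial_subset he
  rw [Finset.mem_singleton] at this
  subst this
  exact h

lemma md_aeval_of_weights {τ : Type*} (w : τ → ℕ) (g : τ → MvPolynomial σ R)
    (hg : ∀ t, MD (w t) (g t)) (n : ℕ) (W : MvPolynomial τ ℤ)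
    (hW : ∀ d ∈ W.support, n ≤ Finsupp.weight w d) : MD n (aeval g W) :=
  mdIdeal_isFilt.aeval_mem w g hg n W hW

lemma md_aeval {τ : Type*} (g : σ → MvPolynomial τ R) (hg : ∀ i, MD 1 (g i)) {c : ℕ}
    {f : MvPolynomial σ R} (hf : MD c f) : MD c (aeval g f) :=
  (mdIdeal_isFilt (σ := τ) (R := R)).aeval_mem (fun _ : σ => (1 : ℕ)) g hg c f hf

end MDIdeal

section Lead

variable (σ : Type*)

noncomputable def hS (k : ℕ) (i : σ) : MvPolynomial σ ℚ := ∑ j ∈ range k, (1 + X i) ^ j

lemma psi_X_eq (k : ℕ) (i : σ) : psi σ k (X i) = X i * hS σ k i := by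
  rw [psi_X, hS, mul_comm]
  have := geom_sum_mul (1 + X i : MvPolynomial σ ℚ) k
  rw [add_sub_cancel_left] at this
  exact this.symm

lemma constantCoeff_hS (k : ℕ) (i : σ) : constantCoeff (hS σ k i) = (k : ℚ) := by
  simp [hS]

lemma psi_monomial (k : ℕ) (d : σ →₀ ℕ) (a : ℚ) :
    psi σ k (monomial d a) = monomial d a * d.prod fun i n => hS σ k i ^ n := by
  have h1 : psi σ k (monomial d a) = C a * d.prod fun i n => (X i * hS σ k i) ^ n := by
    rw [psi, aeval_monomial]
    simp only [← psi_X_eq, psi_X]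
    rfl
  rw [h1, monomial_eq, mul_assoc]
  congr 1
  simp only [mul_pow]
  rw [Finsupp.prod_mul]

lemma psi_md (k : ℕ) {c : ℕ} {f : MvPolynomial σ ℚ} (hf : MD c f) : MD c (psi σ k f) := by
  apply md_aeval _ _ hf
  intro i
  rw [md_one_iff]
  simp

lemma psi_lead (k : ℕ) {m : ℕ} {f : MvPolynomial σ ℚ} (hf : MD m f) :
    MD (m + 1) (psi σ k f - C ((k : ℚ) ^ m) * f) := by
  classical
  have e : psi σ k f - C ((k : ℚ) ^ m) * f =
      ∑ d ∈ f.support, monomial d (coeff d f) *
        ((d.prod fun i n => hS σ k i ^ n) - C ((k : ℚ) ^ m)) := by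
    conv_lhs => rw [f.as_sum, map_sum, Finset.mul_sum, ← Finset.sum_sub_distrib]
    refine Finset.sum_congr rfl fun d _ => ?_
    rw [psi_monomial]; ring
  rw [e]
  refine MD.sum _ _ fun d hd => ?_
  have hdm := hf d hd
  rcases Nat.lt_or_ge m (Finsupp.weight (fun _ : σ => (1 : ℕ)) d) with hlt | hge
  · have := MD.mul (md_monomial d (coeff d f) hlt)
      (md_zero ((d.prod fun i n => hS σ k i ^ n) - C ((k : ℚ) ^ m)))
    exact this
  · have heq : Finsupp.weight (fun _ : σ => (1 : ℕ)) d = m := le_antisymm hge hdm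
    refine MD.mul (md_monomial d (coeff d f) hdm) ?_
    rw [md_one_iff, map_sub, constantCoeff_C, Finsupp.prod, map_prod]
    simp only [map_pow, constantCoeff_hS]
    rw [Finset.prod_pow_eq_pow_sum, sub_eq_zero]
    congr 1
    rw [← heq, Finsupp.weight_apply, Finsupp.sum]
    simp

end Lead

section Lead2

variable (σ : Type*)

lemma md_C_mul {c : ℕ} (a : ℚ) {f : MvPolynomial σ ℚ} (hf : MD c f) : MD c (C a * f) := by
  have := MD.mul (md_zero (C a : MvPolynomial σ ℚ)) hf
  rwa [Nat.zero_add] at this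

lemma md_mul_left {c : ℕ} (g : MvPolynomial σ ℚ) {f : MvPolynomial σ ℚ} (hf : MD c f) :
    MD c (g * f) := by
  have := MD.mul (md_zero g) hf
  rwa [Nat.zero_add] at this

lemma lam_lead {m : ℕ} (hm : 1 ≤ m) {y : MvPolynomial σ ℚ} (hy : MD m y) (k : ℕ) :
    MD m (LambdaOps.lam (k + 1) y) ∧
      MD (m + 1) (LambdaOps.lam (k + 1) y - C ((-1 : ℚ) ^ k * ((k : ℚ) + 1) ^ (m - 1)) * y) := by
  induction k using Nat.strong_induction_on with
  | _ k ih =>
    set u : ℚ := (k : ℚ) + 1 with hu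
    have hu0 : u ≠ 0 := by positivity
    have hN := newton_range y k
    rw [Finset.sum_range_succ, Nat.sub_self, LambdaOps.lam_zero, mul_one,
      adamsOp_eq σ (k + 1) (by omega)] at hN
    set R : MvPolynomial σ ℚ := ∑ i ∈ range k, (-1) ^ i * adamsOp (i + 1) y *
      LambdaOps.lam (k - i) y with hR
    have hRmd : MD (m + 1) R := by
      refine MD.sum _ _ fun i hi => ?_
      have hik := Finset.mem_range.mp hi
      rw [adamsOp_eq σ (i + 1) (by omega), mul_assoc]
      apply md_mul_left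
      have h1 := psi_md σ (i + 1) hy
      have h2 := (ih (k - i - 1) (by omega)).1
      rw [show k - i - 1 + 1 = k - i by omega] at h2
      exact (MD.mul h1 h2).mono (by omega)
    have hcu : ((k : MvPolynomial σ ℚ) + 1) = C u := by
      rw [hu, map_add, map_natCast, map_one]
    rw [hcu] at hN
    have hlam : LambdaOps.lam (k + 1) y = C u⁻¹ * (R + (-1) ^ k * psi σ (k + 1) y) := by
      rw [← hN, ← mul_assoc, ← C_mul, inv_mul_cancel₀ hu0, C_1, one_mul]
    constructor
    · rw [hlam]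
      apply md_C_mul
      exact (hRmd.mono (by omega)).add (md_mul_left σ _ (psi_md σ (k + 1) hy))
    · have e : LambdaOps.lam (k + 1) y - C ((-1 : ℚ) ^ k * u ^ (m - 1)) * y =
          C u⁻¹ * (R + (-1) ^ k * (psi σ (k + 1) y - C (u ^ m) * y)) := by
        rw [hlam]
        have hpow : u ^ m = u * u ^ (m - 1) := by
          rw [← pow_succ', show m - 1 + 1 = m by omega]
        have h3 : (C ((-1 : ℚ) ^ k * u ^ (m - 1)) : MvPolynomial σ ℚ) =
            C u⁻¹ * ((-1) ^ k * C (u ^ m)) := by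
          rw [hpow, C_mul, C_mul, C_pow, C_neg, C_1]
          rw [← mul_assoc, ← mul_assoc, mul_comm (C u⁻¹) ((-1) ^ k), mul_assoc ((-1) ^ k),
            ← C_mul, inv_mul_cancel₀ hu0, C_1, mul_one]
        rw [h3]; ring
      rw [e]
      apply md_C_mul
      refine hRmd.add (md_mul_left σ _ ?_)
      have := psi_lead σ (k + 1) hy
      rw [hu]
      push_cast at this
      exact this

end Lead2

open scoped fwdDiff in
lemma comb_id (n : ℕ) :
    ∑ j ∈ range (n + 1), (n.choose j : ℚ) * ((-1) ^ j * ((j : ℚ) + 1) ^ n) =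
      (-1) ^ n * (n.factorial : ℚ) := by
  have h := congrFun (fwdDiff_iter_eq_factorial (R := ℚ) (n := n)) 1
  rw [fwdDiff_iter_eq_sum_shift] at h
  have h2 : ((n.factorial : ℚ → ℚ)) 1 = (n.factorial : ℚ) := by simp
  rw [h2] at h
  rw [← h, Finset.mul_sum]
  refine Finset.sum_congr rfl fun j hj => ?_
  have hj' : j ≤ n := Nat.lt_succ_iff.mp (Finset.mem_range.mp hj)
  have e1 : ((-1 : ℚ)) ^ j = (-1) ^ n * (-1) ^ (n - j) := by
    rw [← pow_add, show n + (n - j) = 2 * (n - j) + j by omega, pow_add, pow_mul]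
    simp
  rw [e1]
  simp only [zsmul_eq_mul, Int.cast_mul, Int.cast_pow, Int.cast_neg, Int.cast_one,
    Int.cast_natCast, smul_eq_mul, mul_one, nsmul_eq_mul]
  ring


section Lead3

variable (σ : Type*)

lemma gamma_md {m : ℕ} (hm : 1 ≤ m) {y : MvPolynomial σ ℚ} (hy : MD m y) (n : ℕ) :
    MD m (gamma (n + 1) y) := by
  rw [gamma_succ]
  refine MD.sum _ _ fun j _ => ?_
  exact md_mul_left σ _ (lam_lead σ hm hy j).1

lemma gamma_lead {m : ℕ} (hm : 1 ≤ m) {y : MvPolynomial σ ℚ} (hy : MD m y) :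
    MD (m + 1) (gamma m y - C ((-1 : ℚ) ^ (m - 1) * ((m - 1).factorial : ℚ)) * y) := by
  obtain ⟨n, rfl⟩ : ∃ n, m = n + 1 := ⟨m - 1, by omega⟩
  rw [Nat.add_sub_cancel, gamma_succ, ← comb_id n]
  have e : ∑ j ∈ range (n + 1), (n.choose j : MvPolynomial σ ℚ) * LambdaOps.lam (j + 1) y -
      C (∑ j ∈ range (n + 1), (n.choose j : ℚ) * ((-1) ^ j * ((j : ℚ) + 1) ^ n)) * y =
      ∑ j ∈ range (n + 1), (n.choose j : MvPolynomial σ ℚ) *
        (LambdaOps.lam (j + 1) y - C ((-1 : ℚ) ^ j * ((j : ℚ) + 1) ^ (n + 1 - 1)) * y) := by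
    rw [map_sum, Finset.sum_mul, ← Finset.sum_sub_distrib]
    refine Finset.sum_congr rfl fun j _ => ?_
    rw [Nat.add_sub_cancel, C_mul, map_natCast]
    ring
  rw [e]
  refine MD.sum _ _ fun j _ => ?_
  exact md_mul_left σ _ (lam_lead σ hm hy j).2

end Lead3

end Groth.Agent.Lib.Helper95.UnivLead
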