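import Groth.Agent.Lib.Helper95.Transfer
import Groth.Agent.Lib.Helper95.UnivLead

set_option autoImplicit false
open MvPolynomial Finset LambdaRing

namespace Groth.Agent.Lib.Helper95.MultiFam

open Groth.Agent.Lib.Helper95.UnivRing Groth.Agent.Lib.Helper95.MinDegR
  Groth.Agent.Lib.Helper95.UnivGamma Groth.Agent.Lib.Helper95.Rep
  Groth.Agent.Lib.Helper95.UnivPoly Groth.Agent.Lib.Helper95.UnivLead

universe v

def Tn (n : ℕ) : ℕ → Type
  | 0 => Empty
  | r + 1 => Fin n ⊕ Tn n r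

def th (n : ℕ) : (r : ℕ) → Tn n r → Fin r × ℕ
  | 0, t => nomatch t
  | _ + 1, Sum.inl p => (0, (p : ℕ))
  | r + 1, Sum.inr t => ((th n r t).1.succ, (th n r t).2)

def emb (n : ℕ) : (r : ℕ) → Fin r → Fin n → Tn n r
  | 0, s, _ => s.elim0
  | _ + 1, ⟨0, _⟩, p => Sum.inl p
  | r + 1, ⟨s + 1, h⟩, p => Sum.inr (emb n r ⟨s, Nat.lt_of_succ_lt_succ h⟩ p)

lemma th_emb (n : ℕ) : ∀ (r : ℕ) (s : Fin r) (p : Fin n), th n r (emb n r s p) = (s, (p : ℕ))
  | 0, s, _ => s.elim0
  | _ + 1, ⟨0, _⟩, p => rfl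
  | r + 1, ⟨s + 1, h⟩, p => by
    show ((th n r (emb n r ⟨s, Nat.lt_of_succ_lt_succ h⟩ p)).1.succ,
      (th n r (emb n r ⟨s, Nat.lt_of_succ_lt_succ h⟩ p)).2) = _
    rw [th_emb n r ⟨s, Nat.lt_of_succ_lt_succ h⟩ p]
    rfl

lemma th_injective (n : ℕ) : ∀ r : ℕ, Function.Injective (th n r)
  | 0 => fun t => nomatch t
  | r + 1 => by
    rintro (a | a) (b | b) h
    · simp only [th, Prod.mk.injEq, true_and] at h
      exact congrArg Sum.inl (Fin.ext h)
    · simp only [th, Prod.mk.injEq] at h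
      exact absurd h.1 (Fin.succ_ne_zero _).symm
    · simp only [th, Prod.mk.injEq] at h
      exact absurd h.1 (Fin.succ_ne_zero _)
    · simp only [th, Prod.mk.injEq, Fin.succ_inj] at h
      exact congrArg Sum.inr (th_injective n r (Prod.ext h.1 h.2))

lemma th_snd_lt (n : ℕ) : ∀ (r : ℕ) (t : Tn n r), (th n r t).2 < n
  | 0, t => nomatch t
  | _ + 1, Sum.inl p => p.2
  | r + 1, Sum.inr t => th_snd_lt n r t

lemma emb_th (n : ℕ) (r : ℕ) (t : Tn n r) :
    emb n r (th n r t).1 ⟨(th n r t).2, th_snd_lt n r t⟩ = t := by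
  apply th_injective n r
  rw [th_emb]

noncomputable def E (n r : ℕ) : Tn n r → MvPolynomial (Tn n r) ℤ :=
  fun t => rename (emb n r (th n r t).1) (esymm (Fin n) ℤ ((th n r t).2 + 1))

lemma E_inl (n r : ℕ) (p : Fin n) :
    E n (r + 1) (Sum.inl p) = rename Sum.inl (esymm (Fin n) ℤ ((p : ℕ) + 1)) := by
  simp only [E, th]
  rfl

lemma E_inr (n r : ℕ) (t : Tn n r) :
    E n (r + 1) (Sum.inr t) = rename Sum.inr (E n r t) := by
  simp only [E, th, rename_rename]
  rfl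


lemma sumAlgEquiv_symm_C (n r : ℕ) (q : MvPolynomial (Tn n r) ℤ) :
    (sumAlgEquiv ℤ (Fin n) (Tn n r)).symm (C q) = rename Sum.inr q := by
  rw [AlgEquiv.symm_apply_eq]
  have := congrArg (fun φ => φ q) (sumAlgEquiv_comp_rename_inr (R := ℤ) (S₁ := Fin n) (S₂ := Tn n r))
  simp only [AlgHom.comp_apply] at this
  exact this.symm

lemma sumAlgEquiv_symm_esymm (n r k : ℕ) :
    (sumAlgEquiv ℤ (Fin n) (Tn n r)).symm (esymm (Fin n) (MvPolynomial (Tn n r) ℤ) k) =
      rename Sum.inl (esymm (Fin n) ℤ k) := by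
  rw [esymm, esymm, map_sum, map_sum]
  refine Finset.sum_congr rfl fun t _ => ?_
  rw [map_prod, map_prod]
  refine Finset.prod_congr rfl fun a _ => ?_
  rw [rename_X, sumAlgEquiv_symm_X]

theorem E_algInd (n : ℕ) : ∀ r : ℕ, AlgebraicIndependent ℤ (E n r)
  | 0 => by
    have : (aeval (E n 0) : MvPolynomial (Tn n 0) ℤ →ₐ[ℤ] MvPolynomial (Tn n 0) ℤ) =
        AlgHom.id ℤ _ := by
      apply MvPolynomial.algHom_ext
      intro t
      exact nomatch t
    show Function.Injective (aeval (E n 0))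
    rw [this]
    exact Function.injective_id
  | r + 1 => by
    have hx := E_algInd n r
    have hy : AlgebraicIndependent (MvPolynomial (Tn n r) ℤ)
        (fun k : Fin n => esymm (Fin n) (MvPolynomial (Tn n r) ℤ) ((k : ℕ) + 1)) := by
      intro p q hpq
      apply esymmAlgHom_fin_injective (MvPolynomial (Tn n r) ℤ) (le_refl n)
      apply Subtype.ext
      rw [esymmAlgHom_apply, esymmAlgHom_apply]
      exact hpq
    have h := (hx.sumElim_comp hy).map' (f := (sumAlgEquiv ℤ (Fin n) (Tn n r)).symm.toAlgHom)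
      (sumAlgEquiv ℤ (Fin n) (Tn n r)).symm.injective
    have key : (E n (r + 1) : Fin n ⊕ Tn n r → MvPolynomial (Fin n ⊕ Tn n r) ℤ) =
        (⇑(sumAlgEquiv ℤ (Fin n) (Tn n r)).symm.toAlgHom ∘
          Sum.elim (fun k : Fin n => esymm (Fin n) (MvPolynomial (Tn n r) ℤ) ((k : ℕ) + 1))
            (⇑(algebraMap (MvPolynomial (Tn n r) ℤ)
              (MvPolynomial (Fin n) (MvPolynomial (Tn n r) ℤ))) ∘ E n r)) := by
      funext t
      rcases t with p | t
      · exact (E_inl n r p).trans (sumAlgEquiv_symm_esymm n r _).symm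
      · exact (E_inr n r t).trans (sumAlgEquiv_symm_C n r _).symm
    show AlgebraicIndependent ℤ
      (E n (r + 1) : Fin n ⊕ Tn n r → MvPolynomial (Fin n ⊕ Tn n r) ℤ)
    rw [key]
    exact h


def wtr (r : ℕ) : Fin r × ℕ → ℕ := fun ip => ip.2 + 1

noncomputable def uxm (n r : ℕ) : Fin r → MvPolynomial (Tn n r) ℚ :=
  fun s => ∑ p : Fin n, X (emb n r s p)

lemma gamma_uxm (n r : ℕ) (s : Fin r) (k : ℕ) :
    gamma k (uxm n r s) = rename (emb n r s) (esymm (Fin n) ℚ k) :=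
  gamma_sum_X_rename _ (emb n r s) k

lemma gamma_uxm_th (n r : ℕ) (t : Tn n r) :
    gamma ((th n r t).2 + 1) (uxm n r (th n r t).1) =
      MvPolynomial.map (Int.castRingHom ℚ) (E n r t) := by
  rw [gamma_uxm, E, map_rename, map_esymm]

lemma E_homogeneous (n r : ℕ) (t : Tn n r) :
    IsWeightedHomogeneous (fun _ : Tn n r => (1 : ℕ)) (E n r t) (wtr r (th n r t)) := by
  have := rename_esymm_isWeightedHomogeneous (fun _ : Tn n r => (1 : ℕ))
    (emb n r (th n r t).1) 1 (fun _ => rfl) ((th n r t).2 + 1)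
  simpa [E, wtr] using this

theorem weights_of_md_multi {r : ℕ} (G : MvPolynomial (Fin r × ℕ) ℤ) (c : ℕ)
    (h : ∀ n, MD c (evG (uxm n r) G)) : ∀ d ∈ G.support, c ≤ Finsupp.weight (wtr r) d := by
  classical
  obtain ⟨n, hn⟩ : ∃ n, ∀ ip ∈ G.vars, ip.2 < n :=
    ⟨G.vars.sup (fun ip => ip.2) + 1, fun ip h =>
      Nat.lt_succ_of_le (Finset.le_sup (f := fun ip : Fin r × ℕ => ip.2) h)⟩
  obtain ⟨Gn, hGn⟩ := exists_rename_eq_of_vars_subset_range G (th n r) (th_injective n r) (by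
    intro ip hip
    have hlt := hn ip hip
    obtain ⟨g, p⟩ := ip
    exact ⟨emb n r g ⟨p, hlt⟩, th_emb n r g ⟨p, hlt⟩⟩)
  have hMD := h n
  have e1 : evG (uxm n r) G = MvPolynomial.map (Int.castRingHom ℚ) (aeval (E n r) Gn) := by
    rw [← hGn, evG, aeval_rename]
    have : ((aeval ((fun ip : Fin r × ℕ => gamma (ip.2 + 1) (uxm n r ip.1)) ∘ th n r) :
        MvPolynomial (Tn n r) ℤ →ₐ[ℤ] MvPolynomial (Tn n r) ℚ) : _ →+* _) =
        (MvPolynomial.map (Int.castRingHom ℚ)).comp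
          (aeval (E n r) : MvPolynomial (Tn n r) ℤ →ₐ[ℤ]
            MvPolynomial (Tn n r) ℤ).toRingHom := by
      apply MvPolynomial.ringHom_ext
      · intro a; simp
      · intro q
        simp only [RingHom.coe_coe, aeval_X, Function.comp_apply, RingHom.comp_apply,
          AlgHom.toRingHom_eq_coe]
        exact gamma_uxm_th n r q
    exact congrArg (fun φ => φ Gn) this
  rw [e1] at hMD
  have hΓ : MD c (aeval (E n r) Gn) := md_of_map _ Int.cast_injective hMD
  have hcomp : ∀ w < c, weightedHomogeneousComponent (fun t => wtr r (th n r t)) w Gn = 0 := by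
    intro w hw
    apply E_algInd n r
    rw [map_zero, ← Groth.Agent.Lib.Helper95.GammaFil.component_aeval (fun t => wtr r (th n r t))
      (fun _ : Tn n r => (1 : ℕ)) (E n r) (E_homogeneous n r) Gn w]
    exact hΓ.component_eq_zero w hw
  intro d hd
  rw [← hGn, support_rename_of_injective (th_injective n r), Finset.mem_image] at hd
  obtain ⟨d', hd', rfl⟩ := hd
  have hw : Finsupp.weight (wtr r) (Finsupp.mapDomain (th n r) d') =
      Finsupp.weight (fun t => wtr r (th n r t)) d' := by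
    rw [Finsupp.weight_apply, Finsupp.weight_apply, Finsupp.sum_mapDomain_index]
    · intro i; simp
    · intro i m m'; rw [add_smul]
  rw [hw]
  by_contra hlt
  push Not at hlt
  have h4 := congrArg (coeff d') (hcomp _ hlt)
  rw [coeff_weightedHomogeneousComponent, if_pos rfl, coeff_zero] at h4
  exact (mem_support_iff.mp hd') h4

lemma gamma_uxm_mem_T (n r : ℕ) (ip : Fin r × ℕ) :
    gamma (ip.2 + 1) (uxm n r ip.1) ∈ T (Tn n r) := by
  rw [gamma_uxm]
  exact rename_esymm_mem_T _ _ _ (Nat.succ_ne_zero _)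


lemma uxm_mem_T (n r : ℕ) (s : Fin r) : uxm n r s ∈ T (Tn n r) :=
  sum_mem fun _ _ => X_mem_T _ _

lemma evG_uxm_mem_T (n r : ℕ) (F : MvPolynomial (Fin r × ℕ) ℤ) (hF : constantCoeff F = 0) :
    evG (uxm n r) F ∈ T (Tn n r) :=
  aeval_mem_T _ _ (fun ip => gamma_uxm_mem_T n r ip) F hF

lemma md_evG_uxm (n r : ℕ) (F : MvPolynomial (Fin r × ℕ) ℤ) (a : ℕ)
    (hF : ∀ d ∈ F.support, a ≤ Finsupp.weight (wtr r) d) : MD a (evG (uxm n r) F) :=
  md_aeval_of_weights (wtr r) _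
    (fun ip => goodElt_of_mem_T _ (uxm_mem_T n r ip.1) (ip.2 + 1)) a F hF

theorem transfer_shift {r : ℕ} (F : MvPolynomial (Fin r × ℕ) ℤ) (hF0 : constantCoeff F = 0)
    (a : ℕ) (hFa : ∀ d ∈ F.support, a ≤ Finsupp.weight (wtr r) d) (c : ℕ) (hc : 1 ≤ c) :
    ∃ G : MvPolynomial (Fin r × ℕ) ℤ, GoodG.{v} F c G ∧
      ∀ d ∈ G.support, max c a ≤ Finsupp.weight (wtr r) d := by
  classical
  obtain ⟨Gs, hGs⟩ := exists_goodG.{v} F
  refine ⟨Gs c, (hGs c).1, weights_of_md_multi _ _ fun n => ?_⟩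
  have key := (hGs c).2 (MvPolynomial (Tn n r) ℚ) (univ_isSpecial _) (uxm n r)
  rw [← key]
  have h1 : MD c (gamma c (evG (uxm n r) F)) :=
    goodElt_of_mem_T _ (evG_uxm_mem_T n r F hF0) c
  rcases le_total c a with h | h
  · rw [max_eq_right h]
    obtain ⟨c', rfl⟩ : ∃ c', c = c' + 1 := ⟨c - 1, by omega⟩
    exact gamma_md _ (by omega) (md_evG_uxm n r F a hFa) c'
  · rw [max_eq_left h]
    exact h1

theorem transfer_lead {r : ℕ} (F : MvPolynomial (Fin r × ℕ) ℤ)
    (m : ℕ) (hm : 1 ≤ m) (hFm : ∀ d ∈ F.support, m ≤ Finsupp.weight (wtr r) d) :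
    ∃ H : MvPolynomial (Fin r × ℕ) ℤ,
      (∀ (A : Type v) [CommRing A] [LambdaOps A], IsSpecial A → ∀ x : Fin r → A,
        evG x H = gamma m (evG x F) -
          (-1 : A) ^ (m - 1) * ((m - 1).factorial : A) * evG x F) ∧
      ∀ d ∈ H.support, m + 1 ≤ Finsupp.weight (wtr r) d := by
  classical
  obtain ⟨Gs, hGs⟩ := exists_goodG.{v} F
  set cm : ℤ := (-1) ^ (m - 1) * ((m - 1).factorial : ℤ) with hcm
  have hev : ∀ (A : Type) [CommRing A] [LambdaOps A], IsSpecial A → ∀ x : Fin r → A,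
      GoodG.{0} F m (Gs m) →
      evG x (Gs m - C cm * F) = gamma m (evG x F) -
        (-1 : A) ^ (m - 1) * ((m - 1).factorial : A) * evG x F := by
    intro A _ _ hA x hG
    rw [map_sub, map_mul, ← hG A hA x]
    congr 2
    rw [evG, aeval_C, hcm]
    simp
  refine ⟨Gs m - C cm * F, ?_, weights_of_md_multi _ _ fun n => ?_⟩
  · intro A _ _ hA x
    rw [map_sub, map_mul, ← (hGs m).1 A hA x]
    congr 2
    rw [evG, aeval_C, hcm]
    simp
  · rw [hev _ (univ_isSpecial _) (uxm n r) (hGs m).2]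
    have := gamma_lead _ hm (md_evG_uxm n r F m hFm)
    convert this using 3
    simp [map_mul, map_pow]

end Groth.Agent.Lib.Helper95.MultiFam
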