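import Groth.Agent.Lib.Helper95.ChNewton

set_option autoImplicit false
open MvPolynomial Finset

namespace Groth.Agent.Lib.Helper95.NewtonSolve

open Groth.Agent.Lib.Helper95.ChNewton

section Map

variable {G G' : Type*} [CommRing G] [CommRing G']

lemma IsNewtonSeq.map {F : Type*} [FunLike F G G'] [RingHomClass F G G'] (f : F) {e n : ℕ → G}
    (h : IsNewtonSeq e n) :
    IsNewtonSeq (fun a => f (e a)) (fun b => f (n b)) := by
  intro k
  have := congrArg f (h k)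
  simpa only [map_sum, map_mul, map_pow, map_neg, map_one, map_natCast] using this

end Map

section Solve

variable {G : Type*} [CommRing G] [Algebra ℚ G]

noncomputable def sol (n : ℕ → G) : ℕ → G
  | 0 => 1
  | k + 1 => ((1 : ℚ) / ((k : ℚ) + 1)) •
      ((-1) ^ k * ∑ i : Fin (k + 1), (-1) ^ (i : ℕ) * sol n i * n (k + 1 - i))
  decreasing_by exact i.2

lemma sol_zero (n : ℕ → G) : sol n 0 = 1 := by
  rw [sol]

lemma sol_succ (n : ℕ → G) (k : ℕ) : sol n (k + 1) = ((1 : ℚ) / ((k : ℚ) + 1)) •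
      ((-1) ^ k * ∑ i : Fin (k + 1), (-1) ^ (i : ℕ) * sol n i * n (k + 1 - i)) := by
  rw [sol]

omit [Algebra ℚ G] in
lemma newton_split (e n : ℕ → G) (hn : n 0 = 0) (k : ℕ) :
    ∑ p ∈ antidiagonal (k + 1), (-1) ^ p.1 * e p.1 * n p.2 =
      ∑ i : Fin (k + 1), (-1) ^ (i : ℕ) * e i * n (k + 1 - i) := by
  rw [Finset.Nat.sum_antidiagonal_eq_sum_range_succ (fun a b => (-1) ^ a * e a * n b),
    Finset.sum_range_succ, Nat.sub_self, hn, mul_zero, add_zero, Finset.sum_range]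

lemma isNewtonSeq_step (e n : ℕ → G) (hn : n 0 = 0) (k : ℕ) :
    (∑ p ∈ antidiagonal (k + 1), (-1) ^ p.1 * e p.1 * n p.2 =
      (-1) ^ (k + 1 + 1) * ((k + 1 : ℕ) : G) * e (k + 1)) ↔
    e (k + 1) = ((1 : ℚ) / ((k : ℚ) + 1)) •
      ((-1) ^ k * ∑ i : Fin (k + 1), (-1) ^ (i : ℕ) * e i * n (k + 1 - i)) := by
  rw [newton_split e n hn k]
  have hk : ((k : ℚ) + 1) ≠ 0 := by positivity
  have hc : ((k + 1 : ℕ) : G) = algebraMap ℚ G ((k : ℚ) + 1) := by
    rw [map_add, map_natCast, map_one]; push_cast; rfl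
  have hsq : ((-1 : G) ^ k) * (-1) ^ k = 1 := by
    rw [← pow_add, Even.neg_one_pow ⟨k, rfl⟩]
  constructor
  · intro h
    rw [h, hc, Algebra.smul_def]
    have : algebraMap ℚ G (1 / ((k : ℚ) + 1)) * algebraMap ℚ G ((k : ℚ) + 1) = 1 := by
      rw [← map_mul, one_div, inv_mul_cancel₀ hk, map_one]
    calc e (k + 1) = (algebraMap ℚ G (1 / ((k : ℚ) + 1)) * algebraMap ℚ G ((k : ℚ) + 1)) *
          ((-1 : G) ^ k * (-1) ^ k) * e (k + 1) := by rw [this, hsq]; ring
      _ = _ := by ring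
  · intro h
    have : algebraMap ℚ G ((k : ℚ) + 1) * algebraMap ℚ G (1 / ((k : ℚ) + 1)) = 1 := by
      rw [← map_mul, one_div, mul_inv_cancel₀ hk, map_one]
    set S := ∑ i : Fin (k + 1), (-1) ^ (i : ℕ) * e i * n (k + 1 - i) with hS
    rw [h, hc, Algebra.smul_def]
    calc S = (algebraMap ℚ G ((k : ℚ) + 1) * algebraMap ℚ G (1 / ((k : ℚ) + 1))) *
          ((-1 : G) ^ k * (-1) ^ k) * S := by rw [this, hsq]; ring
      _ = _ := by ring

theorem isNewtonSeq_sol (n : ℕ → G) (hn : n 0 = 0) : IsNewtonSeq (sol n) n := by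
  intro k
  rcases k with _ | k
  · simp [hn]
  · rw [isNewtonSeq_step (sol n) n hn k]
    exact sol_succ n k

theorem eq_sol {e n : ℕ → G} (h0 : e 0 = 1) (hn : n 0 = 0) (h : IsNewtonSeq e n) : e = sol n := by
  funext k
  induction k using Nat.strong_induction_on with
  | _ k ih =>
    rcases k with _ | k
    · rw [h0, sol_zero]
    · rw [(isNewtonSeq_step e n hn k).mp (h (k + 1)), sol_succ]
      congr 2
      refine Finset.sum_congr rfl fun i _ => ?_
      rw [ih i i.2]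

theorem IsNewtonSeq.unique_left {e e' n : ℕ → G} (h0 : e 0 = 1) (h0' : e' 0 = 1) (hn : n 0 = 0)
    (h : IsNewtonSeq e n) (h' : IsNewtonSeq e' n) : e = e' := by
  rw [eq_sol h0 hn h, eq_sol h0' hn h']

end Solve

end Groth.Agent.Lib.Helper95.NewtonSolve
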