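import Groth.Prelude.Def_KGr
import Mathlib.RingTheory.PowerSeries.Trunc
import Mathlib.RingTheory.PowerSeries.Exp
import Mathlib.Tactic

set_option autoImplicit false
open Finset

namespace Groth.Agent.Lib.Helper95.NilEval

variable {R : Type*} [CommRing R] [Algebra ℚ R]

noncomputable def evw (d : ℕ) (w : R) (F : PowerSeries ℚ) : R :=
  Polynomial.aeval w (PowerSeries.trunc (d + 1) F)

omit [Algebra ℚ R] in
lemma pow_eq_zero_of_le {d : ℕ} {w : R} (hw : w ^ (d + 1) = 0) {i : ℕ} (hi : d + 1 ≤ i) :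
    w ^ i = 0 := by
  obtain ⟨k, rfl⟩ := Nat.exists_eq_add_of_le hi
  rw [pow_add, hw, zero_mul]

lemma evw_eq_sum (d : ℕ) (w : R) (F : PowerSeries ℚ) :
    evw d w F = ∑ k ∈ range (d + 1), (PowerSeries.coeff k F) • w ^ k := by
  unfold evw
  rw [Polynomial.aeval_eq_sum_range' (PowerSeries.natDegree_trunc_lt F d)]
  refine Finset.sum_congr rfl fun k hk => ?_
  rw [PowerSeries.coeff_trunc, if_pos (Finset.mem_range.mp hk)]

lemma aeval_trunc_coe {d : ℕ} {w : R} (hw : w ^ (d + 1) = 0) (P : Polynomial ℚ) :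
    Polynomial.aeval w (PowerSeries.trunc (d + 1) (P : PowerSeries ℚ)) = Polynomial.aeval w P := by
  set N := max (P.natDegree + 1) (d + 1) with hN
  rw [Polynomial.aeval_eq_sum_range' (n := N)
      (lt_of_lt_of_le (PowerSeries.natDegree_trunc_lt (P : PowerSeries ℚ) d) (le_max_right _ _)),
    Polynomial.aeval_eq_sum_range' (n := N) (lt_of_lt_of_le (Nat.lt_succ_self _) (le_max_left _ _))]
  refine Finset.sum_congr rfl fun i _ => ?_
  rw [PowerSeries.coeff_trunc, Polynomial.coeff_coe]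
  split_ifs with h
  · rfl
  · rw [pow_eq_zero_of_le hw (by omega), smul_zero, smul_zero]

theorem evw_mul {d : ℕ} {w : R} (hw : w ^ (d + 1) = 0) (F G : PowerSeries ℚ) :
    evw d w (F * G) = evw d w F * evw d w G := by
  unfold evw
  rw [← PowerSeries.trunc_trunc_mul_trunc, ← Polynomial.coe_mul, aeval_trunc_coe hw, map_mul]

lemma evw_add (d : ℕ) (w : R) (F G : PowerSeries ℚ) :
    evw d w (F + G) = evw d w F + evw d w G := by
  unfold evw
  rw [map_add, map_add]

lemma evw_sub (d : ℕ) (w : R) (F G : PowerSeries ℚ) :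
    evw d w (F - G) = evw d w F - evw d w G := by
  unfold evw
  rw [map_sub, map_sub]

lemma evw_one (d : ℕ) (w : R) : evw d w 1 = 1 := by
  unfold evw
  rw [PowerSeries.trunc_one, map_one]

lemma evw_X {d : ℕ} {w : R} (hw : w ^ (d + 1) = 0) : evw d w PowerSeries.X = w := by
  rcases d with _ | d
  · rw [zero_add, pow_one] at hw
    rw [evw_eq_sum, hw]
    simp
  · unfold evw
    rw [PowerSeries.trunc_X, Polynomial.aeval_X]

lemma evw_pow {d : ℕ} {w : R} (hw : w ^ (d + 1) = 0) (F : PowerSeries ℚ) (j : ℕ) :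
    evw d w (F ^ j) = evw d w F ^ j := by
  induction j with
  | zero => rw [pow_zero, pow_zero, evw_one]
  | succ j ih => rw [pow_succ, pow_succ, evw_mul hw, ih]

lemma expTrunc_eq (d : ℕ) : KGr.expTrunc d = PowerSeries.trunc (d + 1) (PowerSeries.exp ℚ) := by
  unfold KGr.expTrunc
  rw [PowerSeries.trunc_apply, Nat.Ico_zero_eq_range]
  refine Finset.sum_congr rfl fun k _ => ?_
  rw [PowerSeries.coeff_exp, Polynomial.C_mul_X_pow_eq_monomial]
  rfl

lemma toddTrunc_eq (d : ℕ) :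
    KGr.toddTrunc d = PowerSeries.trunc (d + 1) (bernoulli'PowerSeries ℚ) := by
  unfold KGr.toddTrunc
  rw [PowerSeries.trunc_apply, Nat.Ico_zero_eq_range]
  refine Finset.sum_congr rfl fun k _ => ?_
  rw [bernoulli'PowerSeries, PowerSeries.coeff_mk, Polynomial.C_mul_X_pow_eq_monomial]
  rfl

lemma aeval_expTrunc (d : ℕ) (w : R) :
    Polynomial.aeval w (KGr.expTrunc d) = evw d w (PowerSeries.exp ℚ) := by
  rw [expTrunc_eq]; rfl

lemma aeval_toddTrunc (d : ℕ) (w : R) :
    Polynomial.aeval w (KGr.toddTrunc d) = evw d w (bernoulli'PowerSeries ℚ) := by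
  rw [toddTrunc_eq]; rfl

theorem todd_identity {d : ℕ} {w : R} (hw : w ^ (d + 1) = 0) :
    Polynomial.aeval w (KGr.toddTrunc d) * (Polynomial.aeval w (KGr.expTrunc d) - 1) =
      w * Polynomial.aeval w (KGr.expTrunc d) := by
  rw [aeval_expTrunc, aeval_toddTrunc]
  have h := congrArg (evw d w) (bernoulli'PowerSeries_mul_exp_sub_one ℚ)
  rw [evw_mul hw, evw_sub, evw_one, evw_mul hw, evw_X hw] at h
  exact h

theorem exp_pow {d : ℕ} {w : R} (hw : w ^ (d + 1) = 0) (j : ℕ) :
    Polynomial.aeval w (KGr.expTrunc d) ^ j =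
      ∑ k ∈ range (d + 1), (((j : ℚ) ^ k) / (k.factorial : ℚ)) • w ^ k := by
  rw [aeval_expTrunc, ← evw_pow hw, PowerSeries.exp_pow_eq_rescale_exp, evw_eq_sum]
  refine Finset.sum_congr rfl fun k _ => ?_
  rw [PowerSeries.coeff_rescale, PowerSeries.coeff_exp]
  congr 1
  simp [div_eq_mul_inv]

lemma one_sub_exp_eq {d : ℕ} (w : R) :
    1 - Polynomial.aeval w (KGr.expTrunc d) =
      w * -(∑ k ∈ range d, ((1 : ℚ) / ((k + 1).factorial : ℚ)) • w ^ k) := by
  rw [aeval_expTrunc, evw_eq_sum, Finset.sum_range_succ', PowerSeries.coeff_exp, mul_neg,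
    Finset.mul_sum]
  simp only [pow_zero, Nat.factorial_zero, Nat.cast_one, div_one, map_one, one_smul]
  rw [sub_add_cancel_right]
  congr 1
  refine Finset.sum_congr rfl fun k _ => ?_
  rw [PowerSeries.coeff_exp, pow_succ', mul_smul_comm]
  simp

end Groth.Agent.Lib.Helper95.NilEval
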