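import Mathlib
import Groth.Agent.Lib.Helper95.MatIdem

set_option autoImplicit false

universe u

namespace Groth.Agent.Lib.Helper95.ProjLift

open Groth.Agent.Lib.Helper95.MatIdem

variable {A B : Type u} [CommRing A] [CommRing B] (Φ : A →+* B)

def psi (r : ℕ) : (Fin r → A) →ₛₗ[Φ] (Fin r → B) where
  toFun v := Φ ∘ v
  map_add' v w := by ext i; simp
  map_smul' a v := by ext i; simp

lemma psi_apply (r : ℕ) (v : Fin r → A) (i : Fin r) : psi Φ r v i = Φ (v i) := rfl

theorem exists_lift_projective (hΦ : Function.Surjective Φ)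
    (hidem : ∀ (r : ℕ) (X₀ : Matrix (Fin r) (Fin r) A),
      X₀ ^ 2 - X₀ ∈ matIdeal (RingHom.ker Φ) →
        ∃ X : Matrix (Fin r) (Fin r) A, X * X = X ∧ X - X₀ ∈ matIdeal (RingHom.ker Φ))
    (P : Type u) [AddCommGroup P] [Module B P] [Module.Finite B P] [Module.Projective B P] :
    ∃ (P' : Type u) (_ : AddCommGroup P') (_ : Module A P'),
      Module.Finite A P' ∧ Module.Projective A P' ∧
        ∃ π : P' →ₛₗ[Φ] P, Function.Surjective π ∧
          LinearMap.ker π = RingHom.ker Φ • (⊤ : Submodule A P') := by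
  obtain ⟨r, g, hg⟩ := Module.Finite.exists_fin (R := B) (M := P)
  set π₀ : (Fin r → B) →ₗ[B] P := Fintype.linearCombination B g with hπ₀def
  have hπ₀ : Function.Surjective π₀ := by
    rw [← LinearMap.range_eq_top, hπ₀def, Fintype.range_linearCombination, hg]
  obtain ⟨s₀, hs₀⟩ := Module.projective_lifting_property π₀ LinearMap.id hπ₀
  have hs₀' : ∀ y, π₀ (s₀ y) = y := fun y => LinearMap.congr_fun hs₀ y
  set ε : (Fin r → B) →ₗ[B] (Fin r → B) := s₀ ∘ₗ π₀ with hε
  set E : Matrix (Fin r) (Fin r) B := LinearMap.toMatrix' ε with hE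
  have hEmul : ∀ w, E.mulVec w = s₀ (π₀ w) := by
    intro w
    rw [hE, ← Matrix.toLin'_apply, Matrix.toLin'_toMatrix']
    rfl
  have hEE : E * E = E := by
    have hεε : ε ∘ₗ ε = ε := by
      apply LinearMap.ext
      intro w
      simp only [hε, LinearMap.comp_apply, hs₀']
    rw [hE, ← LinearMap.toMatrix'_comp, hεε]
  choose x₀ hx₀ using fun i j => hΦ (E i j)
  set X₀ : Matrix (Fin r) (Fin r) A := Matrix.of x₀ with hX₀
  have hX₀E : Φ.mapMatrix X₀ = E := by
    ext i j
    simp [hX₀, hx₀]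
  have hd : X₀ ^ 2 - X₀ ∈ matIdeal (RingHom.ker Φ) := by
    intro i j
    rw [RingHom.mem_ker]
    have h1 : Φ ((X₀ ^ 2 - X₀) i j) = (Φ.mapMatrix (X₀ ^ 2 - X₀)) i j := by
      simp [RingHom.mapMatrix_apply]
    rw [h1, map_sub, map_pow, hX₀E, pow_two, hEE, sub_self]
    rfl
  obtain ⟨X, hXX, hXX₀⟩ := hidem r X₀ hd
  have hXE : Φ.mapMatrix X = E := by
    rw [← hX₀E]
    ext i j
    have := hXX₀ i j
    rw [RingHom.mem_ker, Matrix.sub_apply, map_sub, sub_eq_zero] at this
    simpa [RingHom.mapMatrix_apply] using this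
  set T : (Fin r → A) →ₗ[A] (Fin r → A) := Matrix.toLin' X with hT
  have hTT : ∀ v, T (T v) = T v := by
    intro v
    rw [hT, ← LinearMap.comp_apply, ← Matrix.toLin'_mul, hXX]
  have hψT : ∀ v, psi Φ r (T v) = s₀ (π₀ (psi Φ r v)) := by
    intro v
    rw [← hEmul, ← hXE]
    ext i
    rw [psi_apply, hT, Matrix.toLin'_apply, RingHom.map_mulVec]
    rfl
  set P' : Submodule A (Fin r → A) := LinearMap.range T with hP'
  have hfix : ∀ x : P', T x.1 = x.1 := by
    rintro ⟨_, w, rfl⟩
    exact hTT w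
  refine ⟨P', inferInstance, inferInstance, ?_, ?_, ?_⟩
  · exact Module.Finite.range T
  · refine Module.Projective.of_split P'.subtype T.rangeRestrict ?_
    apply LinearMap.ext
    intro x
    apply Subtype.ext
    simp only [LinearMap.comp_apply, Submodule.subtype_apply, LinearMap.id_apply]
    exact hfix x
  · set π : P' →ₛₗ[Φ] P := (π₀.comp (psi Φ r)).domRestrict P' with hπ
    have hπx : ∀ x : P', π x = π₀ (psi Φ r x.1) := fun x => rfl
    refine ⟨π, ?_, ?_⟩
    · intro y
      choose v hv using fun i => hΦ (s₀ y i)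
      refine ⟨⟨T v, v, rfl⟩, ?_⟩
      rw [hπx, hψT, hs₀']
      have h2 : psi Φ r v = s₀ y := by
        ext i
        rw [psi_apply, hv]
      rw [h2, hs₀']
    · apply le_antisymm
      · intro x hx
        rw [LinearMap.mem_ker, hπx] at hx
        have h3 : psi Φ r x.1 = 0 := by
          rw [← hfix x, hψT, hx, map_zero]
        have h4 : ∀ i, x.1 i ∈ RingHom.ker Φ := by
          intro i
          rw [RingHom.mem_ker, ← psi_apply, h3]
          rfl
        have h5 : x = ∑ i, x.1 i • (⟨T (Pi.single i 1), Pi.single i 1, rfl⟩ : P') := by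
          apply Subtype.ext
          rw [Submodule.coe_sum]
          simp only [Submodule.coe_smul]
          have h6 : (x.1 : Fin r → A) = ∑ i, x.1 i • (Pi.single i (1 : A) : Fin r → A) := by
            ext k
            simp [Finset.sum_apply, Pi.single_apply]
          calc (x.1 : Fin r → A) = T x.1 := (hfix x).symm
            _ = T (∑ i, x.1 i • (Pi.single i (1 : A) : Fin r → A)) := by rw [← h6]
            _ = ∑ i, x.1 i • T (Pi.single i 1) := by simp only [map_sum, map_smul]
        rw [h5]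
        exact Submodule.sum_mem _ fun i _ => Submodule.smul_mem_smul (h4 i) Submodule.mem_top
      · rw [Submodule.smul_le]
        intro j hj x _
        rw [LinearMap.mem_ker, map_smulₛₗ, RingHom.mem_ker.mp hj, zero_smul]


theorem lift_unique (hrad : RingHom.ker Φ ≤ Ideal.jacobson ⊥)
    (P : Type u) [AddCommGroup P] [Module B P]
    (P₁ : Type u) [AddCommGroup P₁] [Module A P₁] [Module.Finite A P₁] [Module.Projective A P₁]
    (P₂ : Type u) [AddCommGroup P₂] [Module A P₂] [Module.Finite A P₂] [Module.Projective A P₂]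
    (π₁ : P₁ →ₛₗ[Φ] P) (π₂ : P₂ →ₛₗ[Φ] P)
    (h₁s : Function.Surjective π₁)
    (h₁k : LinearMap.ker π₁ = RingHom.ker Φ • (⊤ : Submodule A P₁))
    (h₂s : Function.Surjective π₂)
    (h₂k : LinearMap.ker π₂ = RingHom.ker Φ • (⊤ : Submodule A P₂)) :
    ∃ e : P₁ ≃ₗ[A] P₂, ∀ x : P₁, π₂ (e x) = π₁ x := by
  let _ : Module A P := Module.compHom P Φ
  let π₁' : P₁ →ₗ[A] P :=
    { toFun := π₁, map_add' := π₁.map_add, map_smul' := fun a x => by
        rw [π₁.map_smulₛₗ]; rfl }
  let π₂' : P₂ →ₗ[A] P :=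
    { toFun := π₂, map_add' := π₂.map_add, map_smul' := fun a x => by
        rw [π₂.map_smulₛₗ]; rfl }
  obtain ⟨f, hf⟩ := Module.projective_lifting_property π₂' π₁' h₂s
  have hfx : ∀ x, π₂ (f x) = π₁ x := fun x => LinearMap.congr_fun hf x
  have hsurj : Function.Surjective f := by
    rw [← LinearMap.range_eq_top, eq_top_iff]
    apply Submodule.le_of_le_smul_of_le_jacobson_bot (Module.Finite.fg_top) hrad
    intro y _
    obtain ⟨x, hx⟩ := h₁s (π₂ y)
    have h1 : y - f x ∈ RingHom.ker Φ • (⊤ : Submodule A P₂) := by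
      rw [← h₂k, LinearMap.mem_ker, map_sub, hfx, hx, sub_self]
    have h2 : y = f x + (y - f x) := by abel
    rw [h2]
    exact Submodule.add_mem_sup (LinearMap.mem_range_self f x) h1
  obtain ⟨g, hg⟩ := Module.projective_lifting_property f LinearMap.id hsurj
  have hgx : ∀ y, f (g y) = y := fun y => LinearMap.congr_fun hg y
  set q : P₁ →ₗ[A] P₁ := LinearMap.id - g ∘ₗ f with hq
  have hqker : ∀ x, q x ∈ LinearMap.ker f := by
    intro x
    rw [LinearMap.mem_ker, hq, LinearMap.sub_apply, LinearMap.id_apply, LinearMap.comp_apply,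
      map_sub, hgx, sub_self]
  have hqfix : ∀ x ∈ LinearMap.ker f, q x = x := by
    intro x hx
    rw [hq, LinearMap.sub_apply, LinearMap.id_apply, LinearMap.comp_apply,
      LinearMap.mem_ker.mp hx, map_zero, sub_zero]
  have hKeq : LinearMap.ker f = LinearMap.range q := by
    apply le_antisymm
    · intro x hx
      exact ⟨x, hqfix x hx⟩
    · rintro _ ⟨x, rfl⟩
      exact hqker x
  have hKfg : (LinearMap.ker f).FG := by
    rw [hKeq, LinearMap.range_eq_map]
    exact Module.Finite.fg_top.map q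
  have hKle : LinearMap.ker f ≤ RingHom.ker Φ • LinearMap.ker f := by
    intro x hx
    have h1 : x ∈ RingHom.ker Φ • (⊤ : Submodule A P₁) := by
      rw [← h₁k, LinearMap.mem_ker, ← hfx, LinearMap.mem_ker.mp hx, map_zero]
    rw [← hqfix x hx]
    refine Submodule.smul_induction_on h1 ?_ ?_
    · intro c hc z _
      rw [map_smul]
      exact Submodule.smul_mem_smul hc (hqker z)
    · intro a b ha hb
      rw [map_add]
      exact Submodule.add_mem _ ha hb
  have hK : LinearMap.ker f = ⊥ :=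
    Submodule.eq_bot_of_le_smul_of_le_jacobson_bot _ _ hKfg hKle hrad
  refine ⟨LinearEquiv.ofBijective f ⟨LinearMap.ker_eq_bot.mp hK, hsurj⟩, fun x => ?_⟩
  exact hfx x

end Groth.Agent.Lib.Helper95.ProjLift
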