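import Groth.Agent.Lib.Helper95.Q1
import Mathlib.RingTheory.IsTensorProduct
import Mathlib.RingTheory.TensorProduct.Maps

set_option autoImplicit false
universe u
open TensorProduct

namespace Groth.Agent.Lib.Helper95.Q10

open Groth.Agent.Lib.Helper15.ProjCharpoly Groth.Agent.Lib.Helper95.Q1

variable {C A B : Type u} [CommRing C] [CommRing A] [CommRing B] [Algebra C A] [Algebra C B]
  [Algebra A B] [IsScalarTower C A B]

variable (C A B) in
noncomputable abbrev sA : A →ₐ[C] B := IsScalarTower.toAlgHom C A B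

variable (A B) in
noncomputable abbrev s2 (C2 : Type u) [CommRing C2] [Algebra C C2] :
    A ⊗[C] C2 →ₐ[C] B ⊗[C] C2 :=
  Algebra.TensorProduct.map (sA C A B) (AlgHom.id C C2)

variable (A B) in
@[reducible] noncomputable def algT (C2 : Type u) [CommRing C2] [Algebra C C2] :
    Algebra (A ⊗[C] C2) (B ⊗[C] C2) :=
  (s2 A B C2).toRingHom.toAlgebra

attribute [local instance] algT

variable (C2 : Type u) [CommRing C2] [Algebra C C2]

theorem algebraMap_T (z : A ⊗[C] C2) : algebraMap (A ⊗[C] C2) (B ⊗[C] C2) z = s2 A B C2 z := rfl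

instance towerT : IsScalarTower A (A ⊗[C] C2) (B ⊗[C] C2) := IsScalarTower.of_algebraMap_eq' (by
  ext x
  change (algebraMap A B x) ⊗ₜ[C] (1 : C2) = s2 A B C2 (x ⊗ₜ 1)
  simp)

variable (A B) in
theorem hf2 : IsBaseChange (A ⊗[C] C2) (IsScalarTower.toAlgHom A B (B ⊗[C] C2)).toLinearMap := by
  have hP : Algebra.IsPushout A B (A ⊗[C] C2) (B ⊗[C] C2) :=
    Algebra.IsPushout.tensorProduct_tensorProduct C C2 A B (by
      ext c
      change s2 A B C2 ((1 : A) ⊗ₜ c) = (1 : B) ⊗ₜ c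
      simp)
  exact hP.symm.out

variable (C) in
noncomputable def pres2 (π : Pres A B) : Pres (A ⊗[C] C2) (B ⊗[C] C2) := π.baseChange (hf2 A B C2)

theorem pres2_n (π : Pres A B) : (pres2 C C2 π).n = π.n := rfl

theorem pres2_p_single (π : Pres A B) (k : Fin π.n) :
    (pres2 C C2 π).p (Pi.single k 1) = (π.p (Pi.single k 1)) ⊗ₜ[C] (1 : C2) := by
  change Fintype.linearCombination (A ⊗[C] C2)
    (fun k => (IsScalarTower.toAlgHom A B (B ⊗[C] C2)).toLinearMap (π.p (Pi.single k 1)))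
    (Pi.single k 1) = _
  rw [Fintype.linearCombination_apply_single, one_smul]
  rfl

theorem pres2_i_tmul (π : Pres A B) (b : B) (c : C2) (j : Fin π.n) :
    (pres2 C C2 π).i (b ⊗ₜ[C] c) j = (π.i b j) ⊗ₜ[C] c := by
  have h1 : (b ⊗ₜ[C] c : B ⊗[C] C2) = ((1 : A) ⊗ₜ[C] c : A ⊗[C] C2) •
      (IsScalarTower.toAlgHom A B (B ⊗[C] C2)).toLinearMap b := by
    rw [Algebra.smul_def, algebraMap_T]
    change _ = s2 A B C2 ((1 : A) ⊗ₜ c) * (b ⊗ₜ[C] (1 : C2))
    simp
  rw [h1, map_smul]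
  change (((1 : A) ⊗ₜ[C] c : A ⊗[C] C2) • (hf2 A B C2).lift
    ((Algebra.linearMap A (A ⊗[C] C2)).compLeft (Fin π.n) ∘ₗ π.i)
    ((IsScalarTower.toAlgHom A B (B ⊗[C] C2)).toLinearMap b)) j = _
  rw [IsBaseChange.lift_eq]
  simp [Algebra.TensorProduct.algebraMap_apply]


theorem pres2_mat (π : Pres A B) (z : B ⊗[C] C2) (j k : Fin π.n) :
    (pres2 C C2 π).mat (LinearMap.mulLeft (A ⊗[C] C2) z) j k =
      (pres2 C C2 π).i (z * ((π.p (Pi.single k 1)) ⊗ₜ[C] (1 : C2))) j := by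
  rw [Pres.mat_apply, pres2_p_single]
  rfl

theorem pres2_mat_id (π : Pres A B) :
    (pres2 C C2 π).mat LinearMap.id =
      (π.mat LinearMap.id).map (algebraMap A (A ⊗[C] C2)) :=
  Pres.baseChange_mat π (hf2 A B C2) LinearMap.id LinearMap.id (fun _ => rfl)

variable {C2} {C1 : Type u} [CommRing C1] [Algebra C C1]

variable (A) in
noncomputable abbrev evT (ev : C1 →ₐ[C] C2) : A ⊗[C] C1 →ₐ[C] A ⊗[C] C2 :=
  Algebra.TensorProduct.map (AlgHom.id C A) ev

theorem nat_i (π : Pres A B) (ev : C1 →ₐ[C] C2) (z : B ⊗[C] C1) (j : Fin π.n) :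
    evT A ev ((pres2 C C1 π).i z j) = (pres2 C C2 π).i (evT B ev z) j := by
  induction z using TensorProduct.induction_on with
  | zero =>
    simp only [map_zero]
    exact map_zero _
  | tmul b c =>
    rw [pres2_i_tmul]
    simp [pres2_i_tmul]
  | add x y hx hy => simp only [map_add, Pi.add_apply, hx, hy]

theorem nat_mat (π : Pres A B) (ev : C1 →ₐ[C] C2) (z : B ⊗[C] C1) :
    (((pres2 C C1 π).mat (LinearMap.mulLeft (A ⊗[C] C1) z) :
      Matrix (Fin π.n) (Fin π.n) (A ⊗[C] C1)).map (evT A ev) :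
      Matrix (Fin π.n) (Fin π.n) (A ⊗[C] C2)) =
    (pres2 C C2 π).mat (LinearMap.mulLeft (A ⊗[C] C2) (evT B ev z)) := by
  ext j k
  rw [Matrix.map_apply, pres2_mat, pres2_mat, nat_i, map_mul]
  simp

theorem nat_dn (π : Pres A B) (ev : C1 →ₐ[C] C2) (y : B ⊗[C] C1) :
    evT A ev (dn (pres2 C C1 π) y) = dn (pres2 C C2 π) (evT B ev y) := by
  unfold dn Pres.cp
  have h := nat_mat π ev (1 - y)
  rw [map_sub, map_one] at h
  rw [← h]
  have h2 := Matrix.charpoly_map ((pres2 C C1 π).mat (LinearMap.mulLeft (A ⊗[C] C1) (1 - y)))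
    (evT A ev).toRingHom
  change _ = Polynomial.eval 1 (Matrix.charpoly
    (((pres2 C C1 π).mat (LinearMap.mulLeft (A ⊗[C] C1) (1 - y))).map (evT A ev).toRingHom))
  rw [h2, Polynomial.eval_one_map]
  rfl

end Groth.Agent.Lib.Helper95.Q10
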