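import Mathlib.LinearAlgebra.Matrix.Charpoly.Coeff
import Mathlib.Algebra.Polynomial.Eval.Degree
import Mathlib.Data.Nat.Factorial.Basic

set_option autoImplicit false
universe u v
open Polynomial

namespace Groth.Agent.Lib.Helper95.Q11

variable {R : Type u} [CommRing R] {n : Type v} [Fintype n] [DecidableEq n]

noncomputable def hpoly (E : Matrix n n R) : R[X] := (1 - (1 - (X : R[X])) • E.map C).det

theorem eval₂_hpoly (E : Matrix n n R) {T : Type*} [CommRing T] (ρ : R →+* T) (a : T) :
    (hpoly E).eval₂ ρ a = (1 - (1 - a) • E.map ρ).det := by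
  unfold hpoly
  rw [← Polynomial.coe_eval₂RingHom, RingHom.map_det]
  congr 1
  ext i j
  by_cases hij : i = j
  · subst hij
    simp [Matrix.map_apply, Matrix.sub_apply, Matrix.smul_apply]
  · simp [Matrix.map_apply, Matrix.sub_apply, Matrix.smul_apply, hij]

theorem det_mul_det {T : Type*} [CommRing T] (E : Matrix n n T) (hE : E * E = E) (a b : T) :
    (1 - (1 - a) • E).det * (1 - (1 - b) • E).det = (1 - (1 - a * b) • E).det := by
  rw [← Matrix.det_mul]
  congr 1
  rw [Matrix.sub_mul, Matrix.mul_sub, Matrix.mul_sub, Matrix.one_mul, Matrix.one_mul,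
    Matrix.mul_one, Matrix.smul_mul, Matrix.mul_smul, hE, smul_smul]
  have : (1 - a * b) • E = (1 - b) • E + ((1 - a) • E - ((1 - a) * (1 - b)) • E) := by
    rw [← sub_smul, ← add_smul]
    congr 1
    ring
  rw [this]
  abel

theorem hpoly_mul (E : Matrix n n R) (hE : E * E = E) {T : Type*} [CommRing T] (ρ : R →+* T)
    (a b : T) : (hpoly E).eval₂ ρ a * (hpoly E).eval₂ ρ b = (hpoly E).eval₂ ρ (a * b) := by
  rw [eval₂_hpoly, eval₂_hpoly, eval₂_hpoly]
  apply det_mul_det
  rw [← Matrix.map_mul, hE]

theorem hpoly_eval_one (E : Matrix n n R) : (hpoly E).eval 1 = 1 := by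
  rw [← Polynomial.eval₂_id, eval₂_hpoly]
  simp

theorem hpoly_coeff_zero (E : Matrix n n R) : (hpoly E).coeff 0 = (1 - E).det := by
  rw [Polynomial.coeff_zero_eq_eval_zero, ← Polynomial.eval₂_id, eval₂_hpoly]
  simp

theorem coeff_mul_coeff (E : Matrix n n R) (hE : E * E = E) (r s : ℕ) :
    (hpoly E).coeff r * (hpoly E).coeff s = if r = s then (hpoly E).coeff s else 0 := by
  set h := hpoly E with hh
  have key := hpoly_mul E hE ((C : R[X] →+* R[X][X]).comp (C : R →+* R[X]))
    (C (X : R[X])) (X : R[X][X])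
  rw [← hh] at key
  have e1 : h.eval₂ ((C : R[X] →+* R[X][X]).comp (C : R →+* R[X])) (C (X : R[X])) = C h := by
    rw [← Polynomial.hom_eval₂, Polynomial.eval₂_C_X]
  have e2 : h.eval₂ ((C : R[X] →+* R[X][X]).comp (C : R →+* R[X])) (X : R[X][X]) =
      h.map (C : R →+* R[X]) := rfl
  have e3 : (h.eval₂ ((C : R[X] →+* R[X][X]).comp (C : R →+* R[X]))
      (C (X : R[X]) * (X : R[X][X]))).coeff s = C (h.coeff s) * X ^ s := by
    rw [Polynomial.eval₂_eq_sum_range, Polynomial.finsetSum_coeff]
    rw [Finset.sum_eq_single s]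
    · rw [mul_pow, ← C_pow, RingHom.comp_apply, ← mul_assoc, ← C_mul, coeff_C_mul_X_pow]
      simp
    · intro k _ hks
      rw [mul_pow, ← C_pow, RingHom.comp_apply, ← mul_assoc, ← C_mul, coeff_C_mul_X_pow]
      simp [Ne.symm hks]
    · intro hs
      have : h.coeff s = 0 := by
        apply Polynomial.coeff_eq_zero_of_natDegree_lt
        simp only [Finset.mem_range, not_lt] at hs
        omega
      simp [this]
  have key2 := congrArg (fun p => (Polynomial.coeff p s).coeff r) key
  simp only [e1, e2, e3, coeff_C_mul, coeff_map, coeff_mul_C, coeff_C_mul_X_pow] at key2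
  rw [key2]
  by_cases hrs : r = s
  · simp [hrs]
  · simp [hrs]

theorem sum_coeff (E : Matrix n n R) :
    ∑ r ∈ Finset.range ((hpoly E).natDegree + 1), (hpoly E).coeff r = 1 := by
  have := hpoly_eval_one E
  rw [Polynomial.eval_eq_sum_range] at this
  simpa using this

theorem pow_mem (E : Matrix n n R) (hE : E * E = E) (h0 : (hpoly E).coeff 0 = 0)
    {T : Type*} [CommRing T] (I : Subring T) (ρ : R →+* T)
    (hρ : ∀ r, ρ ((hpoly E).coeff r) ∈ I) (g : T) (hg : (hpoly E).eval₂ ρ g ∈ I) :
    g ^ ((hpoly E).natDegree).factorial ∈ I := by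
  set h := hpoly E with hh
  set d := h.natDegree with hd
  set M := d.factorial with hM
  set N := h.eval₂ ρ g with hN
  have hNs : N = ∑ k ∈ Finset.range (d + 1), ρ (h.coeff k) * g ^ k :=
    Polynomial.eval₂_eq_sum_range ρ g
  have hone : ∑ r ∈ Finset.range (d + 1), ρ (h.coeff r) = 1 := by
    rw [← map_sum, sum_coeff, map_one]
  have horth : ∀ r s, ρ (h.coeff r) * ρ (h.coeff s) = if r = s then ρ (h.coeff s) else 0 := by
    intro r s
    rw [← map_mul, coeff_mul_coeff E hE]
    split_ifs
    · rfl
    · exact map_zero ρ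
  have hterm : ∀ r ∈ Finset.range (d + 1), ρ (h.coeff r) * g ^ M ∈ I := by
    intro r hr
    rcases Nat.eq_zero_or_pos r with h0r | hpos
    · rw [h0r, h0, map_zero, zero_mul]
      exact I.zero_mem
    · have hrd : r ≤ d := by
        simp only [Finset.mem_range] at hr
        omega
      have hdvd : r ∣ M := Nat.dvd_factorial hpos hrd
      obtain ⟨q, hq⟩ := hdvd
      have hqpos : 0 < q := by
        rcases Nat.eq_zero_or_pos q with hq0 | hq0
        · rw [hq0, mul_zero] at hq
          have := Nat.factorial_pos d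
          omega
        · exact hq0
      have h1 : ρ (h.coeff r) * N = ρ (h.coeff r) * g ^ r := by
        rw [hNs, Finset.mul_sum, Finset.sum_eq_single r]
        · rw [← mul_assoc, horth, if_pos rfl]
        · intro k _ hkr
          rw [← mul_assoc, horth, if_neg (Ne.symm hkr), zero_mul]
        · intro hr'
          exact absurd hr hr'
      have hidem : ρ (h.coeff r) ^ q = ρ (h.coeff r) := by
        have hi : IsIdempotentElem (ρ (h.coeff r)) := by
          have := horth r r
          rwa [if_pos rfl] at this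
        obtain ⟨q', rfl⟩ := Nat.exists_eq_succ_of_ne_zero (Nat.pos_iff_ne_zero.mp hqpos)
        exact hi.pow_succ_eq q'
      have h2 : ρ (h.coeff r) * g ^ M = (ρ (h.coeff r) * N) ^ q := by
        rw [h1, mul_pow, hidem, ← pow_mul, ← hq]
      rw [h2]
      exact I.pow_mem (I.mul_mem (hρ r) hg) q
  have : g ^ M = ∑ r ∈ Finset.range (d + 1), ρ (h.coeff r) * g ^ M := by
    rw [← Finset.sum_mul, hone, one_mul]
  rw [this]
  exact I.sum_mem hterm

end Groth.Agent.Lib.Helper95.Q11
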