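import Groth.Agent.Lib.Helper95.Q10
import Groth.Agent.Lib.Helper95.Q11
import Mathlib.RingTheory.Flat.Basic
import Mathlib.RingTheory.Flat.Stability
import Mathlib.LinearAlgebra.Matrix.Adjugate

set_option autoImplicit false
universe u
open TensorProduct

namespace Groth.Agent.Lib.Helper95.Q12

open Groth.Agent.Lib.Helper15.ProjCharpoly Groth.Agent.Lib.Helper95.Q1 Groth.Agent.Lib.Helper95.Q10

section generic

variable {R P : Type u} [CommRing R] [CommRing P] [Algebra R P]

theorem mat_smul (π : Pres R P) (g : R) (φ : P →ₗ[R] P) : π.mat (g • φ) = g • π.mat φ := by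
  unfold Pres.mat
  rw [LinearMap.smul_comp, LinearMap.comp_smul, map_smul]

theorem mulLeft_algebraMap (g : R) :
    LinearMap.mulLeft R (algebraMap R P g) = g • LinearMap.id := by
  ext x
  simp [Algebra.smul_def]

theorem dn_algebraMap (π : Pres R P) (g : R) :
    dn π (algebraMap R P g) = (1 - (1 - g) • π.mat LinearMap.id).det := by
  unfold dn Pres.cp
  rw [Matrix.eval_charpoly]
  have : (1 : P) - algebraMap R P g = algebraMap R P (1 - g) := by rw [map_sub, map_one]
  rw [this, mulLeft_algebraMap, mat_smul, map_one]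

theorem mat_id_idem (π : Pres R P) :
    π.mat LinearMap.id * π.mat LinearMap.id = π.mat LinearMap.id := by
  unfold Pres.mat
  rw [← LinearMap.toMatrix'_comp]
  congr 1
  refine LinearMap.ext fun x => ?_
  simp only [LinearMap.comp_apply, LinearMap.id_apply, π.p_i]

theorem det_one_sub_mat_id (π : Pres R P) (e : P →+* R) (he : ∀ a, e (algebraMap R P a) = a) :
    (1 - π.mat LinearMap.id).det = 0 := by
  set M := (1 - π.mat LinearMap.id) with hM
  set v : Fin π.n → R := π.i 1 with hv
  have h1 : M.mulVec v = 0 := by
    rw [hM, Matrix.sub_mulVec, Matrix.one_mulVec, Pres.mat, LinearMap.toMatrix'_mulVec]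
    simp [hv, π.p_i]
  have h2 : M.det • v = 0 := by
    have := congrArg (fun w => M.adjugate.mulVec w) h1
    simp only [Matrix.mulVec_mulVec, Matrix.adjugate_mul, Matrix.mulVec_zero] at this
    rw [Matrix.smul_mulVec, Matrix.one_mulVec] at this
    exact this
  have h3 := congrArg π.p h2
  rw [map_smul, hv, π.p_i, map_zero, Algebra.smul_def, mul_one] at h3
  have h4 := congrArg e h3
  rw [he, map_zero] at h4
  exact h4

end generic


section partC

variable {C A B : Type u} [CommRing C] [CommRing A] [CommRing B] [Algebra C A] [Algebra C B]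

theorem partC (s t : A →ₐ[C] B) (hinj : Function.Injective (algebraMap C A))
    (heq : ∀ a : A, s a = t a → a ∈ Set.range (algebraMap C A))
    (C2 : Type u) [CommRing C2] [Algebra C C2] [Module.Flat C C2] :
    Function.Injective (Algebra.TensorProduct.includeRight : C2 →ₐ[C] A ⊗[C] C2) ∧
    ∀ f : A ⊗[C] C2, Algebra.TensorProduct.map s (AlgHom.id C C2) f =
        Algebra.TensorProduct.map t (AlgHom.id C C2) f →
      f ∈ Set.range (Algebra.TensorProduct.includeRight : C2 →ₐ[C] A ⊗[C] C2) := by
  set ι : C →ₗ[C] A := Algebra.linearMap C A with hιdef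
  set δ : A →ₗ[C] B := s.toLinearMap - t.toLinearMap with hδdef
  have hex : Function.Exact ι δ := by
    intro a
    constructor
    · intro h
      have : s a = t a := sub_eq_zero.mp h
      exact heq a this
    · rintro ⟨c, rfl⟩
      show s (algebraMap C A c) - t (algebraMap C A c) = 0
      rw [s.commutes, t.commutes, sub_self]
  have hex2 := Module.Flat.rTensor_exact C2 hex
  have hinj2 : Function.Injective (ι.rTensor C2) :=
    Module.Flat.rTensor_preserves_injective_linearMap ι hinj
  have hι : ∀ c : C2, ι.rTensor C2 ((1 : C) ⊗ₜ c) = (1 : A) ⊗ₜ c := by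
    intro c
    simp [ι]
  have hδ : ∀ f, δ.rTensor C2 f = Algebra.TensorProduct.map s (AlgHom.id C C2) f -
      Algebra.TensorProduct.map t (AlgHom.id C C2) f := by
    intro f
    induction f using TensorProduct.induction_on with
    | zero => simp
    | tmul a c => simp [δ, TensorProduct.sub_tmul]
    | add x y hx hy =>
      rw [map_add, hx, hy, map_add, map_add]
      abel
  constructor
  · intro c c' h
    have h1 : ι.rTensor C2 ((1 : C) ⊗ₜ c) = ι.rTensor C2 ((1 : C) ⊗ₜ c') := by
      rw [hι, hι]
      exact h
    have h2 := congrArg (TensorProduct.lid C C2) (hinj2 h1)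
    simpa using h2
  · intro f hf
    have h0 : δ.rTensor C2 f = 0 := by rw [hδ, hf, sub_self]
    obtain ⟨z, rfl⟩ := (hex2 f).mp h0
    refine ⟨TensorProduct.lid C C2 z, ?_⟩
    have hz : z = (1 : C) ⊗ₜ (TensorProduct.lid C C2 z) := by
      rw [← TensorProduct.lid_symm_apply, LinearEquiv.symm_apply_apply]
    conv_rhs => rw [hz, hι]
    rfl

end partC

end Groth.Agent.Lib.Helper95.Q12
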