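import Mathlib.AlgebraicGeometry.PullbackCarrier
import Mathlib.AlgebraicGeometry.Pullbacks
import Mathlib.RingTheory.Spectrum.Prime.Topology
import Mathlib.RingTheory.Nilpotent.Lemmas

set_option autoImplicit false
universe u
open TensorProduct CategoryTheory CategoryTheory.Limits AlgebraicGeometry

namespace Groth.Agent.Lib.Helper95.Q13

theorem partB {C A : Type u} [CommRing C] [CommRing A] [Algebra C A] [Algebra.IsIntegral C A]
    (hinj : Function.Injective (algebraMap C A)) (C2 : Type u) [CommRing C2] [Algebra C C2]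
    (c : C2) (hc : (Algebra.TensorProduct.includeRight : C2 →ₐ[C] A ⊗[C] C2) c = 0) :
    IsNilpotent c := by
  haveI : FaithfulSMul C A := (faithfulSMul_iff_algebraMap_injective C A).mpr hinj
  have hsurj : Function.Surjective (PrimeSpectrum.comap (algebraMap C A)) :=
    Algebra.IsIntegral.comap_surjective C A
  haveI h1 : Surjective (Spec.map (CommRingCat.ofHom (algebraMap C A))) := ⟨hsurj⟩
  haveI h2 : Surjective (pullback.snd (Spec.map (CommRingCat.ofHom (algebraMap C A)))
      (Spec.map (CommRingCat.ofHom (algebraMap C C2)))) := inferInstance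
  have h3 : Surjective ((pullbackSpecIso C A C2).inv ≫
      pullback.snd (Spec.map (CommRingCat.ofHom (algebraMap C A)))
        (Spec.map (CommRingCat.ofHom (algebraMap C C2)))) := inferInstance
  rw [pullbackSpecIso_inv_snd C A C2] at h3
  rw [nilpotent_iff_mem_prime]
  intro p hp
  obtain ⟨q, hq⟩ := h3.surj ⟨p, hp⟩
  have : c ∈ (⟨p, hp⟩ : PrimeSpectrum C2).asIdeal := by
    rw [← hq]
    change (Algebra.TensorProduct.includeRight : C2 →ₐ[C] A ⊗[C] C2) c ∈ q.asIdeal
    rw [hc]
    exact q.asIdeal.zero_mem
  exact this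

end Groth.Agent.Lib.Helper95.Q13
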