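import Groth.Agent.Lib.Helper95.Q12
import Mathlib.RingTheory.MvPolynomial.Basic
import Mathlib.RingTheory.Flat.Basic
import Mathlib.Algebra.Polynomial.AlgebraMap

set_option autoImplicit false
universe u
open TensorProduct

namespace Groth.Agent.Lib.Helper95.Q14

open Groth.Agent.Lib.Helper15.ProjCharpoly Groth.Agent.Lib.Helper95.Q1 Groth.Agent.Lib.Helper95.Q10
open Groth.Agent.Lib.Helper95.Q12

variable {C A B : Type u} [CommRing C] [CommRing A] [CommRing B] [Algebra C A] [Algebra C B]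
  [Algebra A B] [IsScalarTower C A B]

attribute [local instance] algT

noncomputable abbrev t2 (t : A →ₐ[C] B) (C2 : Type u) [CommRing C2] [Algebra C C2] :
    A ⊗[C] C2 →ₐ[C] B ⊗[C] C2 :=
  Algebra.TensorProduct.map t (AlgHom.id C C2)

def UI (t : A →ₐ[C] B) (π : Pres A B) : Prop :=
  ∀ (C2 : Type u) [CommRing C2] [Algebra C C2] (g : A ⊗[C] C2),
    s2 A B C2 (dn (pres2 C C2 π) (t2 t C2 g)) = t2 t C2 (dn (pres2 C C2 π) (t2 t C2 g))

variable (t : A →ₐ[C] B) (π : Pres A B)

theorem dn_inv (C2 : Type u) [CommRing C2] [Algebra C C2] (g : A ⊗[C] C2)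
    (hg : s2 A B C2 g = t2 t C2 g) :
    dn (pres2 C C2 π) (t2 t C2 g) =
      (Q11.hpoly (π.mat LinearMap.id)).eval₂ (algebraMap A (A ⊗[C] C2)) g := by
  rw [← hg, ← algebraMap_T, dn_algebraMap, pres2_mat_id, Q11.eval₂_hpoly]
  rfl

omit [Algebra A B] [IsScalarTower C A B] in
theorem t2_nat {C1 C2 : Type u} [CommRing C1] [Algebra C C1] [CommRing C2] [Algebra C C2]
    (τ : A →ₐ[C] B) (ev : C1 →ₐ[C] C2) (z : A ⊗[C] C1) :
    evT B ev (t2 τ C1 z) = t2 τ C2 (evT A ev z) := by
  induction z using TensorProduct.induction_on with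
  | zero => simp
  | tmul a c => simp
  | add x y hx hy => simp only [map_add, hx, hy]

theorem coeff_mem (hUI : UI t π)
    (heq : ∀ a : A, algebraMap A B a = t a → a ∈ Set.range (algebraMap C A)) (k : ℕ) :
    (Q11.hpoly (π.mat LinearMap.id)).coeff k ∈ Set.range (algebraMap C A) := by
  apply heq
  set h := Q11.hpoly (π.mat LinearMap.id) with hh
  set g : A ⊗[C] Polynomial C := (1 : A) ⊗ₜ Polynomial.X with hg
  have hinv : s2 A B (Polynomial C) g = t2 t (Polynomial C) g := by
    simp [hg]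
  have h1 := hUI (Polynomial C) g
  rw [dn_inv t π _ g hinv, ← hh] at h1
  have hN : h.eval₂ (algebraMap A (A ⊗[C] Polynomial C)) g =
      ∑ r ∈ Finset.range (h.natDegree + 1), (h.coeff r) ⊗ₜ[C] (Polynomial.X ^ r : Polynomial C) := by
    rw [Polynomial.eval₂_eq_sum_range]
    refine Finset.sum_congr rfl fun r _ => ?_
    rw [hg, Algebra.TensorProduct.tmul_pow, one_pow, Algebra.TensorProduct.algebraMap_apply,
      Algebra.TensorProduct.tmul_mul_tmul, mul_one, one_mul]
    rfl
  rw [hN, map_sum, map_sum] at h1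
  let L : B ⊗[C] Polynomial C →ₗ[C] B :=
    (TensorProduct.rid C B).toLinearMap ∘ₗ (LinearMap.lTensor B (Polynomial.lcoeff C k))
  have hL : ∀ (b : B) (r : ℕ), L (b ⊗ₜ (Polynomial.X ^ r : Polynomial C)) =
      if r = k then b else 0 := by
    intro b r
    simp only [L, LinearMap.comp_apply, LinearMap.lTensor_tmul, Polynomial.lcoeff_apply,
      Polynomial.coeff_X_pow, LinearEquiv.coe_coe, TensorProduct.rid_tmul]
    split_ifs with h1 h2 h2
    · simp
    · exact absurd h1.symm h2
    · exact absurd h2.symm h1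
    · simp
  have h2 := congrArg L h1
  simp only [map_sum, Algebra.TensorProduct.map_tmul, AlgHom.id_apply, map_pow] at h2
  simp only [hL, Finset.sum_ite_eq', Finset.mem_range] at h2
  by_cases hk : k < h.natDegree + 1
  · simpa [hk] using h2
  · have : h.coeff k = 0 := by
      apply Polynomial.coeff_eq_zero_of_natDegree_lt
      omega
    rw [this, map_zero, map_zero]


theorem dn_mem_range (hUI : UI t π) (hinj : Function.Injective (algebraMap C A))
    (heq : ∀ a : A, algebraMap A B a = t a → a ∈ Set.range (algebraMap C A))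
    (C2 : Type u) [CommRing C2] [Algebra C C2] (g : A ⊗[C] C2) :
    dn (pres2 C C2 π) (t2 t C2 g) ∈
      Set.range (Algebra.TensorProduct.includeRight : C2 →ₐ[C] A ⊗[C] C2) := by
  obtain ⟨S, hS⟩ := TensorProduct.exists_finset g
  let P := MvPolynomial S C
  let G : A ⊗[C] P := ∑ i ∈ S.attach, (i.1.1 : A) ⊗ₜ[C] (MvPolynomial.X i : P)
  let ev : P →ₐ[C] C2 := MvPolynomial.aeval (fun i : S => i.1.2)
  have hG : evT A ev G = g := by
    rw [hS]
    simp only [G, map_sum, Algebra.TensorProduct.map_tmul, AlgHom.id_apply, ev]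
    rw [← Finset.sum_attach S (fun i => (i.1 : A) ⊗ₜ[C] (i.2 : C2))]
    refine Finset.sum_congr rfl fun i _ => ?_
    exact congrArg (fun z => (i.1.1 : A) ⊗ₜ[C] z) (MvPolynomial.aeval_X _ i)
  have h1 := hUI P G
  obtain ⟨Q, hQ⟩ := (partC (sA C A B) t hinj heq P).2 _ h1
  refine ⟨ev Q, ?_⟩
  have h2 := nat_dn π ev (t2 t P G)
  rw [t2_nat, hG, ← hQ] at h2
  rw [← h2]
  simp


theorem partA (e : B →+* A) (he : ∀ a, e (algebraMap A B a) = a) (hUI : UI t π)
    (hinj : Function.Injective (algebraMap C A))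
    (heq : ∀ a : A, algebraMap A B a = t a → a ∈ Set.range (algebraMap C A))
    (C' : Type u) [CommRing C'] [Algebra C C'] (f : A ⊗[C] C')
    (hf : s2 A B C' f = t2 t C' f) :
    ∃ (n : ℕ) (P : Polynomial C'), 0 < n ∧
      Polynomial.map (Algebra.TensorProduct.includeRight : C' →ₐ[C] A ⊗[C] C').toRingHom P =
        (Polynomial.X - Polynomial.C f) ^ n := by
  set E := π.mat LinearMap.id with hE
  set h := Q11.hpoly E with hh
  let ι : A ⊗[C] C' →ₐ[C] A ⊗[C] Polynomial C' :=
    evT A (Polynomial.CAlgHom : C' →ₐ[C] Polynomial C')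
  set g2 : A ⊗[C] Polynomial C' := (1 : A) ⊗ₜ (Polynomial.X : Polynomial C') - ι f with hg2
  have hinv : s2 A B (Polynomial C') g2 = t2 t (Polynomial C') g2 := by
    rw [map_sub, map_sub]
    congr 1
    · simp
    · have e1 := t2_nat (sA C A B) (Polynomial.CAlgHom : C' →ₐ[C] Polynomial C') f
      have e2 := t2_nat t (Polynomial.CAlgHom : C' →ₐ[C] Polynomial C') f
      change t2 (sA C A B) (Polynomial C') (ι f) = t2 t (Polynomial C') (ι f)
      rw [← e1, ← e2]
      exact congrArg _ hf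
  have hN := dn_mem_range t π hUI hinj heq (Polynomial C') g2
  rw [dn_inv t π (Polynomial C') g2 hinv, ← hE, ← hh] at hN
  let I : Subring (A ⊗[C] Polynomial C') :=
    (Algebra.TensorProduct.includeRight : Polynomial C' →ₐ[C] A ⊗[C] Polynomial C').toRingHom.range
  have hρ : ∀ r, algebraMap A (A ⊗[C] Polynomial C') (h.coeff r) ∈ I := by
    intro r
    obtain ⟨c, hc⟩ := coeff_mem t π hUI heq r
    refine ⟨algebraMap C (Polynomial C') c, ?_⟩
    rw [← hh] at hc
    rw [← hc]
    change (1 : A) ⊗ₜ[C] (algebraMap C (Polynomial C') c) = (algebraMap C A c) ⊗ₜ[C] 1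
    rw [Algebra.algebraMap_eq_smul_one, Algebra.algebraMap_eq_smul_one, TensorProduct.smul_tmul]
  have h0 : h.coeff 0 = 0 := by
    rw [hh, Q11.hpoly_coeff_zero]
    exact det_one_sub_mat_id π e he
  have hpow := Q11.pow_mem E (mat_id_idem π) h0 I (algebraMap A (A ⊗[C] Polynomial C')) hρ g2 hN
  obtain ⟨Q', hQ'⟩ := hpow
  refine ⟨h.natDegree.factorial, Q', Nat.factorial_pos _, ?_⟩
  let Ψ : A ⊗[C] Polynomial C' →ₐ[C] Polynomial (A ⊗[C] C') :=
    Algebra.TensorProduct.productMap
      ((Polynomial.CAlgHom : A ⊗[C] C' →ₐ[C] Polynomial (A ⊗[C] C')).comp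
        (Algebra.TensorProduct.includeLeft : A →ₐ[C] A ⊗[C] C'))
      (Polynomial.mapAlgHom (Algebra.TensorProduct.includeRight : C' →ₐ[C] A ⊗[C] C'))
  have hΨ1 : Ψ ((1 : A) ⊗ₜ (Polynomial.X : Polynomial C')) = Polynomial.X := by
    simp only [Ψ, Algebra.TensorProduct.productMap_apply_tmul, map_one, one_mul,
      Polynomial.coe_mapAlgHom, Polynomial.map_X]
  have hΨ2 : ∀ z, Ψ (ι z) = Polynomial.C z := by
    intro z
    induction z using TensorProduct.induction_on with
    | zero => simp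
    | tmul a c =>
      simp only [Ψ, ι, Algebra.TensorProduct.map_tmul, AlgHom.id_apply,
        Algebra.TensorProduct.productMap_apply_tmul, AlgHom.comp_apply,
        Algebra.TensorProduct.includeLeft_apply, Polynomial.CAlgHom_apply,
        Polynomial.coe_mapAlgHom, Polynomial.map_C]
      rw [← Polynomial.C_mul]
      simp
    | add x y hx hy => simp only [map_add, hx, hy]
  have hΨ3 : Ψ ((Algebra.TensorProduct.includeRight :
      Polynomial C' →ₐ[C] A ⊗[C] Polynomial C') Q') =
      Polynomial.map (Algebra.TensorProduct.includeRight : C' →ₐ[C] A ⊗[C] C').toRingHom Q' := by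
    simp only [Ψ, Algebra.TensorProduct.includeRight_apply,
      Algebra.TensorProduct.productMap_apply_tmul, map_one, one_mul, Polynomial.coe_mapAlgHom]
    rfl
  have h5 := congrArg Ψ hQ'
  change Ψ ((Algebra.TensorProduct.includeRight :
      Polynomial C' →ₐ[C] A ⊗[C] Polynomial C') Q') = _ at h5
  rw [hΨ3, map_pow, hg2, map_sub, hΨ1, hΨ2] at h5
  exact h5

end Groth.Agent.Lib.Helper95.Q14
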