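import Mathlib.Algebra.Category.Ring.Constructions
import Mathlib.RingTheory.IsTensorProduct
import Mathlib.CategoryTheory.Limits.Shapes.Pullback.IsPullback.Basic

set_option autoImplicit false
universe u
open CategoryTheory CategoryTheory.Limits TensorProduct

namespace Groth.Agent.Lib.Helper95.Q9

variable {C : Type u} [CommRing C]

theorem isPushout_baseChange {X Y : Type u} [CommRing X] [CommRing Y] [Algebra C X] [Algebra C Y]
    (f : X →ₐ[C] Y) (C2 : Type u) [CommRing C2] [Algebra C C2] :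
    IsPushout (CommRingCat.ofHom f.toRingHom)
      (CommRingCat.ofHom (Algebra.TensorProduct.includeLeftRingHom : X →+* X ⊗[C] C2))
      (CommRingCat.ofHom (Algebra.TensorProduct.includeLeftRingHom : Y →+* Y ⊗[C] C2))
      (CommRingCat.ofHom (Algebra.TensorProduct.map f (AlgHom.id C C2)).toRingHom) := by
  letI algXY : Algebra X Y := f.toRingHom.toAlgebra
  haveI : IsScalarTower C X Y := IsScalarTower.of_algebraMap_eq' (by
    ext c
    exact (f.commutes c).symm)
  letI algT : Algebra (X ⊗[C] C2) (Y ⊗[C] C2) :=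
    (Algebra.TensorProduct.map f (AlgHom.id C C2)).toRingHom.toAlgebra
  haveI : IsScalarTower X (X ⊗[C] C2) (Y ⊗[C] C2) := IsScalarTower.of_algebraMap_eq' (by
    ext x
    change (f x) ⊗ₜ[C] (1 : C2) = Algebra.TensorProduct.map f (AlgHom.id C C2) (x ⊗ₜ 1)
    simp)
  have hP : Algebra.IsPushout X Y (X ⊗[C] C2) (Y ⊗[C] C2) :=
    Algebra.IsPushout.tensorProduct_tensorProduct C C2 X Y (by
      ext c
      change Algebra.TensorProduct.map f (AlgHom.id C C2) ((1 : X) ⊗ₜ c) = (1 : Y) ⊗ₜ c
      simp)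
  exact (CommRingCat.isPushout_iff_isPushout (R := X) (S := X ⊗[C] C2) (R' := Y)
    (S' := Y ⊗[C] C2)).mpr hP

theorem isPushout_tensor {R0 A0 B0 Y0 : Type u} [CommRing R0] [CommRing A0] [CommRing B0]
    [CommRing Y0] [Algebra C R0] [Algebra C A0] [Algebra C B0] [Algebra C Y0]
    (τ : R0 →ₐ[C] B0) (σ : R0 →ₐ[C] A0) (ψ : B0 →ₐ[C] Y0) (φ : A0 →ₐ[C] Y0)
    (H : IsPushout (CommRingCat.ofHom τ.toRingHom) (CommRingCat.ofHom σ.toRingHom)
      (CommRingCat.ofHom ψ.toRingHom) (CommRingCat.ofHom φ.toRingHom))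
    (C2 : Type u) [CommRing C2] [Algebra C C2] :
    IsPushout (CommRingCat.ofHom (Algebra.TensorProduct.map τ (AlgHom.id C C2)).toRingHom)
      (CommRingCat.ofHom (Algebra.TensorProduct.map σ (AlgHom.id C C2)).toRingHom)
      (CommRingCat.ofHom (Algebra.TensorProduct.map ψ (AlgHom.id C C2)).toRingHom)
      (CommRingCat.ofHom (Algebra.TensorProduct.map φ (AlgHom.id C C2)).toRingHom) := by
  have Hσ := (isPushout_baseChange σ C2).flip
  have Hψ := (isPushout_baseChange ψ C2).flip
  have Hout := H.paste_horiz Hψ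
  have e1 : CommRingCat.ofHom τ.toRingHom ≫
      CommRingCat.ofHom (Algebra.TensorProduct.includeLeftRingHom : B0 →+* B0 ⊗[C] C2) =
      CommRingCat.ofHom (Algebra.TensorProduct.includeLeftRingHom : R0 →+* R0 ⊗[C] C2) ≫
      CommRingCat.ofHom (Algebra.TensorProduct.map τ (AlgHom.id C C2)).toRingHom := by
    ext x
    simp
  have e2 : CommRingCat.ofHom φ.toRingHom ≫
      CommRingCat.ofHom (Algebra.TensorProduct.includeLeftRingHom : Y0 →+* Y0 ⊗[C] C2) =
      CommRingCat.ofHom (Algebra.TensorProduct.includeLeftRingHom : A0 →+* A0 ⊗[C] C2) ≫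
      CommRingCat.ofHom (Algebra.TensorProduct.map φ (AlgHom.id C C2)).toRingHom := by
    ext x
    simp
  rw [e1, e2] at Hout
  refine Hout.of_left ?_ Hσ
  have hcomm : ∀ x, ψ (τ x) = φ (σ x) := by
    intro x
    have := congrArg (fun k => k.hom x) H.w
    simpa using this
  apply CommRingCat.hom_ext
  apply RingHom.ext
  intro z
  change Algebra.TensorProduct.map ψ (AlgHom.id C C2)
      (Algebra.TensorProduct.map τ (AlgHom.id C C2) z) =
    Algebra.TensorProduct.map φ (AlgHom.id C C2)
      (Algebra.TensorProduct.map σ (AlgHom.id C C2) z)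
  induction z using TensorProduct.induction_on with
  | zero => simp
  | tmul x c => simp [hcomm x]
  | add y z hy hz => simp only [map_add, hy, hz]

end Groth.Agent.Lib.Helper95.Q9
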