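import Groth.Agent.S1879
import Groth.Agent.Lib.Helper95.Q9
import Groth.Agent.Lib.Helper95.Q14

set_option autoImplicit false
universe u
open TensorProduct CategoryTheory CategoryTheory.Limits

namespace Groth.Agent.Lib.Helper95.Q15

open Groth.Agent.Lib.Helper15.ProjCharpoly Groth.Agent.Lib.Helper95.Q1 Groth.Agent.Lib.Helper95.Q10
open Groth.Agent.Lib.Helper95.Q12 Groth.Agent.Lib.Helper95.Q14

variable {C A B : Type u} [CommRing C] [CommRing A] [CommRing B] [Algebra C A] [Algebra C B]
  [Algebra A B] [IsScalarTower C A B]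

attribute [local instance] algT

theorem ui_of_pushouts {Y : Type u} [CommRing Y] [Algebra C Y] (t : A →ₐ[C] B)
    (ψ φ₁ φ₂ : B →ₐ[C] Y)
    (H₁ : IsPushout (CommRingCat.ofHom (sA C A B).toRingHom)
      (CommRingCat.ofHom (sA C A B).toRingHom) (CommRingCat.ofHom ψ.toRingHom)
      (CommRingCat.ofHom φ₁.toRingHom))
    (H₂ : IsPushout (CommRingCat.ofHom t.toRingHom)
      (CommRingCat.ofHom (sA C A B).toRingHom) (CommRingCat.ofHom ψ.toRingHom)
      (CommRingCat.ofHom φ₂.toRingHom))
    (h12 : ∀ a, φ₁ (t a) = φ₂ (t a)) (π : Pres A B) : UI t π := by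
  intro C2 _ _ g
  have K₁ := Q9.isPushout_tensor (sA C A B) (sA C A B) ψ φ₁ H₁ C2
  have K₂ := Q9.isPushout_tensor t (sA C A B) ψ φ₂ H₂ C2
  have hz : ∀ z : A ⊗[C] C2, Algebra.TensorProduct.map φ₁ (AlgHom.id C C2) (t2 t C2 z) =
      Algebra.TensorProduct.map φ₂ (AlgHom.id C C2) (t2 t C2 z) := by
    intro z
    induction z using TensorProduct.induction_on with
    | zero => simp
    | tmul a c => simp [h12 a]
    | add x y hx hy => simp only [map_add, hx, hy]
  have key := Groth.Agent.S1879.cp_of_two_pushouts K₁ K₂ (pres2 C C2 π) (t2 t C2 (1 - g))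
    (hz (1 - g))
  have h2 := congrArg (Polynomial.eval 1) key
  rw [Polynomial.eval_one_map, Polynomial.eval_one_map, map_sub, map_one] at h2
  exact h2

end Groth.Agent.Lib.Helper95.Q15
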