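import Groth.Agent.Lib.Helper95.Q1
import Mathlib.RingTheory.QuasiFinite.Basic
import Mathlib.RingTheory.Ideal.Over

set_option autoImplicit false
universe u

open Polynomial TensorProduct

namespace Groth.Agent.Lib.Helper95.Q2

variable {A B : Type u} [CommRing A] [CommRing B] [Algebra A B] (t : A →+* B) (e : B →+* A)

theorem fibre_orbit [Module.Finite A B]
    (hes : ∀ a, e (algebraMap A B a) = a) (het : ∀ a, e (t a) = a)
    (hint : Algebra.IsIntegral (RingHom.eqLocus (algebraMap A B) t) A)
    (Nm : A → A) (hNinv : ∀ x, algebraMap A B (Nm x) = t (Nm x))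
    (hNdvd : ∀ x, t x ∣ algebraMap A B (Nm x))
    (hNprime : ∀ (x : A) (q : Ideal A), q.IsPrime → Nm x ∈ q →
      ∃ r : Ideal B, r.IsPrime ∧ r.comap (algebraMap A B) = q ∧ t x ∈ r)
    (q q' : Ideal A) [hq : q.IsPrime] [hq' : q'.IsPrime]
    (hqq : q.comap (RingHom.eqLocus (algebraMap A B) t).subtype =
      q'.comap (RingHom.eqLocus (algebraMap A B) t).subtype) :
    ∃ r : Ideal B, r.IsPrime ∧ r.comap (algebraMap A B) = q ∧ r.comap t = q' := by
  classical
  by_contra hcon
  push Not at hcon
  have hfin : (q.primesOver B).Finite := Algebra.QuasiFinite.finite_primesOver q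
  let S : Finset (Ideal B) := hfin.toFinset
  have hS : ∀ r ∈ S, r.IsPrime ∧ r.comap (algebraMap A B) = q := by
    intro r hr
    have := hfin.mem_toFinset.mp hr
    exact ⟨this.1, (this.2.over).symm⟩
  have hinv_comap : ∀ r : Ideal B, (r.comap t).comap (RingHom.eqLocus (algebraMap A B) t).subtype =
      (r.comap (algebraMap A B)).comap (RingHom.eqLocus (algebraMap A B) t).subtype := by
    intro r
    ext c
    simp only [Ideal.mem_comap, Subring.coe_subtype]
    rw [← c.2]
  have hnot : ¬ ((q' : Set A) ⊆ ⋃ r ∈ (↑S : Set (Ideal B)), ((r.comap t : Ideal A) : Set A)) := by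
    intro hsub
    by_cases hSe : S = ∅
    · rw [hSe] at hsub
      simp only [Finset.coe_empty, Set.mem_empty_iff_false, Set.iUnion_of_empty,
        Set.iUnion_empty, Set.subset_empty_iff] at hsub
      have : (0 : A) ∈ (q' : Set A) := q'.zero_mem
      rw [hsub] at this
      exact this
    obtain ⟨r0, hr0⟩ := Finset.nonempty_iff_ne_empty.mpr hSe
    obtain ⟨r, hrS, hle⟩ := (Ideal.subset_union_prime (s := S) (f := fun r => r.comap t) r0 r0
      (fun i hi _ _ => by
        have := (hS i hi).1
        exact Ideal.comap_isPrime t i)).mp hsub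
    have hrp := (hS r hrS).1
    have hrq := (hS r hrS).2
    apply hcon r hrp hrq
    by_contra hne
    have hlt : q' < r.comap t := lt_of_le_of_ne hle (Ne.symm hne)
    obtain ⟨x, hxr, hxq⟩ := SetLike.exists_of_lt hlt
    have := Ideal.comap_lt_comap_of_integral_mem_sdiff (R := RingHom.eqLocus (algebraMap A B) t)
      hle ⟨hxr, hxq⟩ (hint.isIntegral x)
    have h2 : (r.comap t).comap (algebraMap (RingHom.eqLocus (algebraMap A B) t) A) =
        q'.comap (algebraMap (RingHom.eqLocus (algebraMap A B) t) A) := by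
      change (r.comap t).comap (RingHom.eqLocus (algebraMap A B) t).subtype =
        q'.comap (RingHom.eqLocus (algebraMap A B) t).subtype
      rw [hinv_comap, hrq, hqq]
    rw [h2] at this
    exact lt_irrefl _ this
  rw [Set.not_subset] at hnot
  obtain ⟨x, hxq', hxn⟩ := hnot
  simp only [Set.mem_iUnion, not_exists] at hxn
  have h1 : Nm x ∉ q := by
    intro hmem
    obtain ⟨r, hrp, hrq, htx⟩ := hNprime x q hq hmem
    have hrS : r ∈ S := hfin.mem_toFinset.mpr ⟨hrp, ⟨hrq.symm⟩⟩
    exact hxn r hrS htx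
  have h2 : Nm x ∈ q' := by
    obtain ⟨w, hw⟩ := hNdvd x
    have := congrArg e hw
    rw [hes, map_mul, het] at this
    rw [this]
    exact q'.mul_mem_right _ hxq'
  apply h1
  have h3 : (⟨Nm x, hNinv x⟩ : RingHom.eqLocus (algebraMap A B) t) ∈
      q'.comap (RingHom.eqLocus (algebraMap A B) t).subtype := h2
  rw [← hqq] at h3
  exact h3

theorem transfer_aux
    (hc : ∀ (BB : Type u) [CommRing BB] (ιL ιR : B →+* BB),
      (∀ a, ιL (algebraMap A B a) = ιR (t a)) →
      ∃ c' : B →+* BB, (∀ a, c' (algebraMap A B a) = ιR (algebraMap A B a)) ∧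
        (∀ a, c' (t a) = ιL (t a)))
    (hsurj : Submodule.span A (Set.range t) = ⊤)
    {n : ℕ} (x : Fin n → A) {K : Type u} [Field K] [Algebra A K] (rK : B →+* K)
    (halg : ∀ a, algebraMap A K a = rK (t a))
    (a0 : A) (hk0 : rK (algebraMap A B a0) ≠ 0)
    (hspan : ∀ b : B, a0 • b ∈ Submodule.span A (Set.range (fun i => t (x i)))) :
    Subsingleton (K ⊗[A] (B ⧸ Submodule.span A (Set.range fun i => t (x i)))) := by
  let ιL : B →+* (K ⊗[A] B) := (Algebra.TensorProduct.includeRight : B →ₐ[A] (K ⊗[A] B)).toRingHom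
  let ιR : B →+* (K ⊗[A] B) :=
    (Algebra.TensorProduct.includeLeftRingHom : K →+* (K ⊗[A] B)).comp rK
  have h1 : ∀ a, ιL (algebraMap A B a) = ιR (t a) := by
    intro a
    change (1 : K) ⊗ₜ[A] (algebraMap A B a) = (rK (t a)) ⊗ₜ[A] (1 : B)
    rw [Algebra.algebraMap_eq_smul_one, ← TensorProduct.smul_tmul, Algebra.smul_def, mul_one,
      halg]
  obtain ⟨c', hc1, hc2⟩ := hc (K ⊗[A] B) ιL ιR h1
  let W : Submodule K (K ⊗[A] B) := Submodule.span K (Set.range fun i => (1 : K) ⊗ₜ[A] t (x i))
  have hsm : ∀ (k : K) (z : (K ⊗[A] B)), (k ⊗ₜ[A] (1 : B)) * z = k • z := by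
    intro k z
    rw [Algebra.smul_def, Algebra.TensorProduct.algebraMap_apply]
    rfl
  have step1 : ∀ b, c' b ∈ W := by
    intro b
    obtain ⟨a, ha⟩ := (Submodule.mem_span_range_iff_exists_fun A).mp (hspan b)
    have h2 := congrArg c' ha
    rw [map_sum, Algebra.smul_def, map_mul, hc1] at h2
    have h3 : rK (algebraMap A B a0) • c' b =
        ∑ i, rK (algebraMap A B (a i)) • ((1 : K) ⊗ₜ[A] t (x i)) := by
      rw [← hsm]
      change ιR (algebraMap A B a0) * c' b = _
      rw [← h2]
      refine Finset.sum_congr rfl fun i _ => ?_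
      rw [Algebra.smul_def, map_mul, hc1, hc2, ← hsm]
      rfl
    have h4 : c' b = (rK (algebraMap A B a0))⁻¹ • (rK (algebraMap A B a0) • c' b) := by
      rw [smul_smul, inv_mul_cancel₀ hk0, one_smul]
    rw [h4, h3]
    refine W.smul_mem _ (Submodule.sum_mem _ fun i _ => W.smul_mem _ ?_)
    exact Submodule.subset_span ⟨i, rfl⟩
  have step2 : ∀ b : B, (1 : K) ⊗ₜ[A] b ∈ W := by
    intro b
    have hb : b ∈ Submodule.span A (Set.range t) := by rw [hsurj]; trivial
    induction hb using Submodule.span_induction with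
    | mem y hy =>
      obtain ⟨a, rfl⟩ := hy
      have := step1 (t a)
      rw [hc2] at this
      exact this
    | zero => rw [TensorProduct.tmul_zero]; exact W.zero_mem
    | add y z _ _ hy hz => rw [TensorProduct.tmul_add]; exact W.add_mem hy hz
    | smul a y _ hy =>
      rw [TensorProduct.tmul_smul, ← algebraMap_smul K a ((1 : K) ⊗ₜ[A] y)]
      exact W.smul_mem _ hy
  have step3 : W = ⊤ := by
    rw [eq_top_iff]
    rintro z -
    induction z using TensorProduct.induction_on with
    | zero => exact W.zero_mem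
    | tmul k b =>
      have : k ⊗ₜ[A] b = k • ((1 : K) ⊗ₜ[A] b) := by
        rw [TensorProduct.smul_tmul', smul_eq_mul, mul_one]
      rw [this]
      exact W.smul_mem _ (step2 b)
    | add y z hy hz => exact W.add_mem hy hz
  let N : Submodule A B := Submodule.span A (Set.range fun i => t (x i))
  let g : (K ⊗[A] B) →ₗ[K] K ⊗[A] (B ⧸ N) := LinearMap.baseChange K N.mkQ
  have hg0 : ∀ z, g z = 0 := by
    intro z
    have hz : z ∈ W := by rw [step3]; trivial
    induction hz using Submodule.span_induction with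
    | mem y hy =>
      obtain ⟨i, rfl⟩ := hy
      change (1 : K) ⊗ₜ[A] (N.mkQ (t (x i))) = 0
      have : N.mkQ (t (x i)) = 0 := by
        rw [Submodule.mkQ_apply, Submodule.Quotient.mk_eq_zero]
        exact Submodule.subset_span ⟨i, rfl⟩
      rw [this, TensorProduct.tmul_zero]
    | zero => exact map_zero g
    | add y z _ _ hy hz => rw [map_add, hy, hz, add_zero]
    | smul k y _ hy => rw [map_smul, hy, smul_zero]
  have hgs : Function.Surjective g := by
    have : (g : (K ⊗[A] B) → K ⊗[A] (B ⧸ N)) = (N.mkQ).lTensor K := by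
      ext z
      rfl
    rw [this]
    exact LinearMap.lTensor_surjective K N.mkQ_surjective
  refine ⟨fun y z => ?_⟩
  obtain ⟨y', rfl⟩ := hgs y
  obtain ⟨z', rfl⟩ := hgs z
  rw [hg0, hg0]

theorem transfer [Module.Finite A B]
    (hc : ∀ (BB : Type u) [CommRing BB] (ιL ιR : B →+* BB),
      (∀ a, ιL (algebraMap A B a) = ιR (t a)) →
      ∃ c' : B →+* BB, (∀ a, c' (algebraMap A B a) = ιR (algebraMap A B a)) ∧
        (∀ a, c' (t a) = ιL (t a)))
    (hsurj : Submodule.span A (Set.range t) = ⊤)
    {n : ℕ} (x : Fin n → A) (r : Ideal B) [hr : r.IsPrime]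
    (hgen : ∃ a0 : A, a0 ∉ r.comap (algebraMap A B) ∧
      ∀ b : B, a0 • b ∈ Submodule.span A (Set.range (fun i => t (x i)))) :
    (⟨r.comap t, Ideal.comap_isPrime t r⟩ : PrimeSpectrum A) ∉
      Module.support A (B ⧸ Submodule.span A (Set.range fun i => t (x i))) := by
  obtain ⟨a0, ha0, hspan⟩ := hgen
  let algK : Algebra A r.ResidueField := ((algebraMap B r.ResidueField).comp t).toAlgebra
  have hk0 : algebraMap B r.ResidueField (algebraMap A B a0) ≠ 0 := by
    intro h0
    apply ha0
    exact (Ideal.algebraMap_residueField_eq_zero (I := r)).mp h0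
  have hsub := transfer_aux t hc hsurj x (K := r.ResidueField) (algebraMap B r.ResidueField)
    (fun a => rfl) a0 hk0 hspan
  refine Groth.Agent.Lib.Helper95.Q1.not_mem_support_of_subsingleton (K := r.ResidueField)
    (r.comap t) ?_ hsub
  change RingHom.ker ((algebraMap B r.ResidueField).comp t) = _
  rw [RingHom.ker_eq_comap_bot, ← Ideal.comap_comap, ← RingHom.ker_eq_comap_bot,
    Ideal.ker_algebraMap_residueField]

end Groth.Agent.Lib.Helper95.Q2
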