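import Groth.Agent.Lib.Helper95.Q2
import Mathlib.LinearAlgebra.Dimension.StrongRankCondition
import Mathlib.LinearAlgebra.FiniteDimensional.Lemmas
import Mathlib.RingTheory.TensorProduct.Finite
import Mathlib.LinearAlgebra.TensorProduct.RightExactness

set_option autoImplicit false
universe u

open Polynomial TensorProduct

namespace Groth.Agent.Lib.Helper95.Q3

variable {A B : Type u} [CommRing A] [CommRing B] [Algebra A B]

theorem exists_of_not_mem_support {M : Type u} [AddCommGroup M] [Module A M] [Module.Finite A M]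
    (N : Submodule A M) (q : PrimeSpectrum A) (h : q ∉ Module.support A (M ⧸ N)) :
    ∃ a0 : A, a0 ∉ q.asIdeal ∧ ∀ b : M, a0 • b ∈ N := by
  rw [Module.support_eq_zeroLocus, PrimeSpectrum.mem_zeroLocus, SetLike.coe_subset_coe,
    SetLike.not_le_iff_exists] at h
  obtain ⟨a0, ha, hq⟩ := h
  refine ⟨a0, hq, fun b => ?_⟩
  have := Module.mem_annihilator.mp ha (Submodule.Quotient.mk b)
  rwa [← Submodule.Quotient.mk_smul, Submodule.Quotient.mk_eq_zero] at this

theorem span_top_of_gen {M : Type u} [AddCommGroup M] [Module A M]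
    {K : Type u} [Field K] [Algebra A K] {n : ℕ} (y : Fin n → M)
    (a0 : A) (ha0 : algebraMap A K a0 ≠ 0)
    (hgen : ∀ b : M, a0 • b ∈ Submodule.span A (Set.range y)) :
    Submodule.span K (Set.range fun i => (1 : K) ⊗ₜ[A] y i) = ⊤ := by
  rw [eq_top_iff]
  rintro z -
  induction z using TensorProduct.induction_on with
  | zero => exact Submodule.zero_mem _
  | tmul k b =>
    obtain ⟨a, ha⟩ := (Submodule.mem_span_range_iff_exists_fun A).mp (hgen b)
    have h1 : k ⊗ₜ[A] b = (k * (algebraMap A K a0)⁻¹) • ((1 : K) ⊗ₜ[A] (a0 • b)) := by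
      rw [TensorProduct.tmul_smul, ← algebraMap_smul K a0 ((1 : K) ⊗ₜ[A] b), smul_smul,
        mul_assoc, inv_mul_cancel₀ ha0, mul_one, TensorProduct.smul_tmul', smul_eq_mul, mul_one]
    rw [h1, ← ha, TensorProduct.tmul_sum]
    refine Submodule.smul_mem _ _ (Submodule.sum_mem _ fun i _ => ?_)
    rw [TensorProduct.tmul_smul, ← algebraMap_smul K (a i) ((1 : K) ⊗ₜ[A] y i)]
    exact Submodule.smul_mem _ _ (Submodule.subset_span ⟨i, rfl⟩)
  | add y z hy hz => exact Submodule.add_mem _ hy hz

theorem subsingleton_of_span_top {M : Type u} [AddCommGroup M] [Module A M]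
    {K : Type u} [Field K] [Algebra A K] {n : ℕ} (y : Fin n → M)
    (h : Submodule.span K (Set.range fun i => (1 : K) ⊗ₜ[A] y i) = ⊤) :
    Subsingleton (K ⊗[A] (M ⧸ Submodule.span A (Set.range y))) := by
  let N : Submodule A M := Submodule.span A (Set.range y)
  let g : (K ⊗[A] M) →ₗ[K] K ⊗[A] (M ⧸ N) := LinearMap.baseChange K N.mkQ
  have hg0 : ∀ z, g z = 0 := by
    intro z
    have hz : z ∈ Submodule.span K (Set.range fun i => (1 : K) ⊗ₜ[A] y i) := by rw [h]; trivial
    induction hz using Submodule.span_induction with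
    | mem w hw =>
      obtain ⟨i, rfl⟩ := hw
      change (1 : K) ⊗ₜ[A] (N.mkQ (y i)) = 0
      have : N.mkQ (y i) = 0 := by
        rw [Submodule.mkQ_apply, Submodule.Quotient.mk_eq_zero]
        exact Submodule.subset_span ⟨i, rfl⟩
      rw [this, TensorProduct.tmul_zero]
    | zero => exact map_zero g
    | add y z _ _ hy hz => rw [map_add, hy, hz, add_zero]
    | smul k y _ hy => rw [map_smul, hy, smul_zero]
  have hgs : Function.Surjective g := by
    have : (g : (K ⊗[A] M) → K ⊗[A] (M ⧸ N)) = (N.mkQ).lTensor K := by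
      ext z
      rfl
    rw [this]
    exact LinearMap.lTensor_surjective K N.mkQ_surjective
  refine ⟨fun y z => ?_⟩
  obtain ⟨y', rfl⟩ := hgs y
  obtain ⟨z', rfl⟩ := hgs z
  rw [hg0, hg0]

theorem finrank_le_of_gen [Module.Finite A B] (q : Ideal A) [q.IsPrime] {n : ℕ} (y : Fin n → B)
    (a0 : A) (ha0 : a0 ∉ q) (hgen : ∀ b : B, a0 • b ∈ Submodule.span A (Set.range y)) :
    Module.finrank q.ResidueField (q.ResidueField ⊗[A] B) ≤ n := by
  have h0 : algebraMap A q.ResidueField a0 ≠ 0 := fun h =>
    ha0 (Ideal.algebraMap_residueField_eq_zero.mp h)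
  have h1 := span_top_of_gen (K := q.ResidueField) y a0 h0 hgen
  have h2 := finrank_range_le_card (R := q.ResidueField)
    (fun i => (1 : q.ResidueField) ⊗ₜ[A] y i)
  rw [Set.finrank, h1, finrank_top, Fintype.card_fin] at h2
  exact h2

theorem span_one_tmul_top (t : A →+* B) (hsurj : Submodule.span A (Set.range t) = ⊤)
    {K : Type u} [Field K] [Algebra A K] :
    Submodule.span K (Set.range fun a : A => (1 : K) ⊗ₜ[A] t a) = ⊤ := by
  have step2 : ∀ b : B, (1 : K) ⊗ₜ[A] b ∈
      Submodule.span K (Set.range fun a : A => (1 : K) ⊗ₜ[A] t a) := by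
    intro b
    have hb : b ∈ Submodule.span A (Set.range t) := by rw [hsurj]; trivial
    induction hb using Submodule.span_induction with
    | mem y hy =>
      obtain ⟨a, rfl⟩ := hy
      exact Submodule.subset_span ⟨a, rfl⟩
    | zero => rw [TensorProduct.tmul_zero]; exact Submodule.zero_mem _
    | add y z _ _ hy hz => rw [TensorProduct.tmul_add]; exact Submodule.add_mem _ hy hz
    | smul a y _ hy =>
      rw [TensorProduct.tmul_smul, ← algebraMap_smul K a ((1 : K) ⊗ₜ[A] y)]
      exact Submodule.smul_mem _ _ hy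
  rw [eq_top_iff]
  rintro z -
  induction z using TensorProduct.induction_on with
  | zero => exact Submodule.zero_mem _
  | tmul k b =>
    have : k ⊗ₜ[A] b = k • ((1 : K) ⊗ₜ[A] b) := by
      rw [TensorProduct.smul_tmul', smul_eq_mul, mul_one]
    rw [this]
    exact Submodule.smul_mem _ _ (step2 b)
  | add y z hy hz => exact Submodule.add_mem _ hy hz

theorem exists_choice [Module.Finite A B] (t : A →+* B)
    (hsurj : Submodule.span A (Set.range t) = ⊤) (q : Ideal A) [hq : q.IsPrime] :
    ∃ x : Fin (Module.finrank q.ResidueField (q.ResidueField ⊗[A] B)) → A,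
      (⟨q, hq⟩ : PrimeSpectrum A) ∉
        Module.support A (B ⧸ Submodule.span A (Set.range fun i => t (x i))) := by
  have hs0 := span_one_tmul_top t hsurj (K := q.ResidueField)
  obtain ⟨f, hf_mem, hf_span, -⟩ := Submodule.exists_fun_fin_finrank_span_eq q.ResidueField
    (Set.range fun a : A => (1 : q.ResidueField) ⊗ₜ[A] t a)
  have hn : Module.finrank q.ResidueField (Submodule.span q.ResidueField
      (Set.range fun a : A => (1 : q.ResidueField) ⊗ₜ[A] t a)) =
      Module.finrank q.ResidueField (q.ResidueField ⊗[A] B) := by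
    rw [hs0, finrank_top]
  choose a ha using hf_mem
  refine ⟨fun i => a (Fin.cast hn.symm i), ?_⟩
  have hspan : Submodule.span q.ResidueField (Set.range fun i :
      Fin (Module.finrank q.ResidueField (q.ResidueField ⊗[A] B)) =>
      (1 : q.ResidueField) ⊗ₜ[A] t (a (Fin.cast hn.symm i))) = ⊤ := by
    have hr : (Set.range fun i :
        Fin (Module.finrank q.ResidueField (q.ResidueField ⊗[A] B)) =>
        (1 : q.ResidueField) ⊗ₜ[A] t (a (Fin.cast hn.symm i))) = Set.range f := by
      ext z
      constructor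
      · rintro ⟨i, rfl⟩
        exact ⟨Fin.cast hn.symm i, (ha _).symm⟩
      · rintro ⟨i, rfl⟩
        refine ⟨Fin.cast hn i, ?_⟩
        change (1 : q.ResidueField) ⊗ₜ[A] t (a (Fin.cast hn.symm (Fin.cast hn i))) = f i
        rw [Fin.cast_cast, Fin.cast_eq_self]
        exact ha i
    rw [hr, hf_span, hs0]
  have hsub := subsingleton_of_span_top (K := q.ResidueField)
    (fun i => t (a (Fin.cast hn.symm i))) hspan
  rw [Module.mem_support_iff_nontrivial_residueField_tensorProduct,
    not_nontrivial_iff_subsingleton]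
  exact hsub

end Groth.Agent.Lib.Helper95.Q3
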