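import Groth.Agent.Lib.Helper95.Q3

set_option autoImplicit false
universe u

open Polynomial TensorProduct

namespace Groth.Agent.Lib.Helper95.Q4

open Groth.Agent.Lib.Helper95.Q2 Groth.Agent.Lib.Helper95.Q3

variable {A B : Type u} [CommRing A] [CommRing B] [Algebra A B] (t : A →+* B) (e : B →+* A)

section
variable [Module.Finite A B]
    (hes : ∀ a, e (algebraMap A B a) = a) (het : ∀ a, e (t a) = a)
    (hc : ∀ (BB : Type u) [CommRing BB] (ιL ιR : B →+* BB),
      (∀ a, ιL (algebraMap A B a) = ιR (t a)) →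
      ∃ c' : B →+* BB, (∀ a, c' (algebraMap A B a) = ιR (algebraMap A B a)) ∧
        (∀ a, c' (t a) = ιL (t a)))
    (hsurj : Submodule.span A (Set.range t) = ⊤)
    (hint : Algebra.IsIntegral (RingHom.eqLocus (algebraMap A B) t) A)
    (Nm : A → A) (hNinv : ∀ x, algebraMap A B (Nm x) = t (Nm x))
    (hNdvd : ∀ x, t x ∣ algebraMap A B (Nm x))
    (hNprime : ∀ (x : A) (q : Ideal A), q.IsPrime → Nm x ∈ q →
      ∃ r : Ideal B, r.IsPrime ∧ r.comap (algebraMap A B) = q ∧ t x ∈ r)

include hes het hc hsurj hint hNinv hNdvd hNprime in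
theorem gen_transfer (q q' : Ideal A) [hq : q.IsPrime] [hq' : q'.IsPrime]
    (hqq : q.comap (RingHom.eqLocus (algebraMap A B) t).subtype =
      q'.comap (RingHom.eqLocus (algebraMap A B) t).subtype)
    {n : ℕ} (x : Fin n → A)
    (hx : (⟨q, hq⟩ : PrimeSpectrum A) ∉
      Module.support A (B ⧸ Submodule.span A (Set.range fun i => t (x i)))) :
    (⟨q', hq'⟩ : PrimeSpectrum A) ∉
      Module.support A (B ⧸ Submodule.span A (Set.range fun i => t (x i))) := by
  obtain ⟨a0, ha0, hgen⟩ := exists_of_not_mem_support _ _ hx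
  obtain ⟨r, hrp, hrq, hrq'⟩ := fibre_orbit t e hes het hint Nm hNinv hNdvd hNprime q q' hqq
  subst hrq'
  exact transfer t hc hsurj x r ⟨a0, by rw [hrq]; exact ha0, hgen⟩

include hes het hc hsurj hint hNinv hNdvd hNprime in
theorem rank_le (q q' : Ideal A) [hq : q.IsPrime] [hq' : q'.IsPrime]
    (hqq : q.comap (RingHom.eqLocus (algebraMap A B) t).subtype =
      q'.comap (RingHom.eqLocus (algebraMap A B) t).subtype) :
    Module.finrank q'.ResidueField (q'.ResidueField ⊗[A] B) ≤
      Module.finrank q.ResidueField (q.ResidueField ⊗[A] B) := by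
  obtain ⟨x, hx⟩ := exists_choice t hsurj q
  have h1 := gen_transfer t e hes het hc hsurj hint Nm hNinv hNdvd hNprime q q' hqq x hx
  obtain ⟨a1, ha1, hgen1⟩ := exists_of_not_mem_support _ _ h1
  exact finrank_le_of_gen q' (fun i => t (x i)) a1 ha1 hgen1

end

theorem exists_section_smul {n : ℕ} [Module.Projective A B] (g : (Fin n → A) →ₗ[A] B) (f1 : A)
    (h : ∀ b : B, f1 • b ∈ LinearMap.range g) :
    ∃ σ : B →ₗ[A] (Fin n → A), ∀ b, g (σ b) = f1 • b := by
  let φ : B →ₗ[A] LinearMap.range g :=
    LinearMap.codRestrict (LinearMap.range g) (f1 • LinearMap.id) (fun b => h b)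
  obtain ⟨σ, hσ⟩ := Module.projective_lifting_property g.rangeRestrict φ
    g.surjective_rangeRestrict
  refine ⟨σ, fun b => ?_⟩
  have := congrArg Subtype.val (LinearMap.congr_fun hσ b)
  simpa [φ] using this

theorem not_mem_support_coker_section [Module.Finite A B] {n : ℕ}
    (g : (Fin n → A) →ₗ[A] B) (σ : B →ₗ[A] (Fin n → A)) (f1 : A)
    (hσ : ∀ b, g (σ b) = f1 • b) (q : Ideal A) [hq : q.IsPrime] (hf1 : f1 ∉ q)
    (hrank : Module.finrank q.ResidueField (q.ResidueField ⊗[A] B) = n) :
    (⟨q, hq⟩ : PrimeSpectrum A) ∉ Module.support A ((Fin n → A) ⧸ LinearMap.range σ) := by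
  rw [Module.mem_support_iff_nontrivial_residueField_tensorProduct,
    not_nontrivial_iff_subsingleton]
  change Subsingleton (q.ResidueField ⊗[A] ((Fin n → A) ⧸ LinearMap.range σ))
  have hu : algebraMap A q.ResidueField f1 ≠ 0 := fun h0 =>
    hf1 (Ideal.algebraMap_residueField_eq_zero.mp h0)
  have hcomp : (g.baseChange q.ResidueField) ∘ₗ (σ.baseChange q.ResidueField) =
      (algebraMap A q.ResidueField f1) • LinearMap.id := by
    rw [← LinearMap.baseChange_comp]
    ext b
    simp only [TensorProduct.AlgebraTensorModule.curry_apply, LinearMap.restrictScalars_comp,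
      TensorProduct.curry_apply, LinearMap.coe_comp, LinearMap.coe_restrictScalars,
      Function.comp_apply, LinearMap.baseChange_tmul, LinearMap.smul_apply, LinearMap.id_coe, id_eq]
    rw [hσ, TensorProduct.tmul_smul, algebraMap_smul]
  have hinj : Function.Injective (σ.baseChange q.ResidueField) := by
    intro y z hyz
    have h1 := congrArg (g.baseChange q.ResidueField) hyz
    have h2 := LinearMap.congr_fun hcomp y
    have h3 := LinearMap.congr_fun hcomp z
    simp only [LinearMap.coe_comp, Function.comp_apply, LinearMap.smul_apply, LinearMap.id_coe,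
      id_eq] at h2 h3
    rw [h2, h3] at h1
    exact smul_right_injective _ hu h1
  have hA : Nontrivial A := ⟨0, 1, fun h => hq.ne_top ((Ideal.eq_top_iff_one q).mpr (h ▸ q.zero_mem))⟩
  have hfr : Module.finrank q.ResidueField (q.ResidueField ⊗[A] B) =
      Module.finrank q.ResidueField (q.ResidueField ⊗[A] (Fin n → A)) := by
    rw [hrank, Module.finrank_baseChange, Module.finrank_fin_fun]
  have hsurj : Function.Surjective (σ.baseChange q.ResidueField) :=
    (LinearMap.injective_iff_surjective_of_finrank_eq_finrank hfr).mp hinj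
  let m : (q.ResidueField ⊗[A] (Fin n → A)) →ₗ[q.ResidueField]
      q.ResidueField ⊗[A] ((Fin n → A) ⧸ LinearMap.range σ) :=
    LinearMap.baseChange q.ResidueField (LinearMap.range σ).mkQ
  have hm0 : ∀ z, m z = 0 := by
    intro z
    obtain ⟨w, rfl⟩ := hsurj z
    change ((LinearMap.range σ).mkQ.baseChange q.ResidueField ∘ₗ σ.baseChange q.ResidueField) w = 0
    rw [← LinearMap.baseChange_comp, LinearMap.range_mkQ_comp, LinearMap.baseChange_zero]
    rfl
  have hms : Function.Surjective m := by
    have : (m : (q.ResidueField ⊗[A] (Fin n → A)) → _) =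
        ((LinearMap.range σ).mkQ).lTensor q.ResidueField := by
      ext z
      rfl
    rw [this]
    exact LinearMap.lTensor_surjective _ (LinearMap.range σ).mkQ_surjective
  refine ⟨fun y z => ?_⟩
  obtain ⟨y', rfl⟩ := hms y
  obtain ⟨z', rfl⟩ := hms z
  rw [hm0, hm0]

section
variable [Module.Finite A B]
    (hes : ∀ a, e (algebraMap A B a) = a) (het : ∀ a, e (t a) = a)
    (hc : ∀ (BB : Type u) [CommRing BB] (ιL ιR : B →+* BB),
      (∀ a, ιL (algebraMap A B a) = ιR (t a)) →
      ∃ c' : B →+* BB, (∀ a, c' (algebraMap A B a) = ιR (algebraMap A B a)) ∧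
        (∀ a, c' (t a) = ιL (t a)))
    (hsurj : Submodule.span A (Set.range t) = ⊤)
    (hint : Algebra.IsIntegral (RingHom.eqLocus (algebraMap A B) t) A)
    (Nm : A → A) (hNinv : ∀ x, algebraMap A B (Nm x) = t (Nm x))
    (hNdvd : ∀ x, t x ∣ algebraMap A B (Nm x))
    (hNprime : ∀ (x : A) (q : Ideal A), q.IsPrime → Nm x ∈ q →
      ∃ r : Ideal B, r.IsPrime ∧ r.comap (algebraMap A B) = q ∧ t x ∈ r)

include hes het hc hsurj hint hNinv hNdvd hNprime in
theorem local_basis [Module.Projective A B]
    (p : Ideal (RingHom.eqLocus (algebraMap A B) t)) [hp : p.IsPrime] :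
    ∃ (n : ℕ) (x : Fin n → A) (f : RingHom.eqLocus (algebraMap A B) t), f ∉ p ∧
      (∀ b : B, (f : A) • b ∈ Submodule.span A (Set.range fun i => t (x i))) ∧
      (∀ v : Fin n → A, Fintype.linearCombination A (fun i => t (x i)) v = 0 →
        (f : A) • v = 0) := by
  have hbot : (⊥ : Ideal A).comap (algebraMap (RingHom.eqLocus (algebraMap A B) t) A) ≤ p := by
    intro c hc0
    have : (c : A) = 0 := hc0
    have hc' : c = 0 := Subtype.ext this
    rw [hc']
    exact p.zero_mem
  obtain ⟨q0, -, hq0p, hq0⟩ := Ideal.exists_ideal_over_prime_of_isIntegral p (⊥ : Ideal A) hbot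
  obtain ⟨x, hx⟩ := exists_choice t hsurj q0
  refine ⟨_, x, ?_⟩
  have hall : ∀ q : PrimeSpectrum A,
      q.asIdeal.comap (algebraMap (RingHom.eqLocus (algebraMap A B) t) A) = p →
      q ∉ Module.support A (B ⧸ Submodule.span A (Set.range fun i => t (x i))) := by
    intro q hq
    have hqq : q0.comap (RingHom.eqLocus (algebraMap A B) t).subtype =
        q.asIdeal.comap (RingHom.eqLocus (algebraMap A B) t).subtype := hq0.trans hq.symm
    have hqp := q.2
    exact gen_transfer t e hes het hc hsurj hint Nm hNinv hNdvd hNprime q0 q.asIdeal hqq x hx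
  obtain ⟨f1, hf1p, hf1⟩ := Groth.Agent.Lib.Helper95.Q1.exists_smul_eq_zero_of_support p hall
  have hf1' : ∀ b : B, (f1 : A) • b ∈ Submodule.span A (Set.range fun i => t (x i)) := by
    intro b
    have := hf1 (Submodule.Quotient.mk b)
    rwa [← Submodule.Quotient.mk_smul, Submodule.Quotient.mk_eq_zero] at this
  set g : (Fin _ → A) →ₗ[A] B := Fintype.linearCombination A (fun i => t (x i)) with hg
  have hrange : LinearMap.range g = Submodule.span A (Set.range fun i => t (x i)) :=
    Fintype.range_linearCombination A _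
  obtain ⟨σ, hσ⟩ := exists_section_smul g (f1 : A) (fun b => by rw [hrange]; exact hf1' b)
  have hall2 : ∀ q : PrimeSpectrum A,
      q.asIdeal.comap (algebraMap (RingHom.eqLocus (algebraMap A B) t) A) = p →
      q ∉ Module.support A ((Fin _ → A) ⧸ LinearMap.range σ) := by
    intro q hq
    have hqp := q.2
    have hqq : q0.comap (RingHom.eqLocus (algebraMap A B) t).subtype =
        q.asIdeal.comap (RingHom.eqLocus (algebraMap A B) t).subtype := hq0.trans hq.symm
    have hr1 := rank_le t e hes het hc hsurj hint Nm hNinv hNdvd hNprime q0 q.asIdeal hqq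
    have hr2 := rank_le t e hes het hc hsurj hint Nm hNinv hNdvd hNprime q.asIdeal q0 hqq.symm
    have hfq : (f1 : A) ∉ q.asIdeal := by
      intro hmem
      apply hf1p
      rw [← hq]
      exact hmem
    exact not_mem_support_coker_section g σ (f1 : A) hσ q.asIdeal hfq (le_antisymm hr1 hr2)
  obtain ⟨f2, hf2p, hf2⟩ := Groth.Agent.Lib.Helper95.Q1.exists_smul_eq_zero_of_support p hall2
  have hf2' : ∀ v : Fin _ → A, (f2 : A) • v ∈ LinearMap.range σ := by
    intro v
    have := hf2 (Submodule.Quotient.mk v)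
    rwa [← Submodule.Quotient.mk_smul, Submodule.Quotient.mk_eq_zero] at this
  refine ⟨f1 * f2, ?_, ?_, ?_⟩
  · intro hmem
    rcases hp.mem_or_mem hmem with h | h
    · exact hf1p h
    · exact hf2p h
  · intro b
    have : ((f1 * f2 : RingHom.eqLocus (algebraMap A B) t) : A) • b = (f2 : A) • ((f1 : A) • b) := by
      rw [smul_smul, mul_comm]
      rfl
    rw [this]
    exact Submodule.smul_mem _ _ (hf1' b)
  · intro v hv
    obtain ⟨b, hb⟩ := hf2' v
    have h1 : (f1 : A) • b = 0 := by
      rw [← hσ, hb, map_smul, hv, smul_zero]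
    have : ((f1 * f2 : RingHom.eqLocus (algebraMap A B) t) : A) • v = (f1 : A) • ((f2 : A) • v) := by
      rw [smul_smul]
      rfl
    rw [this, ← hb, ← map_smul, h1, map_zero]

end

end Groth.Agent.Lib.Helper95.Q4
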