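import Groth.Agent.Lib.Helper95.Q4
import Groth.Agent.Lib.Helper72.GrpdBasis
import Mathlib.RingTheory.Localization.Away.Basic
import Mathlib.RingTheory.Localization.Integer

set_option autoImplicit false
universe u

open Polynomial TensorProduct

namespace Groth.Agent.Lib.Helper95.Q5

variable {A B : Type u} [CommRing A] [CommRing B] [Algebra A B] (t : A →+* B) (e : B →+* A)
  (f : A) (hf : algebraMap A B f = t f)
  (A' B' : Type u) [CommRing A'] [CommRing B'] [Algebra A A'] [Algebra B B']
  [IsLocalization.Away f A'] [IsLocalization.Away (algebraMap A B f) B']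

noncomputable def sL : A' →+* B' := IsLocalization.Away.map A' B' (algebraMap A B) f

include hf in
theorem isUnit_t : IsUnit (((algebraMap B B').comp t) f) := by
  rw [RingHom.comp_apply, ← hf]
  exact IsLocalization.Away.algebraMap_isUnit _

noncomputable def tL : A' →+* B' :=
  IsLocalization.Away.lift (S := A') f (g := (algebraMap B B').comp t) (isUnit_t t f hf B')

theorem isUnit_e (hes : ∀ a, e (algebraMap A B a) = a) :
    IsUnit (((algebraMap A A').comp e) (algebraMap A B f)) := by
  rw [RingHom.comp_apply, hes]
  exact IsLocalization.Away.algebraMap_isUnit _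

noncomputable def eL (hes : ∀ a, e (algebraMap A B a) = a) : B' →+* A' :=
  IsLocalization.Away.lift (S := B') (algebraMap A B f) (g := (algebraMap A A').comp e)
    (isUnit_e e f A' hes)

theorem sL_alg (a : A) : sL (B := B) f A' B' (algebraMap A A' a) = algebraMap B B' (algebraMap A B a) := by
  unfold sL IsLocalization.Away.map
  exact IsLocalization.map_eq _ _

theorem tL_alg (a : A) : tL t f hf A' B' (algebraMap A A' a) = algebraMap B B' (t a) :=
  IsLocalization.Away.lift_eq _ _ _

theorem eL_alg (hes : ∀ a, e (algebraMap A B a) = a) (b : B) :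
    eL (A := A) (B := B) e f A' B' hes (algebraMap B B' b) = algebraMap A A' (e b) :=
  IsLocalization.Away.lift_eq _ _ _

theorem hesL (hes : ∀ a, e (algebraMap A B a) = a) (a' : A') :
    eL (A := A) (B := B) e f A' B' hes (sL (B := B) f A' B' a') = a' := by
  have : (eL (A := A) (B := B) e f A' B' hes).comp (sL (B := B) f A' B') = RingHom.id A' := by
    apply IsLocalization.ringHom_ext (Submonoid.powers f)
    ext a
    simp only [RingHom.comp_apply, RingHom.id_apply]
    rw [sL_alg, eL_alg, hes]
  exact RingHom.congr_fun this a'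

theorem hetL (hes : ∀ a, e (algebraMap A B a) = a) (het : ∀ a, e (t a) = a) (a' : A') :
    eL (A := A) (B := B) e f A' B' hes (tL t f hf A' B' a') = a' := by
  have : (eL (A := A) (B := B) e f A' B' hes).comp (tL t f hf A' B') = RingHom.id A' := by
    apply IsLocalization.ringHom_ext (Submonoid.powers f)
    ext a
    simp only [RingHom.comp_apply, RingHom.id_apply]
    rw [tL_alg, eL_alg, het]
  exact RingHom.congr_fun this a'

theorem hcL
    (hc : ∀ (BB : Type u) [CommRing BB] (ιL ιR : B →+* BB),
      (∀ a, ιL (algebraMap A B a) = ιR (t a)) →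
      ∃ c' : B →+* BB, (∀ a, c' (algebraMap A B a) = ιR (algebraMap A B a)) ∧
        (∀ a, c' (t a) = ιL (t a)))
    (BB : Type u) [CommRing BB] (ιL ιR : B' →+* BB)
    (h : ∀ a', ιL (sL (B := B) f A' B' a') = ιR (tL t f hf A' B' a')) :
    ∃ c' : B' →+* BB, (∀ a', c' (sL (B := B) f A' B' a') = ιR (sL (B := B) f A' B' a')) ∧
      (∀ a', c' (tL t f hf A' B' a') = ιL (tL t f hf A' B' a')) := by
  obtain ⟨c0, h1, h2⟩ := hc BB (ιL.comp (algebraMap B B')) (ιR.comp (algebraMap B B')) (by
    intro a
    have := h (algebraMap A A' a)
    rw [sL_alg, tL_alg] at this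
    exact this)
  have hu : IsUnit (c0 (algebraMap A B f)) := by
    rw [h1]
    exact (IsLocalization.Away.algebraMap_isUnit (S := B') (algebraMap A B f)).map ιR
  let c' : B' →+* BB := IsLocalization.Away.lift (S := B') (algebraMap A B f) (g := c0) hu
  have hc' : ∀ b, c' (algebraMap B B' b) = c0 b := fun b => IsLocalization.Away.lift_eq _ _ _
  refine ⟨c', fun a' => ?_, fun a' => ?_⟩
  · have : c'.comp (sL (B := B) f A' B') = ιR.comp (sL (B := B) f A' B') := by
      apply IsLocalization.ringHom_ext (Submonoid.powers f)
      ext a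
      simp only [RingHom.comp_apply]
      rw [sL_alg, hc', h1]
      rfl
    exact RingHom.congr_fun this a'
  · have : c'.comp (tL t f hf A' B') = ιL.comp (tL t f hf A' B') := by
      apply IsLocalization.ringHom_ext (Submonoid.powers f)
      ext a
      simp only [RingHom.comp_apply]
      rw [tL_alg, hc', h2]
      rfl
    exact RingHom.congr_fun this a'

theorem exists_basisL {n : ℕ} (x : Fin n → A)
    (ha : ∀ b : B, f • b ∈ Submodule.span A (Set.range fun i => t (x i)))
    (hb : ∀ v : Fin n → A, Fintype.linearCombination A (fun i => t (x i)) v = 0 → f • v = 0) :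
    letI := (sL (B := B) f A' B').toAlgebra
    ∃ b : Module.Basis (Fin n) A' B', ∀ i, b i = tL t f hf A' B' (algebraMap A A' (x i)) := by
  letI := (sL (B := B) f A' B').toAlgebra
  have hsm : ∀ (a' : A') (b' : B'), a' • b' = sL (B := B) f A' B' a' * b' := fun _ _ => rfl
  have hv : ∀ i, tL t f hf A' B' (algebraMap A A' (x i)) = algebraMap B B' (t (x i)) :=
    fun i => tL_alg t f hf A' B' (x i)
  obtain ⟨u, hu⟩ := (IsLocalization.Away.algebraMap_isUnit (S := A') f).exists_right_inv
  have hu' : u * algebraMap A A' f = 1 := by rw [mul_comm]; exact hu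
  have hsp : ⊤ ≤ Submodule.span A' (Set.range fun i => tL t f hf A' B' (algebraMap A A' (x i))) := by
    rintro b' -
    obtain ⟨k, b, hkb⟩ := IsLocalization.Away.surj (algebraMap A B f) b'
    have h1 : algebraMap B B' b ∈
        Submodule.span A' (Set.range fun i => tL t f hf A' B' (algebraMap A A' (x i))) := by
      obtain ⟨a, haa⟩ := (Submodule.mem_span_range_iff_exists_fun A).mp (ha b)
      have h2 : algebraMap B B' b = u • ∑ i, (algebraMap A A' (a i)) •
          tL t f hf A' B' (algebraMap A A' (x i)) := by
        have h3 := congrArg (algebraMap B B') haa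
        rw [map_sum] at h3
        have h4 : ∑ i, (algebraMap A A' (a i)) • tL t f hf A' B' (algebraMap A A' (x i)) =
            algebraMap B B' (f • b) := by
          rw [← h3]
          refine Finset.sum_congr rfl fun i _ => ?_
          rw [hsm, sL_alg, hv, Algebra.smul_def, map_mul]
        rw [h4, hsm, Algebra.smul_def f b, map_mul, ← sL_alg (B := B) f A' B' f, ← mul_assoc,
          ← map_mul, hu', map_one, one_mul]
      rw [h2]
      refine Submodule.smul_mem _ _ (Submodule.sum_mem _ fun i _ => Submodule.smul_mem _ _ ?_)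
      exact Submodule.subset_span ⟨i, rfl⟩
    have h5 : b' = (u ^ k) • algebraMap B B' b := by
      rw [← hkb, hsm, ← sL_alg (B := B) f A' B' f, mul_comm b', ← map_pow, ← mul_assoc, ← map_mul,
        ← mul_pow, hu', one_pow, map_one, one_mul]
    rw [h5]
    exact Submodule.smul_mem _ _ h1
  have hli : LinearIndependent A' (fun i => tL t f hf A' B' (algebraMap A A' (x i))) := by
    rw [Fintype.linearIndependent_iff]
    intro g hg
    obtain ⟨m, hm⟩ := IsLocalization.exist_integer_multiples (Submonoid.powers f) Finset.univ g
    choose a haa using fun i => hm i (Finset.mem_univ i)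
    obtain ⟨l, hl⟩ := m.2
    have h1 : algebraMap B B' (∑ i, algebraMap A B (a i) * t (x i)) = 0 := by
      rw [map_sum]
      have h2 : ∑ i, algebraMap B B' (algebraMap A B (a i) * t (x i)) =
          (algebraMap A A' (m : A)) • ∑ i, g i • tL t f hf A' B' (algebraMap A A' (x i)) := by
        rw [Finset.smul_sum]
        refine Finset.sum_congr rfl fun i _ => ?_
        rw [map_mul, ← sL_alg (B := B) f A' B' (a i), haa, hv, Algebra.smul_def (m : A) (g i),
          ← hsm, mul_smul]
      rw [h2, hg, smul_zero]
    obtain ⟨⟨mm, j, rfl⟩, hmm⟩ := (IsLocalization.map_eq_zero_iff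
      (Submonoid.powers (algebraMap A B f)) B' _).mp h1
    have h3 : Fintype.linearCombination A (fun i => t (x i)) (f ^ j • a) = 0 := by
      rw [Fintype.linearCombination_apply]
      simp only [] at hmm
      rw [Finset.mul_sum] at hmm
      rw [← hmm]
      refine Finset.sum_congr rfl fun i _ => ?_
      rw [Pi.smul_apply, smul_eq_mul, Algebra.smul_def, map_mul, map_pow, mul_assoc]
    have h4 := hb _ h3
    intro i
    have h5 : f ^ (j + 1) * a i = 0 := by
      have := congrFun h4 i
      simp only [Pi.smul_apply, smul_eq_mul, Pi.zero_apply] at this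
      rw [pow_succ, mul_comm (f ^ j) f, mul_assoc]
      exact this
    have h6 : algebraMap A A' (a i) = 0 := by
      have := congrArg (algebraMap A A') h5
      rw [map_mul, map_pow, map_zero] at this
      have hunit := (IsLocalization.Away.algebraMap_pow_isUnit (S := A') f (j + 1))
      exact (hunit.mul_right_eq_zero).mp this
    have h7 : (m : A) • g i = 0 := by rw [← haa, h6]
    rw [← hl, Algebra.smul_def, map_pow] at h7
    exact ((IsLocalization.Away.algebraMap_pow_isUnit (S := A') f l).mul_right_eq_zero).mp h7
  exact ⟨Module.Basis.mk hli hsp, fun i => Module.Basis.mk_apply hli hsp i⟩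

end Groth.Agent.Lib.Helper95.Q5
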