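import Mathlib
import Groth.Agent.S4875

set_option autoImplicit false
set_option linter.style.haveILetI false
universe u
open TensorProduct

namespace Groth.Agent.Lib.Helper95.SDMRCM

section gen
variable {A : Type u} [CommRing A]

theorem SL {S S' N : Type u} [CommRing S] [Algebra A S] [CommRing S'] [Algebra A S']
    [AddCommGroup N] [Module A N] (f : S →ₐ[A] S') (s : S) (w : S ⊗[A] N) :
    LinearMap.rTensor N f.toLinearMap (s • w) = f s • LinearMap.rTensor N f.toLinearMap w := by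
  induction w using TensorProduct.induction_on with
  | zero => simp
  | tmul t n => simp [TensorProduct.smul_tmul', LinearMap.rTensor_tmul]
  | add x y hx hy => simp only [smul_add, map_add, hx, hy]

theorem lT_smul {S M N : Type u} [CommRing S] [Algebra A S] [AddCommGroup M] [Module A M]
    [AddCommGroup N] [Module A N] (φ : M →ₗ[A] N) (s : S) (x : S ⊗[A] M) :
    LinearMap.lTensor S φ (s • x) = s • LinearMap.lTensor S φ x := by
  induction x using TensorProduct.induction_on with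
  | zero => simp
  | tmul t m => simp [TensorProduct.smul_tmul']
  | add x y hx hy => simp only [smul_add, map_add, hx, hy]

theorem comm_lT {S M N : Type u} [AddCommGroup S] [Module A S] [AddCommGroup M] [Module A M]
    [AddCommGroup N] [Module A N] (φ : M →ₗ[A] N) (x : S ⊗[A] M) :
    LinearMap.rTensor S φ (TensorProduct.comm A S M x) =
      TensorProduct.comm A S N (LinearMap.lTensor S φ x) := by
  induction x using TensorProduct.induction_on with
  | zero => simp
  | tmul t m => simp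
  | add x y hx hy => simp only [map_add, hx, hy]

theorem C1 {S S' M N : Type u} [AddCommGroup S] [Module A S] [AddCommGroup S'] [Module A S']
    [AddCommGroup M] [Module A M] [AddCommGroup N] [Module A N]
    (f : S →ₗ[A] S') (φ : M →ₗ[A] N) (w : S ⊗[A] M) :
    LinearMap.rTensor N f (LinearMap.lTensor S φ w) =
      LinearMap.lTensor S' φ (LinearMap.rTensor M f w) := by
  rw [← LinearMap.comp_apply, ← LinearMap.comp_apply, LinearMap.rTensor_comp_lTensor,
    LinearMap.lTensor_comp_rTensor]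

theorem P1 {T₀ B₀ N : Type u} [CommRing T₀] [Algebra A T₀] [CommRing B₀] [Algebra T₀ B₀]
    [Algebra A B₀] [IsScalarTower A T₀ B₀] [AddCommGroup N] [Module A N] (b₀ : T₀)
    [IsLocalization.Away b₀ B₀] (z : B₀ ⊗[A] N) :
    ∃ (n : ℕ) (w : T₀ ⊗[A] N),
      LinearMap.rTensor N (IsScalarTower.toAlgHom A T₀ B₀).toLinearMap w =
        (algebraMap T₀ B₀ b₀) ^ n • z := by
  induction z using TensorProduct.induction_on with
  | zero => exact ⟨0, 0, by simp⟩
  | tmul β n' =>
    obtain ⟨m, t, ht⟩ := IsLocalization.Away.surj b₀ β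
    refine ⟨m, t ⊗ₜ n', ?_⟩
    rw [LinearMap.rTensor_tmul, TensorProduct.smul_tmul', smul_eq_mul, mul_comm, ht]
    rfl
  | add x y hx hy =>
    obtain ⟨n₁, w₁, h₁⟩ := hx
    obtain ⟨n₂, w₂, h₂⟩ := hy
    refine ⟨n₁ + n₂, b₀ ^ n₂ • w₁ + b₀ ^ n₁ • w₂, ?_⟩
    rw [map_add, SL, SL, h₁, h₂, smul_smul, smul_smul, smul_add]
    simp only [map_pow, IsScalarTower.coe_toAlgHom', pow_add]
    rw [mul_comm]

theorem P3 {T Bu N : Type u} [CommRing T] [Algebra A T] [CommRing Bu] [Algebra T Bu]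
    [Algebra A Bu] [IsScalarTower A T Bu] [AddCommGroup N] [Module A N] (b : T)
    [IsLocalization.Away b Bu] (w : T ⊗[A] N)
    (hw : LinearMap.rTensor N (IsScalarTower.toAlgHom A T Bu).toLinearMap w = 0) :
    ∃ m : ℕ, b ^ m • w = 0 := by
  have hbc : IsBaseChange Bu (TensorProduct.mk T Bu (T ⊗[A] N) 1) :=
    TensorProduct.isBaseChange T (T ⊗[A] N) Bu
  haveI : IsLocalizedModule (Submonoid.powers b) (TensorProduct.mk T Bu (T ⊗[A] N) 1) :=
    (isLocalizedModule_iff_isBaseChange (Submonoid.powers b) Bu _).mpr hbc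
  have h1 : (TensorProduct.mk T Bu (T ⊗[A] N) 1) w = 0 := by
    apply (TensorProduct.AlgebraTensorModule.cancelBaseChange A T Bu Bu N).injective
    rw [map_zero, ← hw]
    clear hw
    induction w using TensorProduct.induction_on with
    | zero => simp
    | tmul t n =>
      rw [TensorProduct.mk_apply, TensorProduct.AlgebraTensorModule.cancelBaseChange_tmul,
        LinearMap.rTensor_tmul, Algebra.smul_def, mul_one]
      rfl
    | add x y hx hy => simp only [map_add, hx, hy]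
  obtain ⟨⟨_, m, rfl⟩, hm⟩ := (IsLocalizedModule.eq_zero_iff (Submonoid.powers b) _).mp h1
  exact ⟨m, hm⟩

end gen

section main
variable {K : Type u} [Field K] {A R : Type u} [CommRing A] [Algebra K A] [CommRing R] [Algebra K R]

/-- the inclusion `A ⊗ R₀ → A ⊗ R` as an `A`-algebra map -/
noncomputable abbrev ιA (R₀ : Subalgebra K R) : A ⊗[K] R₀ →ₐ[A] A ⊗[K] R :=
  Algebra.TensorProduct.map (AlgHom.id A A) R₀.val

theorem ι_incl {R₁ R₂ : Subalgebra K R} (h : R₁ ≤ R₂) (t : A ⊗[K] R₁) :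
    ιA (A := A) R₂ (Algebra.TensorProduct.map (AlgHom.id A A) (Subalgebra.inclusion h) t) =
      ιA R₁ t := by
  induction t using TensorProduct.induction_on with
  | zero => simp
  | tmul a r => simp
  | add x y hx hy => simp only [map_add, hx, hy]

theorem exists_fg (x : A ⊗[K] R) : ∃ R₀ : Subalgebra K R, R₀.FG ∧ ∃ x₀, ιA (A := A) R₀ x₀ = x := by
  induction x using TensorProduct.induction_on with
  | zero => exact ⟨⊥, Subalgebra.fg_bot, 0, map_zero _⟩
  | tmul a r =>
    refine ⟨Algebra.adjoin K {r}, Subalgebra.fg_adjoin_finset {r} |> (by simpa using ·),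
      ⟨a ⊗ₜ ⟨r, Algebra.subset_adjoin (Set.mem_singleton r)⟩, by simp⟩⟩
  | add x y hx hy =>
    obtain ⟨R₁, h1, x₁, hx'⟩ := hx
    obtain ⟨R₂, h2, y₂, hy'⟩ := hy
    refine ⟨R₁ ⊔ R₂, h1.sup h2,
      Algebra.TensorProduct.map (AlgHom.id A A) (Subalgebra.inclusion le_sup_left) x₁ +
      Algebra.TensorProduct.map (AlgHom.id A A) (Subalgebra.inclusion le_sup_right) y₂, ?_⟩
    rw [map_add, ι_incl, ι_incl, hx', hy']

theorem mono_mod {M : Type u} [AddCommGroup M] [Module A M] {R₁ R₂ : Subalgebra K R} (h : R₁ ≤ R₂)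
    (w₁ : (A ⊗[K] R₁) ⊗[A] M) : ∃ w₂ : (A ⊗[K] R₂) ⊗[A] M,
      LinearMap.rTensor M (ιA (A := A) R₂).toLinearMap w₂ =
        LinearMap.rTensor M (ιA (A := A) R₁).toLinearMap w₁ := by
  refine ⟨LinearMap.rTensor M (Algebra.TensorProduct.map (AlgHom.id A A)
    (Subalgebra.inclusion h)).toLinearMap w₁, ?_⟩
  induction w₁ using TensorProduct.induction_on with
  | zero => simp
  | tmul t m =>
    rw [LinearMap.rTensor_tmul, LinearMap.rTensor_tmul, LinearMap.rTensor_tmul]
    congr 1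
    exact ι_incl h t
  | add x y hx hy => simp only [map_add, hx, hy]

theorem exists_fg_mod {M : Type u} [AddCommGroup M] [Module A M] (w : (A ⊗[K] R) ⊗[A] M) :
    ∃ R₀ : Subalgebra K R, R₀.FG ∧ ∃ w₀ : (A ⊗[K] R₀) ⊗[A] M,
      LinearMap.rTensor M (ιA (A := A) R₀).toLinearMap w₀ = w := by
  induction w using TensorProduct.induction_on with
  | zero => exact ⟨⊥, Subalgebra.fg_bot, 0, map_zero _⟩
  | tmul t m =>
    obtain ⟨R₀, hfg, t₀, ht₀⟩ := exists_fg (A := A) t
    exact ⟨R₀, hfg, t₀ ⊗ₜ m, by rw [LinearMap.rTensor_tmul]; congr 1⟩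
  | add x y hx hy =>
    obtain ⟨R₁, h1, x₁, hx'⟩ := hx
    obtain ⟨R₂, h2, y₂, hy'⟩ := hy
    obtain ⟨x₁', hx₁'⟩ := mono_mod (A := A) (le_sup_left : R₁ ≤ R₁ ⊔ R₂) x₁
    obtain ⟨y₂', hy₂'⟩ := mono_mod (A := A) (le_sup_right : R₂ ≤ R₁ ⊔ R₂) y₂
    exact ⟨R₁ ⊔ R₂, h1.sup h2, x₁' + y₂', by rw [map_add, hx₁', hy₂', hx', hy']⟩

theorem ι_inj (R₀ : Subalgebra K R) (N : Type u) [AddCommGroup N] [Module A N] :
    Function.Injective (LinearMap.rTensor N (ιA (A := A) R₀).toLinearMap) := by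
  obtain ⟨π, hπ⟩ := LinearMap.exists_leftInverse_of_injective R₀.val.toLinearMap
    (LinearMap.ker_eq_bot.mpr Subtype.val_injective)
  have hρ : (π.baseChange A) ∘ₗ (ιA (A := A) R₀).toLinearMap = LinearMap.id := by
    refine LinearMap.ext fun t => ?_
    induction t using TensorProduct.induction_on with
    | zero => simp
    | tmul a r =>
      have := LinearMap.congr_fun hπ r
      simp only [LinearMap.comp_apply, AlgHom.toLinearMap_apply, Algebra.TensorProduct.map_tmul,
        AlgHom.id_apply, LinearMap.baseChange_tmul, LinearMap.id_apply] at this ⊢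
      rw [this]
    | add x y hx hy => simp only [map_add, hx, hy]
  have : Function.LeftInverse (LinearMap.rTensor N (π.baseChange A))
      (LinearMap.rTensor N (ιA (A := A) R₀).toLinearMap) := by
    intro w
    rw [← LinearMap.comp_apply, ← LinearMap.rTensor_comp, hρ, LinearMap.rTensor_id,
      LinearMap.id_apply]
  exact this.injective

theorem RCM' {Bu : Type u} [CommRing Bu] [Algebra (A ⊗[K] R) Bu] [Algebra A Bu]
    [IsScalarTower A (A ⊗[K] R) Bu] (b : A ⊗[K] R) [IsLocalization.Away b Bu]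
    {M : Type u} [AddCommGroup M] [Module A M] {Λ : Type u} (N : Λ → Type u)
    [∀ i, AddCommGroup (N i)] [∀ i, Module A (N i)] (φ : ∀ i, M →ₗ[A] N i)
    (hSL : ∀ (g : A) (x : M), (∀ i, ∃ m : ℕ, g ^ m • φ i x = 0) → ∃ m : ℕ, g ^ m • x = 0)
    (x : Bu ⊗[A] M) (hx : ∀ i, LinearMap.lTensor Bu (φ i) x = 0) : x = 0 := by
  classical
  obtain ⟨n, w, hw⟩ := P1 (A := A) (T₀ := A ⊗[K] R) (B₀ := Bu) b x
  obtain ⟨R₁, h1, b₁, hb₁⟩ := exists_fg (A := A) b
  obtain ⟨R₂, h2, w₂, hw₂⟩ := exists_fg_mod (A := A) w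
  obtain ⟨R₀, hfg, hR1, hR2⟩ : ∃ R₀ : Subalgebra K R, R₀.FG ∧ R₁ ≤ R₀ ∧ R₂ ≤ R₀ :=
    ⟨R₁ ⊔ R₂, h1.sup h2, le_sup_left, le_sup_right⟩
  obtain ⟨b₀, hb₀⟩ : ∃ b₀, ιA (A := A) R₀ b₀ = b := ⟨_, (ι_incl hR1 b₁).trans hb₁⟩
  obtain ⟨w₀, hw₀⟩ := mono_mod (A := A) hR2 w₂
  rw [hw₂] at hw₀
  haveI : Algebra.FiniteType K R₀ := (Subalgebra.fg_iff_finiteType R₀).mp hfg
  haveI : Algebra.FinitePresentation K R₀ :=
    Algebra.FinitePresentation.of_finiteType.mp inferInstance
  haveI : Algebra.FinitePresentation A (A ⊗[K] R₀) := inferInstance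
  haveI : Module.Flat A (A ⊗[K] R₀) := inferInstance
  haveI : IsScalarTower A (A ⊗[K] R₀) (Localization.Away b₀) := inferInstance
  haveI : Algebra.FinitePresentation (A ⊗[K] R₀) (Localization.Away b₀) :=
    IsLocalization.Away.finitePresentation b₀
  haveI : Algebra.FinitePresentation A (Localization.Away b₀) :=
    Algebra.FinitePresentation.trans A (A ⊗[K] R₀) (Localization.Away b₀)
  haveI : Module.Flat (A ⊗[K] R₀) (Localization.Away b₀) :=
    IsLocalization.flat (Localization.Away b₀) (Submonoid.powers b₀)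
  haveI : Module.Flat A (Localization.Away b₀) :=
    Module.Flat.trans A (A ⊗[K] R₀) (Localization.Away b₀)
  obtain ⟨l, hl, hfree⟩ := Groth.Agent.S2591.result (A := A) (B := Localization.Away b₀)
    (Localization.Away b₀)
  have hub : IsUnit (algebraMap (A ⊗[K] R) Bu b) := IsLocalization.Away.algebraMap_isUnit b
  have hub₀ : IsUnit (algebraMap (A ⊗[K] R₀) (Localization.Away b₀) b₀) :=
    IsLocalization.Away.algebraMap_isUnit b₀
  have key : LinearMap.rTensor M
      (IsScalarTower.toAlgHom A (A ⊗[K] R₀) (Localization.Away b₀)).toLinearMap w₀ = 0 := by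
    apply (TensorProduct.comm A (Localization.Away b₀) M).injective
    rw [map_zero]
    refine Groth.Agent.S4875.sep_aux (A := A) (Localization.Away b₀) l hl hfree Λ l.length 0
      (by simp) M N φ
      (by
        intro a ha p
        have : a = 0 := by simpa using ha
        rw [this, zero_smul])
      (by
        intro j a ha p
        have : a = 0 := by simpa using ha
        rw [this, zero_smul])
      hSL _ ?_
    intro i
    change LinearMap.rTensor (Localization.Away b₀) (φ i)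
      (TensorProduct.comm A (Localization.Away b₀) M _) = 0
    rw [comm_lT, ← C1]
    -- v₀ := lTensor T₀ (φ i) w₀
    have hv : LinearMap.rTensor (N i) (IsScalarTower.toAlgHom A (A ⊗[K] R) Bu).toLinearMap
        (LinearMap.lTensor (A ⊗[K] R) (φ i) w) = 0 := by
      rw [C1, hw, lT_smul, hx i, smul_zero]
    obtain ⟨m, hm⟩ := P3 (A := A) (T := A ⊗[K] R) (Bu := Bu) b _ hv
    have hm₀ : b₀ ^ m • LinearMap.lTensor (A ⊗[K] R₀) (φ i) w₀ = 0 := by
      apply ι_inj (A := A) R₀ (N i)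
      rw [map_zero, SL, C1, hw₀, map_pow, hb₀]
      exact hm
    have h2 := SL (A := A) (IsScalarTower.toAlgHom A (A ⊗[K] R₀) (Localization.Away b₀))
      (b₀ ^ m) (LinearMap.lTensor (A ⊗[K] R₀) (φ i) w₀)
    rw [hm₀, map_zero] at h2
    have hu : IsUnit ((IsScalarTower.toAlgHom A (A ⊗[K] R₀) (Localization.Away b₀)) (b₀ ^ m)) := by
      rw [map_pow]
      exact hub₀.pow m
    rw [hu.smul_eq_zero.mp h2.symm, map_zero]
  obtain ⟨m, hm⟩ := P3 (A := A) (T := A ⊗[K] R₀) (Bu := Localization.Away b₀) b₀ w₀ key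
  have h4 : b ^ m • w = 0 := by
    rw [← hw₀, ← hb₀, ← map_pow, ← SL, hm, map_zero]
  have h5 := SL (A := A) (IsScalarTower.toAlgHom A (A ⊗[K] R) Bu) (b ^ m) w
  rw [h4, map_zero, hw, smul_smul] at h5
  have hu : IsUnit ((IsScalarTower.toAlgHom A (A ⊗[K] R) Bu) (b ^ m) * algebraMap (A ⊗[K] R) Bu b ^ n) := by
    rw [map_pow]
    exact (hub.pow m).mul (hub.pow n)
  exact hu.smul_eq_zero.mp h5.symm

end main

theorem RCM {K : Type u} [Field K] {A R : Type u} [CommRing A] [Algebra K A] [CommRing R] [Algebra K R] {Bp Bu : Type u} [CommRing Bp] [CommRing Bu] [Algebra Bp Bu] [Algebra A Bu] (θ : A ⊗[K] R ≃+* Bp) (b' : Bp) [IsLocalization.Away b' Bu] (hA : ∀ a : A, algebraMap A Bu a = algebraMap Bp Bu (θ (a ⊗ₜ[K] (1 : R)))) {M : Type u} [AddCommGroup M] [Module A M] {Λ : Type u} (N : Λ → Type u) [∀ i, AddCommGroup (N i)] [∀ i, Module A (N i)] (φ : ∀ i, M →ₗ[A] N i) (hSL : ∀ (g : A) (x : M), (∀ i, ∃ m : ℕ, g ^ m • φ i x = 0) → ∃ m : ℕ, g ^ m • x = 0) (x : Bu ⊗[A]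 M) (hx : ∀ i, LinearMap.lTensor Bu (φ i) x = 0) : x = 0 := by
  letI : Algebra (A ⊗[K] R) Bu := ((algebraMap Bp Bu).comp θ.toRingHom).toAlgebra
  haveI : IsScalarTower A (A ⊗[K] R) Bu := IsScalarTower.of_algebraMap_eq (fun a => by
    rw [hA]; rfl)
  haveI : IsLocalization.Away (θ.symm b') Bu := by
    have h := IsLocalization.isLocalization_of_base_ringEquiv (Submonoid.powers b') Bu θ.symm
    have e : (Submonoid.powers b').map (θ.symm : Bp →* A ⊗[K] R) = Submonoid.powers (θ.symm b') := by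
      rw [Submonoid.map_powers]; rfl
    change IsLocalization (Submonoid.powers (θ.symm b')) Bu
    rw [← e]
    exact h
  exact RCM' (θ.symm b') N φ hSL x hx

end Groth.Agent.Lib.Helper95.SDMRCM
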