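import Groth.Agent.Lib.Helper95.KW

set_option autoImplicit false
open MvPolynomial Finset LambdaRing

namespace Groth.Agent.Lib.Helper95.ScalarLK

open Groth.Agent.Lib.Helper95.UnivRing Groth.Agent.Lib.Helper95.MinDegR
  Groth.Agent.Lib.Helper95.UnivGamma Groth.Agent.Lib.Helper95.Rep
  Groth.Agent.Lib.Helper95.UnivPoly Groth.Agent.Lib.Helper95.Transfer
  Groth.Agent.Lib.Helper95.KW Groth.Agent.Lib.Helper26.LambdaGamma

section Series

variable {A : Type*} [CommRing A]

noncomputable def tailSeries (b : ℕ → A) : PowerSeries A :=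
  PowerSeries.mk fun i => if i = 0 then 0 else b (i - 1)

noncomputable def cB (b : ℕ → A) (k j : ℕ) : A := PowerSeries.coeff j (tailSeries b ^ k)

lemma constantCoeff_tailSeries (b : ℕ → A) : PowerSeries.constantCoeff (tailSeries b) = 0 := by
  rw [← PowerSeries.coeff_zero_eq_constantCoeff_apply, tailSeries, PowerSeries.coeff_mk, if_pos rfl]

lemma cB_eq_zero_of_lt (b : ℕ → A) {k j : ℕ} (h : j < k) : cB b k j = 0 := by
  have hX : (PowerSeries.X : PowerSeries A) ∣ tailSeries b := by
    rw [PowerSeries.X_dvd_iff]; exact constantCoeff_tailSeries b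
  have := pow_dvd_pow_of_dvd hX k
  rw [PowerSeries.X_pow_dvd_iff] at this
  exact this j h

lemma cB_zero (b : ℕ → A) (j : ℕ) : cB b 0 j = if j = 0 then 1 else 0 := by
  rw [cB, pow_zero, PowerSeries.coeff_one]

lemma cB_one (b : ℕ → A) (j : ℕ) : cB b 1 j = if j = 0 then 0 else b (j - 1) := by
  rw [cB, pow_one, tailSeries, PowerSeries.coeff_mk]

lemma cB_succ (b : ℕ → A) (k j : ℕ) :
    cB b (k + 1) j = ∑ p ∈ antidiagonal j, cB b k p.1 * cB b 1 p.2 := by
  rw [cB, pow_succ, PowerSeries.coeff_mul]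
  simp only [cB, pow_one]

lemma map_tailSeries {B : Type*} [CommRing B] (f : A →+* B) (b : ℕ → A) :
    PowerSeries.map f (tailSeries b) = tailSeries (fun q => f (b q)) := by
  ext i
  rw [PowerSeries.coeff_map, tailSeries, tailSeries, PowerSeries.coeff_mk, PowerSeries.coeff_mk]
  split_ifs <;> simp

lemma map_cB {B : Type*} [CommRing B] (f : A →+* B) (b : ℕ → A) (k j : ℕ) :
    f (cB b k j) = cB (fun q => f (b q)) k j := by
  rw [cB, cB, ← map_tailSeries, ← map_pow, PowerSeries.coeff_map]

end Series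

section Nat

variable {A : Type*} [CommRing A] [LambdaOps A]

noncomputable def gS (z : A) : PowerSeries A := PowerSeries.mk fun i => gamma i z

lemma gS_add (x y : A) : gS (x + y) = gS x * gS y := by
  ext k
  rw [PowerSeries.coeff_mul, gS, PowerSeries.coeff_mk, gamma_add]
  refine Finset.sum_congr rfl fun p _ => ?_
  rw [gS, gS, PowerSeries.coeff_mk, PowerSeries.coeff_mk]

lemma gS_zero : gS (0 : A) = 1 := by
  ext k
  rw [gS, PowerSeries.coeff_mk, gamma_zero_right, PowerSeries.coeff_one]

lemma gS_natCast_mul (N : ℕ) (z : A) : gS ((N : A) * z) = gS z ^ N := by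
  induction N with
  | zero => simp [gS_zero]
  | succ N ih =>
    rw [Nat.cast_succ, add_mul, one_mul, gS_add, ih, pow_succ]

lemma gS_eq (z : A) : gS z = tailSeries (fun q => gamma (q + 1) z) + 1 := by
  ext i
  rw [map_add, gS, tailSeries, PowerSeries.coeff_mk, PowerSeries.coeff_mk, PowerSeries.coeff_one]
  rcases i with _ | i
  · simp [gamma_zero_left]
  · simp

theorem gamma_natCast_mul (N : ℕ) (z : A) (j : ℕ) :
    gamma j ((N : A) * z) =
      ∑ k ∈ range (j + 1), (N.choose k : A) * cB (fun q => gamma (q + 1) z) k j := by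
  have h1 : gamma j ((N : A) * z) = PowerSeries.coeff j (gS ((N : A) * z)) := by
    rw [gS, PowerSeries.coeff_mk]
  rw [h1, gS_natCast_mul, gS_eq, add_pow, map_sum]
  have h2 : ∀ k, PowerSeries.coeff j (tailSeries (fun q => gamma (q + 1) z) ^ k * 1 ^ (N - k) *
      ((N.choose k : ℕ) : PowerSeries A)) =
      (N.choose k : A) * cB (fun q => gamma (q + 1) z) k j := by
    intro k
    rw [one_pow, mul_one, mul_comm, cB]
    rw [show ((N.choose k : ℕ) : PowerSeries A) = PowerSeries.C (N.choose k : A) by simp,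
      PowerSeries.coeff_C_mul]
  rw [Finset.sum_congr rfl fun k _ => h2 k]
  have hbig : ∀ M, N + 1 ≤ M → j + 1 ≤ M →
      ∑ k ∈ range (N + 1), (N.choose k : A) * cB (fun q => gamma (q + 1) z) k j =
      ∑ k ∈ range (j + 1), (N.choose k : A) * cB (fun q => gamma (q + 1) z) k j := by
    intro M hN hj
    rw [Finset.sum_subset (Finset.range_mono hN), Finset.sum_subset (Finset.range_mono hj)]
    · intro k _ hk
      rw [Finset.mem_range] at hk
      rw [cB_eq_zero_of_lt _ (by omega), mul_zero]
    · intro k _ hk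
      rw [Finset.mem_range] at hk
      rw [Nat.choose_eq_zero_of_lt (by omega), Nat.cast_zero, zero_mul]
  exact hbig (N + 1 + (j + 1)) (by omega) (by omega)

end Nat

end Groth.Agent.Lib.Helper95.ScalarLK
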