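import Mathlib

set_option autoImplicit false

namespace Groth.Agent.Lib.Helper95.Seidenberg

open scoped nonZeroDivisors
open Finset

section Loc

variable {k A K : Type*} [CommRing k] [CommRing A] [CommRing K] [Algebra k A] [Algebra A K]
  [Algebra k K] [IsScalarTower k A K]

theorem exists_derivation_localization (M : Submonoid A) [IsLocalization M K]
    (D : Derivation k A A) :
    ∃ DK : Derivation k K K, ∀ a, DK (algebraMap A K a) = algebraMap A K (D a) := by
  let f : Ω[A⁄k] →ₗ[A] K := (Algebra.linearMap A K) ∘ₗ D.liftKaehlerDifferential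
  have hu : ∀ x : M, IsUnit (algebraMap A (Module.End A K) x) :=
    fun x => IsLocalizedModule.map_units (Algebra.linearMap A K) x
  let g : Ω[K⁄k] →ₗ[A] K := IsLocalizedModule.lift M (KaehlerDifferential.map k k A K) f hu
  let gK : Ω[K⁄k] →ₗ[K] K := LinearMap.extendScalarsOfIsLocalization M K g
  refine ⟨gK.compDer (KaehlerDifferential.D k K), fun a => ?_⟩
  have h1 : gK (KaehlerDifferential.D k K (algebraMap A K a)) =
      g (KaehlerDifferential.D k K (algebraMap A K a)) := rfl
  change gK (KaehlerDifferential.D k K (algebraMap A K a)) = _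
  rw [h1, ← KaehlerDifferential.map_D k k A K, IsLocalizedModule.lift_apply]
  simp [f]

end Loc

section Exp

variable {k K : Type*} [Field k] [CharZero k] [CommRing K] [Algebra k K] (D : Derivation k K K)

noncomputable def E (n : ℕ) (x : K) : K := ((n.factorial : k)⁻¹) • ((⇑D)^[n] x)

omit [CharZero k] in
lemma E_zero (x : K) : E D 0 x = x := by simp [E]

omit [CharZero k] in
lemma E_one (x : K) : E D 1 x = D x := by simp [E]

lemma E_succ (n : ℕ) (x : K) : ((n + 1 : ℕ) : k) • E D (n + 1) x = D (E D n x) := by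
  rw [E, E, D.map_smul, smul_smul, Function.iterate_succ_apply']
  congr 1
  rw [Nat.factorial_succ]
  have h1 : ((n + 1 : ℕ) : k) ≠ 0 := by exact_mod_cast Nat.succ_ne_zero n
  have h2 : (n.factorial : k) ≠ 0 := by exact_mod_cast Nat.factorial_ne_zero n
  push_cast
  field_simp

omit [CharZero k] in
lemma E_add (n : ℕ) (x y : K) : E D n (x + y) = E D n x + E D n y := by
  have : ∀ n : ℕ, (⇑D)^[n] (x + y) = (⇑D)^[n] x + (⇑D)^[n] y := by
    intro n
    induction n with
    | zero => rfl
    | succ n ih => rw [Function.iterate_succ_apply', Function.iterate_succ_apply',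
        Function.iterate_succ_apply', ih, map_add]
  rw [E, E, E, this, smul_add]

omit [CharZero k] in
lemma iterate_zero (m : ℕ) : (⇑D)^[m] (0 : K) = 0 := by
  induction m with
  | zero => rfl
  | succ m ih => rw [Function.iterate_succ_apply', ih, map_zero]

omit [CharZero k] in
lemma iterate_one (n : ℕ) (hn : n ≠ 0) : (⇑D)^[n] (1 : K) = 0 := by
  obtain ⟨m, rfl⟩ := Nat.exists_eq_succ_of_ne_zero hn
  rw [Function.iterate_succ_apply, Derivation.map_one_eq_zero, iterate_zero]

lemma E_mul (n : ℕ) (x y : K) :
    E D n (x * y) = ∑ p ∈ antidiagonal n, E D p.1 x * E D p.2 y := by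
  induction n with
  | zero => simp [E_zero]
  | succ n ih =>
    have h1 : ((n + 1 : ℕ) : k) ≠ 0 := by exact_mod_cast Nat.succ_ne_zero n
    have key : ((n + 1 : ℕ) : k) • E D (n + 1) (x * y) =
        ((n + 1 : ℕ) : k) • ∑ p ∈ antidiagonal (n + 1), E D p.1 x * E D p.2 y := by
      rw [E_succ, ih, map_sum]
      have h2 : ∀ p ∈ antidiagonal n, D (E D p.1 x * E D p.2 y) =
          ((p.1 + 1 : ℕ) : k) • (E D (p.1 + 1) x * E D p.2 y) +
          ((p.2 + 1 : ℕ) : k) • (E D p.1 x * E D (p.2 + 1) y) := by
        intro p _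
        rw [Derivation.leibniz, ← E_succ, ← E_succ, smul_eq_mul, smul_eq_mul]
        simp only [Algebra.smul_def]
        ring
      rw [Finset.sum_congr rfl h2, Finset.sum_add_distrib]
      have h3 : ∑ p ∈ antidiagonal n, ((p.1 + 1 : ℕ) : k) • (E D (p.1 + 1) x * E D p.2 y) =
          ∑ p ∈ antidiagonal (n + 1), ((p.1 : ℕ) : k) • (E D p.1 x * E D p.2 y) := by
        rw [Finset.Nat.sum_antidiagonal_succ (f := fun p => ((p.1 : ℕ) : k) • (E D p.1 x * E D p.2 y))]
        simp
      have h4 : ∑ p ∈ antidiagonal n, ((p.2 + 1 : ℕ) : k) • (E D p.1 x * E D (p.2 + 1) y) =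
          ∑ p ∈ antidiagonal (n + 1), ((p.2 : ℕ) : k) • (E D p.1 x * E D p.2 y) := by
        rw [Finset.Nat.sum_antidiagonal_succ' (f := fun p => ((p.2 : ℕ) : k) • (E D p.1 x * E D p.2 y))]
        simp
      rw [h3, h4, ← Finset.sum_add_distrib, Finset.smul_sum]
      refine Finset.sum_congr rfl fun p hp => ?_
      rw [← add_smul]
      congr 1
      have hp' := Finset.HasAntidiagonal.mem_antidiagonal.mp hp
      rw [← hp']; push_cast; ring
    have := congrArg (fun z => (((n + 1 : ℕ) : k)⁻¹) • z) key
    simp only [smul_smul, inv_mul_cancel₀ h1, one_smul] at this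
    exact this

noncomputable def expHom : K →+* PowerSeries K where
  toFun x := PowerSeries.mk (fun n => E D n x)
  map_one' := by
    ext n
    rw [PowerSeries.coeff_mk, PowerSeries.coeff_one]
    split_ifs with h
    · subst h; exact E_zero D 1
    · rw [E, iterate_one D n h, smul_zero]
  map_mul' x y := by
    ext n
    rw [PowerSeries.coeff_mk, PowerSeries.coeff_mul, E_mul]
    refine Finset.sum_congr rfl fun p _ => ?_
    rw [PowerSeries.coeff_mk, PowerSeries.coeff_mk]
  map_zero' := by
    ext n
    rw [PowerSeries.coeff_mk, map_zero, E]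
    rw [iterate_zero, smul_zero]
  map_add' x y := by
    ext n
    rw [PowerSeries.coeff_mk, map_add, PowerSeries.coeff_mk, PowerSeries.coeff_mk, E_add]

lemma coeff_expHom (n : ℕ) (x : K) : PowerSeries.coeff n (expHom D x) = E D n x := by
  change PowerSeries.coeff n (PowerSeries.mk (fun n => E D n x)) = _
  rw [PowerSeries.coeff_mk]

end Exp

section Almost

variable {k A K : Type*} [Field k] [CharZero k] [CommRing A] [CommRing K] [Algebra k A]
  [Algebra A K] [Algebra k K] [IsScalarTower k A K]
  (D : Derivation k A A) (DK : Derivation k K K)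
  (hD : ∀ a, DK (algebraMap A K a) = algebraMap A K (D a))

omit [Field k] [CharZero k] [Algebra k A] [Algebra k K] [IsScalarTower k A K] in
lemma mem_range_iff (Z : PowerSeries K) :
    Z ∈ (PowerSeries.map (algebraMap A K)).range ↔
      ∀ n, PowerSeries.coeff n Z ∈ (algebraMap A K).range := by
  constructor
  · rintro ⟨W, rfl⟩ n
    rw [PowerSeries.coeff_map]
    exact ⟨_, rfl⟩
  · intro h
    choose f hf using h
    refine ⟨PowerSeries.mk f, ?_⟩
    ext n
    rw [PowerSeries.coeff_map, PowerSeries.coeff_mk, hf n]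

include hD in
omit [CharZero k] [IsScalarTower k A K] in
lemma iterate_algebraMap (n : ℕ) (a : A) :
    (⇑DK)^[n] (algebraMap A K a) = algebraMap A K ((⇑D)^[n] a) := by
  induction n with
  | zero => rfl
  | succ n ih => rw [Function.iterate_succ_apply', Function.iterate_succ_apply', ih, hD]

include hD in
lemma expHom_algebraMap_mem (a : A) :
    expHom DK (algebraMap A K a) ∈ (PowerSeries.map (algebraMap A K)).range := by
  rw [mem_range_iff]
  intro n
  rw [coeff_expHom, E, iterate_algebraMap D DK hD]
  refine ⟨((n.factorial : k)⁻¹) • ((⇑D)^[n] a), ?_⟩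
  rw [Algebra.smul_def, Algebra.smul_def, map_mul, ← IsScalarTower.algebraMap_apply]

include hD in
theorem almost (x : K) (c : A)
    (hc : ∀ n : ℕ, ∃ a : A, algebraMap A K c * x ^ n = algebraMap A K a) (n : ℕ) :
    ∃ a : A, algebraMap A K (c * c) * (DK x) ^ n = algebraMap A K a := by
  have h1 : ∀ n : ℕ, expHom DK (algebraMap A K c) * (expHom DK x) ^ n ∈
      (PowerSeries.map (algebraMap A K)).range := by
    intro n
    obtain ⟨a, ha⟩ := hc n
    rw [← map_pow, ← map_mul, ha]
    exact expHom_algebraMap_mem D DK hD a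
  have h2 : ∀ n : ℕ, PowerSeries.C (algebraMap A K c) * (PowerSeries.C x) ^ n ∈
      (PowerSeries.map (algebraMap A K)).range := by
    intro n
    obtain ⟨a, ha⟩ := hc n
    rw [← map_pow, ← map_mul, ha]
    exact ⟨PowerSeries.C a, PowerSeries.map_C _ _⟩
  have h3 : ∀ n : ℕ, (expHom DK (algebraMap A K c) * PowerSeries.C (algebraMap A K c)) *
      (expHom DK x - PowerSeries.C x) ^ n ∈ (PowerSeries.map (algebraMap A K)).range := by
    intro n
    rw [sub_eq_add_neg, add_pow, Finset.mul_sum]
    refine Subring.sum_mem _ fun m _ => ?_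
    have h : expHom DK (algebraMap A K c) * PowerSeries.C (algebraMap A K c) *
        ((expHom DK x) ^ m * (-PowerSeries.C x) ^ (n - m) * (n.choose m : PowerSeries K)) =
        (expHom DK (algebraMap A K c) * (expHom DK x) ^ m) *
        (PowerSeries.C (algebraMap A K c) * (PowerSeries.C x) ^ (n - m)) *
        ((-1) ^ (n - m) * (n.choose m : PowerSeries K)) := by
      rw [neg_pow (PowerSeries.C x)]; ring
    rw [h]
    exact Subring.mul_mem _ (Subring.mul_mem _ (h1 m) (h2 (n - m)))
      (Subring.mul_mem _ (Subring.pow_mem _ (Subring.neg_mem _ (Subring.one_mem _)) _)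
        (natCast_mem _ _))
  have h4 : expHom DK x - PowerSeries.C x =
      PowerSeries.X * PowerSeries.mk (fun p => PowerSeries.coeff (p + 1) (expHom DK x)) := by
    have h := PowerSeries.eq_X_mul_shift_add_const (expHom DK x)
    have h0 : PowerSeries.constantCoeff (expHom DK x) = x := by
      rw [← PowerSeries.coeff_zero_eq_constantCoeff_apply, coeff_expHom, E_zero]
    rw [h0] at h
    rw [sub_eq_iff_eq_add]
    exact h
  have h5 : (expHom DK (algebraMap A K c) * PowerSeries.C (algebraMap A K c)) *
      (PowerSeries.mk (fun p => PowerSeries.coeff (p + 1) (expHom DK x))) ^ n ∈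
      (PowerSeries.map (algebraMap A K)).range := by
    have h := h3 n
    rw [h4, mul_pow] at h
    rw [mem_range_iff] at h ⊢
    intro m
    have h' := h (m + n)
    have e : expHom DK (algebraMap A K c) * PowerSeries.C (algebraMap A K c) *
        (PowerSeries.X ^ n * (PowerSeries.mk
          (fun p => PowerSeries.coeff (p + 1) (expHom DK x))) ^ n) =
        PowerSeries.X ^ n * (expHom DK (algebraMap A K c) * PowerSeries.C (algebraMap A K c) *
        (PowerSeries.mk (fun p => PowerSeries.coeff (p + 1) (expHom DK x))) ^ n) := by ring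
    rw [e, PowerSeries.coeff_X_pow_mul] at h'
    exact h'
  obtain ⟨a, ha⟩ := (mem_range_iff _).mp h5 0
  refine ⟨a, ?_⟩
  have e1 : PowerSeries.constantCoeff (expHom DK (algebraMap A K c)) = algebraMap A K c := by
    rw [← PowerSeries.coeff_zero_eq_constantCoeff_apply, coeff_expHom, E_zero]
  have e2 : PowerSeries.constantCoeff
      (PowerSeries.mk (fun p => PowerSeries.coeff (p + 1) (expHom DK x))) = DK x := by
    rw [← PowerSeries.coeff_zero_eq_constantCoeff_apply, PowerSeries.coeff_mk, coeff_expHom, E_one]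
  rw [ha, PowerSeries.coeff_zero_eq_constantCoeff_apply]
  simp only [map_mul, map_pow, e1, e2, PowerSeries.constantCoeff_C]

end Almost

end Groth.Agent.Lib.Helper95.Seidenberg
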