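import Mathlib
import Groth.Agent.Lib.Helper86.TSFree

set_option autoImplicit false
open scoped TensorProduct
universe u

namespace Groth.Agent.Lib.Helper95.SymTrace

open Groth.Agent.Lib.Helper86.TSFree

variable {R : Type u} [CommRing R] {P : Type u} [AddCommGroup P] [Module R P]

section Gam

variable (n : ℕ) (u : P →ₗ[R] P)

lemma map_mem_TSsub (z : ⨂[R] _ : Fin n, P) (hz : z ∈ TSsub R P n) :
    PiTensorProduct.map (fun _ : Fin n => u) z ∈ TSsub R P n := by
  rw [mem_TSsub_iff] at hz ⊢
  intro σ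
  have := PiTensorProduct.map_reindex (R := R) (s := fun _ : Fin n => P)
    (t := fun _ : Fin n => P) (fun _ : Fin n => u) σ z
  rw [← this, hz σ]

noncomputable def gam : TSsub R P n →ₗ[R] TSsub R P n :=
  (PiTensorProduct.map (fun _ : Fin n => u)).restrict (map_mem_TSsub n u)

lemma gam_val (z : TSsub R P n) :
    ((gam n u z : TSsub R P n) : ⨂[R] _ : Fin n, P) =
      PiTensorProduct.map (fun _ : Fin n => u) (z : ⨂[R] _ : Fin n, P) := rfl

end Gam

section Trace

variable {κ : Type u} [Fintype κ] [DecidableEq κ] (b : Module.Basis κ R P)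

noncomputable instance (n : ℕ) : Fintype (Quotient (orb (κ := κ) n)) := Fintype.ofFinite _

open Classical in
noncomputable def Tn (n : ℕ) (U : Matrix κ κ R) : R :=
  ∑ o : Quotient (orb (κ := κ) n), ∑ p : Fin n → κ,
    (if (Quotient.mk _ p : Quotient (orb (κ := κ) n)) = o then ∏ k, U (o.out k) (p k) else 0)

noncomputable def eOrb (n : ℕ) : (Quotient (orb (κ := κ) n) → R) ≃ₗ[R] TSsub R P n :=
  LinearEquiv.ofBijective (ofOrb b) (ofOrb_bijective b)

lemma eOrb_val (n : ℕ) (g : Quotient (orb (κ := κ) n) → R) :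
    ((eOrb b n g : TSsub R P n) : ⨂[R] _ : Fin n, P) =
      ∑ p : Fin n → κ, g (Quotient.mk _ p) • (bb (n := n) b) p := by
  show (bb (n := n) b).equivFun.symm (fun p => g (Quotient.mk _ p)) = _
  rw [Module.Basis.equivFun_symm_apply]

lemma repr_eOrb (n : ℕ) (g : Quotient (orb (κ := κ) n) → R) (p : Fin n → κ) :
    (bb (n := n) b).repr ((eOrb b n g : TSsub R P n) : ⨂[R] _ : Fin n, P) p =
      g (Quotient.mk _ p) := by
  have h1 : ((eOrb b n g : TSsub R P n) : ⨂[R] _ : Fin n, P) =
      (bb (n := n) b).equivFun.symm (fun p => g (Quotient.mk _ p)) := rfl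
  rw [h1]
  have := (bb (n := n) b).equivFun.apply_symm_apply (fun p => g (Quotient.mk _ p))
  exact congrFun this p

lemma eOrb_symm_apply (n : ℕ) (z : TSsub R P n) (o : Quotient (orb (κ := κ) n)) :
    (eOrb b n).symm z o = (bb (n := n) b).repr (z : ⨂[R] _ : Fin n, P) o.out := by
  obtain ⟨g, rfl⟩ := (eOrb b n).surjective z
  rw [LinearEquiv.symm_apply_apply, repr_eOrb, Quotient.out_eq]

lemma repr_map_bb (n : ℕ) (u : P →ₗ[R] P) (p q : Fin n → κ) :
    (bb (n := n) b).repr (PiTensorProduct.map (fun _ : Fin n => u) ((bb (n := n) b) p)) q =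
      ∏ k, LinearMap.toMatrix b b u (q k) (p k) := by
  rw [Basis.piTensorProduct_apply, PiTensorProduct.map_tprod,
    Basis.piTensorProduct_repr_tprod_apply]
  refine Finset.prod_congr rfl fun k _ => ?_
  rw [LinearMap.toMatrix_apply]

theorem trace_gam (n : ℕ) (u : P →ₗ[R] P) :
    LinearMap.trace R _ (gam n u) = Tn n (LinearMap.toMatrix b b u) := by
  classical
  let B : Module.Basis (Quotient (orb (κ := κ) n)) R (TSsub R P n) :=
    (Pi.basisFun R _).map (eOrb b n)
  rw [LinearMap.trace_eq_matrix_trace R B, Matrix.trace]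
  unfold Tn
  refine Finset.sum_congr rfl fun o _ => ?_
  rw [Matrix.diag_apply, LinearMap.toMatrix_apply]
  have h1 : B o = eOrb b n (Pi.single o 1) := by
    simp [B]
  have h2 : ∀ z, B.repr z o = (eOrb b n).symm z o := by
    intro z
    simp [B]
  rw [h2, eOrb_symm_apply, h1, gam_val, eOrb_val, map_sum, map_sum, Finsupp.coe_finsetSum,
    Finset.sum_apply]
  refine Finset.sum_congr rfl fun p _ => ?_
  rw [map_smul, map_smul, Finsupp.smul_apply, repr_map_bb, smul_eq_mul, Pi.single_apply]
  split_ifs <;> simp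

end Trace

end Groth.Agent.Lib.Helper95.SymTrace
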