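import Mathlib
import Groth.Agent.Lib.Helper86.TSFree

set_option autoImplicit false
universe u

namespace Groth.Agent.Lib.Helper95.SymTrace

open Groth.Agent.Lib.Helper86.TSFree

section Content

variable {κ : Type u} [Fintype κ] [DecidableEq κ] {n : ℕ}

def content (p : Fin n → κ) : κ → ℕ := fun i => Fintype.card {k : Fin n // p k = i}

lemma content_comp (p : Fin n → κ) (σ : Equiv.Perm (Fin n)) : content (p ∘ σ) = content p := by
  funext i
  unfold content
  apply Fintype.card_congr
  exact Equiv.subtypeEquiv σ (fun k => by simp)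

lemma sum_content (p : Fin n → κ) : ∑ i, content p i = n := by
  unfold content
  rw [← Fintype.card_sigma]
  rw [Fintype.card_congr (Equiv.sigmaFiberEquiv p), Fintype.card_fin]

lemma exists_perm_of_content_eq (p q : Fin n → κ) (h : content p = content q) :
    ∃ σ : Equiv.Perm (Fin n), q = p ∘ σ := by
  have he : ∀ i, Nonempty ({k : Fin n // q k = i} ≃ {k : Fin n // p k = i}) := by
    intro i
    exact ⟨Fintype.equivOfCardEq (congrFun h i).symm⟩
  choose e _ using fun i => (⟨(he i).some, trivial⟩ : ∃ _ : {k : Fin n // q k = i} ≃ {k : Fin n // p k = i}, True)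
  let σ : Equiv.Perm (Fin n) :=
    (Equiv.sigmaFiberEquiv q).symm.trans ((Equiv.sigmaCongrRight e).trans (Equiv.sigmaFiberEquiv p))
  refine ⟨σ, ?_⟩
  funext k
  have h1 : σ k = ((e (q k)) ⟨k, rfl⟩ : {k' : Fin n // p k' = q k}).1 := rfl
  rw [Function.comp_apply, h1]
  exact (((e (q k)) ⟨k, rfl⟩ : {k' : Fin n // p k' = q k}).2).symm

lemma exists_of_sum_eq (α : κ → ℕ) (h : ∑ i, α i = n) : ∃ p : Fin n → κ, content p = α := by
  have hc : Fintype.card (Fin n) = Fintype.card (Σ i, Fin (α i)) := by
    rw [Fintype.card_sigma, Fintype.card_fin]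
    simp [h]
  let E : Fin n ≃ Σ i, Fin (α i) := Fintype.equivOfCardEq hc
  refine ⟨fun k => (E k).1, ?_⟩
  funext i
  unfold content
  have e2 : {k : Fin n // (E k).1 = i} ≃ Fin (α i) :=
    { toFun := fun k => Fin.cast (by rw [k.2]) (E k.1).2
      invFun := fun x => ⟨E.symm ⟨i, x⟩, by simp⟩
      left_inv := by
        rintro ⟨k, hk⟩
        apply Subtype.ext
        simp only
        rw [Equiv.symm_apply_eq]
        ext
        · exact hk.symm
        · subst hk
          simp
      right_inv := by
        intro x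
        apply Fin.ext
        rw [Fin.coe_cast, Equiv.apply_symm_apply] }
  rw [Fintype.card_congr e2, Fintype.card_fin]

lemma prod_eq_prod_pow {A : Type*} [CommMonoid A] (lam : κ → A) (p : Fin n → κ) :
    ∏ k, lam (p k) = ∏ i, lam i ^ content p i := by
  rw [← Finset.prod_fiberwise Finset.univ p (fun k => lam (p k))]
  refine Finset.prod_congr rfl fun i _ => ?_
  rw [Finset.prod_congr rfl (fun k hk => by rw [(Finset.mem_filter.mp hk).2] :
    ∀ k ∈ Finset.univ.filter (fun k => p k = i), lam (p k) = lam i)]
  rw [Finset.prod_const]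
  congr 1
  unfold content
  rw [Fintype.card_subtype]

lemma content_out_mk (p : Fin n → κ) :
    content (Quotient.mk (orb (κ := κ) n) p).out = content p := by
  have h := Quotient.exact (Quotient.out_eq (Quotient.mk (orb (κ := κ) n) p))
  obtain ⟨σ, hσ⟩ := h
  conv_rhs => rw [hσ, content_comp]

noncomputable instance instFintypeOrb : Fintype (Quotient (orb (κ := κ) n)) := Fintype.ofFinite _

theorem sum_orbits {A : Type*} [AddCommMonoid A] (F : (κ → ℕ) → A) :
    ∑ o : Quotient (orb (κ := κ) n), F (content o.out) =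
      ∑ α ∈ Finset.finsuppAntidiag (Finset.univ : Finset κ) n, F (⇑α) := by
  refine Finset.sum_bij (fun o _ => Finsupp.equivFunOnFinite.symm (content o.out)) ?_ ?_ ?_ ?_
  · intro o _
    rw [Finset.mem_finsuppAntidiag]
    refine ⟨?_, Finset.subset_univ _⟩
    simp only [Finsupp.equivFunOnFinite_symm_apply_apply]
    exact sum_content _
  · intro o _ o' _ h
    have h1 : content o.out = content o'.out := Finsupp.equivFunOnFinite.symm.injective h
    obtain ⟨σ, hσ⟩ := exists_perm_of_content_eq _ _ h1
    rw [← Quotient.out_eq o, ← Quotient.out_eq o']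
    exact Quotient.sound ⟨σ, hσ⟩
  · intro α hα
    rw [Finset.mem_finsuppAntidiag] at hα
    obtain ⟨p, hp⟩ := exists_of_sum_eq (⇑α) hα.1
    refine ⟨Quotient.mk _ p, Finset.mem_univ _, ?_⟩
    ext i
    rw [Finsupp.equivFunOnFinite_symm_apply_apply, content_out_mk, hp]
  · intro o _
    simp

end Content

end Groth.Agent.Lib.Helper95.SymTrace
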