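import Mathlib
import Groth.Agent.Lib.Helper95.SymTrace1
import Groth.Agent.Lib.Helper95.SymTrace2

set_option autoImplicit false
universe u

namespace Groth.Agent.Lib.Helper95.SymTrace

open Groth.Agent.Lib.Helper86.TSFree

section Triangular

variable {K : Type u} [CommRing K] {κ : Type u} [Fintype κ] [DecidableEq κ]

omit [Fintype κ] [DecidableEq κ] in
lemma eq_of_comp_perm_of_le (rk : κ → ℕ) (hrk : Function.Injective rk) {n : ℕ}
    (p₀ q : Fin n → κ) (σ : Equiv.Perm (Fin n)) (hq : q = p₀ ∘ σ)
    (hle : ∀ k, rk (p₀ k) ≤ rk (q k)) : q = p₀ := by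
  have hsum : ∑ k, rk (q k) = ∑ k, rk (p₀ k) := by
    rw [hq]
    exact Equiv.sum_comp σ (fun k => rk (p₀ k))
  have h1 := (Finset.sum_eq_sum_iff_of_le (s := Finset.univ) (f := fun k => rk (p₀ k))
    (g := fun k => rk (q k)) (fun k _ => hle k)).mp hsum.symm
  funext k
  exact (hrk (h1 k (Finset.mem_univ k))).symm

theorem Tn_triangular (rk : κ → ℕ) (hrk : Function.Injective rk) (U : Matrix κ κ K)
    (hU : ∀ i j, rk j < rk i → U i j = 0) (n : ℕ) :
    Tn n U = ∑ α ∈ Finset.finsuppAntidiag (Finset.univ : Finset κ) n, ∏ i, U i i ^ α i := by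
  classical
  unfold Tn
  rw [← sum_orbits (n := n) (fun α : κ → ℕ => ∏ i, U i i ^ α i)]
  refine Finset.sum_congr rfl fun o _ => ?_
  rw [Finset.sum_eq_single o.out]
  · rw [if_pos (Quotient.out_eq o), prod_eq_prod_pow (fun i => U i i) o.out]
  · intro p _ hp
    split_ifs with h
    · have h2 : (Quotient.mk (orb (κ := κ) n) o.out) = Quotient.mk _ p := by
        rw [Quotient.out_eq, h]
      obtain ⟨σ, hσ⟩ := Quotient.exact h2
      have h3 : ∃ k, rk (p k) < rk (o.out k) := by
        by_contra hcon
        push Not at hcon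
        exact hp (eq_of_comp_perm_of_le rk hrk o.out p σ hσ hcon)
      obtain ⟨k, hk⟩ := h3
      exact Finset.prod_eq_zero (Finset.mem_univ k) (hU _ _ hk)
    · rfl
  · intro h
    exact absurd (Finset.mem_univ _) h

noncomputable def Dm (U : Matrix κ κ K) : Polynomial K :=
  Matrix.det (1 - (Polynomial.X : Polynomial K) • U.map Polynomial.C)

lemma Dm_triangular (rk : κ → ℕ) (hrk : Function.Injective rk) (U : Matrix κ κ K)
    (hU : ∀ i j, rk j < rk i → U i j = 0) :
    Dm U = ∏ i, (1 - Polynomial.X * Polynomial.C (U i i)) := by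
  let _ : LinearOrder κ := LinearOrder.lift' rk hrk
  unfold Dm
  rw [Matrix.det_of_isUpperTriangular]
  · refine Finset.prod_congr rfl fun i _ => ?_
    simp
  · intro i j hij
    have hij' : rk j < rk i := hij
    have hne : i ≠ j := by
      rintro rfl
      exact lt_irrefl _ hij'
    simp [Matrix.sub_apply, Matrix.one_apply_ne hne, hU i j hij']

lemma geom_mul (a : K) :
    ((1 - Polynomial.X * Polynomial.C a : Polynomial K) : PowerSeries K) *
      PowerSeries.mk (fun m => a ^ m) = 1 := by
  have h1 : ((1 - Polynomial.X * Polynomial.C a : Polynomial K) : PowerSeries K) =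
      1 - PowerSeries.X * PowerSeries.C a := by
    simp
    exact mul_comm _ _
  rw [h1]
  ext m
  rcases m with _ | m
  · simp [sub_mul, mul_assoc]
  · rw [sub_mul, one_mul, map_sub, mul_assoc, PowerSeries.coeff_succ_X_mul, PowerSeries.coeff_mk,
      PowerSeries.coeff_C_mul, PowerSeries.coeff_mk, PowerSeries.coeff_one, if_neg (by omega)]
    ring

theorem identity_triangular (rk : κ → ℕ) (hrk : Function.Injective rk) (U : Matrix κ κ K)
    (hU : ∀ i j, rk j < rk i → U i j = 0) :
    ((Dm U : Polynomial K) : PowerSeries K) * PowerSeries.mk (fun n => Tn n U) = 1 := by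
  have h1 : PowerSeries.mk (fun n => Tn n U) =
      ∏ i : κ, PowerSeries.mk (fun m => U i i ^ m) := by
    ext n
    rw [PowerSeries.coeff_mk, Tn_triangular rk hrk U hU, PowerSeries.coeff_prod]
    refine Finset.sum_congr rfl fun α _ => ?_
    refine Finset.prod_congr rfl fun i _ => ?_
    rw [PowerSeries.coeff_mk]
  have h2 : ((Dm U : Polynomial K) : PowerSeries K) =
      ∏ i : κ, ((1 - Polynomial.X * Polynomial.C (U i i) : Polynomial K) : PowerSeries K) := by
    rw [Dm_triangular rk hrk U hU]
    exact map_prod (Polynomial.coeToPowerSeries.ringHom (R := K)) _ _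
  rw [h1, h2, ← Finset.prod_mul_distrib]
  exact Finset.prod_eq_one fun i _ => geom_mul _

end Triangular

end Groth.Agent.Lib.Helper95.SymTrace
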