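import Mathlib

set_option autoImplicit false
universe u

namespace Groth.Agent.Lib.Helper95.SymTrace

open Module

theorem exists_triangular_basis (K : Type u) [Field K] [IsAlgClosed K] :
    ∀ (d : ℕ) (V : Type u) [AddCommGroup V] [Module K V] [FiniteDimensional K V]
      (u : V →ₗ[K] V), Module.finrank K V = d →
      ∃ (ι : Type u) (_ : Fintype ι) (b : Basis ι K V) (rk : ι → ℕ),
        Function.Injective rk ∧ ∀ i j, rk j < rk i → b.repr (u (b j)) i = 0 := by
  intro d
  induction d with
  | zero =>
    intro V _ _ _ u hd
    have : Subsingleton V := Module.finrank_zero_iff.mp hd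
    exact ⟨PEmpty, inferInstance, Basis.empty V, fun _ => 0, fun i => i.elim, fun i => i.elim⟩
  | succ d ih =>
    intro V _ _ _ u hd
    have : Nontrivial V := Module.nontrivial_of_finrank_pos (R := K) (by omega)
    obtain ⟨μ, hμ⟩ := Module.End.exists_eigenvalue u
    obtain ⟨v, hv⟩ := hμ.exists_hasEigenvector
    have hv0 : v ≠ 0 := hv.2
    have huv : u v = μ • v := hv.apply_eq_smul
    let W : Submodule K V := K ∙ v
    have hW : W ≤ W.comap u := by
      intro x hx
      obtain ⟨c, rfl⟩ := Submodule.mem_span_singleton.mp hx
      rw [Submodule.mem_comap, map_smul, huv]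
      exact Submodule.smul_mem _ _ (Submodule.smul_mem _ _ (Submodule.mem_span_singleton_self v))
    let ubar : (V ⧸ W) →ₗ[K] (V ⧸ W) := W.mapQ W u hW
    have hdW : Module.finrank K (V ⧸ W) = d := by
      have h1 := Submodule.finrank_quotient_add_finrank W
      have h2 : Module.finrank K W = 1 := finrank_span_singleton hv0
      omega
    obtain ⟨ι', _, bQ, rk', hrk', htri'⟩ := ih (V ⧸ W) ubar hdW
    let bW : Basis PUnit.{u+1} K W :=
      (Basis.singleton PUnit.{u+1} K).map (LinearEquiv.toSpanNonzeroSingleton K V v hv0)
    have hbW : ((bW PUnit.unit : W) : V) = v := by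
      simp only [bW, Basis.map_apply, Basis.singleton_apply]
      rw [LinearEquiv.toSpanNonzeroSingleton_one]
    let b : Basis (PUnit.{u+1} ⊕ ι') K V := Basis.sumQuot bW bQ
    refine ⟨PUnit.{u+1} ⊕ ι', inferInstance, b,
      Sum.elim (fun _ => 0) (fun i => rk' i + 1), ?_, ?_⟩
    · rintro (a | a) (a' | a') h
      · rfl
      · simp at h
      · simp at h
      · simp only [Sum.elim_inr, add_left_inj] at h
        rw [hrk' h]
    · rintro (a | i) (a' | j) h
      · simp at h
      · simp at h
      · have h1 : b (Sum.inl a') = v := by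
          rw [Basis.sumQuot_inl]
          exact hbW
        rw [h1, huv]
        apply Basis.sumQuot_repr_inr_of_mem
        exact Submodule.smul_mem _ _ (Submodule.mem_span_singleton_self v)
      · simp only [Sum.elim_inr, add_lt_add_iff_right] at h
        rw [Basis.sumQuot_repr_inr]
        have h2 : W.mkQ (u (b (Sum.inr j))) = ubar (bQ j) := by
          rw [← Basis.sumQuot_inr bW bQ j]
          rfl
        rw [h2]
        exact htri' i j h

end Groth.Agent.Lib.Helper95.SymTrace
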