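import Mathlib
import Groth.Agent.Lib.Helper95.SymTrace3
import Groth.Agent.Lib.Helper95.SymTrace4

set_option autoImplicit false
open scoped TensorProduct
universe u

namespace Groth.Agent.Lib.Helper95.SymTrace

open Groth.Agent.Lib.Helper86.TSFree Module

section DetIntrinsic

variable {A : Type u} [CommRing A] {M : Type u} [AddCommGroup M] [Module A M]
  {κ : Type u} [Fintype κ] [DecidableEq κ]

theorem Dm_toMatrix (b : Basis κ A M) (u : M →ₗ[A] M) :
    Dm (LinearMap.toMatrix b b u) =
      LinearMap.det (LinearMap.id - (Polynomial.X : Polynomial A) •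
        u.baseChange (Polynomial A)) := by
  let bX := Algebra.TensorProduct.basis (Polynomial A) b
  rw [← LinearMap.det_toMatrix bX]
  unfold Dm
  congr 1
  have h1 : LinearMap.toMatrix bX bX (LinearMap.id - (Polynomial.X : Polynomial A) •
      u.baseChange (Polynomial A)) =
      LinearMap.toMatrix bX bX LinearMap.id - (Polynomial.X : Polynomial A) •
        LinearMap.toMatrix bX bX (u.baseChange (Polynomial A)) := by
    have h1a := map_sub (LinearMap.toMatrix bX bX) LinearMap.id
      ((Polynomial.X : Polynomial A) • u.baseChange (Polynomial A))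
    have h1b := map_smul (LinearMap.toMatrix bX bX) (Polynomial.X : Polynomial A)
      (u.baseChange (Polynomial A))
    rw [h1a, h1b]
  rw [h1, LinearMap.toMatrix_id, LinearMap.toMatrix_baseChange]
  rfl

end DetIntrinsic

section Natural

variable {A : Type u} [CommRing A] {B : Type u} [CommRing B]
  {κ : Type u} [Fintype κ] [DecidableEq κ]

lemma Tn_map (f : A →+* B) (n : ℕ) (U : Matrix κ κ A) : Tn n (U.map f) = f (Tn n U) := by
  classical
  unfold Tn
  rw [map_sum]
  refine Finset.sum_congr rfl fun o _ => ?_
  rw [map_sum]
  refine Finset.sum_congr rfl fun p _ => ?_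
  split_ifs
  · rw [map_prod]
    rfl
  · rw [map_zero]

lemma Dm_map (f : A →+* B) (U : Matrix κ κ A) : Dm (U.map f) = (Dm U).map f := by
  unfold Dm
  have h := RingHom.map_det (Polynomial.mapRingHom f)
    (1 - (Polynomial.X : Polynomial A) • U.map Polynomial.C)
  rw [Polynomial.coe_mapRingHom] at h
  rw [h]
  congr 1
  ext i j
  by_cases hij : i = j
  · subst hij
    simp
  · simp [Matrix.one_apply_ne hij]

end Natural

section Field

variable (K : Type u) [Field K] [IsAlgClosed K] {κ : Type u} [Fintype κ] [DecidableEq κ]

theorem identity_field (U : Matrix κ κ K) :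
    ((Dm U : Polynomial K) : PowerSeries K) * PowerSeries.mk (fun n => Tn n U) = 1 := by
  classical
  let u : (κ → K) →ₗ[K] (κ → K) := Matrix.toLin' U
  have hU : LinearMap.toMatrix (Pi.basisFun K κ) (Pi.basisFun K κ) u = U := by
    rw [LinearMap.toMatrix_eq_toMatrix']
    exact LinearMap.toMatrix'_toLin' U
  obtain ⟨ι, _, b', rk, hrk, htri⟩ :=
    exists_triangular_basis K (Module.finrank K (κ → K)) (κ → K) u rfl
  have hT : ∀ n, Tn n U = Tn n (LinearMap.toMatrix b' b' u) := by
    intro n
    rw [← trace_gam b' n u]
    conv_lhs => rw [← hU]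
    rw [← trace_gam (Pi.basisFun K κ) n u]
  have hD : Dm U = Dm (LinearMap.toMatrix b' b' u) := by
    rw [Dm_toMatrix b' u]
    conv_lhs => rw [← hU]
    rw [Dm_toMatrix (Pi.basisFun K κ) u]
  rw [hD, funext hT]
  apply identity_triangular rk hrk
  intro i j hij
  rw [LinearMap.toMatrix_apply]
  exact htri i j hij

end Field

section General

variable {A : Type u} [CommRing A] {κ : Type u} [Fintype κ] [DecidableEq κ]

theorem identity_general (U : Matrix κ κ A) :
    ((Dm U : Polynomial A) : PowerSeries A) * PowerSeries.mk (fun n => Tn n U) = 1 := by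
  let S := MvPolynomial (κ × κ) ℤ
  let G : Matrix κ κ S := fun i j => MvPolynomial.X (i, j)
  let φ : S →+* A := MvPolynomial.eval₂Hom (Int.castRingHom A) (fun ij => U ij.1 ij.2)
  have hGU : G.map φ = U := by
    ext i j
    show φ (MvPolynomial.X (i, j)) = U i j
    exact MvPolynomial.eval₂Hom_X' _ _ _
  let F := FractionRing S
  let K := AlgebraicClosure F
  let ψ : S →+* K := (algebraMap F K).comp (algebraMap S F)
  have hψ : Function.Injective ψ := by
    show Function.Injective ((algebraMap F K).comp (algebraMap S F))
    rw [RingHom.coe_comp]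
    apply Function.Injective.comp
    · exact (algebraMap F K).injective
    · exact IsFractionRing.injective S F
  have key : ∀ (B : Type u) [CommRing B] (f : S →+* B),
      PowerSeries.map f (((Dm G : Polynomial S) : PowerSeries S) *
        PowerSeries.mk (fun n => Tn n G)) =
      ((Dm (G.map f) : Polynomial B) : PowerSeries B) *
        PowerSeries.mk (fun n => Tn n (G.map f)) := by
    intro B _ f
    rw [map_mul, Dm_map, ← Polynomial.polynomial_map_coe]
    congr 1
    ext n
    rw [PowerSeries.coeff_map, PowerSeries.coeff_mk, PowerSeries.coeff_mk, Tn_map]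
  have hS : ((Dm G : Polynomial S) : PowerSeries S) * PowerSeries.mk (fun n => Tn n G) = 1 := by
    have hinj : Function.Injective (PowerSeries.map ψ) := by
      intro x y hxy
      refine PowerSeries.ext fun n => ?_
      apply hψ
      rw [← PowerSeries.coeff_map, ← PowerSeries.coeff_map, hxy]
    apply hinj
    rw [key K ψ, map_one]
    exact identity_field K _
  have := congrArg (PowerSeries.map φ) hS
  rw [key A φ, map_one, hGU] at this
  exact this

end General

section Final

variable {A : Type u} [CommRing A] (M : Type u) [AddCommGroup M] [Module A M]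
  [Module.Free A M] [Module.Finite A M] (u : M →ₗ[A] M)

theorem main (γ : ∀ n : ℕ, TSsub A M n →ₗ[A] TSsub A M n)
    (hγ : ∀ (n : ℕ) (x : TSsub A M n),
      ((γ n x : TSsub A M n) : ⨂[A] _i : Fin n, M) =
        PiTensorProduct.map (fun _ : Fin n => u) (x : ⨂[A] _i : Fin n, M)) :
    ((LinearMap.det (LinearMap.id - (Polynomial.X : Polynomial A) •
        u.baseChange (Polynomial A)) : Polynomial A) : PowerSeries A) *
      PowerSeries.mk (fun n => LinearMap.trace A _ (γ n)) = 1 := by
  classical
  let b := Module.Free.chooseBasis A M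
  have h1 : ∀ n, γ n = gam n u := by
    intro n
    apply LinearMap.ext
    intro x
    apply Subtype.ext
    rw [hγ, gam_val]
  have h2 : ∀ n, LinearMap.trace A _ (γ n) = Tn n (LinearMap.toMatrix b b u) := by
    intro n
    rw [h1 n, trace_gam b n u]
  rw [funext h2, ← Dm_toMatrix b u]
  exact identity_general _

end Final

end Groth.Agent.Lib.Helper95.SymTrace
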