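import Groth.Agent.Lib.Helper95.ChNewton
import Mathlib.RingTheory.MvPolynomial.Ideal
import Mathlib.RingTheory.MvPolynomial.Homogeneous

set_option autoImplicit false
open MvPolynomial Finset

namespace Groth.Agent.Lib.Helper95.SymTransfer

open Groth.Agent.Lib.Helper95.ChNewton

lemma esymm_isHomogeneous (σ : Type*) [Fintype σ] (n : ℕ) :
    (esymm σ ℚ n).IsHomogeneous n := by
  unfold esymm
  apply IsHomogeneous.sum
  intro t ht
  have h := IsHomogeneous.prod t (fun i => (X i : MvPolynomial σ ℚ)) (fun _ => 1)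
    (fun i _ => isHomogeneous_X ℚ i)
  rw [Finset.sum_const, smul_eq_mul, mul_one, (Finset.mem_powersetCard.mp ht).2] at h
  exact h

variable (m : ℕ)

def wt (s : Fin m →₀ ℕ) : ℕ := ∑ i, s i * ((i : ℕ) + 1)

lemma aevalE_monomial_isHomogeneous (s : Fin m →₀ ℕ) (a : ℚ) :
    (aeval (EE m) (monomial s a)).IsHomogeneous (wt m s) := by
  rw [aeval_monomial, Finsupp.prod_fintype _ _ (fun i => pow_zero _)]
  have h := IsHomogeneous.prod Finset.univ (fun i => EE m i ^ s i) (fun i => ((i : ℕ) + 1) * s i)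
    (fun i _ => (esymm_isHomogeneous (Fin m) ((i : ℕ) + 1)).pow (s i))
  have e : ∑ i : Fin m, ((i : ℕ) + 1) * s i = wt m s := by
    unfold wt
    exact Finset.sum_congr rfl fun i _ => mul_comm _ _
  rw [e] at h
  exact h.C_mul a

section

variable {G : Type*} [CommRing G] [Algebra ℚ G] (D : ℕ → Submodule ℚ G)
  (hD1 : (1 : G) ∈ D 0)
  (hDmul : ∀ a b y z, y ∈ D a → z ∈ D b → y * z ∈ D (a + b))

include hD1 hDmul

lemma pow_mem_D {a : ℕ} {y : G} (hy : y ∈ D a) (k : ℕ) : y ^ k ∈ D (k * a) := by
  induction k with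
  | zero => rw [pow_zero, Nat.zero_mul]; exact hD1
  | succ k ih =>
    rw [pow_succ, Nat.succ_mul]
    exact hDmul _ _ _ _ ih hy

lemma prod_mem_D {ι : Type*} (T : Finset ι) (f : ι → G) (n : ι → ℕ) (h : ∀ i ∈ T, f i ∈ D (n i)) :
    ∏ i ∈ T, f i ∈ D (∑ i ∈ T, n i) := by
  classical
  induction T using Finset.induction_on with
  | empty => rw [Finset.prod_empty, Finset.sum_empty]; exact hD1
  | insert a T ha ih =>
    rw [Finset.prod_insert ha, Finset.sum_insert ha]
    exact hDmul _ _ _ _ (h a (Finset.mem_insert_self a T))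
      (ih fun i hi => h i (Finset.mem_insert_of_mem hi))

variable (v : Fin m → G) (hv : ∀ i : Fin m, v i ∈ D ((i : ℕ) + 1))

include hv

lemma aeval_monomial_mem_D (s : Fin m →₀ ℕ) (a : ℚ) :
    aeval v (monomial s a) ∈ D (wt m s) := by
  rw [aeval_monomial, Finsupp.prod_fintype _ _ (fun i => pow_zero _), ← Algebra.smul_def]
  apply Submodule.smul_mem
  unfold wt
  exact prod_mem_D D hD1 hDmul Finset.univ (fun i => v i ^ s i) (fun i => s i * ((i : ℕ) + 1))
    (fun i _ => pow_mem_D D hD1 hDmul (hv i) (s i))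

theorem transfer (d : ℕ) (hDbot : ∀ k, d < k → D k = ⊥) (p : MvPolynomial (Fin m) ℚ)
    (hp : aeval (EE m) p ∈ idealOfVars (Fin m) ℚ ^ (d + 1)) : aeval v p = 0 := by
  classical
  set lo : MvPolynomial (Fin m) ℚ :=
    ∑ s ∈ p.support.filter (fun s => wt m s ≤ d), monomial s (p.coeff s) with hlo
  set hi : MvPolynomial (Fin m) ℚ :=
    ∑ s ∈ p.support.filter (fun s => ¬ wt m s ≤ d), monomial s (p.coeff s) with hhi
  have hsplit : p = lo + hi := by
    rw [hlo, hhi, Finset.sum_filter_add_sum_filter_not]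
    exact (MvPolynomial.support_sum_monomial_coeff p).symm
  have hhi0 : aeval v hi = 0 := by
    rw [hhi, map_sum]
    apply Finset.sum_eq_zero
    intro s hs
    have h1 := aeval_monomial_mem_D m D hD1 hDmul v hv s (p.coeff s)
    rw [hDbot _ (by have := (Finset.mem_filter.mp hs).2; omega), Submodule.mem_bot] at h1
    exact h1
  have hlo0 : lo = 0 := by
    apply aevalE_injective m
    rw [map_zero]
    ext t
    rw [coeff_zero]
    by_cases ht : t.degree ≤ d
    · have h1 : coeff t (aeval (EE m) p) = 0 :=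
        (mem_pow_idealOfVars_iff' (d + 1) _).mp hp t (by omega)
      have h2 : coeff t (aeval (EE m) hi) = 0 := by
        rw [hhi, map_sum, coeff_sum]
        apply Finset.sum_eq_zero
        intro s hs
        apply (aevalE_monomial_isHomogeneous m s (p.coeff s)).coeff_eq_zero
        have := (Finset.mem_filter.mp hs).2
        omega
      rw [hsplit, map_add, coeff_add, h2, add_zero] at h1
      exact h1
    · rw [hlo, map_sum, coeff_sum]
      apply Finset.sum_eq_zero
      intro s hs
      apply (aevalE_monomial_isHomogeneous m s (p.coeff s)).coeff_eq_zero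
      have := (Finset.mem_filter.mp hs).2
      omega
  rw [hsplit, hlo0, zero_add, hhi0]

end

end Groth.Agent.Lib.Helper95.SymTransfer
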