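import Groth.Agent.Lib.Helper95.ChMul
import Groth.Agent.Lib.Helper95.EsymmRestrict

set_option autoImplicit false
open LambdaRing KGr Finset
open scoped TensorProduct

namespace Groth.Agent.Lib.Helper95.ToddMain

open Groth.Agent.Lib.Helper95.GrLib Groth.Agent.Lib.Helper95.ChLib
  Groth.Agent.Lib.Helper95.ChNewton Groth.Agent.Lib.Helper95.AdamsEigen
  Groth.Agent.Lib.Helper95.GammaFil Groth.Agent.Lib.Helper26.LambdaGamma
  Groth.Agent.Lib.Helper95.ChBij Groth.Agent.Lib.Helper95.Bridge Groth.Agent.Lib.Helper48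
  Groth.Agent.Lib.Helper95.ChMul Groth.Agent.Lib.Helper95.NewtonSolve
  Groth.Agent.Lib.Helper95.TruncModel Groth.Agent.Lib.Helper95.EsymmRestrict
  Groth.Agent.Lib.Helper95.SymTransfer

universe v

lemma esymmZ_eq_zero_of_lt (N k : ℕ) (hk : N < k) : MvPolynomial.esymm (Fin N) ℤ k = 0 := by
  unfold MvPolynomial.esymm
  rw [Finset.powersetCard_eq_empty.mpr (by rw [Finset.card_univ, Fintype.card_fin]; exact hk),
    Finset.sum_empty]

local notation "LamS" => Groth.Agent.Lib.Helper48.Lam

section NewtonK

variable {K : Type v} [CommRing K] [LambdaOps K] (P : PosStructure K)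

theorem isNewtonSeq_lam_adams (x : K) :
    IsNewtonSeq (fun a => LambdaOps.lam a x) (fun b => if b = 0 then 0 else adams P b x) := by
  rw [isNewtonSeq_iff]
  have h1 : aSer (fun a => LambdaOps.lam a x) = LamS x := by
    ext a
    rw [aSer, PowerSeries.coeff_mk, Groth.Agent.Lib.Helper48.Lam, PowerSeries.coeff_rescale, lamSeries, PowerSeries.coeff_mk]
  have h2 : PowerSeries.mk (fun b => if b = 0 then 0 else adams P b x) =
      -(PowerSeries.X * (PowerSeries.derivative K (LamS x)) * (LamS x).invOfUnit 1) := by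
    ext b
    rw [PowerSeries.coeff_mk]
    split_ifs with hb
    · subst hb
      rw [mul_assoc, map_neg, PowerSeries.coeff_zero_X_mul, neg_zero]
    · unfold adams
      rw [adamsSeries_eq, map_sub, PowerSeries.coeff_C, if_neg hb, zero_sub]
      simp
  rw [h1, h2]
  have h3 := Lam_mul_inv x
  calc LamS x * -(PowerSeries.X * (PowerSeries.derivative K (LamS x)) * (LamS x).invOfUnit 1)
      = -(PowerSeries.X * (PowerSeries.derivative K (LamS x)) * (LamS x * (LamS x).invOfUnit 1)) := by
        ring
    _ = _ := by rw [h3, mul_one]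

end NewtonK

section Pos

variable {K : Type v} [CommRing K] [LambdaOps K] (P : PosStructure K) (hK : HasSplitting K P)

include hK

theorem gamma_pos_big (e : K) (he : e ∈ P.pos) (a : ℕ) (ha : (P.aug e).toNat < a) :
    gamma a (e - ((P.aug e : ℤ) : K)) = 0 := by
  obtain ⟨C, hKC, hC⟩ := hK
  obtain ⟨L', hL', f, hf, s, hs, hsum⟩ := hC ⟨K, P⟩ hKC e he
  have hcard : Multiset.card s = (P.aug e).toNat := by
    have h1 := aug_sum_lines L'.posStr s hs
    rw [hsum, hf.aug_comp] at h1
    have h2 := aug_eq_toNat P e he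
    rw [← h2] at h1
    exact_mod_cast h1.symm
  obtain ⟨N, u, rfl⟩ : ∃ (N : ℕ) (u : Fin N → L'.carrier),
      s = (Finset.univ : Finset (Fin N)).val.map u := by
    refine ⟨s.toList.length, s.toList.get, ?_⟩
    rw [Fin.univ_val_map, List.ofFn_get, Multiset.coe_toList]
  have hN : N = (P.aug e).toNat := by simpa using hcard
  have hu : ∀ i, L'.posStr.IsLine (u i) := fun i =>
    hs (u i) (Multiset.mem_map.mpr ⟨i, Finset.mem_val.mpr (Finset.mem_univ _), rfl⟩)
  have hsum' : ∑ i, u i = f e := by rw [← hsum]; rfl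
  apply hf.injective
  rw [map_zero, Groth.Agent.Lib.Helper95.GamFil.map_gamma_of_map_lam f hf.isLambdaHom, map_sub,
    map_intCast, ← aug_eq_toNat P e he, Int.cast_natCast, ← hN, ← hsum',
    gamma_sum_lines L'.posStr N u hu a, esymmZ_eq_zero_of_lt N a (by omega), map_zero]

theorem chern_pos_big (e : K) (he : e ∈ P.pos) (a : ℕ) (ha : (P.aug e).toNat < a) :
    chern P a e = 0 := by
  unfold chern
  rw [gamma_pos_big P hK e he a ha]
  exact grK_zero P _

end Pos

section Main

variable {K : Type v} [CommRing K] [LambdaOps K] (P : PosStructure K) (hK : HasSplitting K P)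
  (d : ℕ) (hd : gammaFiltration P (d + 1) = ⊥)

noncomputable def chRing : K →+* Gr P where
  toFun := chK P d
  map_one' := chK_one P d hd
  map_mul' := chK_mul P hK d hd
  map_zero' := (chAdd P d hd).map_zero
  map_add' := (chAdd P d hd).map_add

lemma chRing_apply (x : K) : chRing P hK d hd x = chK P d x := rfl

noncomputable def vm (e : K) (m : ℕ) : Fin m → Gr P := fun i => chern P ((i : ℕ) + 1) e

variable (e : K) (he : e ∈ P.pos) (m : ℕ) (hm : (m : ℤ) = P.aug e)

include hK he hm in
lemma ev_vm (a : ℕ) : ev m (vm P e m) a = chern P a e := by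
  rcases Nat.eq_zero_or_pos a with rfl | ha
  · rw [ev_zero, chern_zero]
  · by_cases h : a ≤ m
    · obtain ⟨b, rfl⟩ : ∃ b, a = b + 1 := ⟨a - 1, by omega⟩
      rw [ev_succ m (vm P e m) b (by omega)]
      rfl
    · rw [ev_big m (vm P e m) a (by omega), chern_pos_big P hK e he a (by omega)]

include hK he hm in
lemma isNewtonSeq_vm : IsNewtonSeq (fun a => chern P a e) (nv m (vm P e m)) := by
  have h := isNewtonSeq_ev m (vm P e m)
  have e1 : ev m (vm P e m) = fun a => chern P a e := funext fun a => ev_vm P hK e he m hm a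
  rw [e1] at h
  exact h

include hK hd he hm in
lemma chc_eq_nv (k : ℕ) : chc P d k e = nv m (vm P e m) k := by
  have := IsNewtonSeq.unique (chern_zero P e) (isNewtonSeq_chern P d hd e)
    (isNewtonSeq_vm P hK e he m hm)
  exact congrFun this k

include hK hd he hm in
lemma theta_PsiT (j : ℕ) (hj : 1 ≤ j) :
    MvPolynomial.aeval (vm P e m) (PsiT m d j) = chK P d (adams P j e) := by
  unfold PsiT
  rw [if_neg (by omega), chK_eq P d, aug_adams P hK j hj, ← hm, map_add, MvPolynomial.aeval_C,
    map_sum]
  congr 1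
  refine Finset.sum_congr rfl fun k _ => ?_
  rw [map_mul, MvPolynomial.aeval_C, chc_adams P hK d hd j hj, chc_eq_nv P hK d hd e he m hm,
    smul_smul, Algebra.smul_def (R := ℚ) (A := Gr P)]
  congr 2
  rw [div_eq_mul_inv, one_div, mul_comm]

include hK hd he hm in
theorem theta_L (a : ℕ) :
    MvPolynomial.aeval (vm P e m) (L m d a) = chK P d (LambdaOps.lam a e) := by
  have h1 : IsNewtonSeq (fun a => MvPolynomial.aeval (vm P e m) (L m d a))
      (fun b => MvPolynomial.aeval (vm P e m) (PsiT m d b)) :=
    IsNewtonSeq.map (MvPolynomial.aeval (vm P e m) : MvPolynomial (Fin m) ℚ →ₐ[ℚ] Gr P)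
      (isNewtonSeq_L m d)
  have h2 : IsNewtonSeq (fun a => chRing P hK d hd (LambdaOps.lam a e))
      (fun b => chRing P hK d hd (if b = 0 then 0 else adams P b e)) :=
    IsNewtonSeq.map (chRing P hK d hd) (isNewtonSeq_lam_adams P e)
  have e2 : (fun b => chRing P hK d hd (if b = 0 then 0 else adams P b e)) =
      fun b => MvPolynomial.aeval (vm P e m) (PsiT m d b) := by
    funext b
    split_ifs with hb
    · rw [hb, PsiT_zero, map_zero, map_zero]
    · rw [chRing_apply, theta_PsiT P hK d hd e he m hm b (by omega)]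
  rw [e2] at h2
  have := IsNewtonSeq.unique_left (by simp [L_zero]) (by simp [LambdaOps.lam_zero])
    (by simp [PsiT_zero]) h1 h2
  exact congrFun this a

include hd in
lemma transferG (p : MvPolynomial (Fin m) ℚ)
    (hp : MvPolynomial.aeval (EE m) p ∈ MvPolynomial.idealOfVars (Fin m) ℚ ^ (d + 1)) :
    MvPolynomial.aeval (vm P e m) p = 0 := by
  refine transfer m (Dn P) ?_ (fun a b y z hy hz => Dn_mul P hy hz) (vm P e m) ?_ d ?_ p hp
  · rw [← grK_one P]
    exact grK_mem_Dn P (by rw [gammaFiltration_zero]; trivial)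
  · intro i
    exact grK_mem_Dn P (gamma_red_mem P e _)
  · intro k hk
    exact Dn_eq_bot P (fil_eq_bot P d hd (by omega))

include hK hd he hm in
theorem todd_core_gt (hmd : d < m) :
    ∑ a ∈ range (m + 1), (-1) ^ a * chK P d (LambdaOps.lam a e) = 0 := by
  have h := transferG P d hd e m _ (model_big m d hmd)
  simp only [map_sum, map_mul, map_pow, map_neg, map_one, theta_L P hK d hd e he m hm] at h
  exact h

include hK hd he hm in
theorem todd_core_le (hmd : m ≤ d) :
    tdK P d e * ((-1) ^ m * ∑ a ∈ range (m + 1), (-1) ^ a * chK P d (LambdaOps.lam a e)) =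
      chern P m e * chK P d (LambdaOps.lam m e) := by
  obtain ⟨r, rfl⟩ := Nat.exists_eq_add_of_le hmd
  have hv : ∀ i : Fin r, chern P (((Fin.natAdd m i : Fin (m + r)) : ℕ) + 1) e = 0 := by
    intro i
    apply chern_pos_big P hK e he
    rw [← hm, Int.toNat_natCast, Fin.val_natAdd]
    omega
  have htd : tdK P (m + r) e =
      MvPolynomial.aeval (vm P e m) (rho m r (toddPoly (m + r))) := by
    have := aeval_rho m r (fun i : Fin (m + r) => chern P ((i : ℕ) + 1) e) hv (toddPoly (m + r))
    unfold tdK
    rw [← this]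
    rfl
  have htop : MvPolynomial.aeval (vm P e m) (Ek m m) = chern P m e := ev_vm P hK e he m hm m
  have h := transferG P (m + r) hd e m _
    (model_main m (m + r) (rho m r (toddPoly (m + r))) (aevalE_rho_toddPoly m r))
  simp only [map_sub, map_sum, map_mul, map_pow, map_neg, map_one,
    theta_L P hK (m + r) hd e he m hm, htop, ← htd] at h
  exact sub_eq_zero.mp h

set_option synthInstance.maxHeartbeats 400000 in
set_option maxHeartbeats 1000000 in
include hK hd he hm in
theorem todd_final (X D' : K) (hD' : LambdaOps.lam m e * D' = 1)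
    (hXD : X * LambdaOps.lam m e =
      (-1) ^ m * ∑ a ∈ range (m + 1), (-1) ^ a * LambdaOps.lam a e) :
    tdK P d e * chK P d X = chern P m e := by
  have hunit : chRing P hK d hd (LambdaOps.lam m e) * chRing P hK d hd D' = 1 := by
    rw [← map_mul, hD', map_one]
  have key : tdK P d e * chRing P hK d hd X * chRing P hK d hd (LambdaOps.lam m e) =
      chern P m e * chRing P hK d hd (LambdaOps.lam m e) := by
    rw [mul_assoc, ← map_mul, hXD]
    simp only [map_mul, map_pow, map_neg, map_one, map_sum, chRing_apply]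
    by_cases hmd : m ≤ d
    · exact todd_core_le P hK d hd e he m hm hmd
    · rw [todd_core_gt P hK d hd e he m hm (by omega), mul_zero, mul_zero,
        chern_big P d hd m (by omega), zero_mul]
  have := congrArg (fun z => z * chRing P hK d hd D') key
  simp only [mul_assoc, hunit, mul_one] at this
  exact this

end Main

end Groth.Agent.Lib.Helper95.ToddMain
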