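import Groth.Agent.Lib.Helper95.UnivRing
import Groth.Agent.Lib.Helper95.MinDegR

set_option autoImplicit false
open MvPolynomial Finset LambdaRing

namespace Groth.Agent.Lib.Helper95.UnivGamma

open Groth.Agent.Lib.Helper95.UnivRing Groth.Agent.Lib.Helper95.MinDegR
open Groth.Agent.Lib.Helper26.LambdaGamma

variable (σ : Type*)

def GoodElt (y : MvPolynomial σ ℚ) : Prop := ∀ i, MD i (gamma i y)

lemma goodElt_zero : GoodElt σ 0 := by
  intro i
  rw [gamma_zero_right]
  split_ifs with h
  · subst h; exact md_zero _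
  · exact md_of_eq_zero _

lemma GoodElt.add {y z : MvPolynomial σ ℚ} (hy : GoodElt σ y) (hz : GoodElt σ z) :
    GoodElt σ (y + z) := by
  intro i
  rw [gamma_add]
  refine MD.sum _ _ fun p hp => ?_
  have := (hy p.1).mul (hz p.2)
  rwa [Finset.HasAntidiagonal.mem_antidiagonal.mp hp] at this

lemma GoodElt.neg {y : MvPolynomial σ ℚ} (hy : GoodElt σ y) : GoodElt σ (-y) := by
  intro l
  induction l using Nat.strong_induction_on with
  | _ l ih =>
    rcases Nat.eq_zero_or_pos l with rfl | hl
    · rw [gamma_zero_left]; exact md_zero _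
    · have h0 : gamma l (y + -y) = 0 := by
        rw [add_neg_cancel, gamma_zero_right, if_neg (by omega)]
      rw [gamma_add, Finset.Nat.sum_antidiagonal_eq_sum_range_succ_mk, Finset.sum_range_succ',
        gamma_zero_left, one_mul, Nat.sub_zero] at h0
      have h1 : gamma l (-y) = -∑ i ∈ range l, gamma (i + 1) y * gamma (l - (i + 1)) (-y) := by
        rw [eq_neg_iff_add_eq_zero, add_comm]; exact h0
      rw [h1]
      refine MD.neg (MD.sum _ _ fun i hi => ?_)
      have hi' := Finset.mem_range.mp hi
      have := (hy (i + 1)).mul (ih (l - (i + 1)) (by omega))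
      rwa [show i + 1 + (l - (i + 1)) = l by omega] at this

lemma constantCoeff_uMon (α : σ →₀ ℕ) : constantCoeff (uMon σ α) = 1 := by
  unfold uMon
  rw [Finsupp.prod, map_prod]
  apply Finset.prod_eq_one
  intro i _
  simp

lemma goodElt_uMon_sub_one (α : σ →₀ ℕ) : GoodElt σ (uMon σ α - 1) := by
  intro i
  rw [gamma_uMon_sub_one]
  split_ifs with h0 h1
  · subst h0; exact md_zero _
  · subst h1
    rw [md_one_iff, map_sub, constantCoeff_uMon, map_one, sub_self]
  · exact md_of_eq_zero _

noncomputable def T : AddSubgroup (MvPolynomial σ ℚ) :=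
  AddSubgroup.closure {w | ∃ α : σ →₀ ℕ, w = uMon σ α - 1}

lemma goodElt_of_mem_T {y : MvPolynomial σ ℚ} (hy : y ∈ T σ) : GoodElt σ y := by
  induction hy using AddSubgroup.closure_induction with
  | mem w hw =>
    obtain ⟨α, rfl⟩ := hw
    exact goodElt_uMon_sub_one σ α
  | zero => exact goodElt_zero σ
  | add y z _ _ hy hz => exact hy.add σ hz
  | neg y _ hy => exact hy.neg σ

lemma uMon_add (α β : σ →₀ ℕ) : uMon σ (α + β) = uMon σ α * uMon σ β := by
  classical
  unfold uMon
  rw [Finsupp.prod_add_index']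
  · intro i; simp
  · intro i m n; rw [pow_add]

lemma T_mul {y z : MvPolynomial σ ℚ} (hy : y ∈ T σ) (hz : z ∈ T σ) : y * z ∈ T σ := by
  induction hy using AddSubgroup.closure_induction with
  | mem w hw =>
    obtain ⟨α, rfl⟩ := hw
    induction hz using AddSubgroup.closure_induction with
    | mem w' hw' =>
      obtain ⟨β, rfl⟩ := hw'
      have : (uMon σ α - 1) * (uMon σ β - 1) =
          (uMon σ (α + β) - 1) - (uMon σ α - 1) - (uMon σ β - 1) := by
        rw [uMon_add]; ring
      rw [this]
      exact sub_mem (sub_mem (AddSubgroup.subset_closure ⟨_, rfl⟩)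
        (AddSubgroup.subset_closure ⟨_, rfl⟩)) (AddSubgroup.subset_closure ⟨_, rfl⟩)
    | zero => rw [mul_zero]; exact zero_mem _
    | add a b _ _ ha hb => rw [mul_add]; exact add_mem ha hb
    | neg a _ ha => rw [mul_neg]; exact neg_mem ha
  | zero => rw [zero_mul]; exact zero_mem _
  | add a b _ _ ha hb => rw [add_mul]; exact add_mem ha hb
  | neg a _ ha => rw [neg_mul]; exact neg_mem ha

lemma X_mem_T (i : σ) : (X i : MvPolynomial σ ℚ) ∈ T σ := by
  apply AddSubgroup.subset_closure
  refine ⟨Finsupp.single i 1, ?_⟩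
  unfold uMon
  rw [Finsupp.prod_single_index (by simp)]
  ring

lemma aeval_mem_T {τ : Type*} (g : τ → MvPolynomial σ ℚ) (hg : ∀ t, g t ∈ T σ)
    (F : MvPolynomial τ ℤ) (hF : constantCoeff F = 0) : aeval g F ∈ T σ := by
  classical
  rw [F.as_sum, map_sum]
  refine sum_mem fun d hd => ?_
  rw [aeval_monomial]
  have hd0 : d ≠ 0 := by
    rintro rfl
    rw [mem_support_iff, ← constantCoeff_eq] at hd
    exact hd hF
  have hprod : (d.prod fun t n => g t ^ n) ∈ T σ := by
    obtain ⟨t, ht⟩ : ∃ t, d t ≠ 0 := by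
      by_contra h
      push Not at h
      exact hd0 (Finsupp.ext h)
    have hmem : t ∈ d.support := Finsupp.mem_support_iff.mpr ht
    rw [Finsupp.prod, ← Finset.mul_prod_erase _ _ hmem]
    obtain ⟨m, hm⟩ : ∃ m, d t = m + 1 := ⟨d t - 1, by omega⟩
    rw [hm, pow_succ']
    have key : ∀ (y : MvPolynomial σ ℚ) (s : Finset τ) , y ∈ T σ →
        y * ∏ x ∈ s, g x ^ d x ∈ T σ := by
      intro y s hy
      induction s using Finset.induction_on generalizing y with
      | empty => simpa using hy
      | insert a s ha ih =>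
        rw [Finset.prod_insert ha, ← mul_assoc]
        apply ih
        have : ∀ n : ℕ, y * g a ^ n ∈ T σ := by
          intro n
          induction n with
          | zero => simpa using hy
          | succ n ihn => rw [pow_succ, ← mul_assoc]; exact T_mul σ ihn (hg a)
        exact this _
    have h2 : ∀ n : ℕ, g t * g t ^ n ∈ T σ := by
      intro n
      induction n with
      | zero => simpa using hg t
      | succ n ihn => rw [pow_succ, ← mul_assoc]; exact T_mul σ ihn (hg t)
    rw [mul_assoc]
    have := key (g t * g t ^ m) (d.support.erase t) (h2 m)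
    rwa [mul_assoc] at this
  rw [Algebra.algebraMap_eq_smul_one, smul_mul_assoc, one_mul]
  exact AddSubgroup.zsmul_mem _ hprod _

lemma esymm_mem_T [Fintype σ] (k : ℕ) (hk : k ≠ 0) : esymm σ ℚ k ∈ T σ := by
  classical
  rw [esymm]
  refine sum_mem fun s hs => ?_
  have hcard := (Finset.mem_powersetCard.mp hs).2
  have hne : s.Nonempty := by
    rw [← Finset.card_pos]; omega
  obtain ⟨a, ha⟩ := hne
  rw [← Finset.mul_prod_erase _ _ ha]
  have key : ∀ (y : MvPolynomial σ ℚ) (s' : Finset σ), y ∈ T σ →
      y * ∏ x ∈ s', (X x : MvPolynomial σ ℚ) ∈ T σ := by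
    intro y s' hy
    induction s' using Finset.induction_on generalizing y with
    | empty => simpa using hy
    | insert b s' hb ih =>
      rw [Finset.prod_insert hb, ← mul_assoc]
      exact ih _ (T_mul σ hy (X_mem_T σ b))
  exact key _ _ (X_mem_T σ a)

lemma rename_esymm_mem_T {τ : Type*} [Fintype τ] (e : τ → σ) (k : ℕ) (hk : k ≠ 0) :
    rename e (esymm τ ℚ k) ∈ T σ := by
  classical
  rw [esymm, map_sum]
  refine sum_mem fun s hs => ?_
  have hcard := (Finset.mem_powersetCard.mp hs).2
  have hne : s.Nonempty := by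
    rw [← Finset.card_pos]; omega
  obtain ⟨a, ha⟩ := hne
  rw [map_prod, ← Finset.mul_prod_erase _ _ ha]
  have key : ∀ (y : MvPolynomial σ ℚ) (s' : Finset τ), y ∈ T σ →
      y * ∏ x ∈ s', rename e (X x : MvPolynomial τ ℚ) ∈ T σ := by
    intro y s' hy
    induction s' using Finset.induction_on generalizing y with
    | empty => simpa using hy
    | insert b s' hb ih =>
      rw [Finset.prod_insert hb, ← mul_assoc]
      refine ih _ (T_mul σ hy ?_)
      rw [rename_X]; exact X_mem_T σ _
  refine key _ _ ?_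
  rw [rename_X]; exact X_mem_T σ _

end Groth.Agent.Lib.Helper95.UnivGamma
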