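import Groth.Agent.Lib.Helper95.Rep
import Groth.Agent.Lib.Helper95.UnivGamma
import Groth.Agent.Lib.Helper95.GammaFil

set_option autoImplicit false
open MvPolynomial Finset LambdaRing

namespace Groth.Agent.Lib.Helper95.Transfer

open Groth.Agent.Lib.Helper95.UnivRing Groth.Agent.Lib.Helper95.MinDegR
  Groth.Agent.Lib.Helper95.UnivGamma Groth.Agent.Lib.Helper95.Rep
  Groth.Agent.Lib.Helper95.UnivPoly

universe v

def wt : Fin 2 × ℕ → ℕ := fun ip => ip.2 + 1

def th (n : ℕ) : Fin n ⊕ Fin n → Fin 2 × ℕ :=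
  Sum.elim (fun p => (0, (p : ℕ))) (fun p => (1, (p : ℕ)))

lemma th_injective (n : ℕ) : Function.Injective (th n) := by
  rintro (a | a) (b | b) h <;> simp [th, Fin.ext_iff] at h ⊢ <;> omega

def wn (n : ℕ) : Fin n ⊕ Fin n → ℕ := fun q => wt (th n q)

noncomputable def ux (n : ℕ) : Fin 2 → MvPolynomial (Fin n ⊕ Fin n) ℚ :=
  ![∑ i : Fin n, X (Sum.inl i), ∑ i : Fin n, X (Sum.inr i)]

lemma gamma_ux (n : ℕ) (g : Fin 2) (k : ℕ) :
    gamma k (ux n g) = if g = 0 then rename Sum.inl (esymm (Fin n) ℚ k)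
      else rename Sum.inr (esymm (Fin n) ℚ k) := by
  fin_cases g
  · simp only [ux, Fin.zero_eta, Fin.isValue, Matrix.cons_val_zero, if_pos]
    exact gamma_sum_X_rename _ Sum.inl k
  · simp only [ux, Fin.mk_one, Fin.isValue, Matrix.cons_val_one, Matrix.cons_val_fin_one,
      one_ne_zero, if_false]
    exact gamma_sum_X_rename _ Sum.inr k

lemma gamma_ux_th (n : ℕ) (q : Fin n ⊕ Fin n) :
    gamma ((th n q).2 + 1) (ux n (th n q).1) =
      MvPolynomial.map (Int.castRingHom ℚ) (gE n n q) := by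
  rw [gamma_ux]
  rcases q with p | p
  · simp only [th, Sum.elim_inl, if_pos, gE, map_rename, map_esymm]
  · simp only [th, Sum.elim_inr, Fin.isValue, one_ne_zero, if_false, gE, map_rename, map_esymm]

lemma gE_homogeneous (n : ℕ) (q : Fin n ⊕ Fin n) :
    IsWeightedHomogeneous (fun _ : Fin n ⊕ Fin n => (1 : ℕ)) (gE n n q) (wn n q) := by
  rcases q with p | p
  · have := rename_esymm_isWeightedHomogeneous (fun _ : Fin n ⊕ Fin n => (1 : ℕ))
      (Sum.inl : Fin n → Fin n ⊕ Fin n) 1 (fun _ => rfl) ((p : ℕ) + 1)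
    simpa [gE, wn, wt, th] using this
  · have := rename_esymm_isWeightedHomogeneous (fun _ : Fin n ⊕ Fin n => (1 : ℕ))
      (Sum.inr : Fin n → Fin n ⊕ Fin n) 1 (fun _ => rfl) ((p : ℕ) + 1)
    simpa [gE, wn, wt, th] using this

theorem weights_of_md (G : MvPolynomial (Fin 2 × ℕ) ℤ) (c : ℕ)
    (h : ∀ n, MD c (evG (ux n) G)) : ∀ d ∈ G.support, c ≤ Finsupp.weight wt d := by
  classical
  obtain ⟨n, hn⟩ : ∃ n, ∀ ip ∈ G.vars, ip.2 < n :=
    ⟨G.vars.sup (fun ip => ip.2) + 1, fun ip h =>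
      Nat.lt_succ_of_le (Finset.le_sup (f := fun ip : Fin 2 × ℕ => ip.2) h)⟩
  obtain ⟨Gn, hGn⟩ := exists_rename_eq_of_vars_subset_range G (th n) (th_injective n) (by
    intro ip hip
    have hlt := hn ip hip
    obtain ⟨g, p⟩ := ip
    fin_cases g
    · exact ⟨Sum.inl ⟨p, hlt⟩, rfl⟩
    · exact ⟨Sum.inr ⟨p, hlt⟩, rfl⟩)
  have hMD := h n
  have e1 : evG (ux n) G = MvPolynomial.map (Int.castRingHom ℚ) (aeval (gE n n) Gn) := by
    rw [← hGn, evG, aeval_rename]
    have : ((aeval ((fun ip : Fin 2 × ℕ => gamma (ip.2 + 1) (ux n ip.1)) ∘ th n) :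
        MvPolynomial (Fin n ⊕ Fin n) ℤ →ₐ[ℤ] MvPolynomial (Fin n ⊕ Fin n) ℚ) : _ →+* _) =
        (MvPolynomial.map (Int.castRingHom ℚ)).comp
          (aeval (gE n n) : MvPolynomial (Fin n ⊕ Fin n) ℤ →ₐ[ℤ]
            MvPolynomial (Fin n ⊕ Fin n) ℤ).toRingHom := by
      apply MvPolynomial.ringHom_ext
      · intro r; simp
      · intro q
        simp only [RingHom.coe_coe, aeval_X, Function.comp_apply, RingHom.comp_apply,
          AlgHom.toRingHom_eq_coe]
        exact gamma_ux_th n q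
    exact congrArg (fun φ => φ Gn) this
  rw [e1] at hMD
  have hΓ : MD c (aeval (gE n n) Gn) := md_of_map _ Int.cast_injective hMD
  have hcomp : ∀ w < c, weightedHomogeneousComponent (wn n) w Gn = 0 := by
    intro w hw
    apply gE_injective (le_refl n)
    rw [map_zero, ← Groth.Agent.Lib.Helper95.GammaFil.component_aeval (wn n)
      (fun _ : Fin n ⊕ Fin n => (1 : ℕ)) (gE n n) (gE_homogeneous n) Gn w]
    exact hΓ.component_eq_zero w hw
  intro d hd
  rw [← hGn, support_rename_of_injective (th_injective n), Finset.mem_image] at hd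
  obtain ⟨d', hd', rfl⟩ := hd
  have hw : Finsupp.weight wt (Finsupp.mapDomain (th n) d') = Finsupp.weight (wn n) d' := by
    rw [Finsupp.weight_apply, Finsupp.weight_apply, Finsupp.sum_mapDomain_index]
    · rfl
    · intro i; simp
    · intro i m m'; rw [add_smul]
  rw [hw]
  by_contra hlt
  push Not at hlt
  have h4 := congrArg (coeff d') (hcomp _ hlt)
  rw [coeff_weightedHomogeneousComponent, if_pos rfl, coeff_zero] at h4
  exact (mem_support_iff.mp hd') h4

lemma gamma_ux_mem_T (n : ℕ) (ip : Fin 2 × ℕ) :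
    gamma (ip.2 + 1) (ux n ip.1) ∈ T (Fin n ⊕ Fin n) := by
  rw [gamma_ux]
  split_ifs
  · exact rename_esymm_mem_T _ _ _ (Nat.succ_ne_zero _)
  · exact rename_esymm_mem_T _ _ _ (Nat.succ_ne_zero _)

theorem transfer (F : MvPolynomial (Fin 2 × ℕ) ℤ) (hF : constantCoeff F = 0) (c : ℕ) :
    ∃ G : MvPolynomial (Fin 2 × ℕ) ℤ, GoodG.{v} F c G ∧
      ∀ d ∈ G.support, c ≤ Finsupp.weight wt d := by
  classical
  obtain ⟨Gs, hGs⟩ := exists_goodG.{v} F
  refine ⟨Gs c, (hGs c).1, weights_of_md _ c fun n => ?_⟩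
  have key := (hGs c).2 (MvPolynomial (Fin n ⊕ Fin n) ℚ) (univ_isSpecial _) (ux n)
  have hT : evG (ux n) F ∈ T (Fin n ⊕ Fin n) :=
    aeval_mem_T _ _ (fun ip => gamma_ux_mem_T n ip) F hF
  rw [← key]; exact goodElt_of_mem_T _ hT c

end Groth.Agent.Lib.Helper95.Transfer
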