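import Mathlib
import Groth.Agent.Lib.Helper97.CotT2.Constr

set_option autoImplicit false

namespace Groth.Agent.Lib.Helper95.TripleAlg

open Groth.Agent.Lib.Helper97.CotT2 MvPolynomial

noncomputable section

variable {R1 : Type*} [CommRing R1] {τ : Type*} {R3 : Type*} [CommRing R3]
  {σ1 σ3 : Type*} (r1 : σ1 → R1) (r3 : σ3 → R3) (v : MvPolynomial τ R1 →+* R3)
  (s : σ3 → MvPolynomial τ R1)

def r2 : σ1 ⊕ σ3 → MvPolynomial τ R1 := Sum.elim (fun x => C (r1 x)) s

@[simp] lemma r2_inl (x : σ1) : r2 r1 s (Sum.inl x) = C (r1 x) := rfl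
@[simp] lemma r2_inr (z : σ3) : r2 r1 s (Sum.inr z) = s z := rfl

def hu : DHom r1 (r2 r1 s) :=
  DHom.ofVals (C : R1 →+* MvPolynomial τ R1) (fun x => Finsupp.single (Sum.inl x) 1) (fun x => by
    rw [jm_single, one_mul, r2_inl])

variable (hs : ∀ z, v (s z) = r3 z) (hv1 : ∀ x, v (C (r1 x)) = 0)

def hv : DHom (r2 r1 s) r3 :=
  DHom.ofVals v (Sum.elim (fun _ => 0) (fun z => Finsupp.single z 1)) (by
    rintro (x | z)
    · rw [Sum.elim_inl, map_zero, r2_inl, hv1]
    · rw [Sum.elim_inr, jm_single, one_mul, r2_inr, hs])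

lemma hv_α (y : MvPolynomial τ R1) : (hv r1 r3 v s hs hv1).α y = v y := rfl
lemma hu_α (y : R1) : (hu r1 s).α y = (C y : MvPolynomial τ R1) := rfl

lemma hv_θ_inl (x : σ1) (a : MvPolynomial τ R1) :
    (hv r1 r3 v s hs hv1).θ (Finsupp.single (Sum.inl x) a) = 0 := by
  rw [hv, DHom.ofVals_θ_single, Sum.elim_inl, smul_zero]

lemma hv_θ_inr (z : σ3) (a : MvPolynomial τ R1) :
    (hv r1 r3 v s hs hv1).θ (Finsupp.single (Sum.inr z) a) = Finsupp.single z (v a) := by
  rw [hv, DHom.ofVals_θ_single, Sum.elim_inr, Finsupp.smul_single, smul_eq_mul, mul_one]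

lemma hu_θ_single (x : σ1) (a : R1) :
    (hu r1 s).θ (Finsupp.single x a) = Finsupp.single (Sum.inl x) (C a) := by
  rw [hu, DHom.ofVals_θ_single, Finsupp.smul_single, smul_eq_mul, mul_one]

lemma hv_hu (f : σ1 →₀ R1) : (hv r1 r3 v s hs hv1).θ ((hu r1 s).θ f) = 0 := by
  induction f using Finsupp.induction_linear with
  | zero => simp
  | add f g hf hg => rw [map_add, map_add, hf, hg, add_zero]
  | single x a => rw [hu_θ_single, hv_θ_inl]

variable (σ3) in
def inlM : (σ1 →₀ MvPolynomial τ R1) →ₗ[MvPolynomial τ R1] (σ1 ⊕ σ3 →₀ MvPolynomial τ R1) :=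
  Finsupp.lmapDomain _ _ Sum.inl

variable (σ1) in
def inrM : (σ3 →₀ MvPolynomial τ R1) →ₗ[MvPolynomial τ R1] (σ1 ⊕ σ3 →₀ MvPolynomial τ R1) :=
  Finsupp.lmapDomain _ _ Sum.inr

def jl : (σ1 →₀ MvPolynomial τ R1) →ₗ[MvPolynomial τ R1] MvPolynomial τ R1 :=
  Finsupp.linearCombination _ (fun x => (C (r1 x) : MvPolynomial τ R1))

@[simp] lemma inlM_single (x : σ1) (a : MvPolynomial τ R1) :
    inlM σ3 (Finsupp.single x a) = Finsupp.single (Sum.inl x) a := by
  simp [inlM, Finsupp.lmapDomain_apply, Finsupp.mapDomain_single]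

@[simp] lemma inrM_single (z : σ3) (a : MvPolynomial τ R1) :
    inrM σ1 (Finsupp.single z a) = Finsupp.single (Sum.inr z) a := by
  simp [inrM, Finsupp.lmapDomain_apply, Finsupp.mapDomain_single]

@[simp] lemma jl_single (x : σ1) (a : MvPolynomial τ R1) :
    jl r1 (Finsupp.single x a) = a * C (r1 x) := by
  simp [jl, Finsupp.linearCombination_single]

lemma decomp (f : σ1 ⊕ σ3 →₀ MvPolynomial τ R1) : ∃ a g, f = inlM σ3 a + inrM σ1 g := by
  induction f using Finsupp.induction_linear with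
  | zero => exact ⟨0, 0, by simp⟩
  | add f g hf hg =>
    obtain ⟨a, b, rfl⟩ := hf
    obtain ⟨a', b', rfl⟩ := hg
    exact ⟨a + a', b + b', by rw [map_add, map_add]; abel⟩
  | single t p =>
    rcases t with x | z
    · exact ⟨Finsupp.single x p, 0, by rw [inlM_single, map_zero, add_zero]⟩
    · exact ⟨0, Finsupp.single z p, by rw [inrM_single, map_zero, zero_add]⟩

lemma θv_inlM (a : σ1 →₀ MvPolynomial τ R1) :
    (hv r1 r3 v s hs hv1).θ (inlM σ3 a) = 0 := by
  induction a using Finsupp.induction_linear with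
  | zero => simp
  | add f g hf hg => rw [map_add, map_add, hf, hg, add_zero]
  | single x p => rw [inlM_single, hv_θ_inl]

lemma θv_inrM (g : σ3 →₀ MvPolynomial τ R1) :
    (hv r1 r3 v s hs hv1).θ (inrM σ1 g) = Finsupp.mapRange v (map_zero _) g := by
  induction g using Finsupp.induction_linear with
  | zero => simp
  | add f g hf hg => rw [map_add, map_add, hf, hg, Finsupp.mapRange_add (map_add _)]
  | single z p => rw [inrM_single, hv_θ_inr, Finsupp.mapRange_single]

lemma jm_inlM (a : σ1 →₀ MvPolynomial τ R1) :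
    jm (r2 r1 s) (inlM σ3 a) = jl r1 a := by
  induction a using Finsupp.induction_linear with
  | zero => simp
  | add f g hf hg => rw [map_add, map_add, hf, hg, map_add]
  | single x p => rw [inlM_single, jm_single, jl_single, r2_inl]

variable (hsurj : Function.Surjective v)
  (hker : RingHom.ker v = Ideal.span (Set.range fun x : σ1 => (C (r1 x) : MvPolynomial τ R1)))

include hker in
lemma exists_jl_eq {y : MvPolynomial τ R1} (hy : v y = 0) : ∃ a, jl r1 a = y := by
  have hy' : y ∈ RingHom.ker v := hy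
  rw [hker] at hy'
  obtain ⟨c, rfl⟩ := Finsupp.mem_span_range_iff_exists_finsupp.mp hy'
  exact ⟨c, by rw [jl, Finsupp.linearCombination_apply]⟩

include hsurj hker in
lemma L1 (q3 : σ3 →₀ R3) (hq3 : q3 ∈ Q r3) :
    ∃ q2 ∈ Q (r2 r1 s), (hv r1 r3 v s hs hv1).θ q2 = q3 := by
  obtain ⟨g, hg⟩ := Finsupp.mapRange_surjective v (map_zero _) hsurj q3
  have h1 : (hv r1 r3 v s hs hv1).θ (inrM σ1 g) = q3 := by rw [θv_inrM, hg]
  have h2 : v (jm (r2 r1 s) (inrM σ1 g)) = 0 := by
    rw [← hv_α r1 r3 v s hs hv1, ← (hv r1 r3 v s hs hv1).jm_θ, h1]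
    exact (mem_Q _).mp hq3
  obtain ⟨a, ha⟩ := exists_jl_eq r1 v hker h2
  refine ⟨inrM σ1 g - inlM σ3 a, ?_, ?_⟩
  · rw [mem_Q, map_sub, jm_inlM, ha, sub_self]
  · rw [map_sub, h1, θv_inlM, sub_zero]

include hsurj in
lemma L2 {y : σ3 →₀ R3} (hy : y ∈ F0 r3) :
    ∃ t ∈ F0 (r2 r1 s), (hv r1 r3 v s hs hv1).θ t = y := by
  induction hy using Submodule.span_induction with
  | mem y hy =>
    obtain ⟨a, b, rfl⟩ := hy
    obtain ⟨ga, hga⟩ := Finsupp.mapRange_surjective v (map_zero _) hsurj a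
    obtain ⟨gb, hgb⟩ := Finsupp.mapRange_surjective v (map_zero _) hsurj b
    refine ⟨jm (r2 r1 s) (inrM σ1 ga) • inrM σ1 gb - jm (r2 r1 s) (inrM σ1 gb) • inrM σ1 ga,
      triv_mem_F0 _ _ _, ?_⟩
    rw [map_sub, (hv r1 r3 v s hs hv1).θ_smul, (hv r1 r3 v s hs hv1).θ_smul,
      ← (hv r1 r3 v s hs hv1).jm_θ, ← (hv r1 r3 v s hs hv1).jm_θ, θv_inrM, θv_inrM, hga, hgb]
  | zero => exact ⟨0, Submodule.zero_mem _, map_zero _⟩
  | add x y _ _ hx hy =>
    obtain ⟨t, ht, rfl⟩ := hx
    obtain ⟨t', ht', rfl⟩ := hy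
    exact ⟨t + t', Submodule.add_mem _ ht ht', map_add _ _ _⟩
  | smul c x _ hx =>
    obtain ⟨t, ht, rfl⟩ := hx
    obtain ⟨c', rfl⟩ := hsurj c
    exact ⟨c' • t, Submodule.smul_mem _ _ ht, (hv r1 r3 v s hs hv1).θ_smul c' t⟩

include hker in
lemma stepA (g : σ3 →₀ MvPolynomial τ R1) (hg : ∀ z, v (g z) = 0) :
    ∃ b, inrM σ1 g - inlM σ3 b ∈ F0 (r2 r1 s) := by
  classical
  induction g using Finsupp.induction with
  | zero => exact ⟨0, by rw [map_zero, map_zero, sub_zero]; exact Submodule.zero_mem _⟩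
  | single_add z p g' hz hp ih =>
    have hz0 : g' z = 0 := Finsupp.notMem_support_iff.mp hz
    have hp0 : v p = 0 := by
      have := hg z
      rwa [Finsupp.add_apply, Finsupp.single_eq_same, hz0, add_zero] at this
    have hg' : ∀ z', v (g' z') = 0 := by
      intro z'
      by_cases hzz : z' = z
      · subst hzz; rw [hz0, map_zero]
      · have := hg z'
        rwa [Finsupp.add_apply, Finsupp.single_eq_of_ne hzz, zero_add] at this
    obtain ⟨b', hb'⟩ := ih hg'
    obtain ⟨c, hc⟩ := exists_jl_eq r1 v hker hp0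
    refine ⟨s z • c + b', ?_⟩
    have e : inrM σ1 (Finsupp.single z p + g') - inlM σ3 (s z • c + b') =
        (jm (r2 r1 s) (inlM σ3 c) • Finsupp.single (Sum.inr z) 1 -
          jm (r2 r1 s) (Finsupp.single (Sum.inr z) 1) • inlM σ3 c) +
        (inrM σ1 g' - inlM σ3 b') := by
      have h3 : jm (r2 r1 s) (Finsupp.single (Sum.inr z) 1) = s z := by
        rw [jm_single, one_mul, r2_inr]
      rw [map_add, map_add, inrM_single, jm_inlM, hc, h3, map_smul, Finsupp.smul_single,
        smul_eq_mul, mul_one]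
      abel
    rw [e]
    exact Submodule.add_mem _ (triv_mem_F0 _ _ _) hb'

lemma hu_θ_eq (f : σ1 →₀ R1) :
    (hu r1 s).θ f = inlM σ3 (Finsupp.mapRange C (map_zero C) f) := by
  induction f using Finsupp.induction_linear with
  | zero => simp
  | add f g hf hg => rw [map_add, hf, hg, Finsupp.mapRange_add (map_add _), map_add]
  | single x a => rw [hu_θ_single, Finsupp.mapRange_single, inlM_single]

lemma jm_mapRange_coeff (m : τ →₀ ℕ) (c : σ1 →₀ MvPolynomial τ R1) :
    jm r1 (Finsupp.mapRange (coeff m) (coeff_zero m) c) = coeff m (jl r1 c) := by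
  induction c using Finsupp.induction_linear with
  | zero => simp
  | add f g hf hg =>
    rw [Finsupp.mapRange_add (fun x y => coeff_add m x y), map_add, hf, hg, map_add, coeff_add]
  | single x p =>
    rw [Finsupp.mapRange_single, jm_single, jl_single, mul_comm p, coeff_C_mul, mul_comm]

lemma stepC (c : σ1 →₀ MvPolynomial τ R1) (hc : jl r1 c = 0) :
    inlM σ3 c ∈ Submodule.span (MvPolynomial τ R1)
      ((hu r1 s).θ '' (Q r1 : Set (σ1 →₀ R1))) := by
  classical
  set S : Finset (τ →₀ ℕ) := c.support.biUnion (fun x => (c x).support) with hS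
  have hqm : ∀ m, Finsupp.mapRange (coeff m) (coeff_zero m) c ∈ Q r1 := by
    intro m
    rw [mem_Q, jm_mapRange_coeff, hc, coeff_zero]
  have hsum : c = ∑ m ∈ S, (monomial m (1 : R1)) •
      Finsupp.mapRange C (map_zero C) (Finsupp.mapRange (coeff m) (coeff_zero m) c) := by
    ext1 x
    rw [Finsupp.finsetSum_apply]
    have h1 : ∀ m ∈ S, ((monomial m (1 : R1)) •
        Finsupp.mapRange C (map_zero C) (Finsupp.mapRange (coeff m) (coeff_zero m) c)) x =
        monomial m (coeff m (c x)) := by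
      intro m _
      rw [Finsupp.smul_apply, Finsupp.mapRange_apply, Finsupp.mapRange_apply, smul_eq_mul,
        mul_comm, C_mul_monomial, mul_one]
    rw [Finset.sum_congr rfl h1]
    have hsub : (c x).support ⊆ S := by
      by_cases hx : c x = 0
      · rw [hx, support_zero]; exact Finset.empty_subset _
      · intro m hm
        rw [hS, Finset.mem_biUnion]
        exact ⟨x, Finsupp.mem_support_iff.mpr hx, hm⟩
    rw [← Finset.sum_subset hsub (fun m _ hm => by
      rw [notMem_support_iff.mp hm, monomial_zero])]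
    exact (support_sum_monomial_coeff (c x)).symm
  rw [hsum, map_sum]
  refine Submodule.sum_mem _ (fun m _ => ?_)
  rw [map_smul, ← hu_θ_eq]
  exact Submodule.smul_mem _ _ (Submodule.subset_span ⟨_, hqm m, rfl⟩)

include hker in
lemma L3 {q : σ1 ⊕ σ3 →₀ MvPolynomial τ R1} (hq : q ∈ Q (r2 r1 s))
    (h0 : (hv r1 r3 v s hs hv1).θ q = 0) :
    q ∈ F0 (r2 r1 s) ⊔ Submodule.span (MvPolynomial τ R1)
      ((hu r1 s).θ '' (Q r1 : Set (σ1 →₀ R1))) := by
  obtain ⟨a, g, rfl⟩ := decomp q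
  have hg : ∀ z, v (g z) = 0 := by
    intro z
    rw [map_add, θv_inlM, zero_add, θv_inrM] at h0
    have := DFunLike.congr_fun h0 z
    rwa [Finsupp.mapRange_apply] at this
  obtain ⟨b, hb⟩ := stepA r1 v s hker g hg
  have hjl : jl r1 (a + b) = 0 := by
    have h1 := (mem_Q _).mp hq
    have h2 := (mem_Q _).mp (F0_le_Q _ hb)
    rw [map_add, jm_inlM] at h1
    rw [map_sub, jm_inlM] at h2
    rw [map_add, ← h1, ← sub_eq_zero.mp h2]
  have e : inlM σ3 a + inrM σ1 g = (inrM σ1 g - inlM σ3 b) + inlM σ3 (a + b) := by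
    rw [map_add]; abel
  rw [e]
  exact Submodule.add_mem _ (Submodule.mem_sup_left hb)
    (Submodule.mem_sup_right (stepC r1 s _ hjl))

end

end Groth.Agent.Lib.Helper95.TripleAlg
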