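import Groth.Agent.Lib.Helper95.HMHtpy
import Groth.Agent.Lib.Helper95.TripleAlg

set_option autoImplicit false

namespace Groth.Agent.Lib.Helper95.Triple

open Groth.Agent.Lib.Helper97.CotT2 Groth.Agent.Lib.Helper95 Groth.Agent.Lib.Helper95.HM MvPolynomial

noncomputable section

universe u

lemma exists_addHom_descend {G H K : Type*} [AddCommGroup G] [AddCommGroup H] [AddCommGroup K]
    (f : G →+ H) (hf : Function.Surjective f) (g : G →+ K) (hk : ∀ x, f x = 0 → g x = 0) :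
    ∃ φ : H →+ K, ∀ x, φ (f x) = g x := by
  obtain ⟨δ, hδ⟩ := Nine.exists_addHom_of_rel (fun h k => ∃ x, f x = h ∧ g x = k)
    (fun h => by obtain ⟨x, rfl⟩ := hf h; exact ⟨_, x, rfl, rfl⟩)
    (by
      rintro _ _ _ _ ⟨x, rfl, rfl⟩ ⟨y, rfl, rfl⟩
      exact ⟨x - y, map_sub _ _ _, map_sub _ _ _⟩)
    (by
      rintro _ ⟨x, hx, rfl⟩
      exact hk x hx)
  exact ⟨δ, fun x => (hδ _ _).mp ⟨x, rfl, rfl⟩⟩


section Gen

variable {T : Type u} [CommRing T] {E1 E2 E3 : Dat T} (gu : Hom E1 E2) (gv : Hom E2 E3)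
  {M : Type*} [AddCommGroup M] [Module T M]

lemma inj2_gen (hL1 : ∀ q3 ∈ Q E3.r, ∃ q2 ∈ Q E2.r, gv.h.θ q2 = q3) :
    Function.Injective (gv.pull2 M) := by
  have hsurj : Function.Surjective gv.θQ := fun q3 => by
    obtain ⟨q2, hq2, hq⟩ := hL1 q3.1 q3.2
    exact ⟨⟨q2, hq2⟩, Subtype.ext hq⟩
  intro φ φ' h
  apply Subtype.ext
  refine AddMonoidHom.ext fun q3 => ?_
  obtain ⟨q2, rfl⟩ := hsurj q3
  exact congrArg (fun ε : E2.K2 M => ε.1 q2) h

lemma ex2_gen (hα : Function.Surjective gv.h.α)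
    (hL1 : ∀ q3 ∈ Q E3.r, ∃ q2 ∈ Q E2.r, gv.h.θ q2 = q3)
    (hL2 : ∀ y ∈ F0 E3.r, ∃ t ∈ F0 E2.r, gv.h.θ t = y)
    (hL3 : ∀ q ∈ Q E2.r, gv.h.θ q = 0 →
      q ∈ F0 E2.r ⊔ Submodule.span E2.R (gu.h.θ '' (Q E1.r : Set E1.F)))
    (hvu : ∀ f, gv.h.θ (gu.h.θ f) = 0) (φ : E2.K2 M) :
    gu.pull2 M φ = 0 ↔ ∃ φ3, gv.pull2 M φ3 = φ := by
  have hsurj : Function.Surjective gv.θQ := fun q3 => by
    obtain ⟨q2, hq2, hq⟩ := hL1 q3.1 q3.2
    exact ⟨⟨q2, hq2⟩, Subtype.ext hq⟩
  constructor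
  · intro h
    have hQ1 : ∀ q1 : Q E1.r, φ.1 (gu.θQ q1) = 0 := fun q1 =>
      congrArg (fun ε : E1.K2 M => ε.1 q1) h
    have hspan : ∀ s ∈ Submodule.span E2.R (gu.h.θ '' (Q E1.r : Set E1.F)),
        ∃ hsQ : s ∈ Q E2.r, φ.1 ⟨s, hsQ⟩ = 0 := by
      intro s hs
      induction hs using Submodule.span_induction with
      | mem s hs =>
        obtain ⟨q1, hq1, rfl⟩ := hs
        exact ⟨gu.h.θ_mem_Q hq1, hQ1 ⟨q1, hq1⟩⟩
      | zero => exact ⟨Submodule.zero_mem _, map_zero φ.1⟩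
      | add x y _ _ hx hy =>
        obtain ⟨hxQ, hx0⟩ := hx
        obtain ⟨hyQ, hy0⟩ := hy
        refine ⟨Submodule.add_mem _ hxQ hyQ, ?_⟩
        have : (⟨x + y, Submodule.add_mem _ hxQ hyQ⟩ : Q E2.r) = ⟨x, hxQ⟩ + ⟨y, hyQ⟩ := rfl
        rw [this, map_add, hx0, hy0, add_zero]
      | smul c x _ hx =>
        obtain ⟨hxQ, hx0⟩ := hx
        refine ⟨Submodule.smul_mem _ _ hxQ, ?_⟩
        have : (⟨c • x, Submodule.smul_mem _ _ hxQ⟩ : Q E2.r) = c • ⟨x, hxQ⟩ := rfl
        rw [this, E2.K2_smul, hx0, smul_zero]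
    have hker : ∀ q : Q E2.r, gv.θQ q = 0 → φ.1 q = 0 := by
      intro q hq0
      have h0 : gv.h.θ q.1 = 0 := congrArg Subtype.val hq0
      obtain ⟨t, ht, s, hs, hts⟩ := Submodule.mem_sup.mp (hL3 q.1 q.2 h0)
      obtain ⟨hsQ, hs0⟩ := hspan s hs
      have htQ : t ∈ Q E2.r := F0_le_Q _ ht
      have : q = ⟨t, htQ⟩ + ⟨s, hsQ⟩ := Subtype.ext hts.symm
      rw [this, map_add, hs0, add_zero]
      exact E2.K2_F0 φ _ ht
    obtain ⟨φ3, hφ3⟩ := exists_addHom_descend gv.θQ hsurj φ.1 hker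
    refine ⟨⟨φ3, ?_, ?_⟩, ?_⟩
    · intro c q3
      obtain ⟨q2, rfl⟩ := hsurj q3
      obtain ⟨c', rfl⟩ := hα c
      have : gv.h.α c' • gv.θQ q2 = gv.θQ (c' • q2) :=
        Subtype.ext (gv.h.θ_smul c' q2.1).symm
      rw [this, hφ3, hφ3, E2.K2_smul, gv.hπ]
    · intro q3 hq3
      obtain ⟨t, ht, hty⟩ := hL2 _ hq3
      have : q3 = gv.θQ ⟨t, F0_le_Q _ ht⟩ := Subtype.ext hty.symm
      rw [this, hφ3]
      exact E2.K2_F0 φ _ ht
    · apply Subtype.ext
      refine AddMonoidHom.ext fun q => ?_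
      exact hφ3 q
  · rintro ⟨φ3, rfl⟩
    apply Subtype.ext
    refine AddMonoidHom.ext fun q1 => ?_
    change φ3.1 (gv.θQ (gu.θQ q1)) = 0
    have : gv.θQ (gu.θQ q1) = 0 := Subtype.ext (hvu q1.1)
    rw [this, map_zero]

end Gen

variable (A B T : Type u) [CommRing A] [CommRing B] [CommRing T]
  [Algebra A B] [Algebra B T] [Algebra A T] [IsScalarTower A B T]

def ev1 : MvPolynomial B A →+* B := (aeval (fun b : B => b) : MvPolynomial B A →ₐ[A] B).toRingHom
def ev3 : MvPolynomial T B →+* T := (aeval (fun c : T => c) : MvPolynomial T B →ₐ[B] T).toRingHom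
def ev2 : MvPolynomial T A →+* T := (aeval (fun c : T => c) : MvPolynomial T A →ₐ[A] T).toRingHom

@[simp] lemma ev1_X (b : B) : ev1 A B (X b) = b := by simp [ev1]
@[simp] lemma ev1_C (a : A) : ev1 A B (C a) = algebraMap A B a := by simp [ev1]
@[simp] lemma ev3_X (c : T) : ev3 B T (X c) = c := by simp [ev3]
@[simp] lemma ev3_C (b : B) : ev3 B T (C b) = algebraMap B T b := by simp [ev3]
@[simp] lemma ev2_X (c : T) : ev2 A T (X c) = c := by simp [ev2]
@[simp] lemma ev2_C (a : A) : ev2 A T (C a) = algebraMap A T a := by simp [ev2]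

lemma ev1_surjective : Function.Surjective (ev1 A B) := fun b => ⟨X b, ev1_X A B b⟩

def vmap : MvPolynomial T (MvPolynomial B A) →+* MvPolynomial T B := MvPolynomial.map (ev1 A B)

lemma vmap_surjective : Function.Surjective (vmap A B T) :=
  MvPolynomial.map_surjective _ (ev1_surjective A B)

@[simp] lemma vmap_C (x : MvPolynomial B A) : vmap A B T (C x) = C (ev1 A B x) := by simp [vmap]
@[simp] lemma vmap_X (c : T) : vmap A B T (X c) = X c := by simp [vmap]

def sec : MvPolynomial T B → MvPolynomial T (MvPolynomial B A) :=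
  Function.surjInv (vmap_surjective A B T)

@[simp] lemma vmap_sec (z : MvPolynomial T B) : vmap A B T (sec A B T z) = z :=
  Function.surjInv_eq _ z

abbrev D1 : Dat T where
  R := MvPolynomial B A
  A0 := A
  β := algebraMap A (MvPolynomial B A)
  π := (algebraMap B T).comp (ev1 A B)
  σ := RingHom.ker (ev1 A B)
  r := Subtype.val
  hr s := by
    change algebraMap B T (ev1 A B s.1) = 0
    rw [(RingHom.mem_ker).mp s.2, map_zero]

abbrev D3 : Dat T where
  R := MvPolynomial T B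
  A0 := B
  β := algebraMap B (MvPolynomial T B)
  π := ev3 B T
  σ := RingHom.ker (ev3 B T)
  r := Subtype.val
  hr s := (RingHom.mem_ker).mp s.2

abbrev D2 : Dat T where
  R := MvPolynomial T A
  A0 := A
  β := algebraMap A (MvPolynomial T A)
  π := ev2 A T
  σ := RingHom.ker (ev2 A T)
  r := Subtype.val
  hr s := (RingHom.mem_ker).mp s.2

abbrev r2' : (RingHom.ker (ev1 A B)) ⊕ (RingHom.ker (ev3 B T)) → MvPolynomial T (MvPolynomial B A) :=
  TripleAlg.r2 (fun x : RingHom.ker (ev1 A B) => x.1) (fun z : RingHom.ker (ev3 B T) => sec A B T z.1)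

lemma hs' (z : RingHom.ker (ev3 B T)) : vmap A B T (sec A B T z.1) = z.1 := vmap_sec A B T z.1

lemma hv1' (x : RingHom.ker (ev1 A B)) : vmap A B T (C x.1) = 0 := by
  rw [vmap_C, (RingHom.mem_ker).mp x.2, map_zero]

abbrev D2' : Dat T where
  R := MvPolynomial T (MvPolynomial B A)
  A0 := A
  β := algebraMap A (MvPolynomial T (MvPolynomial B A))
  π := (ev3 B T).comp (vmap A B T)
  σ := (RingHom.ker (ev1 A B)) ⊕ (RingHom.ker (ev3 B T))
  r := r2' A B T
  hr := by
    rintro (x | z)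
    · change ev3 B T (vmap A B T (C x.1)) = 0
      rw [vmap_C, (RingHom.mem_ker).mp x.2, map_zero, map_zero]
    · change ev3 B T (vmap A B T (sec A B T z.1)) = 0
      rw [vmap_sec]
      exact (RingHom.mem_ker).mp z.2

lemma ker_vmap : RingHom.ker (vmap A B T) =
    Ideal.span (Set.range fun x : RingHom.ker (ev1 A B) => (C x.1 : MvPolynomial T (MvPolynomial B A))) := by
  rw [vmap, MvPolynomial.ker_map, Ideal.map]
  congr 1
  ext y
  constructor
  · rintro ⟨x, hx, rfl⟩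
    exact ⟨⟨x, hx⟩, rfl⟩
  · rintro ⟨x, rfl⟩
    exact ⟨x.1, x.2, rfl⟩

def hu : Hom (D1 A B T) (D2' A B T) where
  h := TripleAlg.hu (fun x : RingHom.ker (ev1 A B) => x.1)
    (fun z : RingHom.ker (ev3 B T) => sec A B T z.1)
  hβ a := ⟨a, by
    change C (algebraMap A (MvPolynomial B A) a) = algebraMap A (MvPolynomial T (MvPolynomial B A)) a
    rw [MvPolynomial.algebraMap_apply (σ := T) (S₁ := MvPolynomial B A)]⟩
  hπ x := by
    change ev3 B T (vmap A B T (C x)) = algebraMap B T (ev1 A B x)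
    rw [vmap_C, ev3_C]

def hv : Hom (D2' A B T) (D3 B T) where
  h := TripleAlg.hv (fun x : RingHom.ker (ev1 A B) => x.1) (fun z : RingHom.ker (ev3 B T) => z.1)
    (vmap A B T) (fun z : RingHom.ker (ev3 B T) => sec A B T z.1) (hs' A B T) (hv1' A B T)
  hβ a := ⟨algebraMap A B a, by
    change vmap A B T (algebraMap A (MvPolynomial T (MvPolynomial B A)) a) =
      algebraMap B (MvPolynomial T B) (algebraMap A B a)
    rw [MvPolynomial.algebraMap_apply (σ := T) (S₁ := MvPolynomial B A), vmap_C,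
      MvPolynomial.algebraMap_eq, ev1_C, MvPolynomial.algebraMap_eq]⟩
  hπ _ := rfl

section K0K1

variable {A B T}
variable {M : Type*} [AddCommGroup M] [Module T M]

def liftMon {σ R N : Type*} [CommRing R] [AddCommGroup N] (f : (σ →₀ ℕ) → R →+ N) :
    MvPolynomial σ R →+ N :=
  (Finsupp.liftAddHom f).comp (AddMonoidAlgebra.coeffAddEquiv (R := R) (M := σ →₀ ℕ)).toAddMonoidHom

lemma liftMon_monomial {σ R N : Type*} [CommRing R] [AddCommGroup N] (f : (σ →₀ ℕ) → R →+ N)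
    (m : σ →₀ ℕ) (a : R) : liftMon f (monomial m a) = f m a := by
  change Finsupp.liftAddHom f (AddMonoidAlgebra.coeff (monomial m a)) = _
  have : AddMonoidAlgebra.coeff (monomial m a : MvPolynomial σ R) = Finsupp.single m a := rfl
  rw [this, Finsupp.liftAddHom_apply_single]

lemma inj0 : Function.Injective ((hv A B T).pull0 M) := by
  intro δ δ' h
  apply Subtype.ext
  refine AddMonoidHom.ext fun x => ?_
  obtain ⟨y, rfl⟩ := vmap_surjective A B T x
  have := congrArg (fun ε : (D2' A B T).K0 M => ε.1 y) h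
  exact this

lemma π2'_eq_zero_of_vmap {y : MvPolynomial T (MvPolynomial B A)} (hy : vmap A B T y = 0) :
    (D2' A B T).π y = 0 := by
  change ev3 B T (vmap A B T y) = 0
  rw [hy, map_zero]

lemma ex0 (δ : (D2' A B T).K0 M) :
    (hu A B T).pull0 M δ = 0 ↔ ∃ δ3, (hv A B T).pull0 M δ3 = δ := by
  constructor
  · intro h
    have hC : ∀ x : MvPolynomial B A, δ.1 (C x) = 0 := fun x => by
      have := congrArg (fun ε : (D1 A B T).K0 M => ε.1 x) h
      exact this
    have hspan : ∀ y ∈ Ideal.span (Set.range fun x : RingHom.ker (ev1 A B) =>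
        (C x.1 : MvPolynomial T (MvPolynomial B A))), δ.1 y = 0 := by
      intro y hy
      induction hy using Submodule.span_induction with
      | mem y hy => obtain ⟨x, rfl⟩ := hy; exact hC _
      | zero => exact map_zero _
      | add a b _ _ ha hb => rw [map_add, ha, hb, add_zero]
      | smul c a ha' ha =>
        have hπ : (D2' A B T).π a = 0 := by
          apply π2'_eq_zero_of_vmap
          have : a ∈ RingHom.ker (vmap A B T) := by rw [ker_vmap]; exact ha'
          exact this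
        rw [smul_eq_mul, (D2' A B T).K0_mul, ha, smul_zero, hπ, zero_smul, add_zero]
    have hker : ∀ y, (vmap A B T).toAddMonoidHom y = 0 → δ.1 y = 0 := by
      intro y hy
      apply hspan
      rw [← ker_vmap]
      exact hy
    obtain ⟨φ, hφ⟩ := exists_addHom_descend (vmap A B T).toAddMonoidHom (vmap_surjective A B T)
      δ.1 hker
    have hφ' : ∀ x, φ (vmap A B T x) = δ.1 x := hφ
    refine ⟨⟨φ, ?_, ?_⟩, ?_⟩
    · intro x y
      obtain ⟨x', rfl⟩ := vmap_surjective A B T x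
      obtain ⟨y', rfl⟩ := vmap_surjective A B T y
      rw [← map_mul, hφ', hφ', hφ', (D2' A B T).K0_mul]
      rfl
    · intro b
      change φ (algebraMap B (MvPolynomial T B) b) = 0
      have : algebraMap B (MvPolynomial T B) b = vmap A B T (C (X b)) := by
        rw [vmap_C, ev1_X]; rfl
      rw [this, hφ', hC]
    · apply Subtype.ext
      refine AddMonoidHom.ext fun x => ?_
      exact hφ' x
  · rintro ⟨δ3, rfl⟩
    apply Subtype.ext
    refine AddMonoidHom.ext fun x => ?_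
    change δ3.1 (vmap A B T (C x)) = 0
    rw [vmap_C]
    exact (D3 B T).K0_β δ3 (ev1 A B x)

variable (A B T) in
def cm (m : T →₀ ℕ) : T := (D2' A B T).π (monomial m 1)

lemma cm_add (m n : T →₀ ℕ) : cm A B T (m + n) = cm A B T m * cm A B T n := by
  rw [cm, cm, cm, ← map_mul, monomial_mul, one_mul]

lemma cm_zero : cm A B T 0 = 1 := by
  rw [cm]
  exact map_one _

lemma π_monomial (m : T →₀ ℕ) (a : MvPolynomial B A) :
    (D2' A B T).π (monomial m a) = (D1 A B T).π a * cm A B T m := by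
  have : (monomial m a : MvPolynomial T (MvPolynomial B A)) = C a * monomial m 1 := by
    rw [C_mul_monomial, mul_one]
  rw [this, map_mul]
  congr 1
  exact (hu A B T).hπ a

def ext0 (δ1 : (D1 A B T).K0 M) : MvPolynomial T (MvPolynomial B A) →+ M :=
  liftMon (fun m => (smulAddHom T M (cm A B T m)).comp δ1.1)

lemma ext0_monomial (δ1 : (D1 A B T).K0 M) (m : T →₀ ℕ) (a : MvPolynomial B A) :
    ext0 δ1 (monomial m a) = cm A B T m • δ1.1 a := by
  rw [ext0, liftMon_monomial]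
  rfl

lemma ext0_mul (δ1 : (D1 A B T).K0 M) (p q : MvPolynomial T (MvPolynomial B A)) :
    ext0 δ1 (p * q) = (D2' A B T).π p • ext0 δ1 q + (D2' A B T).π q • ext0 δ1 p := by
  induction p using MvPolynomial.induction_on' with
  | monomial m a =>
    induction q using MvPolynomial.induction_on' with
    | monomial n b =>
      rw [monomial_mul, ext0_monomial, ext0_monomial, ext0_monomial, π_monomial, π_monomial,
        (D1 A B T).K0_mul, cm_add, smul_add, smul_smul, smul_smul, smul_smul, smul_smul]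
      congr 1
      · congr 1; ring
      · congr 1; ring
    | add q1 q2 h1 h2 =>
      rw [mul_add, map_add, map_add, map_add, h1, h2, smul_add, add_smul]
      abel
  | add p1 p2 h1 h2 =>
    rw [add_mul, map_add, map_add, map_add, h1, h2, smul_add, add_smul]
    abel

lemma sur0 : Function.Surjective ((hu A B T).pull0 M) := by
  intro δ1
  refine ⟨⟨ext0 δ1, ext0_mul δ1, ?_⟩, ?_⟩
  · intro a
    change ext0 δ1 (algebraMap A (MvPolynomial T (MvPolynomial B A)) a) = 0
    rw [MvPolynomial.algebraMap_apply (σ := T) (S₁ := MvPolynomial B A), ← monomial_zero',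
      ext0_monomial]
    have := (D1 A B T).K0_β δ1 a
    rw [this, smul_zero]
  · apply Subtype.ext
    refine AddMonoidHom.ext fun x => ?_
    change ext0 δ1 (C x) = δ1.1 x
    rw [← monomial_zero', ext0_monomial, cm_zero, one_smul]

lemma hv_θ_inl (x : RingHom.ker (ev1 A B)) (a : MvPolynomial T (MvPolynomial B A)) :
    (hv A B T).h.θ (Finsupp.single (Sum.inl x) a) = 0 :=
  TripleAlg.hv_θ_inl _ _ _ _ (hs' A B T) (hv1' A B T) x a

lemma hv_θ_inr (z : RingHom.ker (ev3 B T)) (a : MvPolynomial T (MvPolynomial B A)) :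
    (hv A B T).h.θ (Finsupp.single (Sum.inr z) a) = Finsupp.single z (vmap A B T a) :=
  TripleAlg.hv_θ_inr _ _ _ _ (hs' A B T) (hv1' A B T) z a

lemma hu_θ_single (x : RingHom.ker (ev1 A B)) (a : MvPolynomial B A) :
    (hu A B T).h.θ (Finsupp.single x a) = Finsupp.single (Sum.inl x) (C a) :=
  TripleAlg.hu_θ_single _ _ x a

lemma hv_hu (f : (D1 A B T).F) : (hv A B T).h.θ ((hu A B T).h.θ f) = 0 :=
  TripleAlg.hv_hu _ _ _ _ (hs' A B T) (hv1' A B T) f

lemma inj1 : Function.Injective ((hv A B T).pull1 M) := by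
  intro ψ ψ' h
  apply (D3 B T).K1_ext
  intro z
  have h1 : ψ.1 ((hv A B T).h.θ (Finsupp.single (Sum.inr z) 1)) =
      ψ'.1 ((hv A B T).h.θ (Finsupp.single (Sum.inr z) 1)) :=
    congrArg (fun ε : (D2' A B T).K1 M => ε.1 (Finsupp.single (Sum.inr z) 1)) h
  rw [hv_θ_inr, map_one] at h1
  exact h1

lemma ex1 (ψ : (D2' A B T).K1 M) :
    (hu A B T).pull1 M ψ = 0 ↔ ∃ ψ3, (hv A B T).pull1 M ψ3 = ψ := by
  constructor
  · intro h
    refine ⟨(D3 B T).K1ofFun (fun z => ψ.1 (Finsupp.single (Sum.inr z) 1)), ?_⟩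
    apply (D2' A B T).K1_ext
    rintro (x | z)
    · rw [Hom.pull1_apply, hv_θ_inl, map_zero]
      have h1 : ψ.1 ((hu A B T).h.θ (Finsupp.single x 1)) = 0 :=
        congrArg (fun ε : (D1 A B T).K1 M => ε.1 (Finsupp.single x 1)) h
      rw [hu_θ_single, map_one] at h1
      exact h1.symm
    · rw [Hom.pull1_apply, hv_θ_inr, map_one, Dat.K1ofFun_single, map_one, one_smul]
  · rintro ⟨ψ3, rfl⟩
    apply Subtype.ext
    refine AddMonoidHom.ext fun f => ?_
    change ψ3.1 ((hv A B T).h.θ ((hu A B T).h.θ f)) = 0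
    rw [hv_hu, map_zero]

lemma sur1 : Function.Surjective ((hu A B T).pull1 M) := by
  intro ψ1
  refine ⟨(D2' A B T).K1ofFun (Sum.elim (fun x => ψ1.1 (Finsupp.single x 1)) (fun _ => 0)), ?_⟩
  apply (D1 A B T).K1_ext
  intro x
  rw [Hom.pull1_apply, hu_θ_single, map_one, Dat.K1ofFun_single, map_one, one_smul]
  rfl

end K0K1

section K2

variable {A B T}
variable {M : Type*} [AddCommGroup M] [Module T M]

lemma ker_vmap' : RingHom.ker (vmap A B T) =
    Ideal.span (Set.range fun x : RingHom.ker (ev1 A B) =>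
      (C ((fun x : RingHom.ker (ev1 A B) => x.1) x) : MvPolynomial T (MvPolynomial B A))) :=
  ker_vmap A B T

lemma L1 (q3 : (D3 B T).F) (hq3 : q3 ∈ Q (D3 B T).r) :
    ∃ q2 ∈ Q (D2' A B T).r, (hv A B T).h.θ q2 = q3 :=
  TripleAlg.L1 _ _ _ _ (hs' A B T) (hv1' A B T) (vmap_surjective A B T) ker_vmap' q3 hq3

lemma L2 {y : (D3 B T).F} (hy : y ∈ F0 (D3 B T).r) :
    ∃ t ∈ F0 (D2' A B T).r, (hv A B T).h.θ t = y :=
  TripleAlg.L2 _ _ _ _ (hs' A B T) (hv1' A B T) (vmap_surjective A B T) hy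

lemma L3 {q : (D2' A B T).F} (hq : q ∈ Q (D2' A B T).r) (h0 : (hv A B T).h.θ q = 0) :
    q ∈ F0 (D2' A B T).r ⊔ Submodule.span (MvPolynomial T (MvPolynomial B A))
      ((hu A B T).h.θ '' (Q (D1 A B T).r : Set (D1 A B T).F)) :=
  TripleAlg.L3 _ _ _ _ (hs' A B T) (hv1' A B T) ker_vmap' hq h0

lemma inj2 : Function.Injective ((hv A B T).pull2 M) :=
  inj2_gen (hv A B T) (fun q3 hq3 => L1 q3 hq3)

lemma ex2 (φ : (D2' A B T).K2 M) :
    (hu A B T).pull2 M φ = 0 ↔ ∃ φ3, (hv A B T).pull2 M φ3 = φ :=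
  ex2_gen (hu A B T) (hv A B T) (vmap_surjective A B T) (fun q3 hq3 => L1 q3 hq3)
    (fun _ hy => L2 hy) (fun _ hq h0 => L3 hq h0) hv_hu φ

end K2

section Special

variable (M : Type*) [AddCommGroup M] [Module T M]

theorem nine_special : Nine.NineTerm ((hv A B T).H0 M) ((hu A B T).H0 M) ((hv A B T).H1 M)
    ((hu A B T).H1 M) ((hv A B T).H2 M) ((hu A B T).H2 M) :=
  Nine.nineTerm ((D3 B T).d0 M) ((D3 B T).d1 M) ((D2' A B T).d0 M) ((D2' A B T).d1 M)
    ((D1 A B T).d0 M) ((D1 A B T).d1 M)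
    ((hv A B T).pull0 M) ((hv A B T).pull1 M) ((hv A B T).pull2 M)
    ((hu A B T).pull0 M) ((hu A B T).pull1 M) ((hu A B T).pull2 M)
    (fun y => (D2' A B T).d1_d0 y) (hv A B T).c0 (hv A B T).c1 (hu A B T).c0 (hu A B T).c1
    inj0 inj1 inj2 ex0 ex1 ex2 sur0 sur1

end Special

end

end Groth.Agent.Lib.Helper95.Triple
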