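import Groth.Agent.Lib.Helper95.NilEval
import Groth.Agent.Lib.Helper95.NewtonSolve
import Groth.Agent.Lib.Helper95.SymTransfer

set_option autoImplicit false
open MvPolynomial Finset

namespace Groth.Agent.Lib.Helper95.TruncModel

open Groth.Agent.Lib.Helper95.ChNewton Groth.Agent.Lib.Helper95.NewtonSolve
  Groth.Agent.Lib.Helper95.NilEval

section General

variable {R : Type*} [CommRing R] [Algebra ℚ R] (m : ℕ) (x : Fin m → R)

lemma aeval_aeval_EE (p : MvPolynomial (Fin m) ℚ) :
    aeval (fun i => aeval x (EE m i)) p = aeval x (aeval (EE m) p) := by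
  have h := comp_aeval (EE m) (aeval x : MvPolynomial (Fin m) ℚ →ₐ[ℚ] R)
  exact (DFunLike.congr_fun h p).symm

theorem isNewtonSeq_esymm_psum :
    IsNewtonSeq (fun a => aeval x (esymm (Fin m) ℚ a))
      (fun b => if b = 0 then 0 else aeval x (psum (Fin m) ℚ b)) := by
  have h := isNewtonSeq_ev m (fun i => aeval x (EE m i))
  have e1 : ev m (fun i => aeval x (EE m i)) = fun a => aeval x (esymm (Fin m) ℚ a) := by
    funext a
    unfold ev
    rw [aeval_aeval_EE, aeval_Ek]
  have e2 : nv m (fun i => aeval x (EE m i)) =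
      fun b => if b = 0 then 0 else aeval x (psum (Fin m) ℚ b) := by
    funext b
    unfold nv NN
    split_ifs with hb
    · rw [map_zero]
    · rw [aeval_aeval_EE, aeval_Nk]
  rw [e1, e2] at h
  exact h

lemma aeval_psum (b : ℕ) : aeval x (psum (Fin m) ℚ b) = ∑ i, x i ^ b := by
  unfold psum
  simp only [map_sum, map_pow, aeval_X]

lemma aeval_esymm_eq (a : ℕ) :
    aeval x (esymm (Fin m) ℚ a) = ∑ t ∈ powersetCard a univ, ∏ i ∈ t, x i := by
  unfold esymm
  simp only [map_sum, map_prod, aeval_X]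

lemma aeval_esymm_top : aeval x (esymm (Fin m) ℚ m) = ∏ i, x i := by
  rw [aeval_esymm_eq]
  have : powersetCard m (univ : Finset (Fin m)) = {univ} := by
    have h := Finset.powersetCard_self (univ : Finset (Fin m))
    rwa [Finset.card_univ, Fintype.card_fin] at h
  rw [this, Finset.sum_singleton]

lemma prod_one_sub_eq :
    ∏ i, (1 - x i) = ∑ a ∈ range (m + 1), (-1) ^ a * aeval x (esymm (Fin m) ℚ a) := by
  have h1 : ∏ i, (1 - x i) = ∏ i, (1 + -x i) :=
    Finset.prod_congr rfl fun i _ => by ring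
  rw [h1, Finset.prod_one_add]
  rw [Finset.sum_powerset, Finset.card_univ, Fintype.card_fin]
  refine Finset.sum_congr rfl fun a _ => ?_
  rw [aeval_esymm_eq, Finset.mul_sum]
  refine Finset.sum_congr rfl fun t ht => ?_
  rw [Finset.prod_neg, (Finset.mem_powersetCard.mp ht).2]

end General

section Model

variable (m d : ℕ)

abbrev Abar : Type := MvPolynomial (Fin m) ℚ ⧸ (idealOfVars (Fin m) ℚ ^ (d + 1))

noncomputable def q : MvPolynomial (Fin m) ℚ →ₐ[ℚ] Abar m d :=
  Ideal.Quotient.mkₐ ℚ (idealOfVars (Fin m) ℚ ^ (d + 1))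

noncomputable def w (i : Fin m) : Abar m d := q m d (X i)

lemma q_eq_zero_iff (p : MvPolynomial (Fin m) ℚ) :
    q m d p = 0 ↔ p ∈ idealOfVars (Fin m) ℚ ^ (d + 1) := by
  unfold q
  rw [Ideal.Quotient.mkₐ_eq_mk]
  exact Ideal.Quotient.eq_zero_iff_mem

lemma w_pow (i : Fin m) : w m d i ^ (d + 1) = 0 := by
  unfold w
  rw [← map_pow, q_eq_zero_iff]
  exact Ideal.pow_mem_pow (Ideal.subset_span (Set.mem_range_self i)) (d + 1)

lemma prod_w (hm : d < m) : ∏ i, w m d i = 0 := by
  unfold w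
  rw [← map_prod, q_eq_zero_iff]
  have h1 : ∏ i : Fin m, (X i : MvPolynomial (Fin m) ℚ) ∈ idealOfVars (Fin m) ℚ ^ m := by
    have := Ideal.prod_mem_prod (s := (univ : Finset (Fin m)))
      (I := fun _ => idealOfVars (Fin m) ℚ) (x := fun i => (X i : MvPolynomial (Fin m) ℚ))
      (fun i _ => Ideal.subset_span (Set.mem_range_self i))
    rwa [Finset.prod_const, Finset.card_univ, Fintype.card_fin] at this
  exact Ideal.pow_le_pow_right (by omega) h1

lemma q_eq_aeval : q m d = aeval (w m d) := by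
  unfold q w
  exact mkₐ_eq_aeval _

noncomputable def E (i : Fin m) : Abar m d := Polynomial.aeval (w m d i) (KGr.expTrunc d)

noncomputable def B (i : Fin m) : Abar m d := Polynomial.aeval (w m d i) (KGr.toddTrunc d)

noncomputable def kbar : MvPolynomial (Fin m) ℚ →ₐ[ℚ] Abar m d := (q m d).comp (aeval (EE m))

lemma kbar_apply (p : MvPolynomial (Fin m) ℚ) : kbar m d p = q m d (aeval (EE m) p) := rfl

lemma kbar_eq_zero_iff (p : MvPolynomial (Fin m) ℚ) :
    kbar m d p = 0 ↔ aeval (EE m) p ∈ idealOfVars (Fin m) ℚ ^ (d + 1) := by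
  rw [kbar_apply, q_eq_zero_iff]

lemma kbar_Ek (a : ℕ) : kbar m d (Ek m a) = aeval (w m d) (esymm (Fin m) ℚ a) := by
  rw [kbar_apply, aeval_Ek, q_eq_aeval]

lemma kbar_NN (b : ℕ) (hb : 0 < b) : kbar m d (NN m b) = ∑ i, w m d i ^ b := by
  unfold NN
  rw [if_neg (by omega), kbar_apply, aeval_Nk, q_eq_aeval, aeval_psum]

noncomputable def PsiT (j : ℕ) : MvPolynomial (Fin m) ℚ :=
  if j = 0 then 0 else
    C (m : ℚ) + ∑ k ∈ range d, C (((j : ℚ) ^ (k + 1)) / ((k + 1).factorial : ℚ)) * NN m (k + 1)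

noncomputable def L : ℕ → MvPolynomial (Fin m) ℚ := sol (PsiT m d)

lemma PsiT_zero : PsiT m d 0 = 0 := by
  unfold PsiT
  rw [if_pos rfl]

lemma isNewtonSeq_L : IsNewtonSeq (L m d) (PsiT m d) := isNewtonSeq_sol _ (PsiT_zero m d)

lemma L_zero : L m d 0 = 1 := sol_zero _

lemma kbar_PsiT (j : ℕ) (hj : 0 < j) : kbar m d (PsiT m d j) = ∑ i, E m d i ^ j := by
  unfold PsiT E
  rw [if_neg (by omega)]
  simp only [exp_pow (w_pow m d _)]
  rw [Finset.sum_comm]
  rw [Finset.sum_range_succ', map_add, map_sum]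
  rw [add_comm]
  congr 1
  · refine Finset.sum_congr rfl fun k _ => ?_
    rw [map_mul, kbar_NN m d (k + 1) (Nat.succ_pos k), ← Finset.smul_sum]
    have hc : kbar m d (C (((j : ℚ) ^ (k + 1)) / ((k + 1).factorial : ℚ))) =
        algebraMap ℚ (Abar m d) (((j : ℚ) ^ (k + 1)) / ((k + 1).factorial : ℚ)) :=
      (kbar m d).commutes _
    rw [hc, ← Algebra.smul_def]
  · simp

theorem kbar_L (a : ℕ) : kbar m d (L m d a) = aeval (E m d) (esymm (Fin m) ℚ a) := by
  have h1 : IsNewtonSeq (fun a => kbar m d (L m d a)) (fun b => kbar m d (PsiT m d b)) :=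
    IsNewtonSeq.map (kbar m d : MvPolynomial (Fin m) ℚ →+* Abar m d) (isNewtonSeq_L m d)
  have h2 := isNewtonSeq_esymm_psum m (E m d)
  have e : (fun b => kbar m d (PsiT m d b)) =
      fun b => if b = 0 then 0 else aeval (E m d) (psum (Fin m) ℚ b) := by
    funext b
    split_ifs with hb
    · rw [hb, PsiT_zero, map_zero]
    · rw [kbar_PsiT m d b (Nat.pos_of_ne_zero hb), aeval_psum]
  rw [e] at h1
  have := IsNewtonSeq.unique_left (by simp [L_zero]) (by simp) (by simp) h1 h2
  exact congrFun this a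

theorem model_big (hm : d < m) :
    aeval (EE m) (∑ a ∈ range (m + 1), (-1) ^ a * L m d a) ∈ idealOfVars (Fin m) ℚ ^ (d + 1) := by
  rw [← kbar_eq_zero_iff]
  simp only [map_sum, map_mul, map_pow, map_neg, map_one, kbar_L]
  rw [← prod_one_sub_eq]
  unfold E
  simp only [one_sub_exp_eq]
  rw [Finset.prod_mul_distrib, prod_w m d hm, zero_mul]

theorem model_main (TD : MvPolynomial (Fin m) ℚ)
    (hTD : aeval (EE m) TD = ∏ i, Polynomial.aeval (X i : MvPolynomial (Fin m) ℚ) (KGr.toddTrunc d)) :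
    aeval (EE m) (TD * ((-1) ^ m * ∑ a ∈ range (m + 1), (-1) ^ a * L m d a) - Ek m m * L m d m) ∈
      idealOfVars (Fin m) ℚ ^ (d + 1) := by
  rw [← kbar_eq_zero_iff]
  have hTD' : kbar m d TD = ∏ i, B m d i := by
    rw [kbar_apply, hTD, map_prod]
    refine Finset.prod_congr rfl fun i _ => ?_
    unfold B w
    rw [← Polynomial.aeval_algHom_apply]
  simp only [map_sub, map_sum, map_mul, map_pow, map_neg, map_one, kbar_L, hTD', kbar_Ek]
  rw [← prod_one_sub_eq, aeval_esymm_top, aeval_esymm_top]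
  have h1 : (-1 : Abar m d) ^ m * ∏ i, (1 - E m d i) = ∏ i, (E m d i - 1) := by
    have : ∀ i, E m d i - 1 = -(1 - E m d i) := fun i => by ring
    simp only [this]
    rw [Finset.prod_neg (s := univ) (fun i => 1 - E m d i), Finset.card_univ, Fintype.card_fin]
  rw [h1, ← Finset.prod_mul_distrib, ← Finset.prod_mul_distrib, sub_eq_zero]
  refine Finset.prod_congr rfl fun i _ => ?_
  exact todd_identity (w_pow m d i)

end Model

end Groth.Agent.Lib.Helper95.TruncModel
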