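import Groth.Agent.Lib.Helper95.MultiFam
import Mathlib.Algebra.MvPolynomial.Division

set_option autoImplicit false
open MvPolynomial Finset LambdaRing

namespace Groth.Agent.Lib.Helper95.UQ

open Groth.Agent.Lib.Helper95.UnivRing Groth.Agent.Lib.Helper95.MinDegR
  Groth.Agent.Lib.Helper95.UnivGamma Groth.Agent.Lib.Helper95.Rep
  Groth.Agent.Lib.Helper95.UnivPoly Groth.Agent.Lib.Helper95.UnivLead
  Groth.Agent.Lib.Helper95.MultiFam

section Keep

variable {σ : Type*} {R : Type*} [CommRing R]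

open Classical in
noncomputable def keep (S : Set σ) (p : MvPolynomial σ R) : MvPolynomial σ R :=
  ∑ m ∈ p.support.filter (fun m => ∀ t ∈ m.support, t ∉ S), monomial m (coeff m p)

lemma support_keep (S : Set σ) (p : MvPolynomial σ R) {m : σ →₀ ℕ} (hm : m ∈ (keep S p).support) :
    m ∈ p.support ∧ ∀ t ∈ m.support, t ∉ S := by
  classical
  unfold keep at hm
  have h1 := MvPolynomial.support_sum hm
  rw [Finset.mem_biUnion] at h1
  obtain ⟨m', hm', hmm'⟩ := h1
  have := support_monomial_subset hmm'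
  rw [Finset.mem_singleton] at this
  subst this
  exact Finset.mem_filter.mp hm'

lemma aeval_keep {B : Type*} [CommRing B] [Algebra R B] (S : Set σ) (g : σ → B)
    (hg : ∀ t ∈ S, g t = 0) (p : MvPolynomial σ R) : aeval g (keep S p) = aeval g p := by
  classical
  conv_rhs => rw [p.as_sum, map_sum]
  rw [keep, map_sum, ← Finset.sum_filter_add_sum_filter_not p.support
    (fun m => ∀ t ∈ m.support, t ∉ S) (fun m => aeval g (monomial m (coeff m p)))]
  rw [left_eq_add]
  refine Finset.sum_eq_zero fun m hm => ?_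
  rw [Finset.mem_filter] at hm
  obtain ⟨_, hm2⟩ := hm
  push Not at hm2
  obtain ⟨t, ht, htS⟩ := hm2
  rw [aeval_monomial, Finsupp.prod]
  rw [Finset.prod_eq_zero ht, mul_zero]
  rw [hg t htS, zero_pow (Finsupp.mem_support_iff.mp ht)]

end Keep

section Step

lemma sumAlgEquiv_symm_C' (m : ℕ) {τ : Type} (q : MvPolynomial τ ℤ) :
    (sumAlgEquiv ℤ (Fin m) τ).symm (C q) = rename Sum.inr q := by
  rw [AlgEquiv.symm_apply_eq]
  have := congrArg (fun φ => φ q) (sumAlgEquiv_comp_rename_inr (R := ℤ) (S₁ := Fin m) (S₂ := τ))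
  simp only [AlgHom.comp_apply] at this
  exact this.symm

lemma sumAlgEquiv_symm_esymm' (m : ℕ) {τ : Type} (k : ℕ) :
    (sumAlgEquiv ℤ (Fin m) τ).symm (esymm (Fin m) (MvPolynomial τ ℤ) k) =
      rename Sum.inl (esymm (Fin m) ℤ k) := by
  rw [esymm, esymm, map_sum, map_sum]
  refine Finset.sum_congr rfl fun t _ => ?_
  rw [map_prod, map_prod]
  refine Finset.prod_congr rfl fun a _ => ?_
  rw [rename_X, sumAlgEquiv_symm_X]

theorem algInd_step (m : ℕ) {τ : Type} (x : τ → MvPolynomial τ ℤ)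
    (hx : AlgebraicIndependent ℤ x) :
    AlgebraicIndependent ℤ
      (Sum.elim (fun k : Fin m => rename Sum.inl (esymm (Fin m) ℤ ((k : ℕ) + 1)))
        (fun t : τ => rename Sum.inr (x t)) : Fin m ⊕ τ → MvPolynomial (Fin m ⊕ τ) ℤ) := by
  have hy : AlgebraicIndependent (MvPolynomial τ ℤ)
      (fun k : Fin m => esymm (Fin m) (MvPolynomial τ ℤ) ((k : ℕ) + 1)) := by
    intro p q hpq
    apply esymmAlgHom_fin_injective (MvPolynomial τ ℤ) (le_refl m)
    apply Subtype.ext
    rw [esymmAlgHom_apply, esymmAlgHom_apply]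
    exact hpq
  have h := (hx.sumElim_comp hy).map' (f := (sumAlgEquiv ℤ (Fin m) τ).symm.toAlgHom)
    (sumAlgEquiv ℤ (Fin m) τ).symm.injective
  have key : (Sum.elim (fun k : Fin m => rename Sum.inl (esymm (Fin m) ℤ ((k : ℕ) + 1)))
        (fun t : τ => rename Sum.inr (x t)) : Fin m ⊕ τ → MvPolynomial (Fin m ⊕ τ) ℤ) =
      (⇑(sumAlgEquiv ℤ (Fin m) τ).symm.toAlgHom ∘
        Sum.elim (fun k : Fin m => esymm (Fin m) (MvPolynomial τ ℤ) ((k : ℕ) + 1))
          (⇑(algebraMap (MvPolynomial τ ℤ) (MvPolynomial (Fin m) (MvPolynomial τ ℤ))) ∘ x)) := by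
    funext t
    rcases t with p | t
    · exact (sumAlgEquiv_symm_esymm' m _).symm
    · exact (sumAlgEquiv_symm_C' m _).symm
  rw [key]
  exact h

end Step

section UPrime

variable (d' N r : ℕ)

def th' : Fin d' ⊕ Tn N r → Fin (r + 1) × ℕ :=
  Sum.elim (fun p => (0, (p : ℕ))) (fun t => ((th N r t).1.succ, (th N r t).2))

lemma th'_injective : Function.Injective (th' d' N r) := by
  rintro (a | a) (b | b) h
  · simp only [th', Sum.elim_inl, Prod.mk.injEq, true_and] at h
    exact congrArg Sum.inl (Fin.ext h)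
  · simp only [th', Sum.elim_inl, Sum.elim_inr, Prod.mk.injEq] at h
    exact absurd h.1 (Fin.succ_ne_zero _).symm
  · simp only [th', Sum.elim_inl, Sum.elim_inr, Prod.mk.injEq] at h
    exact absurd h.1 (Fin.succ_ne_zero _)
  · simp only [th', Sum.elim_inr, Prod.mk.injEq, Fin.succ_inj] at h
    exact congrArg Sum.inr (th_injective N r (Prod.ext h.1 h.2))

noncomputable def E' : Fin d' ⊕ Tn N r → MvPolynomial (Fin d' ⊕ Tn N r) ℤ :=
  Sum.elim (fun k : Fin d' => rename Sum.inl (esymm (Fin d') ℤ ((k : ℕ) + 1)))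
    (fun t : Tn N r => rename Sum.inr (E N r t))

lemma E'_algInd : AlgebraicIndependent ℤ (E' d' N r) :=
  algInd_step d' (E N r) (E_algInd N r)

noncomputable def uxm' : Fin (r + 1) → MvPolynomial (Fin d' ⊕ Tn N r) ℚ :=
  Fin.cons (∑ p : Fin d', X (Sum.inl p)) (fun s => ∑ p : Fin N, X (Sum.inr (emb N r s p)))

lemma gamma_uxm'_zero (k : ℕ) :
    gamma k (uxm' d' N r 0) = rename Sum.inl (esymm (Fin d') ℚ k) := by
  simp only [uxm', Fin.cons_zero]
  exact gamma_sum_X_rename _ Sum.inl k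

lemma gamma_uxm'_zero_of_lt (k : ℕ) (hk : d' < k) : gamma k (uxm' d' N r 0) = 0 := by
  rw [gamma_uxm'_zero, esymm, Finset.powersetCard_eq_empty.mpr (by simpa using hk)]
  simp

lemma gamma_uxm'_succ (s : Fin r) (k : ℕ) :
    gamma k (uxm' d' N r s.succ) = rename (fun p => Sum.inr (emb N r s p)) (esymm (Fin N) ℚ k) := by
  simp only [uxm', Fin.cons_succ]
  exact gamma_sum_X_rename _ (fun p => Sum.inr (emb N r s p)) k

lemma gamma_uxm'_th' (t : Fin d' ⊕ Tn N r) :
    gamma ((th' d' N r t).2 + 1) (uxm' d' N r (th' d' N r t).1) =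
      MvPolynomial.map (Int.castRingHom ℚ) (E' d' N r t) := by
  rcases t with p | t
  · simp only [th', Sum.elim_inl, E']
    rw [gamma_uxm'_zero, map_rename, map_esymm]
  · simp only [th', Sum.elim_inr, E']
    rw [gamma_uxm'_succ, E, map_rename, map_rename, map_esymm, rename_rename]
    rfl

theorem zero_detect (ρ : MvPolynomial (Fin (r + 1) × ℕ) ℤ)
    (hvars : ∀ ip ∈ ρ.vars, ip ∈ Set.range (th' d' N r))
    (h0 : evG (uxm' d' N r) ρ = 0) : ρ = 0 := by
  classical
  obtain ⟨ρn, hρn⟩ := exists_rename_eq_of_vars_subset_range ρ (th' d' N r) (th'_injective d' N r)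
    (fun ip hip => hvars ip hip)
  have e1 : evG (uxm' d' N r) ρ =
      MvPolynomial.map (Int.castRingHom ℚ) (aeval (E' d' N r) ρn) := by
    rw [← hρn, evG, aeval_rename]
    have : ((aeval ((fun ip : Fin (r + 1) × ℕ => gamma (ip.2 + 1) (uxm' d' N r ip.1)) ∘
        th' d' N r) : MvPolynomial (Fin d' ⊕ Tn N r) ℤ →ₐ[ℤ]
          MvPolynomial (Fin d' ⊕ Tn N r) ℚ) : _ →+* _) =
        (MvPolynomial.map (Int.castRingHom ℚ)).comp
          (aeval (E' d' N r) : MvPolynomial (Fin d' ⊕ Tn N r) ℤ →ₐ[ℤ]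
            MvPolynomial (Fin d' ⊕ Tn N r) ℤ).toRingHom := by
      apply MvPolynomial.ringHom_ext
      · intro a; simp
      · intro q
        simp only [RingHom.coe_coe, aeval_X, Function.comp_apply, RingHom.comp_apply,
          AlgHom.toRingHom_eq_coe]
        exact gamma_uxm'_th' d' N r q
    exact congrArg (fun φ => φ ρn) this
  rw [e1] at h0
  have h1 : aeval (E' d' N r) ρn = 0 := by
    apply MvPolynomial.map_injective (Int.castRingHom ℚ) Int.cast_injective
    rw [h0, map_zero]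
  have h2 : ρn = 0 := by
    apply E'_algInd d' N r
    rw [h1, map_zero]
  rw [← hρn, h2, map_zero]

end UPrime

end Groth.Agent.Lib.Helper95.UQ
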