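import Groth.Agent.Lib.Helper95.UQ1

set_option autoImplicit false
open MvPolynomial Finset LambdaRing

namespace Groth.Agent.Lib.Helper95.UQ

open Groth.Agent.Lib.Helper95.UnivRing Groth.Agent.Lib.Helper95.MinDegR
  Groth.Agent.Lib.Helper95.UnivGamma Groth.Agent.Lib.Helper95.Rep
  Groth.Agent.Lib.Helper95.UnivPoly Groth.Agent.Lib.Helper95.UnivLead
  Groth.Agent.Lib.Helper95.MultiFam Groth.Agent.Lib.Helper26.LambdaGamma

universe v

theorem transfer_both {r : ℕ} (F : MvPolynomial (Fin r × ℕ) ℤ) (hF0 : constantCoeff F = 0)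
    (e : ℕ) (hFe : ∀ m ∈ F.support, e ≤ Finsupp.weight (wtr r) m) :
    ∃ Gs : ℕ → MvPolynomial (Fin r × ℕ) ℤ,
      (∀ a, GoodG.{v} F a (Gs a) ∧ GoodG.{0} F a (Gs a)) ∧
      (∀ a, 1 ≤ a → ∀ m ∈ (Gs a).support, max a e ≤ Finsupp.weight (wtr r) m) ∧
      (1 ≤ e → ∀ m ∈ (Gs e - C ((-1) ^ (e - 1) * ((e - 1).factorial : ℤ)) * F).support,
        e + 1 ≤ Finsupp.weight (wtr r) m) := by
  classical
  obtain ⟨Gs, hGs⟩ := exists_goodG.{v} F
  refine ⟨Gs, hGs, ?_, ?_⟩
  · intro c hc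
    refine weights_of_md_multi _ _ fun n => ?_
    have key := (hGs c).2 (MvPolynomial (Tn n r) ℚ) (univ_isSpecial _) (uxm n r)
    rw [← key]
    have h1 : MD c (gamma c (evG (uxm n r) F)) :=
      goodElt_of_mem_T _ (evG_uxm_mem_T n r F hF0) c
    rcases le_total c e with h | h
    · rw [max_eq_right h]
      obtain ⟨c', rfl⟩ : ∃ c', c = c' + 1 := ⟨c - 1, by omega⟩
      exact gamma_md _ (by omega) (md_evG_uxm n r F e hFe) c'
    · rw [max_eq_left h]
      exact h1
  · intro he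
    refine weights_of_md_multi _ _ fun n => ?_
    have key := (hGs e).2 (MvPolynomial (Tn n r) ℚ) (univ_isSpecial _) (uxm n r)
    rw [map_sub, map_mul, ← key]
    have := gamma_lead _ he (md_evG_uxm n r F e hFe)
    convert this using 3
    rw [evG, aeval_C]
    simp [map_mul, map_pow]

theorem div_gamma {r : ℕ} (d : ℕ) (hd : 1 ≤ d) (P : MvPolynomial (Fin (r + 1) × ℕ) ℤ)
    (hP : ∀ N, evG (uxm' (d - 1) N r) P = 0) :
    ∃ R : MvPolynomial (Fin (r + 1) × ℕ) ℤ,
      (∀ (A : Type v) [CommRing A] [LambdaOps A] (n : A) (y : Fin r → A),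
        (∀ k, d < k → gamma k n = 0) →
        evG (Fin.cons n y : Fin (r + 1) → A) P =
          gamma d n * evG (Fin.cons n y : Fin (r + 1) → A) R) ∧
      (∀ m ∈ R.support, Finsupp.single ((0 : Fin (r + 1)), d - 1) 1 + m ∈ P.support) := by
  classical
  set S : Set (Fin (r + 1) × ℕ) := {ip | ip.1 = 0 ∧ d ≤ ip.2} with hS
  set v : Fin (r + 1) × ℕ := (0, d - 1) with hv
  set P₁ := keep S P with hP₁
  set R := MvPolynomial.divMonomial P₁ (Finsupp.single v 1) with hR
  set ρ := MvPolynomial.modMonomial P₁ (Finsupp.single v 1) with hρ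
  have hdecomp : X v * R + ρ = P₁ := divMonomial_add_modMonomial_single P₁ v
  set N := P.vars.sup (fun ip => ip.2) + 1 with hN
  have hsuppρ : ∀ m ∈ ρ.support, m ∈ P.support ∧ (∀ t ∈ m.support, t ∉ S) ∧ m v = 0 := by
    intro m hm
    have hc := mem_support_iff.mp hm
    have hnle : ¬ Finsupp.single v 1 ≤ m := by
      intro hle
      exact hc (coeff_modMonomial_of_le P₁ hle)
    have hc' : coeff m P₁ ≠ 0 := by
      rw [← coeff_modMonomial_of_not_le P₁ hnle]; exact hc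
    have h1 := support_keep S P (mem_support_iff.mpr hc')
    refine ⟨h1.1, h1.2, ?_⟩
    by_contra hne
    apply hnle
    rw [Finsupp.single_le_iff]
    omega
  have hρvars : ∀ ip ∈ ρ.vars, ip ∈ Set.range (th' (d - 1) N r) := by
    intro ip hip
    obtain ⟨m, hm, hipm⟩ := (mem_vars_iff_mem_support ip).mp hip
    obtain ⟨hmP, hmS, hmv⟩ := hsuppρ m hm
    have hipP : ip ∈ P.vars := (mem_vars_iff_mem_support ip).mpr ⟨m, hmP, hipm⟩
    have hlt : ip.2 < N := by
      rw [hN]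
      exact Nat.lt_succ_of_le (Finset.le_sup (f := fun ip : Fin (r + 1) × ℕ => ip.2) hipP)
    obtain ⟨s, k⟩ := ip
    induction s using Fin.cases with
    | zero =>
      have h1 : ¬ d ≤ k := fun h => hmS _ hipm ⟨rfl, h⟩
      have h2 : k ≠ d - 1 := by
        rintro rfl
        exact (Finsupp.mem_support_iff.mp hipm) hmv
      exact ⟨Sum.inl ⟨k, by omega⟩, rfl⟩
    | succ s' =>
      refine ⟨Sum.inr (emb N r s' ⟨k, hlt⟩), ?_⟩
      simp only [th', Sum.elim_inr, th_emb]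
  have hgU : ∀ t ∈ S, gamma (t.2 + 1) (uxm' (d - 1) N r t.1) = 0 := by
    rintro ⟨s, k⟩ ⟨hs, hk⟩
    simp only at hs hk
    subst hs
    exact gamma_uxm'_zero_of_lt _ _ _ _ (by omega)
  have hρ0 : evG (uxm' (d - 1) N r) ρ = 0 := by
    have h1 : ρ = P₁ - X v * R := by rw [← hdecomp]; ring
    rw [h1, map_sub, map_mul, evG_X, hP₁]
    have h2 : evG (uxm' (d - 1) N r) (keep S P) = evG (uxm' (d - 1) N r) P :=
      aeval_keep S _ hgU P
    rw [h2, hP N, hv]
    simp only
    rw [gamma_uxm'_zero_of_lt _ _ _ _ (by omega), zero_mul, sub_zero]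
  have hρz : ρ = 0 := zero_detect (d - 1) N r ρ hρvars hρ0
  refine ⟨R, ?_, ?_⟩
  · intro A _ _ n y hn
    have hgA : ∀ t ∈ S, gamma (t.2 + 1) ((Fin.cons n y : Fin (r + 1) → A) t.1) = 0 := by
      rintro ⟨s, k⟩ ⟨hs, hk⟩
      simp only at hs hk
      subst hs
      simp only [Fin.cons_zero]
      exact hn _ (by omega)
    have h2 : evG (Fin.cons n y : Fin (r + 1) → A) (keep S P) =
        evG (Fin.cons n y : Fin (r + 1) → A) P := aeval_keep S _ hgA P
    rw [← h2, ← hP₁, ← hdecomp, hρz, add_zero, map_mul, evG_X, hv]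
    simp only [Fin.cons_zero]
    rw [Nat.sub_add_cancel hd]
  · intro m hm
    have hc := mem_support_iff.mp hm
    rw [hR, coeff_divMonomial] at hc
    exact (support_keep S P (mem_support_iff.mpr hc)).1


def sh (r : ℕ) : Fin r × ℕ → Fin (r + 1) × ℕ := fun ip => (ip.1.succ, ip.2)

lemma sh_injective (r : ℕ) : Function.Injective (sh r) := by
  rintro ⟨a, b⟩ ⟨a', b'⟩ h
  simp only [sh, Prod.mk.injEq, Fin.succ_inj] at h
  exact Prod.ext h.1 h.2

lemma evG_cons_rename {A : Type*} [CommRing A] [LambdaOps A] {r : ℕ} (n : A) (y : Fin r → A)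
    (F : MvPolynomial (Fin r × ℕ) ℤ) :
    evG (Fin.cons n y : Fin (r + 1) → A) (rename (sh r) F) = evG y F := by
  rw [evG, aeval_rename, evG]
  congr 1

lemma weight_sh {r : ℕ} (m : Fin r × ℕ →₀ ℕ) :
    Finsupp.weight (wtr (r + 1)) (Finsupp.mapDomain (sh r) m) = Finsupp.weight (wtr r) m := by
  rw [Finsupp.weight_apply, Finsupp.weight_apply, Finsupp.sum_mapDomain_index]
  · rfl
  · intro i; simp
  · intro i m m'; rw [add_smul]

lemma weight_single_v (r d : ℕ) (hd : 1 ≤ d) :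
    Finsupp.weight (wtr (r + 1)) (Finsupp.single ((0 : Fin (r + 1)), d - 1) 1) = d := by
  rw [Finsupp.weight_single]
  simp only [wtr, smul_eq_mul, one_mul]
  omega

theorem univ_quot {r : ℕ} (d : ℕ) (hd : 1 ≤ d) (F : MvPolynomial (Fin r × ℕ) ℤ) (i : ℕ)
    (hF : ∀ m ∈ F.support, i ≤ Finsupp.weight (wtr r) m) :
    ∃ (Rs : ℕ → MvPolynomial (Fin (r + 1) × ℕ) ℤ) (RL : MvPolynomial (Fin (r + 1) × ℕ) ℤ),
      (∀ a, 1 ≤ a → ∀ (A : Type v) [CommRing A] [LambdaOps A], IsSpecial A →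
        ∀ (n : A) (y : Fin r → A), (∀ k, d < k → gamma k n = 0) →
        gamma a (evG y F * gamma d n) =
          gamma d n * evG (Fin.cons n y : Fin (r + 1) → A) (Rs a)) ∧
      (∀ a, 1 ≤ a → ∀ m ∈ (Rs a).support, max (a - d) i ≤ Finsupp.weight (wtr (r + 1)) m) ∧
      (∀ (A : Type v) [CommRing A] [LambdaOps A], IsSpecial A →
        ∀ (n : A) (y : Fin r → A), (∀ k, d < k → gamma k n = 0) →
        gamma (d + i) (evG y F * gamma d n) -
          (-1 : A) ^ (d + i - 1) * ((d + i - 1).factorial : A) * (evG y F * gamma d n) =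
          gamma d n * evG (Fin.cons n y : Fin (r + 1) → A) RL) ∧
      (∀ m ∈ RL.support, i + 1 ≤ Finsupp.weight (wtr (r + 1)) m) := by
  classical
  set vv : Fin (r + 1) × ℕ := (0, d - 1) with hvv
  set F' : MvPolynomial (Fin (r + 1) × ℕ) ℤ := rename (sh r) F * X vv with hF'
  have hF'0 : constantCoeff F' = 0 := by
    rw [hF', map_mul, constantCoeff_X, mul_zero]
  have hF'w : ∀ m ∈ F'.support, d + i ≤ Finsupp.weight (wtr (r + 1)) m := by
    intro m hm
    rw [hF', support_mul_X, Finset.mem_map] at hm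
    obtain ⟨m₀, hm₀, rfl⟩ := hm
    rw [support_rename_of_injective (sh_injective r), Finset.mem_image] at hm₀
    obtain ⟨m₁, hm₁, rfl⟩ := hm₀
    simp only [addRightEmbedding_apply]
    rw [map_add, weight_sh, hvv, weight_single_v r d hd]
    have := hF m₁ hm₁
    omega
  obtain ⟨Gs, hGs, hGw, hGl⟩ := transfer_both.{v} F' hF'0 (d + i) hF'w
  have evF' : ∀ {B : Type v} [CommRing B] [LambdaOps B] (n : B) (y : Fin r → B),
      evG (Fin.cons n y : Fin (r + 1) → B) F' = evG y F * gamma d n := by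
    intro B _ _ n y
    rw [hF', map_mul, evG_cons_rename, evG_X, hvv]
    simp only [Fin.cons_zero]
    rw [Nat.sub_add_cancel hd]
  have hU0 : ∀ N, evG (uxm' (d - 1) N r) F' = 0 := by
    intro N
    rw [hF', map_mul, evG_X, hvv]
    simp only
    rw [gamma_uxm'_zero_of_lt _ _ _ _ (by omega), mul_zero]
  have hex : ∀ a, ∃ R : MvPolynomial (Fin (r + 1) × ℕ) ℤ, 1 ≤ a →
      (∀ (A : Type v) [CommRing A] [LambdaOps A] (n : A) (y : Fin r → A),
        (∀ k, d < k → gamma k n = 0) →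
        evG (Fin.cons n y : Fin (r + 1) → A) (Gs a) =
          gamma d n * evG (Fin.cons n y : Fin (r + 1) → A) R) ∧
      (∀ m ∈ R.support, Finsupp.single ((0 : Fin (r + 1)), d - 1) 1 + m ∈ (Gs a).support) := by
    intro a
    by_cases ha : 1 ≤ a
    · obtain ⟨R, h1, h2⟩ := div_gamma.{v} d hd (Gs a) (fun N => by
        rw [← (hGs a).2 _ (univ_isSpecial _) (uxm' (d - 1) N r), hU0 N, gamma_zero_right,
          if_neg (by omega)])
      exact ⟨R, fun _ => ⟨h1, h2⟩⟩
    · exact ⟨0, fun h => absurd h ha⟩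
  choose Rs hRs using hex
  set cc : ℤ := (-1) ^ (d + i - 1) * ((d + i - 1).factorial : ℤ) with hcc
  obtain ⟨RL, hRL1, hRL2⟩ := div_gamma.{v} d hd (Gs (d + i) - C cc * F') (fun N => by
    rw [map_sub, map_mul, ← (hGs (d + i)).2 _ (univ_isSpecial _) (uxm' (d - 1) N r), hU0 N,
      gamma_zero_right, if_neg (by omega), mul_zero, sub_zero])
  refine ⟨Rs, RL, ?_, ?_, ?_, ?_⟩
  · intro a ha A _ _ hA n y hn
    rw [← evF' n y, (hGs a).1 A hA, (hRs a ha).1 A n y hn]
  · intro a ha m hm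
    have h1 := hGw a ha _ ((hRs a ha).2 m hm)
    rw [map_add, weight_single_v r d hd] at h1
    omega
  · intro A _ _ hA n y hn
    rw [← hRL1 A n y hn, map_sub, map_mul, ← (hGs (d + i)).1 A hA, evF' n y]
    congr 2
    rw [evG, aeval_C, hcc]
    simp
  · intro m hm
    have h1 := hGl (by omega) _ (hRL2 m hm)
    rw [map_add, weight_single_v r d hd] at h1
    omega

end Groth.Agent.Lib.Helper95.UQ
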