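import Groth.Agent.Lib.Helper95.UQ2
import Groth.Agent.Lib.Helper95.Lead
import Groth.Agent.S8649
import Groth.Agent.S8650

set_option autoImplicit false
open MvPolynomial Finset LambdaRing

namespace Groth.Agent.Lib.Helper95.UQ

open Groth.Agent.Lib.Helper95.Rep Groth.Agent.Lib.Helper95.GamFil
  Groth.Agent.Lib.Helper95.GammaClosure Groth.Agent.Lib.Helper95.MultiFam
  Groth.Agent.Lib.Helper95.ScalarLK Groth.Agent.Lib.Helper26.LambdaGamma
  Groth.Agent.Lib.Helper95.Lead

universe u v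

section Rank

variable {A : Type v} [CommRing A] [LambdaOps A]

lemma gamma_rank_zero (h1 : ∀ k : ℕ, 2 ≤ k → LambdaOps.lam k (1 : A) = 0) (d : ℕ) (N : A)
    (hN : ∀ k : ℕ, d < k → LambdaOps.lam k N = 0) (k : ℕ) (hk : d < k) :
    gamma k (N - (d : A)) = 0 := by
  rw [Groth.Agent.S8649.result A h1 k (N - (d : A))]
  have e : N - (d : A) + (k : A) - 1 = N + ((k - d - 1 : ℕ) : A) := by
    have : (k : A) = ((k - d - 1 : ℕ) : A) + (d : A) + 1 := by
      have h2 : k = (k - d - 1) + d + 1 := by omega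
      conv_lhs => rw [h2]
      push_cast; ring
    rw [this]; ring
  rw [e, Groth.Agent.S8649.lam_add_natCast h1]
  refine Finset.sum_eq_zero fun i hi => ?_
  rcases Nat.lt_or_ge d i with h | h
  · rw [hN i h, zero_mul]
  · have hi' := Finset.mem_range.mp hi
    rw [Nat.choose_eq_zero_of_lt (by omega), Nat.cast_zero, mul_zero]

lemma gamma_rank_top (h1 : ∀ k : ℕ, 2 ≤ k → LambdaOps.lam k (1 : A) = 0) (d : ℕ) (N : A) :
    gamma d (N - (d : A)) =
      (-1 : A) ^ d * ∑ j ∈ range (d + 1), (-1 : A) ^ j * LambdaOps.lam j N := by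
  rw [Groth.Agent.S8649.result A h1 d (N - (d : A)), Groth.Agent.S8650.result A h1 d (N - (d : A)),
    sub_add_cancel]

end Rank


section CB

variable {A : Type v} [CommRing A]

lemma tailSeries_smul (c : A) (b : ℕ → A) :
    tailSeries (fun j => c * b j) = PowerSeries.C c * tailSeries b := by
  ext j
  rw [PowerSeries.coeff_C_mul, tailSeries, tailSeries, PowerSeries.coeff_mk, PowerSeries.coeff_mk]
  split_ifs <;> simp

lemma cB_smul (c : A) (b : ℕ → A) (k j : ℕ) :
    cB (fun j => c * b j) k j = c ^ k * cB b k j := by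
  rw [cB, cB, tailSeries_smul, mul_pow, ← map_pow, PowerSeries.coeff_C_mul]

lemma cB_mem_w {I : ℕ → Ideal A} (hI : IsFilt I) (d i : ℕ) (b : ℕ → A)
    (hb : ∀ j, b j ∈ I (max (j + 1 - d) i)) (k a : ℕ) :
    cB b k a ∈ I (max (a - k * d) (k * i)) := by
  induction k generalizing a with
  | zero =>
    rw [cB_zero]
    split_ifs with h
    · subst h; simp [hI.zero]
    · exact zero_mem _
  | succ k ih =>
    rw [cB_succ]
    refine sum_mem fun p hp => ?_
    have hpa := Finset.HasAntidiagonal.mem_antidiagonal.mp hp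
    rw [cB_one]
    split_ifs with h
    · rw [mul_zero]; exact zero_mem _
    · have h1 := ih p.1
      have h2 := hb (p.2 - 1)
      refine hI.anti ?_ (hI.mul h1 h2)
      rw [Nat.succ_mul, Nat.succ_mul]
      omega

end CB

section DQ

variable {A : Type v} [CommRing A] [LambdaOps A]

def DQ (I : ℕ → Ideal A) (d : ℕ) (Γ : A) (i : ℕ) (w : A) : Prop :=
  ∃ q : ℕ → A, (∀ a, 1 ≤ a → q a ∈ I (max (a - d) i) ∧ gamma a (w * Γ) = Γ * q a) ∧
    q (d + i) - (-1 : A) ^ (d + i - 1) * ((d + i - 1).factorial : A) * w ∈ I (i + 1)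

lemma DQ.zero {I : ℕ → Ideal A} (d : ℕ) (Γ : A) (i : ℕ) : DQ I d Γ i (0 : A) := by
  refine ⟨fun _ => 0, fun a ha => ⟨zero_mem _, ?_⟩, ?_⟩
  · rw [zero_mul, gamma_zero_right, if_neg (by omega), mul_zero]
  · simp

lemma DQ.of_succ {I : ℕ → Ideal A} (hI : IsFilt I) {d : ℕ} {Γ : A} {i : ℕ} {w : A}
    (h : DQ I d Γ (i + 1) w) (hw : w ∈ I (i + 1)) (hd : 1 ≤ d) : DQ I d Γ i w := by
  obtain ⟨q, hq, _⟩ := h
  refine ⟨q, fun a ha => ⟨hI.anti (by omega) (hq a ha).1, (hq a ha).2⟩, ?_⟩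
  refine sub_mem (hI.anti (by omega) (hq (d + i) (by omega)).1) (Ideal.mul_mem_left _ _ hw)

lemma DQ.add {I : ℕ → Ideal A} (hI : IsFilt I) {d : ℕ} (hd : 1 ≤ d) {Γ : A} (hΓ : Γ ∈ I d)
    {i : ℕ} {z w : A} (hz : DQ I d Γ i z) (hw : DQ I d Γ i w) : DQ I d Γ i (z + w) := by
  obtain ⟨qz, hqz, hlz⟩ := hz
  obtain ⟨qw, hqw, hlw⟩ := hw
  have hmix : ∀ a b : ℕ, b + 1 < a →
      Γ * qz (b + 1) * qw (a - (b + 1)) ∈ I (max (a - d) i) ∧
      Γ * qz (b + 1) * qw (a - (b + 1)) ∈ I (i + 1) := by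
    intro a b hb
    have h1 := (hqz (b + 1) (by omega)).1
    have h2 := (hqw (a - (b + 1)) (by omega)).1
    have h3 := hI.mul (hI.mul hΓ h1) h2
    exact ⟨hI.anti (by omega) h3, hI.anti (by omega) h3⟩
  refine ⟨fun a => qz a + qw a + ∑ b ∈ range (a - 1), Γ * qz (b + 1) * qw (a - (b + 1)),
    fun a ha => ⟨?_, ?_⟩, ?_⟩
  · refine add_mem (add_mem (hqz a ha).1 (hqw a ha).1) (sum_mem fun b hb => ?_)
    exact (hmix a b (by have := Finset.mem_range.mp hb; omega)).1
  · obtain ⟨a', rfl⟩ : ∃ a', a = a' + 1 := ⟨a - 1, by omega⟩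
    rw [add_mul, gamma_add, Finset.Nat.sum_antidiagonal_eq_sum_range_succ_mk,
      Finset.sum_range_succ, Finset.sum_range_succ']
    simp only [Nat.sub_zero, Nat.sub_self, gamma_zero_left, one_mul, mul_one,
      Nat.add_sub_cancel]
    rw [(hqz (a' + 1) (by omega)).2, (hqw (a' + 1) (by omega)).2]
    have e : ∀ b ∈ range a', gamma (b + 1) (z * Γ) * gamma (a' + 1 - (b + 1)) (w * Γ) =
        Γ * (Γ * qz (b + 1) * qw (a' + 1 - (b + 1))) := by
      intro b hb
      have hb' := Finset.mem_range.mp hb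
      rw [(hqz (b + 1) (by omega)).2, (hqw (a' + 1 - (b + 1)) (by omega)).2]
      ring
    rw [Finset.sum_congr rfl e, ← Finset.mul_sum]
    ring
  · have e : qz (d + i) + qw (d + i) +
        ∑ b ∈ range (d + i - 1), Γ * qz (b + 1) * qw (d + i - (b + 1)) -
        (-1 : A) ^ (d + i - 1) * ((d + i - 1).factorial : A) * (z + w) =
        (qz (d + i) - (-1 : A) ^ (d + i - 1) * ((d + i - 1).factorial : A) * z) +
        (qw (d + i) - (-1 : A) ^ (d + i - 1) * ((d + i - 1).factorial : A) * w) +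
        ∑ b ∈ range (d + i - 1), Γ * qz (b + 1) * qw (d + i - (b + 1)) := by ring
    show qz (d + i) + qw (d + i) +
        ∑ b ∈ range (d + i - 1), Γ * qz (b + 1) * qw (d + i - (b + 1)) -
        (-1 : A) ^ (d + i - 1) * ((d + i - 1).factorial : A) * (z + w) ∈ I (i + 1)
    rw [e]
    refine add_mem (add_mem hlz hlw) (sum_mem fun b hb => ?_)
    exact (hmix (d + i) b (by have := Finset.mem_range.mp hb; omega)).2

variable {K : Type u} [CommRing K] [LambdaOps K] [BinomialRing K] [Algebra K A]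

lemma DQ.smul {I : ℕ → Ideal A} (hI : IsFilt I) (hA : IsSpecial A) (hKb : IsBinomial K)
    (hAlg : IsLambdaAlg K A) {d : ℕ} (hd : 1 ≤ d) {Γ : A} (hΓ : Γ ∈ I d)
    {i : ℕ} (κ : K) {w : A} (hw : DQ I d Γ i w) : DQ I d Γ i (algebraMap K A κ * w) := by
  obtain ⟨q, hq, hl⟩ := hw
  set q' : ℕ → A := fun j => q (j + 1) with hq'
  have hb : ∀ j, q' j ∈ I (max (j + 1 - d) i) := fun j => (hq (j + 1) (by omega)).1
  have hbeq : (fun j => gamma (j + 1) (w * Γ)) = fun j => Γ * q' j := by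
    funext j
    exact (hq (j + 1) (by omega)).2
  have hterm : ∀ k a : ℕ, Γ ^ k * cB q' (k + 1) a ∈ I (max (a - d) i) ∧
      (1 ≤ k → Γ ^ k * cB q' (k + 1) a ∈ I (i + 1)) := by
    intro k a
    have h1 := hI.pow_mem hΓ k
    have h2 := cB_mem_w hI d i q' hb (k + 1) a
    have h3 := hI.mul h1 h2
    rw [Nat.succ_mul, Nat.succ_mul] at h3
    refine ⟨hI.anti (by omega) h3, fun hk => hI.anti ?_ h3⟩
    have : 1 ≤ k * d := Nat.mul_pos hk hd
    omega
  refine ⟨fun a => ∑ k ∈ range a, algebraMap K A (Ring.choose κ (k + 1)) *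
    (Γ ^ k * cB q' (k + 1) a), fun a ha => ⟨?_, ?_⟩, ?_⟩
  · exact sum_mem fun k _ => Ideal.mul_mem_left _ _ (hterm k a).1
  · rw [mul_assoc, scalar_expansion hA hKb hAlg κ (w * Γ) a, hbeq, Finset.sum_range_succ',
      cB_zero, if_neg (by omega), mul_zero, add_zero, Finset.mul_sum]
    refine Finset.sum_congr rfl fun k _ => ?_
    rw [cB_smul, pow_succ]
    ring
  · show ∑ k ∈ range (d + i), algebraMap K A (Ring.choose κ (k + 1)) *
        (Γ ^ k * cB q' (k + 1) (d + i)) -
        (-1 : A) ^ (d + i - 1) * ((d + i - 1).factorial : A) * (algebraMap K A κ * w) ∈ I (i + 1)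
    obtain ⟨e, he⟩ : ∃ e, d + i = e + 1 := ⟨d + i - 1, by omega⟩
    rw [he, Finset.sum_range_succ']
    have e0 : algebraMap K A (Ring.choose κ (0 + 1)) * (Γ ^ 0 * cB q' (0 + 1) (e + 1)) =
        algebraMap K A κ * q (d + i) := by
      rw [Nat.zero_add, Ring.choose_one_right, pow_zero, one_mul, cB_one, if_neg (by omega), hq', he]
      simp
    rw [e0]
    have e1 : ∑ k ∈ range e, algebraMap K A (Ring.choose κ (k + 1 + 1)) *
        (Γ ^ (k + 1) * cB q' (k + 1 + 1) (e + 1)) + algebraMap K A κ * q (d + i) -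
        (-1 : A) ^ (e + 1 - 1) * ((e + 1 - 1).factorial : A) * (algebraMap K A κ * w) =
        ∑ k ∈ range e, algebraMap K A (Ring.choose κ (k + 1 + 1)) *
        (Γ ^ (k + 1) * cB q' (k + 1 + 1) (e + 1)) + algebraMap K A κ *
        (q (d + i) - (-1 : A) ^ (d + i - 1) * ((d + i - 1).factorial : A) * w) := by
      rw [he]; ring
    rw [e1]
    refine add_mem (sum_mem fun k _ => Ideal.mul_mem_left _ _ ?_) (Ideal.mul_mem_left _ _ hl)
    exact (hterm (k + 1) (e + 1)).2 (by omega)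

end DQ


section Main

variable {K : Type u} {A : Type v} [CommRing K] [CommRing A] [LambdaOps A]

lemma dq_gen (hA : IsSpecial A) (ε : A →+* K) {d : ℕ} (hd : 1 ≤ d) (n : A) (hn0 : ε n = 0)
    (hnr : ∀ k, d < k → gamma k n = 0) (l : List (ℕ × A)) (hl : ∀ p ∈ l, ε p.2 = 0)
    (i : ℕ) (hs : i ≤ (l.map Prod.fst).sum) :
    DQ (gammaFil ε) d (gamma d n) i ((l.map fun p => gamma p.1 p.2).prod) := by
  classical
  obtain ⟨r, y, F, hy, hF, hFh⟩ := exists_gen_data ε l hl
  have hFil := gammaFil_isFilt ε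
  have hFw : ∀ m ∈ F.support, i ≤ Finsupp.weight (wtr r) m := by
    intro m hm
    rw [hFh (mem_support_iff.mp hm)]; exact hs
  obtain ⟨Rs, RL, hRs, hRsw, hRL, hRLw⟩ := univ_quot.{v} d hd F i hFw
  set g := (l.map fun p => gamma p.1 p.2).prod with hg
  have hgmem : g ∈ gammaFil ε i := Ideal.subset_span ⟨l, hl, hs, rfl⟩
  have hfam : ∀ ip : Fin (r + 1) × ℕ,
      gamma (ip.2 + 1) ((Fin.cons n y : Fin (r + 1) → A) ip.1) ∈ gammaFil ε (wtr (r + 1) ip) := by
    rintro ⟨s, k⟩
    induction s using Fin.cases with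
    | zero => simpa [wtr] using gamma_mem_gammaFil ε hn0 (k + 1)
    | succ s' => simpa [wtr] using gamma_mem_gammaFil ε (hy s') (k + 1)
  have hRLmem : evG (Fin.cons n y : Fin (r + 1) → A) RL ∈ gammaFil ε (i + 1) :=
    hFil.aeval_mem (wtr (r + 1)) _ hfam _ RL hRLw
  set c : A := (-1 : A) ^ (d + i - 1) * ((d + i - 1).factorial : A) with hc
  refine ⟨fun a => if a = d + i then evG (Fin.cons n y : Fin (r + 1) → A) RL + c * g
    else evG (Fin.cons n y : Fin (r + 1) → A) (Rs a), fun a ha => ?_, ?_⟩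
  · by_cases hai : a = d + i
    · subst hai
      simp only [if_true]
      constructor
      · refine hFil.anti ?_ (add_mem (hFil.anti (Nat.le_succ i) hRLmem)
          (Ideal.mul_mem_left _ _ hgmem))
        omega
      · have := hRL A hA n y hnr
        rw [hF] at this
        rw [mul_add, ← this]
        ring
    · simp only [if_neg hai]
      constructor
      · exact hFil.aeval_mem (wtr (r + 1)) _ hfam _ (Rs a) (hRsw a ha)
      · have := hRs a ha A hA n y hnr
        rw [hF] at this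
        exact this
  · simp only [if_true]
    rw [add_sub_cancel_right]
    exact hRLmem

end Main

section Main2

variable {K : Type u} {A : Type v} [CommRing K] [LambdaOps K] [BinomialRing K]
  [CommRing A] [LambdaOps A] [Algebra K A]

theorem dq_of_mem (hKb : IsBinomial K) (hA : IsSpecial A) (ε : A →ₐ[K] K)
    (hε : IsAugLambdaAlg K A ε) {d : ℕ} (hd : 1 ≤ d) (n : A) (hn0 : ε n = 0)
    (hnr : ∀ k, d < k → gamma k n = 0) (i : ℕ) (w : A)
    (hw : w ∈ gammaFil (ε : A →+* K) i) :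
    DQ (gammaFil (ε : A →+* K)) d (gamma d n) i w := by
  have hFil := gammaFil_isFilt (ε : A →+* K)
  have hΓ : gamma d n ∈ gammaFil (ε : A →+* K) d := gamma_mem_gammaFil _ hn0 d
  unfold gammaFil at hw
  induction hw using Submodule.closure_induction with
  | zero => exact DQ.zero d _ i
  | add x y _ _ hx hy => exact DQ.add hFil hd hΓ hx hy
  | smul_mem a x hx =>
    obtain ⟨l, hl, hs, rfl⟩ := hx
    set g := (l.map fun p => gamma p.1 p.2).prod with hg
    set a0 := a - algebraMap K A (ε a) with ha0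
    have hεa0 : (ε : A →+* K) a0 = 0 := by
      show ε a0 = 0
      rw [ha0, map_sub, AlgHom.commutes]
      simp
    have hsplit : a • g = algebraMap K A (ε a) * g + a0 * g := by
      rw [ha0, smul_eq_mul]; ring
    rw [hsplit]
    refine DQ.add hFil hd hΓ (DQ.smul hFil hA hKb hε.isLambdaAlg hd hΓ _
      (dq_gen hA _ hd n hn0 hnr l hl i hs)) ?_
    have hl' : ∀ p ∈ (1, a0) :: l, (ε : A →+* K) p.2 = 0 := by
      intro p hp
      rcases List.mem_cons.mp hp with rfl | hp
      · exact hεa0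
      · exact hl p hp
    have hs' : i + 1 ≤ (((1, a0) :: l).map Prod.fst).sum := by
      simp only [List.map_cons, List.sum_cons]; omega
    have hprod : (((1, a0) :: l).map fun p => gamma p.1 p.2).prod = a0 * g := by
      simp only [List.map_cons, List.prod_cons, gamma_one_left, hg]
    rw [← hprod]
    exact DQ.of_succ hFil (dq_gen hA _ hd n hn0 hnr _ hl' (i + 1) hs')
      (Ideal.subset_span ⟨_, hl', hs', rfl⟩) hd

end Main2

end Groth.Agent.Lib.Helper95.UQ
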