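import Mathlib
import Groth.Prelude.Def_LambdaSp

set_option autoImplicit false
open MvPolynomial

namespace Groth.Agent.Lib.Helper95.UnivPoly

section Weighted

variable {σ τ M R : Type*} [AddCommMonoid M] [CommRing R]

lemma isWeightedHomogeneous_aeval (w : σ → M) (w' : τ → M) (g : σ → MvPolynomial τ R)
    (hg : ∀ s, IsWeightedHomogeneous w' (g s) (w s)) {P : MvPolynomial σ R} {m : M}
    (hP : IsWeightedHomogeneous w P m) : IsWeightedHomogeneous w' (aeval g P) m := by
  classical
  rw [P.as_sum, map_sum]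
  refine IsWeightedHomogeneous.sum _ _ _ fun d hd => ?_
  rw [aeval_monomial]
  have hd' : Finsupp.weight w d = m := hP (mem_support_iff.mp hd)
  rw [algebraMap_eq]
  refine IsWeightedHomogeneous.C_mul ?_ _
  rw [← hd', Finsupp.weight_apply, Finsupp.prod, Finsupp.sum]
  refine IsWeightedHomogeneous.prod _ _ _ fun i _ => ?_
  exact (hg i).pow _

lemma aeval_component_eq (w : σ → M) (w' : τ → M) (g : σ → MvPolynomial τ R)
    (hg : ∀ s, IsWeightedHomogeneous w' (g s) (w s)) {P : MvPolynomial σ R} {m : M}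
    {G : MvPolynomial τ R} (hG : IsWeightedHomogeneous w' G m) (h : aeval g P = G) :
    aeval g (weightedHomogeneousComponent w m P) = G := by
  classical
  have hfin := weightedHomogeneousComponent_finsupp (w := w) P
  have hP : P = ∑ k ∈ hfin.toFinset, weightedHomogeneousComponent w k P := by
    conv_lhs => rw [← sum_weightedHomogeneousComponent w P]
    rw [finsum_eq_sum _ hfin]
  have h1 : G = ∑ k ∈ hfin.toFinset, aeval g (weightedHomogeneousComponent w k P) := by
    rw [← h]; conv_lhs => rw [hP]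
    rw [map_sum]
  have h2 := congrArg (weightedHomogeneousComponent w' m) h1
  rw [hG.weightedHomogeneousComponent_same, map_sum] at h2
  have h3 : ∀ k ∈ hfin.toFinset, weightedHomogeneousComponent w' m
      (aeval g (weightedHomogeneousComponent w k P)) =
      if k = m then aeval g (weightedHomogeneousComponent w m P) else 0 := by
    intro k _
    have hk := isWeightedHomogeneous_aeval w w' g hg
      (weightedHomogeneousComponent_isWeightedHomogeneous (w := w) k P)
    split_ifs with hkm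
    · subst hkm
      exact hk.weightedHomogeneousComponent_same
    · exact hk.weightedHomogeneousComponent_ne _ (Ne.symm hkm)
  rw [Finset.sum_congr rfl h3, Finset.sum_ite_eq'] at h2
  split_ifs at h2 with hm
  · exact h2.symm
  · have : weightedHomogeneousComponent w m P = 0 := by
      by_contra hne
      exact hm (hfin.mem_toFinset.mpr hne)
    rw [this, map_zero]; exact h2.symm

end Weighted


section Weighted

variable {σ τ M R : Type*} [AddCommMonoid M] [CommRing R]

lemma isWeightedHomogeneous_multiset_prod (w : σ → M) (s : Multiset (MvPolynomial σ R)) (m : M)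
    (h : ∀ p ∈ s, IsWeightedHomogeneous w p m) :
    IsWeightedHomogeneous w s.prod (Multiset.card s • m) := by
  induction s using Multiset.induction_on with
  | empty => simpa using isWeightedHomogeneous_one R w
  | cons a s ih =>
    rw [Multiset.prod_cons, Multiset.card_cons, succ_nsmul, add_comm]
    exact (h a (Multiset.mem_cons_self a s)).mul (ih fun p hp => h p (Multiset.mem_cons_of_mem hp))

lemma isWeightedHomogeneous_multiset_esymm (w : σ → M) (s : Multiset (MvPolynomial σ R)) (m : M)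
    (h : ∀ p ∈ s, IsWeightedHomogeneous w p m) (k : ℕ) :
    IsWeightedHomogeneous w (s.esymm k) (k • m) := by
  rw [Multiset.esymm]
  refine multiset_sum_mem (S := weightedHomogeneousSubmodule R w (k • m)) _ fun p hp => ?_
  obtain ⟨t, ht, rfl⟩ := Multiset.mem_map.mp hp
  rw [Multiset.mem_powersetCard] at ht
  have := isWeightedHomogeneous_multiset_prod w t m fun p hp => h p (Multiset.mem_of_le ht.1 hp)
  rw [ht.2] at this
  exact this

end Weighted

lemma map_multiset_esymm {A B : Type*} [CommSemiring A] [CommSemiring B] (f : A →+* B)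
    (s : Multiset A) (k : ℕ) : f (s.esymm k) = (s.map f).esymm k := by
  rw [Multiset.esymm, Multiset.esymm, map_multiset_sum, Multiset.powersetCard_map,
    Multiset.map_map, Multiset.map_map]
  congr 1
  refine Multiset.map_congr rfl fun t _ => ?_
  simp [map_multiset_prod]

lemma compGen_isSymmetric (N i j : ℕ) : (LambdaRing.compGen N i j).IsSymmetric := by
  classical
  intro e
  unfold LambdaRing.compGen
  rw [← AlgHom.coe_toRingHom, map_multiset_esymm, Multiset.map_map]
  congr 1
  have : ((Finset.univ : Finset (Fin N)).powersetCard i) =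
      ((Finset.univ : Finset (Fin N)).powersetCard i).map
        (Finset.mapEmbedding e.toEmbedding).toEmbedding := by
    rw [← Finset.powersetCard_map, Finset.map_univ_equiv]
  conv_rhs => rw [this, Finset.map_val, Multiset.map_map]
  refine Multiset.map_congr rfl fun s _ => ?_
  simp [Finset.prod_map, map_prod]

lemma compGen_isHomogeneous (N i j : ℕ) :
    IsWeightedHomogeneous (fun _ : Fin N => (1 : ℕ)) (LambdaRing.compGen N i j) (i * j) := by
  classical
  unfold LambdaRing.compGen
  have := isWeightedHomogeneous_multiset_esymm (R := ℤ) (fun _ : Fin N => (1 : ℕ))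
    (((Finset.univ : Finset (Fin N)).powersetCard i).val.map
      fun s => (∏ a ∈ s, X a : MvPolynomial (Fin N) ℤ)) i ?_ j
  · rwa [smul_eq_mul, mul_comm] at this
  · intro p hp
    obtain ⟨s, hs, rfl⟩ := Multiset.mem_map.mp hp
    have hs' : s.card = i := (Finset.mem_powersetCard.mp (Finset.mem_val.mp hs)).2
    have := IsWeightedHomogeneous.prod (R := ℤ) s (fun a => (X a : MvPolynomial (Fin N) ℤ))
      (fun _ => (1 : ℕ)) (w := fun _ : Fin N => (1 : ℕ)) fun a _ => isWeightedHomogeneous_X ℤ _ a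
    simpa [hs'] using this


lemma rename_esymm_isWeightedHomogeneous {σ τ M : Type*} [Fintype σ] [AddCommMonoid M]
    (w' : τ → M) (ι : σ → τ) (c : M) (hc : ∀ a, w' (ι a) = c) (d : ℕ) :
    IsWeightedHomogeneous w' (rename ι (esymm σ ℤ d)) (d • c) := by
  classical
  rw [esymm, map_sum]
  refine IsWeightedHomogeneous.sum _ _ _ fun t ht => ?_
  rw [map_prod]
  have := IsWeightedHomogeneous.prod (R := ℤ) t (fun a => rename ι (X a : MvPolynomial σ ℤ))
    (fun _ => c) (w := w') fun a _ => by
      rw [rename_X]; have := isWeightedHomogeneous_X ℤ w' (ι a); rwa [hc] at this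
  simpa [(Finset.mem_powersetCard.mp ht).2] using this

lemma esymm_isWeightedHomogeneous_one {σ : Type*} [Fintype σ] (d : ℕ) :
    IsWeightedHomogeneous (fun _ : σ => (1 : ℕ)) (esymm σ ℤ d) d := by
  have := rename_esymm_isWeightedHomogeneous (fun _ : σ => (1 : ℕ)) id 1 (fun _ => rfl) d
  simpa using this

theorem exists_isCompPoly (i j : ℕ) :
    ∃ Q : MvPolynomial (Fin (i * j)) ℤ, LambdaRing.IsCompPoly i j Q := by
  classical
  obtain ⟨Q₀, hQ₀⟩ := esymmAlgHom_fin_surjective ℤ (le_refl (i * j))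
    ⟨LambdaRing.compGen (i * j) i j, compGen_isSymmetric _ _ _⟩
  have h0 : aeval (fun k : Fin (i * j) => esymm (Fin (i * j)) ℤ ((k : ℕ) + 1)) Q₀ =
      LambdaRing.compGen (i * j) i j := by
    rw [← esymmAlgHom_apply, hQ₀]
  refine ⟨weightedHomogeneousComponent (fun k : Fin (i * j) => (k : ℕ) + 1) (i * j) Q₀, ?_,
    weightedHomogeneousComponent_isWeightedHomogeneous _ _⟩
  exact aeval_component_eq _ (fun _ => 1) _ (fun k => esymm_isWeightedHomogeneous_one _)
    (compGen_isHomogeneous _ _ _) h0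

section MulPoly
variable (n : ℕ)

noncomputable def yc (k : ℕ) : MvPolynomial (Fin n) ℤ :=
  if h0 : k = 0 then 1 else if h : k ≤ n then X ⟨k - 1, by omega⟩ else 0

noncomputable def Fa (a : Fin n) :
    Polynomial (MvPolynomial (Fin n) (MvPolynomial (Fin n) ℤ)) :=
  ∑ j ∈ Finset.range (n + 1), Polynomial.C (C (yc n j) * X a ^ j) * Polynomial.X ^ (n - j)

noncomputable def Hpoly : MvPolynomial (Fin n) (MvPolynomial (Fin n) ℤ) :=
  (∏ a : Fin n, Fa n a).coeff (n * n - n)

lemma Hpoly_isSymmetric : (Hpoly n).IsSymmetric := by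
  intro e
  unfold Hpoly
  rw [← AlgHom.coe_toRingHom, ← Polynomial.coeff_map, Polynomial.map_prod]
  have : ∀ a, (Fa n a).map
      ((rename e : MvPolynomial (Fin n) (MvPolynomial (Fin n) ℤ) →ₐ[_] _) : _ →+* _) =
      Fa n (e a) := by
    intro a
    simp [Fa, Polynomial.map_sum]
  simp_rw [this]
  rw [Equiv.prod_comp e (Fa n)]

noncomputable def fY : MvPolynomial (Fin n) ℤ →+* MvPolynomial (Fin n ⊕ Fin n) ℤ :=
  (aeval (fun k : Fin n => rename Sum.inr (esymm (Fin n) ℤ ((k : ℕ) + 1)))).toRingHom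

lemma fY_yc (j : ℕ) (hj : j ≤ n) : fY n (yc n j) = rename Sum.inr (esymm (Fin n) ℤ j) := by
  unfold yc fY
  split_ifs with h0
  · subst h0; simp
  · have : j - 1 + 1 = j := by omega
    simp [this]

noncomputable def Phi : MvPolynomial (Fin n) (MvPolynomial (Fin n) ℤ) →+*
    MvPolynomial (Fin n ⊕ Fin n) ℤ :=
  eval₂Hom (fY n) (fun a => X (Sum.inl a))

lemma Fa_map_Phi (a : Fin n) : (Fa n a).map (Phi n) =
    ∏ b : Fin n, (Polynomial.X + Polynomial.C (X (Sum.inl a) * X (Sum.inr b))) := by
  classical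
  have h1 := Multiset.prod_X_add_C_eq_sum_esymm
    ((Finset.univ : Finset (Fin n)).val.map
      (fun b => (X (Sum.inl a) * X (Sum.inr b) : MvPolynomial (Fin n ⊕ Fin n) ℤ)))
  rw [Multiset.map_map] at h1
  rw [Finset.prod_eq_multiset_prod]
  simp only [Function.comp_def] at h1
  rw [h1]
  simp only [Multiset.card_map, Finset.card_val, Finset.card_univ, Fintype.card_fin]
  unfold Fa
  rw [Polynomial.map_sum]
  refine Finset.sum_congr rfl fun j hj => ?_
  have hj' : j ≤ n := by simpa [Nat.lt_succ_iff] using hj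
  rw [Polynomial.map_mul, Polynomial.map_pow, Polynomial.map_X, Polynomial.map_C]
  congr 2
  have h2 := Multiset.pow_smul_esymm (X (Sum.inl a) : MvPolynomial (Fin n ⊕ Fin n) ℤ) j
    ((Finset.univ : Finset (Fin n)).val.map
      (fun b => (X (Sum.inr b) : MvPolynomial (Fin n ⊕ Fin n) ℤ)))
  rw [Multiset.map_map] at h2
  simp only [Function.comp_def, smul_eq_mul] at h2
  rw [← h2]
  simp only [Phi, map_mul, map_pow, eval₂Hom_C, eval₂Hom_X', fY_yc n j hj']
  rw [mul_comm]
  congr 1
  rw [esymm_eq_multiset_esymm, ← AlgHom.coe_toRingHom, map_multiset_esymm, Multiset.map_map]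
  simp [Function.comp_def]

end MulPoly

section MulPoly2
variable (n : ℕ)

lemma Phi_Hpoly : Phi n (Hpoly n) = LambdaRing.mulGen n n := by
  classical
  unfold Hpoly
  rw [← Polynomial.coeff_map, Polynomial.map_prod]
  simp_rw [Fa_map_Phi]
  rw [← Fintype.prod_prod_type' (f := fun a b => (Polynomial.X +
    Polynomial.C (X (Sum.inl a) * X (Sum.inr b) : MvPolynomial (Fin n ⊕ Fin n) ℤ)))]
  have hk : n * n - n ≤ (Finset.univ : Finset (Fin n × Fin n)).card := by
    simp
  have := Finset.prod_X_add_C_coeff (Finset.univ : Finset (Fin n × Fin n))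
    (fun ab => (X (Sum.inl ab.1) * X (Sum.inr ab.2) : MvPolynomial (Fin n ⊕ Fin n) ℤ)) hk
  rw [this]
  unfold LambdaRing.mulGen
  rw [Finset.esymm_map_val]
  have hc : (Finset.univ : Finset (Fin n × Fin n)).card - (n * n - n) = n := by
    simp only [Finset.card_univ, Fintype.card_prod, Fintype.card_fin]
    have : n ≤ n * n := by nlinarith
    omega
  rw [hc]

noncomputable def flat : MvPolynomial (Fin n) (MvPolynomial (Fin n) ℤ) →+*
    MvPolynomial (Fin n ⊕ Fin n) ℤ :=
  eval₂Hom ((rename Sum.inr : MvPolynomial (Fin n) ℤ →ₐ[ℤ] MvPolynomial (Fin n ⊕ Fin n) ℤ) : _ →+* _)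
    (fun a => X (Sum.inl a))

lemma aeval_flat (P₁ : MvPolynomial (Fin n) (MvPolynomial (Fin n) ℤ)) :
    aeval (Sum.elim (fun k : Fin n => rename Sum.inl (esymm (Fin n) ℤ ((k : ℕ) + 1)))
      (fun k : Fin n => rename Sum.inr (esymm (Fin n) ℤ ((k : ℕ) + 1))))
      (flat n P₁) =
    Phi n (aeval (fun k : Fin n => esymm (Fin n) (MvPolynomial (Fin n) ℤ) ((k : ℕ) + 1)) P₁) := by
  classical
  set g₀ : Fin n ⊕ Fin n → MvPolynomial (Fin n ⊕ Fin n) ℤ :=
    Sum.elim (fun k : Fin n => rename Sum.inl (esymm (Fin n) ℤ ((k : ℕ) + 1)))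
      (fun k : Fin n => rename Sum.inr (esymm (Fin n) ℤ ((k : ℕ) + 1))) with hg₀
  have key : ((aeval g₀ : MvPolynomial (Fin n ⊕ Fin n) ℤ →ₐ[ℤ] _) : _ →+* _).comp (flat n) =
      (Phi n).comp ((aeval (fun k : Fin n =>
        esymm (Fin n) (MvPolynomial (Fin n) ℤ) ((k : ℕ) + 1)) :
          MvPolynomial (Fin n) (MvPolynomial (Fin n) ℤ) →ₐ[MvPolynomial (Fin n) ℤ] _) : _ →+* _) := by
    refine MvPolynomial.ringHom_ext (fun r => ?_) (fun k => ?_)
    · simp only [RingHom.comp_apply, RingHom.coe_coe, flat, eval₂Hom_C, aeval_C, Phi, algebraMap_eq]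
      rw [aeval_rename]
      rfl
    · simp only [RingHom.comp_apply, RingHom.coe_coe, flat, eval₂Hom_X', aeval_X, hg₀,
        Sum.elim_inl, Phi]
      rw [esymm, esymm, map_sum, map_sum]
      refine Finset.sum_congr rfl fun t _ => ?_
      rw [map_prod, map_prod]
      refine Finset.prod_congr rfl fun a _ => ?_
      rw [rename_X, eval₂Hom_X']
  exact congrArg (fun φ => φ P₁) key

theorem exists_isMulPoly :
    ∃ P : MvPolynomial (Fin n ⊕ Fin n) ℤ, LambdaRing.IsMulPoly n P := by
  classical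
  obtain ⟨P₁, hP₁⟩ := esymmAlgHom_fin_surjective (MvPolynomial (Fin n) ℤ) (le_refl n)
    ⟨Hpoly n, Hpoly_isSymmetric n⟩
  have h1 : aeval (fun k : Fin n => esymm (Fin n) (MvPolynomial (Fin n) ℤ) ((k : ℕ) + 1)) P₁ =
      Hpoly n := by
    rw [← esymmAlgHom_apply, hP₁]
  have h0 := aeval_flat n P₁
  rw [h1, Phi_Hpoly] at h0
  set w : Fin n ⊕ Fin n → ℕ × ℕ :=
    Sum.elim (fun k : Fin n => (((k : ℕ) + 1, 0) : ℕ × ℕ)) (fun k : Fin n => ((0, (k : ℕ) + 1) : ℕ × ℕ))
    with hw
  set w' : Fin n ⊕ Fin n → ℕ × ℕ := Sum.elim (fun _ => ((1, 0) : ℕ × ℕ)) (fun _ => ((0, 1) : ℕ × ℕ))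
    with hw'
  refine ⟨weightedHomogeneousComponent w (n, n) (flat n P₁), ?_,
    weightedHomogeneousComponent_isWeightedHomogeneous _ _⟩
  refine aeval_component_eq w w' _ ?_ ?_ h0
  · rintro (k | k)
    · have := rename_esymm_isWeightedHomogeneous w' (Sum.inl : Fin n → Fin n ⊕ Fin n) (1, 0)
        (fun _ => rfl) ((k : ℕ) + 1)
      simpa [hw] using this
    · have := rename_esymm_isWeightedHomogeneous w' (Sum.inr : Fin n → Fin n ⊕ Fin n) (0, 1)
        (fun _ => rfl) ((k : ℕ) + 1)
      simpa [hw] using this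
  · unfold LambdaRing.mulGen
    have := isWeightedHomogeneous_multiset_esymm (R := ℤ) w'
      ((Finset.univ : Finset (Fin n × Fin n)).val.map
        fun ab => (X (Sum.inl ab.1) * X (Sum.inr ab.2) : MvPolynomial (Fin n ⊕ Fin n) ℤ)) (1, 1) ?_ n
    · simpa using this
    · intro p hp
      obtain ⟨ab, _, rfl⟩ := Multiset.mem_map.mp hp
      have h1 := isWeightedHomogeneous_X ℤ w' (Sum.inl ab.1 : Fin n ⊕ Fin n)
      have h2 := isWeightedHomogeneous_X ℤ w' (Sum.inr ab.2 : Fin n ⊕ Fin n)
      have := h1.mul h2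
      simpa [hw'] using this

end MulPoly2

end Groth.Agent.Lib.Helper95.UnivPoly
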