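import Groth.Agent.Lib.Helper95.UnivPoly
import Groth.Agent.Lib.Helper26.LambdaAdams

set_option autoImplicit false
open MvPolynomial Finset

namespace Groth.Agent.Lib.Helper95.UnivPoly

section Zeros

lemma esymm_zeros {ι A : Type*} [CommSemiring A] [DecidableEq ι] (s t : Finset ι) (hts : t ⊆ s)
    (f : ι → A) (hf : ∀ i ∈ s, i ∉ t → f i = 0) (j : ℕ) :
    (s.val.map f).esymm j = (t.val.map f).esymm j := by
  rw [Finset.esymm_map_val, Finset.esymm_map_val]
  symm
  refine Finset.sum_subset (Finset.powersetCard_mono hts) fun u hu hu' => ?_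
  rw [Finset.mem_powersetCard] at hu hu'
  have : ¬ u ⊆ t := fun h => hu' ⟨h, hu.2⟩
  obtain ⟨i, hiu, hit⟩ := Finset.not_subset.mp this
  exact Finset.prod_eq_zero hiu (hf i (hu.1 hiu) hit)

variable {n N : ℕ}

def ext0 {B : Type*} [Zero B] (n N : ℕ) (c : Fin n → B) : Fin N → B :=
  fun a => if h : (a : ℕ) < n then c ⟨a, h⟩ else 0

lemma ext0_castLE {B : Type*} [Zero B] (h : n ≤ N) (c : Fin n → B) (a : Fin n) :
    ext0 n N c (Fin.castLE h a) = c a := by
  simp [ext0]

lemma ext0_of_not_lt {B : Type*} [Zero B] (c : Fin n → B) (a : Fin N) (h : ¬ (a : ℕ) < n) :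
    ext0 n N c a = 0 := by
  simp [ext0, h]

lemma esymm_ext0 {B : Type*} [CommSemiring B] (h : n ≤ N) (c : Fin n → B) (j : ℕ) :
    ((Finset.univ : Finset (Fin N)).val.map (ext0 n N c)).esymm j =
      ((Finset.univ : Finset (Fin n)).val.map c).esymm j := by
  classical
  rw [esymm_zeros (Finset.univ : Finset (Fin N))
    ((Finset.univ : Finset (Fin n)).map (Fin.castLEEmb h)) (Finset.subset_univ _) _ ?_ j]
  · rw [Finset.map_val, Multiset.map_map]
    congr 1
    refine Multiset.map_congr rfl fun a _ => ?_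
    simp [ext0_castLE h c a]
  · intro a _ ha
    apply ext0_of_not_lt
    intro hlt
    exact ha (Finset.mem_map.mpr ⟨⟨a, hlt⟩, Finset.mem_univ _, by ext; simp⟩)

end Zeros

section Kill

variable (n N : ℕ)

noncomputable def kill1 : MvPolynomial (Fin N) ℤ →ₐ[ℤ] MvPolynomial (Fin n) ℤ :=
  aeval (ext0 n N (fun a : Fin n => (X a : MvPolynomial (Fin n) ℤ)))

noncomputable def kill2 : MvPolynomial (Fin N ⊕ Fin N) ℤ →ₐ[ℤ] MvPolynomial (Fin n ⊕ Fin n) ℤ :=
  aeval (Sum.elim (ext0 n N (fun a : Fin n => (X (Sum.inl a) : MvPolynomial (Fin n ⊕ Fin n) ℤ)))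
    (ext0 n N (fun a : Fin n => (X (Sum.inr a) : MvPolynomial (Fin n ⊕ Fin n) ℤ))))

variable {n N}

lemma kill1_esymm (h : n ≤ N) (j : ℕ) :
    kill1 n N (esymm (Fin N) ℤ j) = esymm (Fin n) ℤ j := by
  rw [kill1, aeval_esymm_eq_multiset_esymm, esymm_ext0 h, esymm_eq_multiset_esymm]

lemma kill2_rename_inl_esymm (h : n ≤ N) (j : ℕ) :
    kill2 n N (rename Sum.inl (esymm (Fin N) ℤ j)) = rename Sum.inl (esymm (Fin n) ℤ j) := by
  rw [kill2, aeval_rename, aeval_esymm_eq_multiset_esymm]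
  have : (Sum.elim (ext0 n N (fun a : Fin n => (X (Sum.inl a) : MvPolynomial (Fin n ⊕ Fin n) ℤ)))
    (ext0 n N (fun a : Fin n => (X (Sum.inr a) : MvPolynomial (Fin n ⊕ Fin n) ℤ)))) ∘ Sum.inl =
    ext0 n N (fun a : Fin n => (X (Sum.inl a) : MvPolynomial (Fin n ⊕ Fin n) ℤ)) := by
    ext a; simp
  rw [this, esymm_ext0 h, esymm_eq_multiset_esymm, ← AlgHom.coe_toRingHom, map_multiset_esymm,
    Multiset.map_map]
  simp [Function.comp_def]

lemma kill2_rename_inr_esymm (h : n ≤ N) (j : ℕ) :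
    kill2 n N (rename Sum.inr (esymm (Fin N) ℤ j)) = rename Sum.inr (esymm (Fin n) ℤ j) := by
  rw [kill2, aeval_rename, aeval_esymm_eq_multiset_esymm]
  have : (Sum.elim (ext0 n N (fun a : Fin n => (X (Sum.inl a) : MvPolynomial (Fin n ⊕ Fin n) ℤ)))
    (ext0 n N (fun a : Fin n => (X (Sum.inr a) : MvPolynomial (Fin n ⊕ Fin n) ℤ)))) ∘ Sum.inr =
    ext0 n N (fun a : Fin n => (X (Sum.inr a) : MvPolynomial (Fin n ⊕ Fin n) ℤ)) := by
    ext a; simp
  rw [this, esymm_ext0 h, esymm_eq_multiset_esymm, ← AlgHom.coe_toRingHom, map_multiset_esymm,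
    Multiset.map_map]
  simp [Function.comp_def]

lemma kill1_compGen (h : n ≤ N) (i j : ℕ) :
    kill1 n N (LambdaRing.compGen N i j) = LambdaRing.compGen n i j := by
  classical
  unfold LambdaRing.compGen
  rw [← AlgHom.coe_toRingHom, map_multiset_esymm, Multiset.map_map]
  rw [esymm_zeros ((Finset.univ : Finset (Fin N)).powersetCard i)
    (((Finset.univ : Finset (Fin n)).powersetCard i).map
      (Finset.mapEmbedding (Fin.castLEEmb h)).toEmbedding) ?_ _ ?_ j]
  · rw [Finset.map_val, Multiset.map_map]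
    congr 1
    refine Multiset.map_congr rfl fun s _ => ?_
    simp only [Function.comp_def, AlgHom.coe_toRingHom, map_prod, kill1, aeval_X,
      RelEmbedding.coe_toEmbedding, Finset.mapEmbedding_apply, Finset.prod_map]
    refine Finset.prod_congr rfl fun a _ => ?_
    exact ext0_castLE h _ a
  · intro s hs
    rw [Finset.mem_map] at hs
    obtain ⟨s', hs', rfl⟩ := hs
    rw [Finset.mem_powersetCard] at hs' ⊢
    refine ⟨Finset.subset_univ _, ?_⟩
    simp [hs'.2]
  · intro s hs hs'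
    rw [Finset.mem_powersetCard] at hs
    simp only [Function.comp_def, AlgHom.coe_toRingHom, map_prod, kill1, aeval_X]
    by_cases hall : ∀ a ∈ s, (a : ℕ) < n
    · exfalso
      apply hs'
      rw [Finset.mem_map]
      refine ⟨s.attach.image (fun a => (⟨a.1, hall a.1 a.2⟩ : Fin n)), ?_, ?_⟩
      · rw [Finset.mem_powersetCard]
        refine ⟨Finset.subset_univ _, ?_⟩
        rw [Finset.card_image_of_injective, Finset.card_attach, hs.2]
        intro a b hab
        simp only [Fin.mk.injEq] at hab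
        exact Subtype.ext (Fin.ext hab)
      · ext a
        simp only [RelEmbedding.coe_toEmbedding, Finset.mapEmbedding_apply, Finset.mem_map,
          Finset.mem_image, Finset.mem_attach, true_and, Subtype.exists]
        constructor
        · rintro ⟨b, ⟨c, hc, rfl⟩, rfl⟩
          convert hc
          ext; simp
        · intro ha
          exact ⟨⟨a, hall a ha⟩, ⟨a, ha, rfl⟩, by ext; simp⟩
    · push Not at hall
      obtain ⟨a, has, han⟩ := hall
      exact Finset.prod_eq_zero has (ext0_of_not_lt _ a (by omega))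

lemma kill2_mulGen (h : n ≤ N) (d : ℕ) :
    kill2 n N (LambdaRing.mulGen N d) = LambdaRing.mulGen n d := by
  classical
  unfold LambdaRing.mulGen
  rw [← AlgHom.coe_toRingHom, map_multiset_esymm, Multiset.map_map]
  rw [esymm_zeros (Finset.univ : Finset (Fin N × Fin N))
    ((Finset.univ : Finset (Fin n × Fin n)).map
      (Function.Embedding.prodMap (Fin.castLEEmb h) (Fin.castLEEmb h))) (Finset.subset_univ _) _ ?_ d]
  · rw [Finset.map_val, Multiset.map_map]
    congr 1
    refine Multiset.map_congr rfl fun ab _ => ?_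
    simp only [Function.comp_def, AlgHom.coe_toRingHom, map_mul, kill2, aeval_X,
      Function.Embedding.coe_prodMap, Prod.map_fst, Prod.map_snd, Sum.elim_inl, Sum.elim_inr]
    rw [Fin.castLEEmb_apply, Fin.castLEEmb_apply, ext0_castLE h, ext0_castLE h]
  · intro ab _ hab
    simp only [Function.comp_def, AlgHom.coe_toRingHom, map_mul, kill2, aeval_X, Sum.elim_inl,
      Sum.elim_inr]
    by_cases h1 : (ab.1 : ℕ) < n
    · by_cases h2 : (ab.2 : ℕ) < n
      · exfalso
        apply hab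
        rw [Finset.mem_map]
        refine ⟨(⟨ab.1, h1⟩, ⟨ab.2, h2⟩), Finset.mem_univ _, ?_⟩
        ext <;> simp
      · rw [ext0_of_not_lt _ ab.2 h2, mul_zero]
    · rw [ext0_of_not_lt _ ab.1 h1, zero_mul]

end Kill

section Vars

lemma IsWeightedHomogeneous.map_weight' {σ M M' : Type*} [AddCommMonoid M] [AddCommMonoid M']
    (φ : M →+ M') {w : σ → M} {P : MvPolynomial σ ℤ} {m : M} (hP : IsWeightedHomogeneous w P m) :
    IsWeightedHomogeneous (φ ∘ w) P (φ m) := by
  intro d hd
  rw [← hP hd, Finsupp.weight_apply, Finsupp.weight_apply, map_finsuppSum]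
  simp [Function.comp_def]

lemma weight_le_of_mem_vars {σ : Type*} (w : σ → ℕ) {P : MvPolynomial σ ℤ} {m : ℕ}
    (hP : IsWeightedHomogeneous w P m) {v : σ} (hv : v ∈ P.vars) : w v ≤ m := by
  classical
  rw [mem_vars_iff_mem_support] at hv
  obtain ⟨d, hd, hvd⟩ := hv
  have hw := hP (mem_support_iff.mp hd)
  rw [Finsupp.weight_apply, Finsupp.sum] at hw
  have h1 : d v • w v ≤ ∑ a ∈ d.support, d a • w a :=
    Finset.single_le_sum (f := fun a => d a • w a) (fun _ _ => Nat.zero_le _) hvd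
  have h2 : 1 ≤ d v := Nat.one_le_iff_ne_zero.mpr (Finsupp.mem_support_iff.mp hvd)
  rw [hw, smul_eq_mul] at h1
  nlinarith

end Vars

theorem compPoly_stable {i j : ℕ} {Q : MvPolynomial (Fin (i * j)) ℤ}
    (hQ : LambdaRing.IsCompPoly i j Q) {N : ℕ} (h : i * j ≤ N) :
    aeval (fun k : Fin (i * j) => esymm (Fin N) ℤ ((k : ℕ) + 1)) Q = LambdaRing.compGen N i j := by
  classical
  obtain ⟨Q₀, hQ₀⟩ := esymmAlgHom_fin_surjective ℤ (le_refl N)
    ⟨LambdaRing.compGen N i j, compGen_isSymmetric _ _ _⟩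
  have h0 : aeval (fun k : Fin N => esymm (Fin N) ℤ ((k : ℕ) + 1)) Q₀ =
      LambdaRing.compGen N i j := by
    rw [← esymmAlgHom_apply, hQ₀]
  set Q' := weightedHomogeneousComponent (fun k : Fin N => (k : ℕ) + 1) (i * j) Q₀ with hQ'
  have h1 : aeval (fun k : Fin N => esymm (Fin N) ℤ ((k : ℕ) + 1)) Q' =
      LambdaRing.compGen N i j :=
    aeval_component_eq _ (fun _ => 1) _ (fun k => esymm_isWeightedHomogeneous_one _)
      (compGen_isHomogeneous _ _ _) h0
  have h2 : IsWeightedHomogeneous (fun k : Fin N => (k : ℕ) + 1) Q' (i * j) :=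
    weightedHomogeneousComponent_isWeightedHomogeneous _ _
  obtain ⟨Q'', hQ''⟩ := exists_rename_eq_of_vars_subset_range Q' (Fin.castLE h)
    (Fin.castLE_injective h) (by
      intro v hv
      have := weight_le_of_mem_vars _ h2 (Finset.mem_coe.mp hv)
      exact ⟨⟨v, by omega⟩, by ext; simp⟩)
  rw [← hQ'', aeval_rename] at h1
  have h3 := congrArg (kill1 (i * j) N) h1
  rw [kill1_compGen h, ← AlgHom.comp_apply, comp_aeval] at h3
  have h4 : (fun k : Fin (i * j) => kill1 (i * j) N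
      (((fun k : Fin N => esymm (Fin N) ℤ ((k : ℕ) + 1)) ∘ Fin.castLE h) k)) =
      fun k : Fin (i * j) => esymm (Fin (i * j)) ℤ ((k : ℕ) + 1) := by
    ext1 k
    simp only [Function.comp_apply, Fin.val_castLE]
    exact kill1_esymm h _
  rw [h4] at h3
  have h5 : Q'' = Q := by
    have hinj := esymmAlgHom_fin_injective ℤ (le_refl (i * j))
    apply hinj
    apply Subtype.ext
    rw [esymmAlgHom_apply, esymmAlgHom_apply, h3, hQ.1]
  rw [h5] at h1
  exact h1

section MulStable

noncomputable def HpolyD (N d : ℕ) : MvPolynomial (Fin N) (MvPolynomial (Fin N) ℤ) :=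
  (∏ a : Fin N, Fa N a).coeff (N * N - d)

lemma HpolyD_isSymmetric (N d : ℕ) : (HpolyD N d).IsSymmetric := by
  intro e
  unfold HpolyD
  rw [← AlgHom.coe_toRingHom, ← Polynomial.coeff_map, Polynomial.map_prod]
  have : ∀ a, (Fa N a).map
      ((rename e : MvPolynomial (Fin N) (MvPolynomial (Fin N) ℤ) →ₐ[_] _) : _ →+* _) =
      Fa N (e a) := by
    intro a
    simp [Fa, Polynomial.map_sum]
  simp_rw [this]
  rw [Equiv.prod_comp e (Fa N)]

lemma Phi_HpolyD (N d : ℕ) (hd : d ≤ N * N) : Phi N (HpolyD N d) = LambdaRing.mulGen N d := by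
  classical
  unfold HpolyD
  rw [← Polynomial.coeff_map, Polynomial.map_prod]
  simp_rw [Fa_map_Phi]
  rw [← Fintype.prod_prod_type' (f := fun a b => (Polynomial.X +
    Polynomial.C (X (Sum.inl a) * X (Sum.inr b) : MvPolynomial (Fin N ⊕ Fin N) ℤ)))]
  have hk : N * N - d ≤ (Finset.univ : Finset (Fin N × Fin N)).card := by
    simp
  have := Finset.prod_X_add_C_coeff (Finset.univ : Finset (Fin N × Fin N))
    (fun ab => (X (Sum.inl ab.1) * X (Sum.inr ab.2) : MvPolynomial (Fin N ⊕ Fin N) ℤ)) hk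
  rw [this]
  unfold LambdaRing.mulGen
  rw [Finset.esymm_map_val]
  have hc : (Finset.univ : Finset (Fin N × Fin N)).card - (N * N - d) = d := by
    simp only [Finset.card_univ, Fintype.card_prod, Fintype.card_fin]
    omega
  rw [hc]

noncomputable def gE (N n : ℕ) : Fin n ⊕ Fin n → MvPolynomial (Fin N ⊕ Fin N) ℤ :=
  Sum.elim (fun k : Fin n => rename Sum.inl (esymm (Fin N) ℤ ((k : ℕ) + 1)))
    (fun k : Fin n => rename Sum.inr (esymm (Fin N) ℤ ((k : ℕ) + 1)))

noncomputable def fYG (N n : ℕ) : MvPolynomial (Fin n) ℤ →+* MvPolynomial (Fin N ⊕ Fin N) ℤ :=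
  (aeval (fun k : Fin n => rename Sum.inr (esymm (Fin N) ℤ ((k : ℕ) + 1)))).toRingHom

noncomputable def PhiG (N n : ℕ) : MvPolynomial (Fin N) (MvPolynomial (Fin n) ℤ) →+*
    MvPolynomial (Fin N ⊕ Fin N) ℤ :=
  eval₂Hom (fYG N n) (fun a => X (Sum.inl a))

lemma aeval_flatG (N n : ℕ) (P₁ : MvPolynomial (Fin n) (MvPolynomial (Fin n) ℤ)) :
    aeval (gE N n) (flat n P₁) =
    PhiG N n (aeval (fun k : Fin n => esymm (Fin N) (MvPolynomial (Fin n) ℤ) ((k : ℕ) + 1)) P₁) := by
  classical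
  have key : ((aeval (gE N n) : MvPolynomial (Fin n ⊕ Fin n) ℤ →ₐ[ℤ] _) : _ →+* _).comp (flat n) =
      (PhiG N n).comp ((aeval (fun k : Fin n =>
        esymm (Fin N) (MvPolynomial (Fin n) ℤ) ((k : ℕ) + 1)) :
          MvPolynomial (Fin n) (MvPolynomial (Fin n) ℤ) →ₐ[MvPolynomial (Fin n) ℤ] _) : _ →+* _) := by
    refine MvPolynomial.ringHom_ext (fun r => ?_) (fun k => ?_)
    · simp only [RingHom.comp_apply, RingHom.coe_coe, flat, eval₂Hom_C, aeval_C, PhiG, algebraMap_eq]
      rw [aeval_rename]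
      rfl
    · simp only [RingHom.comp_apply, RingHom.coe_coe, flat, eval₂Hom_X', aeval_X, gE,
        Sum.elim_inl, PhiG]
      rw [esymm, esymm, map_sum, map_sum]
      refine Finset.sum_congr rfl fun t _ => ?_
      rw [map_prod, map_prod]
      refine Finset.prod_congr rfl fun a _ => ?_
      rw [rename_X, eval₂Hom_X']
  exact congrArg (fun φ => φ P₁) key

lemma flat_eq (n : ℕ) : flat n = (sumRingEquiv ℤ (Fin n) (Fin n)).symm.toRingHom := by
  refine MvPolynomial.ringHom_ext (fun r => ?_) (fun k => ?_)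
  · have : (flat n).comp C = ((sumRingEquiv ℤ (Fin n) (Fin n)).symm.toRingHom).comp C := by
      refine MvPolynomial.ringHom_ext (fun z => ?_) (fun k => ?_)
      · simp [flat]
      · simp [flat]
    exact congrArg (fun φ => φ r) this
  · simp [flat]

lemma flat_bijective (n : ℕ) : Function.Bijective (flat n) := by
  rw [flat_eq]
  exact (sumRingEquiv ℤ (Fin n) (Fin n)).symm.bijective

lemma PhiG_injective {N n : ℕ} (h : n ≤ N) : Function.Injective (PhiG N n) := by
  have heY : Function.Injective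
      (aeval (fun k : Fin n => esymm (Fin N) ℤ ((k : ℕ) + 1)) :
        MvPolynomial (Fin n) ℤ →ₐ[ℤ] MvPolynomial (Fin N) ℤ) := by
    intro p q hpq
    apply esymmAlgHom_fin_injective ℤ h
    apply Subtype.ext
    rw [esymmAlgHom_apply, esymmAlgHom_apply]
    exact hpq
  have key : PhiG N n = (flat N).comp (map ((aeval (fun k : Fin n =>
      esymm (Fin N) ℤ ((k : ℕ) + 1)) : MvPolynomial (Fin n) ℤ →ₐ[ℤ] MvPolynomial (Fin N) ℤ) :
        _ →+* _)) := by
    refine MvPolynomial.ringHom_ext (fun r => ?_) (fun k => ?_)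
    · simp only [PhiG, eval₂Hom_C, RingHom.comp_apply, map_C, flat, fYG]
      rw [RingHom.coe_coe, RingHom.coe_coe, ← AlgHom.comp_apply, comp_aeval]
      rfl
    · simp [PhiG, flat]
  rw [key]
  exact (flat_bijective N).1.comp (map_injective _ heY)

lemma gE_injective {N n : ℕ} (h : n ≤ N) : Function.Injective
    (aeval (gE N n) : MvPolynomial (Fin n ⊕ Fin n) ℤ →ₐ[ℤ] MvPolynomial (Fin N ⊕ Fin N) ℤ) := by
  intro p q hpq
  obtain ⟨p', rfl⟩ := (flat_bijective n).2 p
  obtain ⟨q', rfl⟩ := (flat_bijective n).2 q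
  rw [aeval_flatG, aeval_flatG] at hpq
  have h1 := PhiG_injective h hpq
  congr 1
  apply esymmAlgHom_fin_injective (MvPolynomial (Fin n) ℤ) h
  apply Subtype.ext
  rw [esymmAlgHom_apply, esymmAlgHom_apply]
  exact h1

theorem mulPoly_stable {n : ℕ} {P : MvPolynomial (Fin n ⊕ Fin n) ℤ}
    (hP : LambdaRing.IsMulPoly n P) {N : ℕ} (h : n ≤ N) :
    aeval (gE N n) P = LambdaRing.mulGen N n := by
  classical
  have hd : n ≤ N * N := by
    rcases Nat.eq_zero_or_pos N with h0 | h0
    · subst h0; omega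
    · nlinarith
  obtain ⟨P₁, hP₁⟩ := esymmAlgHom_fin_surjective (MvPolynomial (Fin N) ℤ) (le_refl N)
    ⟨HpolyD N n, HpolyD_isSymmetric N n⟩
  have h1 : aeval (fun k : Fin N => esymm (Fin N) (MvPolynomial (Fin N) ℤ) ((k : ℕ) + 1)) P₁ =
      HpolyD N n := by
    rw [← esymmAlgHom_apply, hP₁]
  have h0 := aeval_flatG N N P₁
  rw [h1] at h0
  have h0' : aeval (gE N N) (flat N P₁) = LambdaRing.mulGen N n := by
    rw [h0]; exact Phi_HpolyD N n hd
  set w : Fin N ⊕ Fin N → ℕ × ℕ :=
    Sum.elim (fun k : Fin N => (((k : ℕ) + 1, 0) : ℕ × ℕ)) (fun k : Fin N => ((0, (k : ℕ) + 1) : ℕ × ℕ))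
    with hw
  set w' : Fin N ⊕ Fin N → ℕ × ℕ := Sum.elim (fun _ => ((1, 0) : ℕ × ℕ)) (fun _ => ((0, 1) : ℕ × ℕ))
    with hw'
  set P' := weightedHomogeneousComponent w (n, n) (flat N P₁) with hP'
  have h2 : IsWeightedHomogeneous w P' (n, n) :=
    weightedHomogeneousComponent_isWeightedHomogeneous _ _
  have h3 : aeval (gE N N) P' = LambdaRing.mulGen N n := by
    refine aeval_component_eq w w' _ ?_ ?_ h0'
    · rintro (k | k)
      · have := rename_esymm_isWeightedHomogeneous w' (Sum.inl : Fin N → Fin N ⊕ Fin N) (1, 0)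
          (fun _ => rfl) ((k : ℕ) + 1)
        simpa [hw, gE] using this
      · have := rename_esymm_isWeightedHomogeneous w' (Sum.inr : Fin N → Fin N ⊕ Fin N) (0, 1)
          (fun _ => rfl) ((k : ℕ) + 1)
        simpa [hw, gE] using this
    · unfold LambdaRing.mulGen
      have := isWeightedHomogeneous_multiset_esymm (R := ℤ) w'
        ((Finset.univ : Finset (Fin N × Fin N)).val.map
          fun ab => (X (Sum.inl ab.1) * X (Sum.inr ab.2) : MvPolynomial (Fin N ⊕ Fin N) ℤ)) (1, 1) ?_ n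
      · simpa using this
      · intro p hp
        obtain ⟨ab, _, rfl⟩ := Multiset.mem_map.mp hp
        have h1 := isWeightedHomogeneous_X ℤ w' (Sum.inl ab.1 : Fin N ⊕ Fin N)
        have h2 := isWeightedHomogeneous_X ℤ w' (Sum.inr ab.2 : Fin N ⊕ Fin N)
        have := h1.mul h2
        simpa [hw'] using this
  set ι : Fin n ⊕ Fin n → Fin N ⊕ Fin N := Sum.map (Fin.castLE h) (Fin.castLE h) with hι
  have hιinj : Function.Injective ι :=
    (Fin.castLE_injective h).sumMap (Fin.castLE_injective h)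
  obtain ⟨P'', hP''⟩ := exists_rename_eq_of_vars_subset_range P' ι hιinj (by
    intro v hv
    have hv' := Finset.mem_coe.mp hv
    rcases v with k | k
    · have := weight_le_of_mem_vars _ (IsWeightedHomogeneous.map_weight'
        (AddMonoidHom.fst ℕ ℕ) h2) hv'
      simp only [hw, Function.comp_apply, Sum.elim_inl, AddMonoidHom.coe_fst] at this
      exact ⟨Sum.inl ⟨k, by omega⟩, by simp [hι]⟩
    · have := weight_le_of_mem_vars _ (IsWeightedHomogeneous.map_weight'
        (AddMonoidHom.snd ℕ ℕ) h2) hv'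
      simp only [hw, Function.comp_apply, Sum.elim_inr, AddMonoidHom.coe_snd] at this
      exact ⟨Sum.inr ⟨k, by omega⟩, by simp [hι]⟩)
  rw [← hP'', aeval_rename] at h3
  have h4 : gE N N ∘ ι = gE N n := by
    ext1 v
    rcases v with k | k <;> simp [gE, hι]
  rw [h4] at h3
  have h5 := congrArg (kill2 n N) h3
  rw [kill2_mulGen h, ← AlgHom.comp_apply, comp_aeval] at h5
  have h6 : (fun v : Fin n ⊕ Fin n => kill2 n N (gE N n v)) = gE n n := by
    ext1 v
    rcases v with k | k
    · simp only [gE, Sum.elim_inl]; exact kill2_rename_inl_esymm h _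
    · simp only [gE, Sum.elim_inr]; exact kill2_rename_inr_esymm h _
  rw [h6] at h5
  have h7 : P'' = P := by
    apply gE_injective (le_refl n)
    rw [h5]
    exact hP.1.symm
  rw [h7] at h3
  exact h3

end MulStable


section Newton

variable {A : Type*} [CommRing A]

noncomputable def newtonRec (ℓ : ℕ → A) : ℕ → A
  | 0 => 0
  | (n + 1) => (-1) ^ n * (((n : A) + 1) * ℓ (n + 1) -
      ∑ i : Fin n, (-1) ^ (i : ℕ) * newtonRec ℓ ((i : ℕ) + 1) * ℓ (n - i))
decreasing_by exact Nat.succ_lt_succ i.2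

lemma newtonRec_zero (ℓ : ℕ → A) : newtonRec ℓ 0 = 0 := by
  rw [newtonRec]

lemma newtonRec_succ (ℓ : ℕ → A) (n : ℕ) : newtonRec ℓ (n + 1) =
    (-1) ^ n * (((n : A) + 1) * ℓ (n + 1) -
      ∑ i ∈ range n, (-1) ^ i * newtonRec ℓ (i + 1) * ℓ (n - i)) := by
  rw [newtonRec, Fin.sum_univ_eq_sum_range (fun i => (-1) ^ i * newtonRec ℓ (i + 1) * ℓ (n - i))]

lemma newtonRec_congr (ℓ ℓ' : ℕ → A) (m : ℕ) (h : ∀ i, 1 ≤ i → i ≤ m → ℓ i = ℓ' i) :
    newtonRec ℓ m = newtonRec ℓ' m := by
  induction m using Nat.strong_induction_on with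
  | _ m ih =>
    rcases m with _ | n
    · rw [newtonRec_zero, newtonRec_zero]
    · rw [newtonRec_succ, newtonRec_succ, h (n + 1) (by omega) le_rfl]
      congr 2
      refine Finset.sum_congr rfl fun i hi => ?_
      have hi' := Finset.mem_range.mp hi
      rw [ih (i + 1) (by omega) (fun j hj1 hj2 => h j hj1 (by omega)),
        h (n - i) (by omega) (by omega)]

lemma map_newtonRec {B : Type*} [CommRing B] (φ : A →+* B) (ℓ : ℕ → A) (m : ℕ) :
    φ (newtonRec ℓ m) = newtonRec (fun i => φ (ℓ i)) m := by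
  induction m using Nat.strong_induction_on with
  | _ m ih =>
    rcases m with _ | n
    · rw [newtonRec_zero, newtonRec_zero, map_zero]
    · rw [newtonRec_succ, newtonRec_succ]
      simp only [map_mul, map_pow, map_neg, map_one, map_sub, map_add, map_natCast, map_sum]
      congr 2
      refine Finset.sum_congr rfl fun i hi => ?_
      rw [ih (i + 1) (by have := Finset.mem_range.mp hi; omega)]

lemma newtonRec_unique (ℓ ν : ℕ → A) (h0 : ℓ 0 = 1) (m : ℕ)
    (h : ∀ n < m, ((n : A) + 1) * ℓ (n + 1) =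
      ∑ i ∈ range (n + 1), (-1) ^ i * ν (i + 1) * ℓ (n - i)) :
    ∀ k, 1 ≤ k → k ≤ m → ν k = newtonRec ℓ k := by
  intro k
  induction k using Nat.strong_induction_on with
  | _ k ih =>
    intro hk1 hkm
    obtain ⟨n, rfl⟩ : ∃ n, k = n + 1 := ⟨k - 1, by omega⟩
    have hn := h n (by omega)
    rw [Finset.sum_range_succ, Nat.sub_self, h0, mul_one] at hn
    rw [newtonRec_succ, hn]
    have hsum : ∑ i ∈ range n, (-1) ^ i * newtonRec ℓ (i + 1) * ℓ (n - i) =
        ∑ i ∈ range n, (-1) ^ i * ν (i + 1) * ℓ (n - i) := by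
      refine Finset.sum_congr rfl fun i hi => ?_
      have hi' := Finset.mem_range.mp hi
      rw [ih (i + 1) (by omega) (by omega) (by omega)]
    rw [hsum, add_sub_cancel_left, ← mul_assoc, ← pow_add, Even.neg_one_pow ⟨n, rfl⟩, one_mul]

end Newton

section NewtonApps

open LambdaRing

lemma newtonRec_lam {K : Type*} [CommRing K] [LambdaOps K] (x : K) (m : ℕ) (hm : 1 ≤ m) :
    newtonRec (fun i => LambdaOps.lam i x) m = adamsOp m x := by
  symm
  refine newtonRec_unique (fun i => LambdaOps.lam i x) (fun k => adamsOp k x)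
    (LambdaOps.lam_zero x) m (fun n _ => ?_) m hm le_rfl
  have := Groth.Agent.Lib.Helper26.LambdaAdams.newton n x
  rw [Finset.Nat.sum_antidiagonal_eq_sum_range_succ_mk] at this
  rw [mul_comm, this]

lemma newton_rel_mv (σ : Type*) [Fintype σ] (n : ℕ) :
    ((n : MvPolynomial σ ℤ) + 1) * esymm σ ℤ (n + 1) =
      ∑ i ∈ range (n + 1), (-1) ^ i * psum σ ℤ (i + 1) * esymm σ ℤ (n - i) := by
  classical
  have h := mul_esymm_eq_sum σ ℤ (n + 1)
  rw [Nat.cast_succ] at h
  rw [h, Finset.mul_sum]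
  symm
  refine Finset.sum_nbij' (fun i => (n - i, i + 1)) (fun a => a.2 - 1) ?_ ?_ ?_ ?_ ?_
  · intro i hi
    have := Finset.mem_range.mp hi
    simp only [Finset.mem_filter, Finset.HasAntidiagonal.mem_antidiagonal]
    omega
  · intro a ha
    simp only [Finset.mem_filter, Finset.HasAntidiagonal.mem_antidiagonal] at ha
    rw [Finset.mem_range]
    omega
  · intro i _
    simp
  · intro a ha
    simp only [Finset.mem_filter, Finset.HasAntidiagonal.mem_antidiagonal] at ha
    ext <;> simp <;> omega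
  · intro i hi
    have hi' := Finset.mem_range.mp hi
    have hsign : ((-1 : MvPolynomial σ ℤ)) ^ (n + 1 + 1) * (-1) ^ (n - i) = (-1) ^ i := by
      rw [← pow_add]
      have : n + 1 + 1 + (n - i) = i + 2 * (n + 1 - i) := by omega
      rw [this, pow_add, pow_mul, neg_one_sq, one_pow, mul_one]
    simp only
    rw [← hsign]
    ring

lemma newtonRec_esymm_mv (σ : Type*) [Fintype σ] (m : ℕ) (hm : 1 ≤ m) :
    newtonRec (fun i => esymm σ ℤ i) m = psum σ ℤ m := by
  symm
  exact newtonRec_unique (fun i => esymm σ ℤ i) (fun k => psum σ ℤ k) (esymm_zero σ ℤ) m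
    (fun n _ => newton_rel_mv σ n) m hm le_rfl

lemma newtonRec_multiset_esymm {B : Type*} [CommRing B] (V : Multiset B) (m : ℕ) (hm : 1 ≤ m) :
    newtonRec (fun i => V.esymm i) m = (V.map (· ^ m)).sum := by
  classical
  obtain ⟨N, c, rfl⟩ : ∃ (N : ℕ) (c : Fin N → B), V = (Finset.univ : Finset (Fin N)).val.map c := by
    refine ⟨V.toList.length, V.toList.get, ?_⟩
    rw [Fin.univ_val_map, List.ofFn_get, Multiset.coe_toList]
  have h1 : (fun i => ((Finset.univ : Finset (Fin N)).val.map c).esymm i) =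
      fun i => ((aeval c : MvPolynomial (Fin N) ℤ →ₐ[ℤ] B) : _ →+* B) (esymm (Fin N) ℤ i) := by
    ext i
    rw [RingHom.coe_coe, aeval_esymm_eq_multiset_esymm]
  rw [h1, ← map_newtonRec, newtonRec_esymm_mv _ m hm, psum, RingHom.coe_coe, map_sum,
    Multiset.map_map]
  simp [Finset.sum]

end NewtonApps

end Groth.Agent.Lib.Helper95.UnivPoly
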