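import Groth.Agent.Lib.Helper95.UnivPoly2

set_option autoImplicit false
open MvPolynomial Finset LambdaRing

namespace Groth.Agent.Lib.Helper95.UnivPoly

lemma rename_esymm_eq_multiset {σ τ : Type*} [Fintype σ] (ι : σ → τ) (j : ℕ) :
    rename ι (esymm σ ℤ j) =
      ((Finset.univ : Finset σ).val.map fun a => (X (ι a) : MvPolynomial τ ℤ)).esymm j := by
  rw [esymm_eq_multiset_esymm, ← AlgHom.coe_toRingHom, map_multiset_esymm, Multiset.map_map]
  simp [Function.comp_def]

section AdamsMul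

variable {K : Type*} [CommRing K] [LambdaOps K]

noncomputable def lvar (k : ℕ) {τ : Type*} (v : Fin k → τ) (i : ℕ) : MvPolynomial τ ℤ :=
  if h0 : i = 0 then 1 else if h : i ≤ k then X (v ⟨i - 1, by omega⟩) else 0

lemma aeval_lvar (k : ℕ) {τ : Type*} (v : Fin k → τ) {B : Type*} [CommRing B] [Algebra ℤ B] (g : τ → B)
    (i : ℕ) (h1 : 1 ≤ i) (hk : i ≤ k) : aeval g (lvar k v i) = g (v ⟨i - 1, by omega⟩) := by
  unfold lvar
  rw [dif_neg (by omega), dif_pos hk, aeval_X]

theorem adamsOp_mul (hK : IsSpecial K)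
    (hP : ∀ n : ℕ, ∃ P : MvPolynomial (Fin n ⊕ Fin n) ℤ, IsMulPoly n P)
    (k : ℕ) (hk : 1 ≤ k) (x y : K) :
    adamsOp k (x * y) = adamsOp k x * adamsOp k y := by
  classical
  choose P hPi using hP
  set gK : Fin k ⊕ Fin k → K := Sum.elim (fun i : Fin k => LambdaOps.lam ((i : ℕ) + 1) x)
    (fun i : Fin k => LambdaOps.lam ((i : ℕ) + 1) y) with hgK
  set ℓx : ℕ → MvPolynomial (Fin k ⊕ Fin k) ℤ := lvar k Sum.inl with hℓx
  set ℓy : ℕ → MvPolynomial (Fin k ⊕ Fin k) ℤ := lvar k Sum.inr with hℓy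
  set ℓxy : ℕ → MvPolynomial (Fin k ⊕ Fin k) ℤ := fun i =>
    if h : i ≤ k then rename (Sum.map (Fin.castLE h) (Fin.castLE h)) (P i) else 0 with hℓxy
  have ex : ∀ i, 1 ≤ i → i ≤ k → aeval gK (ℓx i) = LambdaOps.lam i x := by
    intro i h1 h2
    rw [hℓx, aeval_lvar k _ _ i h1 h2, hgK, Sum.elim_inl]
    congr 1
    simp only []
    omega
  have ey : ∀ i, 1 ≤ i → i ≤ k → aeval gK (ℓy i) = LambdaOps.lam i y := by
    intro i h1 h2
    rw [hℓy, aeval_lvar k _ _ i h1 h2, hgK, Sum.elim_inr]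
    congr 1
    simp only []
    omega
  have exy : ∀ i, 1 ≤ i → i ≤ k → aeval gK (ℓxy i) = LambdaOps.lam i (x * y) := by
    intro i h1 h2
    simp only [hℓxy, dif_pos h2]
    rw [aeval_rename, hK.lam_mul i (P i) (hPi i) x y]
    congr 2
    ext1 v
    rcases v with v | v <;> simp [hgK]
  have ax : ∀ i, 1 ≤ i → i ≤ k → aeval (gE k k) (ℓx i) =
      ((Finset.univ : Finset (Fin k)).val.map
        fun a => (X (Sum.inl a) : MvPolynomial (Fin k ⊕ Fin k) ℤ)).esymm i := by
    intro i h1 h2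
    rw [hℓx, aeval_lvar k _ _ i h1 h2, gE, Sum.elim_inl, rename_esymm_eq_multiset]
    congr 1
    simp only []
    omega
  have ay : ∀ i, 1 ≤ i → i ≤ k → aeval (gE k k) (ℓy i) =
      ((Finset.univ : Finset (Fin k)).val.map
        fun a => (X (Sum.inr a) : MvPolynomial (Fin k ⊕ Fin k) ℤ)).esymm i := by
    intro i h1 h2
    rw [hℓy, aeval_lvar k _ _ i h1 h2, gE, Sum.elim_inr, rename_esymm_eq_multiset]
    congr 1
    simp only []
    omega
  have axy : ∀ i, 1 ≤ i → i ≤ k → aeval (gE k k) (ℓxy i) =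
      ((Finset.univ : Finset (Fin k × Fin k)).val.map
        fun ab => (X (Sum.inl ab.1) * X (Sum.inr ab.2) : MvPolynomial (Fin k ⊕ Fin k) ℤ)).esymm i := by
    intro i h1 h2
    simp only [hℓxy, dif_pos h2]
    rw [aeval_rename]
    have : gE k k ∘ Sum.map (Fin.castLE h2) (Fin.castLE h2) = gE k i := by
      ext1 v
      rcases v with v | v <;> simp [gE]
    rw [this, mulPoly_stable (hPi i) h2]
    rfl
  have hx : adamsOp k x = aeval gK (newtonRec ℓx k) := by
    rw [← newtonRec_lam x k hk, ← AlgHom.coe_toRingHom, map_newtonRec]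
    exact newtonRec_congr _ _ k fun i h1 h2 => (ex i h1 h2).symm
  have hy : adamsOp k y = aeval gK (newtonRec ℓy k) := by
    rw [← newtonRec_lam y k hk, ← AlgHom.coe_toRingHom, map_newtonRec]
    exact newtonRec_congr _ _ k fun i h1 h2 => (ey i h1 h2).symm
  have hxy : adamsOp k (x * y) = aeval gK (newtonRec ℓxy k) := by
    rw [← newtonRec_lam (x * y) k hk, ← AlgHom.coe_toRingHom, map_newtonRec]
    exact newtonRec_congr _ _ k fun i h1 h2 => (exy i h1 h2).symm
  rw [hx, hy, hxy, ← map_mul]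
  congr 1
  apply gE_injective (le_refl k)
  rw [map_mul, ← AlgHom.coe_toRingHom, map_newtonRec, map_newtonRec, map_newtonRec]
  simp only [AlgHom.coe_toRingHom]
  rw [newtonRec_congr _ _ k fun i h1 h2 => axy i h1 h2,
    newtonRec_congr _ _ k fun i h1 h2 => ax i h1 h2,
    newtonRec_congr _ _ k fun i h1 h2 => ay i h1 h2]
  rw [newtonRec_multiset_esymm _ k hk, newtonRec_multiset_esymm _ k hk,
    newtonRec_multiset_esymm _ k hk]
  simp only [Multiset.map_map, Function.comp_def]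
  change ∑ ab : Fin k × Fin k, _ = (∑ a : Fin k, _) * (∑ b : Fin k, _)
  rw [Finset.sum_mul_sum, Fintype.sum_prod_type]
  simp [mul_pow]

end AdamsMul

end Groth.Agent.Lib.Helper95.UnivPoly
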