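import Groth.Agent.Lib.Helper95.UnivPoly3
import Groth.Agent.Lib.Helper26.LambdaGamma
import Groth.Agent.S8686

set_option autoImplicit false
open MvPolynomial Finset LambdaRing

namespace Groth.Agent.Lib.Helper95.UnivPoly

section AdamsRingHom

variable {K : Type*} [CommRing K] [LambdaOps K]

lemma logDerivSeries_add (a b : K) :
    logDerivSeries (a + b) = logDerivSeries a + logDerivSeries b := by
  symm
  apply Groth.Agent.Lib.Helper26.LambdaAdams.logDeriv_unique
  rw [Groth.Agent.Lib.Helper26.LambdaGamma.lamSeries_add, Derivation.leibniz,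
    Groth.Agent.Lib.Helper26.LambdaAdams.deriv_lamSeries,
    Groth.Agent.Lib.Helper26.LambdaAdams.deriv_lamSeries]
  simp only [smul_eq_mul]
  ring

lemma adamsOp_add (k : ℕ) (a b : K) : adamsOp k (a + b) = adamsOp k a + adamsOp k b := by
  rcases k with _ | k
  · simp [adamsOp]
  · rw [Groth.Agent.Lib.Helper26.LambdaAdams.adamsOp_succ,
      Groth.Agent.Lib.Helper26.LambdaAdams.adamsOp_succ,
      Groth.Agent.Lib.Helper26.LambdaAdams.adamsOp_succ, logDerivSeries_add, map_add, mul_add]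

noncomputable def adamsHom (hK : IsSpecial K)
    (hP : ∀ n : ℕ, ∃ P : MvPolynomial (Fin n ⊕ Fin n) ℤ, IsMulPoly n P) (k : ℕ) (hk : 1 ≤ k) :
    K →+* K where
  toFun := adamsOp k
  map_one' := Groth.Agent.S8686.result K hK.lam_one_eq_zero k hk
  map_mul' := adamsOp_mul hK hP k hk
  map_zero' := by
    have := adamsOp_add k (0 : K) 0
    rw [add_zero] at this
    exact left_eq_add.mp this
  map_add' := adamsOp_add k

end AdamsRingHom

section AdamsComp

variable {K : Type*} [CommRing K] [LambdaOps K]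

theorem adamsOp_adamsOp (hK : IsSpecial K)
    (hP : ∀ n : ℕ, ∃ P : MvPolynomial (Fin n ⊕ Fin n) ℤ, IsMulPoly n P)
    (hQ : ∀ i j : ℕ, ∃ Q : MvPolynomial (Fin (i * j)) ℤ, IsCompPoly i j Q)
    (k k' : ℕ) (hk : 1 ≤ k) (hk' : 1 ≤ k') (x : K) :
    adamsOp k (adamsOp k' x) = adamsOp (k * k') x := by
  classical
  choose Q hQij using hQ
  set n := k * k' with hn
  have hn1 : 1 ≤ n := Nat.one_le_iff_ne_zero.mpr (Nat.mul_ne_zero (by omega) (by omega))
  have hk'n : k' ≤ n := Nat.le_mul_of_pos_left k' (by omega)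
  set gK : Fin n → K := fun i => LambdaOps.lam ((i : ℕ) + 1) x with hgK
  set gA : Fin n → MvPolynomial (Fin n) ℤ := fun i => esymm (Fin n) ℤ ((i : ℕ) + 1) with hgA
  set ℓx : ℕ → MvPolynomial (Fin n) ℤ := lvar n id with hℓx
  set ℓQ : ℕ → ℕ → MvPolynomial (Fin n) ℤ := fun i j =>
    if h : i * j ≤ n then rename (Fin.castLE h) (Q i j) else 0 with hℓQ
  have hij : ∀ i j, i ≤ k' → j ≤ k → i * j ≤ n := by
    intro i j hi hj
    calc i * j ≤ k' * k := Nat.mul_le_mul hi hj
      _ = n := by rw [hn, mul_comm]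
  have ex : ∀ i, 1 ≤ i → i ≤ n → aeval gK (ℓx i) = LambdaOps.lam i x := by
    intro i h1 h2
    rw [hℓx, aeval_lvar n _ _ i h1 h2, hgK]
    simp only [id]
    congr 1
    omega
  have ax : ∀ i, 1 ≤ i → i ≤ n → aeval gA (ℓx i) = esymm (Fin n) ℤ i := by
    intro i h1 h2
    rw [hℓx, aeval_lvar n _ _ i h1 h2, hgA]
    simp only [id]
    congr 1
    omega
  have eQ : ∀ i j, i ≤ k' → j ≤ k → aeval gK (ℓQ i j) = LambdaOps.lam j (LambdaOps.lam i x) := by
    intro i j hi hj
    simp only [hℓQ, dif_pos (hij i j hi hj)]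
    rw [aeval_rename, hK.lam_lam i j (Q i j) (hQij i j) x]
    rfl
  have aQ : ∀ i j, i ≤ k' → j ≤ k → aeval gA (ℓQ i j) = LambdaRing.compGen n i j := by
    intro i j hi hj
    simp only [hℓQ, dif_pos (hij i j hi hj)]
    rw [aeval_rename]
    exact compPoly_stable (hQij i j) (hij i j hi hj)
  set Ψ := adamsHom hK hP k hk with hΨ
  have hΨa : ∀ z, Ψ z = adamsOp k z := fun z => rfl
  have h1 : adamsOp k' x = aeval gK (newtonRec ℓx k') := by
    rw [← newtonRec_lam x k' hk', ← AlgHom.coe_toRingHom, map_newtonRec]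
    exact newtonRec_congr _ _ k' fun i h1 h2 => (ex i h1 (h2.trans hk'n)).symm
  have h2 : ∀ i, 1 ≤ i → i ≤ k' →
      adamsOp k (LambdaOps.lam i x) = aeval gK (newtonRec (ℓQ i) k) := by
    intro i hi1 hi2
    rw [← newtonRec_lam (LambdaOps.lam i x) k hk, ← AlgHom.coe_toRingHom, map_newtonRec]
    exact newtonRec_congr _ _ k fun j _ hj2 => (eQ i j hi2 hj2).symm
  have h3 : adamsOp k (adamsOp k' x) =
      aeval gK (newtonRec (fun i => newtonRec (ℓQ i) k) k') := by
    rw [h1, ← hΨa, ← AlgHom.coe_toRingHom, ← RingHom.comp_apply, map_newtonRec, map_newtonRec]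
    refine newtonRec_congr _ _ k' fun i hi1 hi2 => ?_
    simp only [RingHom.comp_apply, RingHom.coe_coe]
    rw [ex i hi1 (hi2.trans hk'n), hΨa]
    exact h2 i hi1 hi2
  have h4 : adamsOp n x = aeval gK (newtonRec ℓx n) := by
    rw [← newtonRec_lam x n hn1, ← AlgHom.coe_toRingHom, map_newtonRec]
    exact newtonRec_congr _ _ n fun i h1 h2 => (ex i h1 h2).symm
  rw [h3, h4]
  congr 1
  have hinj : Function.Injective (aeval gA : MvPolynomial (Fin n) ℤ →ₐ[ℤ] MvPolynomial (Fin n) ℤ) := by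
    intro p q hpq
    apply esymmAlgHom_fin_injective ℤ (le_refl n)
    apply Subtype.ext
    rw [esymmAlgHom_apply, esymmAlgHom_apply]
    exact hpq
  apply hinj
  rw [← AlgHom.coe_toRingHom, map_newtonRec, map_newtonRec]
  simp only [AlgHom.coe_toRingHom]
  rw [newtonRec_congr _ _ n fun i h1 h2 => ax i h1 h2, newtonRec_esymm_mv _ n hn1]
  have h5 : ∀ i, 1 ≤ i → i ≤ k' → aeval gA (newtonRec (ℓQ i) k) =
      ((Finset.univ : Finset (Fin n)).val.map
        fun a => (X a : MvPolynomial (Fin n) ℤ) ^ k).esymm i := by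
    intro i hi1 hi2
    rw [← AlgHom.coe_toRingHom, map_newtonRec]
    simp only [AlgHom.coe_toRingHom]
    rw [newtonRec_congr _ _ k fun j _ hj2 => aQ i j hi2 hj2]
    have : LambdaRing.compGen n i = fun j =>
        (((Finset.univ : Finset (Fin n)).powersetCard i).val.map
          fun s => (∏ a ∈ s, X a : MvPolynomial (Fin n) ℤ)).esymm j := rfl
    rw [this, newtonRec_multiset_esymm _ k hk, Multiset.map_map, Finset.esymm_map_val]
    simp only [Function.comp_def, Finset.prod_pow]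
    rfl
  rw [newtonRec_congr _ _ k' fun i h1 h2 => h5 i h1 h2, newtonRec_multiset_esymm _ k' hk',
    Multiset.map_map, psum]
  simp only [Function.comp_def, ← pow_mul]
  rfl

end AdamsComp

end Groth.Agent.Lib.Helper95.UnivPoly
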