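import Groth.Agent.Lib.Helper95.UnivPoly4

set_option autoImplicit false
open MvPolynomial Finset LambdaRing

namespace Groth.Agent.Lib.Helper95.UnivPoly

section NewtonMultiset

lemma newton_rel_multiset {B : Type*} [CommRing B] (V : Multiset B) (m : ℕ) :
    ((m : B) + 1) * V.esymm (m + 1) =
      ∑ i ∈ range (m + 1), (-1) ^ i * (V.map (· ^ (i + 1))).sum * V.esymm (m - i) := by
  classical
  obtain ⟨N, c, rfl⟩ : ∃ (N : ℕ) (c : Fin N → B), V = (Finset.univ : Finset (Fin N)).val.map c := by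
    refine ⟨V.toList.length, V.toList.get, ?_⟩
    rw [Fin.univ_val_map, List.ofFn_get, Multiset.coe_toList]
  have h := congrArg (aeval c : MvPolynomial (Fin N) ℤ →ₐ[ℤ] B) (newton_rel_mv (Fin N) m)
  simp only [map_mul, map_add, map_natCast, map_one, map_sum, map_pow, map_neg,
    aeval_esymm_eq_multiset_esymm] at h
  rw [h]
  refine Finset.sum_congr rfl fun i _ => ?_
  congr 2
  rw [psum, map_sum, Multiset.map_map]
  simp [Finset.sum]

end NewtonMultiset

section Unique

variable {K : Type*} [CommRing K]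

lemma isLeftRegular_of_ratAlgebra [Algebra ℚ K] (m : ℕ) : IsLeftRegular ((m : K) + 1) :=
  (Groth.Agent.Lib.Helper26.LambdaAdams.natCast_succ_isUnit (K := K) m).isRegular.left

lemma newton_seq_unique (hreg : ∀ m : ℕ, IsLeftRegular ((m : K) + 1))
    (ν μ μ' : ℕ → K) (h0 : μ 0 = μ' 0) (n : ℕ)
    (h : ∀ m < n, ((m : K) + 1) * μ (m + 1) =
      ∑ i ∈ range (m + 1), (-1) ^ i * ν (i + 1) * μ (m - i))
    (h' : ∀ m < n, ((m : K) + 1) * μ' (m + 1) =
      ∑ i ∈ range (m + 1), (-1) ^ i * ν (i + 1) * μ' (m - i)) :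
    ∀ j ≤ n, μ j = μ' j := by
  intro j
  induction j using Nat.strong_induction_on with
  | _ j ih =>
    intro hj
    rcases j with _ | m
    · exact h0
    · apply hreg m
      show ((m : K) + 1) * μ (m + 1) = ((m : K) + 1) * μ' (m + 1)
      rw [h m (by omega), h' m (by omega)]
      refine Finset.sum_congr rfl fun i hi => ?_
      have := Finset.mem_range.mp hi
      rw [ih (m - i) (by omega) (by omega)]

end Unique

section Converse

variable {K : Type*} [CommRing K] [LambdaOps K]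

lemma newton_range (x : K) (m : ℕ) :
    ((m : K) + 1) * LambdaOps.lam (m + 1) x =
      ∑ i ∈ range (m + 1), (-1) ^ i * adamsOp (i + 1) x * LambdaOps.lam (m - i) x := by
  have := Groth.Agent.Lib.Helper26.LambdaAdams.newton m x
  rw [Finset.Nat.sum_antidiagonal_eq_sum_range_succ_mk] at this
  rw [mul_comm, this]

lemma lam_one_eq_zero_of_adams (hreg : ∀ m : ℕ, IsLeftRegular ((m : K) + 1))
    (h1 : ∀ k : ℕ, 1 ≤ k → adamsOp k (1 : K) = 1) (n : ℕ) (hn : 2 ≤ n) :
    LambdaOps.lam n (1 : K) = 0 := by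
  have key := newton_seq_unique hreg (fun _ => (1 : K)) (fun m => LambdaOps.lam m (1 : K))
    (fun m => if m ≤ 1 then 1 else 0) (by simp [LambdaOps.lam_zero]) n ?_ ?_ n le_rfl
  · rw [key, if_neg (by omega)]
  · intro m _
    rw [newton_range]
    refine Finset.sum_congr rfl fun i _ => ?_
    rw [h1 (i + 1) (by omega)]
  · intro m _
    rcases m with _ | m
    · simp
    · rw [if_neg (by omega), mul_zero, Finset.sum_range_succ, Finset.sum_range_succ]
      have : ∀ i ∈ range m, ((-1 : K)) ^ i * 1 * (if m + 1 - i ≤ 1 then 1 else 0) = 0 := by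
        intro i hi
        have := Finset.mem_range.mp hi
        rw [if_neg (by omega), mul_zero]
      rw [Finset.sum_eq_zero this]
      simp [pow_succ]

end Converse

section ConverseMul

variable {K : Type*} [CommRing K] [LambdaOps K]

lemma isMulPoly_unique {n : ℕ} {P P' : MvPolynomial (Fin n ⊕ Fin n) ℤ}
    (hP : IsMulPoly n P) (hP' : IsMulPoly n P') : P = P' := by
  apply gE_injective (le_refl n)
  have h1 := hP.1
  have h2 := hP'.1
  rw [show aeval (gE n n) P = _ from h1, show aeval (gE n n) P' = _ from h2]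

theorem lam_mul_of_adams (hreg : ∀ m : ℕ, IsLeftRegular ((m : K) + 1))
    (hmul : ∀ k : ℕ, 1 ≤ k → ∀ x y : K, adamsOp k (x * y) = adamsOp k x * adamsOp k y)
    (n : ℕ) (P : MvPolynomial (Fin n ⊕ Fin n) ℤ) (hP : IsMulPoly n P) (x y : K) :
    LambdaOps.lam n (x * y) =
      aeval (Sum.elim (fun k : Fin n => LambdaOps.lam ((k : ℕ) + 1) x)
        (fun k : Fin n => LambdaOps.lam ((k : ℕ) + 1) y)) P := by
  classical
  choose Pf hPf using exists_isMulPoly
  have hPn : P = Pf n := isMulPoly_unique hP (hPf n)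
  set gK : Fin n ⊕ Fin n → K := Sum.elim (fun i : Fin n => LambdaOps.lam ((i : ℕ) + 1) x)
    (fun i : Fin n => LambdaOps.lam ((i : ℕ) + 1) y) with hgK
  set ℓx : ℕ → MvPolynomial (Fin n ⊕ Fin n) ℤ := lvar n Sum.inl with hℓx
  set ℓy : ℕ → MvPolynomial (Fin n ⊕ Fin n) ℤ := lvar n Sum.inr with hℓy
  set ℓxy : ℕ → MvPolynomial (Fin n ⊕ Fin n) ℤ := fun i =>
    if h : i ≤ n then rename (Sum.map (Fin.castLE h) (Fin.castLE h)) (Pf i) else 0 with hℓxy
  set M : Multiset (MvPolynomial (Fin n ⊕ Fin n) ℤ) :=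
    (Finset.univ : Finset (Fin n × Fin n)).val.map
      fun ab => (X (Sum.inl ab.1) * X (Sum.inr ab.2) : MvPolynomial (Fin n ⊕ Fin n) ℤ) with hM
  have ex : ∀ i, 1 ≤ i → i ≤ n → aeval gK (ℓx i) = LambdaOps.lam i x := by
    intro i h1 h2
    rw [hℓx, aeval_lvar n _ _ i h1 h2, hgK, Sum.elim_inl]
    congr 1
    simp only []
    omega
  have ey : ∀ i, 1 ≤ i → i ≤ n → aeval gK (ℓy i) = LambdaOps.lam i y := by
    intro i h1 h2
    rw [hℓy, aeval_lvar n _ _ i h1 h2, hgK, Sum.elim_inr]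
    congr 1
    simp only []
    omega
  have ax : ∀ i, 1 ≤ i → i ≤ n → aeval (gE n n) (ℓx i) =
      ((Finset.univ : Finset (Fin n)).val.map
        fun a => (X (Sum.inl a) : MvPolynomial (Fin n ⊕ Fin n) ℤ)).esymm i := by
    intro i h1 h2
    rw [hℓx, aeval_lvar n _ _ i h1 h2, gE, Sum.elim_inl, rename_esymm_eq_multiset]
    congr 1
    simp only []
    omega
  have ay : ∀ i, 1 ≤ i → i ≤ n → aeval (gE n n) (ℓy i) =
      ((Finset.univ : Finset (Fin n)).val.map
        fun a => (X (Sum.inr a) : MvPolynomial (Fin n ⊕ Fin n) ℤ)).esymm i := by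
    intro i h1 h2
    rw [hℓy, aeval_lvar n _ _ i h1 h2, gE, Sum.elim_inr, rename_esymm_eq_multiset]
    congr 1
    simp only []
    omega
  have axy : ∀ i, i ≤ n → aeval (gE n n) (ℓxy i) = M.esymm i := by
    intro i h2
    simp only [hℓxy, dif_pos h2]
    rw [aeval_rename]
    have : gE n n ∘ Sum.map (Fin.castLE h2) (Fin.castLE h2) = gE n i := by
      ext1 v
      rcases v with v | v <;> simp [gE]
    rw [this, mulPoly_stable (hPf i) h2]
    rfl
  have hνx : ∀ i, 1 ≤ i → i ≤ n → aeval (gE n n) (newtonRec ℓx i) =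
      ∑ a : Fin n, (X (Sum.inl a) : MvPolynomial (Fin n ⊕ Fin n) ℤ) ^ i := by
    intro i h1 h2
    rw [← AlgHom.coe_toRingHom, map_newtonRec]
    simp only [AlgHom.coe_toRingHom]
    rw [newtonRec_congr _ _ i fun j hj1 hj2 => ax j hj1 (hj2.trans h2),
      newtonRec_multiset_esymm _ i h1, Multiset.map_map]
    rfl
  have hνy : ∀ i, 1 ≤ i → i ≤ n → aeval (gE n n) (newtonRec ℓy i) =
      ∑ a : Fin n, (X (Sum.inr a) : MvPolynomial (Fin n ⊕ Fin n) ℤ) ^ i := by
    intro i h1 h2
    rw [← AlgHom.coe_toRingHom, map_newtonRec]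
    simp only [AlgHom.coe_toRingHom]
    rw [newtonRec_congr _ _ i fun j hj1 hj2 => ay j hj1 (hj2.trans h2),
      newtonRec_multiset_esymm _ i h1, Multiset.map_map]
    rfl
  have hMpow : ∀ i, (M.map (· ^ i)).sum =
      (∑ a : Fin n, (X (Sum.inl a) : MvPolynomial (Fin n ⊕ Fin n) ℤ) ^ i) *
        ∑ a : Fin n, (X (Sum.inr a) : MvPolynomial (Fin n ⊕ Fin n) ℤ) ^ i := by
    intro i
    rw [hM, Multiset.map_map]
    change ∑ ab : Fin n × Fin n, _ = _
    rw [Finset.sum_mul_sum, Fintype.sum_prod_type]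
    simp [mul_pow]
  have I2 : ∀ m < n, ((m : MvPolynomial (Fin n ⊕ Fin n) ℤ) + 1) * ℓxy (m + 1) =
      ∑ i ∈ range (m + 1), (-1) ^ i * (newtonRec ℓx (i + 1) * newtonRec ℓy (i + 1)) *
        ℓxy (m - i) := by
    intro m hm
    apply gE_injective (le_refl n)
    simp only [map_mul, map_add, map_natCast, map_one, map_sum, map_pow, map_neg]
    rw [axy (m + 1) (by omega), newton_rel_multiset M m]
    refine Finset.sum_congr rfl fun i hi => ?_
    have hi' := Finset.mem_range.mp hi
    rw [axy (m - i) (by omega), hνx (i + 1) (by omega) (by omega),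
      hνy (i + 1) (by omega) (by omega), hMpow]
  have hx : ∀ i, 1 ≤ i → i ≤ n → adamsOp i x = aeval gK (newtonRec ℓx i) := by
    intro i h1 h2
    rw [← newtonRec_lam x i h1, ← AlgHom.coe_toRingHom, map_newtonRec]
    exact newtonRec_congr _ _ i fun j hj1 hj2 => (ex j hj1 (hj2.trans h2)).symm
  have hy : ∀ i, 1 ≤ i → i ≤ n → adamsOp i y = aeval gK (newtonRec ℓy i) := by
    intro i h1 h2
    rw [← newtonRec_lam y i h1, ← AlgHom.coe_toRingHom, map_newtonRec]
    exact newtonRec_congr _ _ i fun j hj1 hj2 => (ey j hj1 (hj2.trans h2)).symm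
  have h0 : ℓxy 0 = 1 := by
    apply gE_injective (le_refl n)
    rw [axy 0 (Nat.zero_le _), map_one]
    simp [Multiset.esymm]
  have key := newton_seq_unique hreg (fun k => adamsOp k (x * y)) (fun m => LambdaOps.lam m (x * y))
    (fun m => aeval gK (ℓxy m)) (by simp [LambdaOps.lam_zero, h0]) n
    (fun m _ => newton_range (x * y) m) ?_ n le_rfl
  · rw [key, hPn]
    simp only [hℓxy, dif_pos (le_refl n)]
    rw [aeval_rename]
    congr 2
    ext1 v
    rcases v with v | v <;> simp [hgK]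
  · intro m hm
    have := congrArg (aeval gK) (I2 m hm)
    simp only [map_mul, map_add, map_natCast, map_one, map_sum, map_pow, map_neg] at this
    rw [this]
    refine Finset.sum_congr rfl fun i hi => ?_
    have hi' := Finset.mem_range.mp hi
    rw [hmul (i + 1) (by omega), hx (i + 1) (by omega) (by omega),
      hy (i + 1) (by omega) (by omega)]

end ConverseMul

section ConverseComp

variable {K : Type*} [CommRing K] [LambdaOps K]

lemma isCompPoly_unique {i j : ℕ} {Q Q' : MvPolynomial (Fin (i * j)) ℤ}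
    (hQ : IsCompPoly i j Q) (hQ' : IsCompPoly i j Q') : Q = Q' := by
  apply esymmAlgHom_fin_injective ℤ (le_refl (i * j))
  apply Subtype.ext
  rw [esymmAlgHom_apply, esymmAlgHom_apply, hQ.1, hQ'.1]

noncomputable def adamsHom'
    (h1 : ∀ k : ℕ, 1 ≤ k → adamsOp k (1 : K) = 1)
    (hmul : ∀ k : ℕ, 1 ≤ k → ∀ x y : K, adamsOp k (x * y) = adamsOp k x * adamsOp k y)
    (k : ℕ) (hk : 1 ≤ k) : K →+* K where
  toFun := adamsOp k
  map_one' := h1 k hk
  map_mul' := hmul k hk
  map_zero' := by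
    have := adamsOp_add k (0 : K) 0
    rw [add_zero] at this
    exact left_eq_add.mp this
  map_add' := adamsOp_add k

theorem lam_lam_of_adams (hreg : ∀ m : ℕ, IsLeftRegular ((m : K) + 1))
    (h1 : ∀ k : ℕ, 1 ≤ k → adamsOp k (1 : K) = 1)
    (hmul : ∀ k : ℕ, 1 ≤ k → ∀ x y : K, adamsOp k (x * y) = adamsOp k x * adamsOp k y)
    (hcomp : ∀ k k' : ℕ, 1 ≤ k → 1 ≤ k' → ∀ x : K,
      adamsOp k (adamsOp k' x) = adamsOp (k * k') x)
    (i₀ j₀ : ℕ) (Q : MvPolynomial (Fin (i₀ * j₀)) ℤ) (hQ : IsCompPoly i₀ j₀ Q) (x : K) :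
    LambdaOps.lam j₀ (LambdaOps.lam i₀ x) =
      aeval (fun k : Fin (i₀ * j₀) => LambdaOps.lam ((k : ℕ) + 1) x) Q := by
  classical
  choose Qf hQf using exists_isCompPoly
  have hQn : Q = Qf i₀ j₀ := isCompPoly_unique hQ (hQf i₀ j₀)
  set n := i₀ * j₀ with hn
  set gK : Fin n → K := fun i => LambdaOps.lam ((i : ℕ) + 1) x with hgK
  set gA : Fin n → MvPolynomial (Fin n) ℤ := fun i => esymm (Fin n) ℤ ((i : ℕ) + 1) with hgA
  set ℓx : ℕ → MvPolynomial (Fin n) ℤ := lvar n id with hℓx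
  set ℓQ : ℕ → ℕ → MvPolynomial (Fin n) ℤ := fun a b =>
    if h : a * b ≤ n then rename (Fin.castLE h) (Qf a b) else 0 with hℓQ
  have hij : ∀ a b, a ≤ i₀ → b ≤ j₀ → a * b ≤ n := fun a b ha hb => Nat.mul_le_mul ha hb
  have hinj : Function.Injective
      (aeval gA : MvPolynomial (Fin n) ℤ →ₐ[ℤ] MvPolynomial (Fin n) ℤ) := by
    intro p q hpq
    apply esymmAlgHom_fin_injective ℤ (le_refl n)
    apply Subtype.ext
    rw [esymmAlgHom_apply, esymmAlgHom_apply]
    exact hpq
  have ex : ∀ a, 1 ≤ a → a ≤ n → aeval gK (ℓx a) = LambdaOps.lam a x := by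
    intro a h1 h2
    rw [hℓx, aeval_lvar n _ _ a h1 h2, hgK]
    simp only [id]
    congr 1
    omega
  have ax : ∀ a, 1 ≤ a → a ≤ n → aeval gA (ℓx a) = esymm (Fin n) ℤ a := by
    intro a h1 h2
    rw [hℓx, aeval_lvar n _ _ a h1 h2, hgA]
    simp only [id]
    congr 1
    omega
  have aQ : ∀ a b, a ≤ i₀ → b ≤ j₀ → aeval gA (ℓQ a b) = LambdaRing.compGen n a b := by
    intro a b ha hb
    simp only [hℓQ, dif_pos (hij a b ha hb)]
    rw [aeval_rename]
    exact compPoly_stable (hQf a b) (hij a b ha hb)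
  have hN : ∀ q, 1 ≤ q → q ≤ n → aeval gA (newtonRec ℓx q) = psum (Fin n) ℤ q := by
    intro q h1 h2
    rw [← AlgHom.coe_toRingHom, map_newtonRec]
    simp only [AlgHom.coe_toRingHom]
    rw [newtonRec_congr _ _ q fun a ha1 ha2 => ax a ha1 (ha2.trans h2), newtonRec_esymm_mv _ q h1]
  have hNe : ∀ q, 1 ≤ q → q ≤ n → aeval gK (newtonRec ℓx q) = adamsOp q x := by
    intro q h1 h2
    rw [← newtonRec_lam x q h1, ← AlgHom.coe_toRingHom, map_newtonRec]
    exact newtonRec_congr _ _ q fun a ha1 ha2 => ex a ha1 (ha2.trans h2)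
  have hW : ∀ a k, a ≤ i₀ → 1 ≤ k → k ≤ j₀ → aeval gA (newtonRec (ℓQ a) k) =
      ((Finset.univ : Finset (Fin n)).val.map
        fun c => (X c : MvPolynomial (Fin n) ℤ) ^ k).esymm a := by
    intro a k ha hk1 hk2
    rw [← AlgHom.coe_toRingHom, map_newtonRec]
    simp only [AlgHom.coe_toRingHom]
    rw [newtonRec_congr _ _ k fun b _ hb2 => aQ a b ha (hb2.trans hk2)]
    have : LambdaRing.compGen n a = fun b =>
        (((Finset.univ : Finset (Fin n)).powersetCard a).val.map
          fun s => (∏ c ∈ s, X c : MvPolynomial (Fin n) ℤ)).esymm b := rfl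
    rw [this, newtonRec_multiset_esymm _ k hk1, Multiset.map_map, Finset.esymm_map_val]
    simp only [Function.comp_def, Finset.prod_pow]
    rfl
  have claimA : ∀ k, 1 ≤ k → k ≤ j₀ → ∀ a ≤ i₀,
      adamsOp k (LambdaOps.lam a x) = aeval gK (newtonRec (ℓQ a) k) := by
    intro k hk1 hk2
    have I3a : ∀ m < i₀, ((m : MvPolynomial (Fin n) ℤ) + 1) * newtonRec (ℓQ (m + 1)) k =
        ∑ q ∈ range (m + 1), (-1) ^ q * newtonRec ℓx (k * (q + 1)) *
          newtonRec (ℓQ (m - q)) k := by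
      intro m hm
      apply hinj
      simp only [map_mul, map_add, map_natCast, map_one, map_sum, map_pow, map_neg]
      rw [hW (m + 1) k (by omega) hk1 hk2, newton_rel_multiset _ m]
      refine Finset.sum_congr rfl fun q hq => ?_
      have hq' := Finset.mem_range.mp hq
      have hkq : k * (q + 1) ≤ n := by
        calc k * (q + 1) ≤ j₀ * i₀ := Nat.mul_le_mul hk2 (by omega)
          _ = n := by rw [hn, mul_comm]
      have hkq1 : 1 ≤ k * (q + 1) := Nat.one_le_iff_ne_zero.mpr (Nat.mul_ne_zero (by omega) (by omega))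
      rw [hW (m - q) k (by omega) hk1 hk2, hN _ hkq1 hkq, psum, Multiset.map_map]
      congr 2
      simp only [Function.comp_def, ← pow_mul]
      rfl
    have hW0 : newtonRec (ℓQ 0) k = 1 := by
      apply hinj
      rw [hW 0 k (Nat.zero_le _) hk1 hk2, map_one]
      simp [Multiset.esymm]
    set Ψ := adamsHom' h1 hmul k hk1 with hΨ
    have hΨa : ∀ z, Ψ z = adamsOp k z := fun z => rfl
    refine newton_seq_unique hreg (fun q => adamsOp (k * q) x)
      (fun a => adamsOp k (LambdaOps.lam a x)) (fun a => aeval gK (newtonRec (ℓQ a) k))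
      (by simp [LambdaOps.lam_zero, hW0, h1 k hk1]) i₀ ?_ ?_
    · intro m _
      have := congrArg Ψ (newton_range x m)
      simp only [map_mul, map_add, map_natCast, map_one, map_sum, map_pow, map_neg] at this
      simp only [hΨa] at this
      rw [this]
      refine Finset.sum_congr rfl fun q _ => ?_
      rw [hcomp k (q + 1) hk1 (by omega)]
    · intro m hm
      have := congrArg (aeval gK) (I3a m hm)
      simp only [map_mul, map_add, map_natCast, map_one, map_sum, map_pow, map_neg] at this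
      rw [this]
      refine Finset.sum_congr rfl fun q hq => ?_
      have hq' := Finset.mem_range.mp hq
      have hkq : k * (q + 1) ≤ n := by
        calc k * (q + 1) ≤ j₀ * i₀ := Nat.mul_le_mul hk2 (by omega)
          _ = n := by rw [hn, mul_comm]
      have hkq1 : 1 ≤ k * (q + 1) := Nat.one_le_iff_ne_zero.mpr (Nat.mul_ne_zero (by omega) (by omega))
      rw [hNe _ hkq1 hkq]
  set M : Multiset (MvPolynomial (Fin n) ℤ) :=
    ((Finset.univ : Finset (Fin n)).powersetCard i₀).val.map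
      fun s => (∏ c ∈ s, X c : MvPolynomial (Fin n) ℤ) with hM
  have hQM : ∀ b ≤ j₀, aeval gA (ℓQ i₀ b) = M.esymm b := fun b hb => aQ i₀ b le_rfl hb
  have hMp : ∀ k, (M.map (· ^ k)).sum = ((Finset.univ : Finset (Fin n)).val.map
      fun c => (X c : MvPolynomial (Fin n) ℤ) ^ k).esymm i₀ := by
    intro k
    rw [hM, Multiset.map_map, Finset.esymm_map_val]
    simp only [Function.comp_def, Finset.prod_pow]
    rfl
  have I3b : ∀ m < j₀, ((m : MvPolynomial (Fin n) ℤ) + 1) * ℓQ i₀ (m + 1) =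
      ∑ k ∈ range (m + 1), (-1) ^ k * newtonRec (ℓQ i₀) (k + 1) * ℓQ i₀ (m - k) := by
    intro m hm
    apply hinj
    simp only [map_mul, map_add, map_natCast, map_one, map_sum, map_pow, map_neg]
    rw [hQM (m + 1) (by omega), newton_rel_multiset M m]
    refine Finset.sum_congr rfl fun k hk => ?_
    have hk' := Finset.mem_range.mp hk
    rw [hQM (m - k) (by omega), hW i₀ (k + 1) le_rfl (by omega) (by omega), hMp]
  have hQ0 : ℓQ i₀ 0 = 1 := by
    apply hinj
    rw [hQM 0 (Nat.zero_le _), map_one]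
    simp [Multiset.esymm]
  have key := newton_seq_unique hreg (fun k => adamsOp k (LambdaOps.lam i₀ x))
    (fun b => LambdaOps.lam b (LambdaOps.lam i₀ x)) (fun b => aeval gK (ℓQ i₀ b))
    (by simp [LambdaOps.lam_zero, hQ0]) j₀
    (fun m _ => newton_range (LambdaOps.lam i₀ x) m) ?_ j₀ le_rfl
  · rw [key, hQn]
    simp only [hℓQ, dif_pos (show i₀ * j₀ ≤ n from le_refl n)]
    rw [aeval_rename]
    rfl
  · intro m hm
    have := congrArg (aeval gK) (I3b m hm)
    simp only [map_mul, map_add, map_natCast, map_one, map_sum, map_pow, map_neg] at this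
    rw [this]
    refine Finset.sum_congr rfl fun k hk => ?_
    have hk' := Finset.mem_range.mp hk
    rw [claimA (k + 1) (by omega) (by omega) i₀ le_rfl]

end ConverseComp

end Groth.Agent.Lib.Helper95.UnivPoly
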