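import Groth.Agent.S8702
import Groth.Agent.S8689
import Groth.Agent.S8651
import Groth.Agent.Lib.Helper95.UnivPoly5
import Groth.Agent.Lib.Helper26.LambdaGamma

set_option autoImplicit false
open MvPolynomial Finset LambdaRing

namespace Groth.Agent.Lib.Helper95.UnivRing

open Groth.Agent.Lib.Helper95.UnivPoly

section Line

variable {K : Type*} [CommRing K] [LambdaOps K]

lemma lam_eq_zero_of_adams_pow (hreg : ∀ m : ℕ, IsLeftRegular ((m : K) + 1)) (u : K)
    (h1 : ∀ k : ℕ, 1 ≤ k → adamsOp k u = u ^ k) (n : ℕ) (hn : 2 ≤ n) :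
    LambdaOps.lam n u = 0 := by
  have key := newton_seq_unique hreg (fun k => u ^ k) (fun m => LambdaOps.lam m u)
    (fun m => if m = 0 then 1 else if m = 1 then u else 0) (by simp [LambdaOps.lam_zero]) n ?_ ?_ n le_rfl
  · rw [key, if_neg (by omega), if_neg (by omega)]
  · intro m _
    rw [newton_range]
    refine Finset.sum_congr rfl fun i _ => ?_
    rw [h1 (i + 1) (by omega)]
  · intro m _
    rcases m with _ | m
    · simp
    · rw [if_neg (by omega), if_neg (by omega), mul_zero, Finset.sum_range_succ,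
        Finset.sum_range_succ]
      have : ∀ i ∈ range m, ((-1 : K)) ^ i * u ^ (i + 1) *
          (if m + 1 - i = 0 then 1 else if m + 1 - i = 1 then u else 0) = 0 := by
        intro i hi
        have := Finset.mem_range.mp hi
        rw [if_neg (by omega), if_neg (by omega), mul_zero]
      rw [Finset.sum_eq_zero this]
      simp [pow_succ]
      ring

end Line

section Univ

variable (σ : Type*)

noncomputable def psi (k : ℕ) : MvPolynomial σ ℚ →ₐ[ℚ] MvPolynomial σ ℚ :=
  aeval (fun i => (1 + X i) ^ k - 1)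

lemma psi_X (k : ℕ) (i : σ) : psi σ k (X i) = (1 + X i) ^ k - 1 := by
  simp [psi]

lemma psi_one_add_X (k : ℕ) (i : σ) : psi σ k (1 + X i) = (1 + X i) ^ k := by
  rw [map_add, map_one, psi_X]; ring

lemma psi_one : psi σ 1 = AlgHom.id ℚ _ := by
  apply MvPolynomial.algHom_ext
  intro i
  simp [psi]

lemma psi_comp (k l : ℕ) (f : MvPolynomial σ ℚ) : psi σ k (psi σ l f) = psi σ (k * l) f := by
  have : (psi σ k).comp (psi σ l) = psi σ (k * l) := by
    apply MvPolynomial.algHom_ext
    intro i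
    rw [AlgHom.comp_apply, psi_X, map_sub, map_pow, map_one, psi_one_add_X, psi_X, ← pow_mul]
  exact congrArg (fun φ => φ f) this

noncomputable def psiAdd (k : ℕ) : MvPolynomial σ ℚ →+ MvPolynomial σ ℚ :=
  (psi σ k).toRingHom.toAddMonoidHom

lemma psiAdd_one : psiAdd σ 1 = AddMonoidHom.id _ := by
  ext f
  simp [psiAdd, psi_one]

@[instance_reducible]
noncomputable def univLambdaOps : LambdaOps (MvPolynomial σ ℚ) :=
  Classical.choose (Groth.Agent.S8702.result (MvPolynomial σ ℚ) (psiAdd σ) (psiAdd_one σ)).exists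

attribute [scoped instance] univLambdaOps

lemma adamsOp_eq (k : ℕ) (hk : 1 ≤ k) (f : MvPolynomial σ ℚ) : adamsOp k f = psi σ k f :=
  Classical.choose_spec (Groth.Agent.S8702.result (MvPolynomial σ ℚ) (psiAdd σ) (psiAdd_one σ)).exists
    k hk f

theorem univ_isSpecial : IsSpecial (MvPolynomial σ ℚ) := by
  apply Groth.Agent.S8689.result
  · intro k hk
    rw [adamsOp_eq σ k hk, map_one]
  · intro k hk x y
    rw [adamsOp_eq σ k hk, adamsOp_eq σ k hk, adamsOp_eq σ k hk, map_mul]
  · intro k k' hk hk' x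
    rw [adamsOp_eq σ k' hk', adamsOp_eq σ k hk, adamsOp_eq σ (k * k')
      (Nat.one_le_iff_ne_zero.mpr (Nat.mul_ne_zero (by omega) (by omega))), psi_comp]

lemma univ_hreg (m : ℕ) : IsLeftRegular ((m : MvPolynomial σ ℚ) + 1) :=
  isLeftRegular_of_ratAlgebra m

lemma lam_line (u : MvPolynomial σ ℚ) (hu : ∀ k : ℕ, 1 ≤ k → psi σ k u = u ^ k) (n : ℕ)
    (hn : 2 ≤ n) : LambdaOps.lam n u = 0 :=
  lam_eq_zero_of_adams_pow (univ_hreg σ) u (fun k hk => by rw [adamsOp_eq σ k hk, hu k hk]) n hn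

lemma lam_one_univ (n : ℕ) (hn : 2 ≤ n) : LambdaOps.lam n (1 : MvPolynomial σ ℚ) = 0 :=
  (univ_isSpecial σ).lam_one_eq_zero n hn

noncomputable def uMon (α : σ →₀ ℕ) : MvPolynomial σ ℚ := α.prod fun i n => (1 + X i) ^ n

lemma psi_uMon (k : ℕ) (α : σ →₀ ℕ) : psi σ k (uMon σ α) = uMon σ α ^ k := by
  unfold uMon
  rw [Finsupp.prod, map_prod, ← Finset.prod_pow]
  refine Finset.prod_congr rfl fun i _ => ?_
  rw [map_pow, psi_one_add_X, ← pow_mul, ← pow_mul, mul_comm]

lemma gamma_uMon_sub_one (α : σ →₀ ℕ) (k : ℕ) :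
    gamma k (uMon σ α - 1) = if k = 0 then 1 else if k = 1 then uMon σ α - 1 else 0 := by
  have h := Groth.Agent.S8651.result (MvPolynomial σ ℚ) (lam_one_univ σ) 1 (fun _ => uMon σ α)
    (fun _ j hj => lam_line σ _ (fun k _ => psi_uMon σ k α) j hj) k
  simp only [Finset.univ_unique, Fin.default_eq_zero, Finset.sum_singleton, Nat.cast_one] at h
  rw [h]
  rcases k with _ | _ | k
  · simp
  · simp [Finset.powersetCard_one]
  · rw [if_neg (by omega), if_neg (by omega)]
    apply Finset.sum_eq_zero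
    intro s hs
    have := (Finset.mem_powersetCard.mp hs).2
    have h2 : s.card ≤ 1 := by
      calc s.card ≤ (Finset.univ : Finset (Fin 1)).card := Finset.card_le_univ s
        _ = 1 := by simp
    omega

lemma gamma_sum_X [Fintype σ] (k : ℕ) :
    gamma k (∑ i : σ, (X i : MvPolynomial σ ℚ)) = esymm σ ℚ k := by
  classical
  obtain ⟨e⟩ : Nonempty (σ ≃ Fin (Fintype.card σ)) := ⟨Fintype.equivFin σ⟩
  have h := Groth.Agent.S8651.result (MvPolynomial σ ℚ) (lam_one_univ σ) (Fintype.card σ)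
    (fun j => 1 + X (e.symm j))
    (fun j n hn => lam_line σ _ (fun k _ => psi_one_add_X σ k _) n hn) k
  have e1 : (∑ j : Fin (Fintype.card σ), (1 + X (e.symm j) : MvPolynomial σ ℚ)) -
      (Fintype.card σ : MvPolynomial σ ℚ) = ∑ i : σ, X i := by
    rw [Finset.sum_add_distrib, Finset.sum_const, Finset.card_univ, Fintype.card_fin,
      nsmul_eq_mul, mul_one, add_sub_cancel_left]
    exact Fintype.sum_equiv e.symm _ _ (fun _ => rfl)
  rw [e1] at h
  rw [h, esymm]
  have e2 : ∀ s : Finset (Fin (Fintype.card σ)),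
      ∏ i ∈ s, ((1 + X (e.symm i) : MvPolynomial σ ℚ) - 1) = ∏ i ∈ s.map e.symm.toEmbedding, X i := by
    intro s
    rw [Finset.prod_map]
    refine Finset.prod_congr rfl fun i _ => ?_
    simp
  rw [Finset.sum_congr rfl (fun s _ => e2 s)]
  refine Finset.sum_bij (fun s _ => s.map e.symm.toEmbedding) ?_ ?_ ?_ ?_
  · intro s hs
    rw [Finset.mem_powersetCard] at hs ⊢
    exact ⟨Finset.subset_univ _, by rw [Finset.card_map]; exact hs.2⟩
  · intro s _ t _ hst
    exact Finset.map_injective _ hst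
  · intro t ht
    refine ⟨t.map e.toEmbedding, ?_, ?_⟩
    · rw [Finset.mem_powersetCard] at ht ⊢
      exact ⟨Finset.subset_univ _, by rw [Finset.card_map]; exact ht.2⟩
    · ext i
      simp
  · intro s _
    rfl

lemma gamma_sum_X_rename {τ : Type*} [Fintype τ] (e : τ → σ) (k : ℕ) :
    gamma k (∑ j : τ, (X (e j) : MvPolynomial σ ℚ)) = rename e (esymm τ ℚ k) := by
  classical
  obtain ⟨eq⟩ : Nonempty (τ ≃ Fin (Fintype.card τ)) := ⟨Fintype.equivFin τ⟩
  have h := Groth.Agent.S8651.result (MvPolynomial σ ℚ) (lam_one_univ σ) (Fintype.card τ)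
    (fun j => 1 + X (e (eq.symm j)))
    (fun j n hn => lam_line σ _ (fun k _ => psi_one_add_X σ k _) n hn) k
  have e1 : (∑ j : Fin (Fintype.card τ), (1 + X (e (eq.symm j)) : MvPolynomial σ ℚ)) -
      (Fintype.card τ : MvPolynomial σ ℚ) = ∑ i : τ, X (e i) := by
    rw [Finset.sum_add_distrib, Finset.sum_const, Finset.card_univ, Fintype.card_fin,
      nsmul_eq_mul, mul_one, add_sub_cancel_left]
    exact Fintype.sum_equiv eq.symm _ _ (fun _ => rfl)
  rw [e1] at h
  rw [h, esymm, map_sum]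
  have e2 : ∀ s : Finset (Fin (Fintype.card τ)),
      ∏ i ∈ s, ((1 + X (e (eq.symm i)) : MvPolynomial σ ℚ) - 1) =
        rename e (∏ i ∈ s.map eq.symm.toEmbedding, X i) := by
    intro s
    rw [map_prod, Finset.prod_map]
    refine Finset.prod_congr rfl fun i _ => ?_
    simp
  rw [Finset.sum_congr rfl (fun s _ => e2 s)]
  refine Finset.sum_bij (fun s _ => s.map eq.symm.toEmbedding) ?_ ?_ ?_ ?_
  · intro s hs
    rw [Finset.mem_powersetCard] at hs ⊢
    exact ⟨Finset.subset_univ _, by rw [Finset.card_map]; exact hs.2⟩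
  · intro s _ t _ hst
    exact Finset.map_injective _ hst
  · intro t ht
    refine ⟨t.map eq.toEmbedding, ?_, ?_⟩
    · rw [Finset.mem_powersetCard] at ht ⊢
      exact ⟨Finset.subset_univ _, by rw [Finset.card_map]; exact ht.2⟩
    · ext i
      simp
  · intro s _
    rfl

end Univ

end Groth.Agent.Lib.Helper95.UnivRing
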