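import Mathlib

set_option autoImplicit false

namespace Groth.Agent.Lib.Helper95.WeierBasis

open PowerSeries Finset

section Basic

variable {A : Type*} [CommRing A]

lemma mk_eq_C_add_X_mul (a : ℕ → A) :
    (PowerSeries.mk a : A⟦X⟧) = C (a 0) + X * PowerSeries.mk (fun j => a (j + 1)) := by
  ext n
  rcases n with _ | n
  · simp
  · rw [coeff_mk, map_add, coeff_succ_X_mul, coeff_mk, coeff_C, if_neg (by omega), zero_add]

lemma eq_C_add_X_mul (c : A⟦X⟧) :
    c = C (coeff 0 c) + X * PowerSeries.mk (fun j => coeff (j + 1) c) := by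
  conv_lhs => rw [show c = PowerSeries.mk (fun j => coeff j c) from by ext n; simp]
  exact mk_eq_C_add_X_mul _

lemma subst_decomp (f : A⟦X⟧) (hf : HasSubst f) (c : A⟦X⟧) :
    PowerSeries.subst f c = C (coeff 0 c) +
      f * PowerSeries.subst f (PowerSeries.mk (fun j => coeff (j + 1) c)) := by
  conv_lhs => rw [eq_C_add_X_mul c]
  rw [subst_add hf, subst_mul hf, subst_X hf, subst_C]
  rfl

lemma coe_sum_fin (h : ℕ) (a : Fin h → A) :
    ((∑ i : Fin h, Polynomial.C (a i) * Polynomial.X ^ (i : ℕ) : Polynomial A) : A⟦X⟧) =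
      ∑ i : Fin h, C (a i) * X ^ (i : ℕ) := by
  have := map_sum (Polynomial.coeToPowerSeries.ringHom (R := A))
    (fun i : Fin h => Polynomial.C (a i) * Polynomial.X ^ (i : ℕ)) Finset.univ
  simp only [Polynomial.coeToPowerSeries.ringHom_apply] at this
  rw [this]
  refine Finset.sum_congr rfl fun i _ => ?_
  simp

lemma coeff_sum_fin (h : ℕ) (a : Fin h → A) (i : Fin h) :
    (∑ i : Fin h, Polynomial.C (a i) * Polynomial.X ^ (i : ℕ) : Polynomial A).coeff i = a i := by
  rw [Polynomial.finsetSum_coeff, Finset.sum_eq_single i]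
  · simp
  · intro j _ hj
    rw [Polynomial.coeff_C_mul_X_pow, if_neg]
    intro h'
    exact hj (Fin.ext h'.symm)
  · intro h'
    exact absurd (Finset.mem_univ i) h'

lemma poly_eq_sum_fin (h : ℕ) (r : Polynomial A) (hr : r.degree < h) :
    r = ∑ i : Fin h, Polynomial.C (r.coeff i) * Polynomial.X ^ (i : ℕ) := by
  ext n
  by_cases hn : n < h
  · have := coeff_sum_fin h (fun i : Fin h => r.coeff i) ⟨n, hn⟩
    exact this.symm
  · rw [Polynomial.coeff_eq_zero_of_degree_lt, Polynomial.coeff_eq_zero_of_degree_lt]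
    · refine lt_of_lt_of_le (Polynomial.degree_sum_fin_lt _) ?_
      exact_mod_cast not_lt.mp hn
    · refine lt_of_lt_of_le hr ?_
      exact_mod_cast not_lt.mp hn

end Basic

section Main

variable {A : Type*} [CommRing A] [IsLocalRing A]
  [IsAdicComplete (IsLocalRing.maximalIdeal A) A]
  (f : A⟦X⟧) (hf0 : constantCoeff f = 0) (hfm : f.map (IsLocalRing.residue A) ≠ 0)

noncomputable def hh : ℕ := (f.map (IsLocalRing.residue A)).order.toNat

noncomputable def G (g : A⟦X⟧) (j : ℕ) : A⟦X⟧ := (fun x => x /ʷ f)^[j] g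

noncomputable def R (g : A⟦X⟧) (j : ℕ) : Polynomial A := (G f g j) %ʷ f

lemma G_zero (g : A⟦X⟧) : G f g 0 = g := rfl

lemma G_succ (g : A⟦X⟧) (j : ℕ) : G f g (j + 1) = G f (g /ʷ f) j := by
  unfold G
  rw [Function.iterate_succ_apply]

lemma R_succ (g : A⟦X⟧) (j : ℕ) : R f g (j + 1) = R f (g /ʷ f) j := by
  unfold R
  rw [G_succ]

lemma degree_R_lt (g : A⟦X⟧) (j : ℕ) : (R f g j).degree < hh f :=
  degree_weierstrassMod_lt _ _

noncomputable def cc (g : A⟦X⟧) (i : ℕ) : A⟦X⟧ := PowerSeries.mk (fun j => (R f g j).coeff i)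

noncomputable def Phi (g : A⟦X⟧) : A⟦X⟧ :=
  ∑ i : Fin (hh f), PowerSeries.subst f (cc f g i) * X ^ (i : ℕ)

include hf0 in
lemma Phi_eq (g : A⟦X⟧) : Phi f g = (R f g 0 : A⟦X⟧) + f * Phi f (g /ʷ f) := by
  have hs : HasSubst f := HasSubst.of_constantCoeff_zero' hf0
  unfold Phi
  have h1 : ∀ i : Fin (hh f), PowerSeries.subst f (cc f g i) =
      C ((R f g 0).coeff i) + f * PowerSeries.subst f (cc f (g /ʷ f) i) := by
    intro i
    rw [subst_decomp f hs]
    congr 2
    · unfold cc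
      rw [coeff_mk]
    · unfold cc
      congr 1
      ext j
      rw [coeff_mk, coeff_mk, coeff_mk, R_succ]
  rw [Finset.sum_congr rfl fun i _ => by rw [h1 i]]
  simp only [add_mul, Finset.sum_add_distrib]
  congr 1
  · conv_rhs => rw [poly_eq_sum_fin (hh f) (R f g 0) (degree_R_lt f g 0)]
    rw [coe_sum_fin]
  · rw [Finset.mul_sum]
    refine Finset.sum_congr rfl fun i _ => ?_
    rw [mul_assoc]

include hf0 hfm in
lemma diff_eq (g : A⟦X⟧) : g - Phi f g = f * (g /ʷ f - Phi f (g /ʷ f)) := by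
  rw [Phi_eq f hf0 g]
  have h1 : g = f * (g /ʷ f) + ((g %ʷ f : Polynomial A) : A⟦X⟧) :=
    eq_mul_weierstrassDiv_add_weierstrassMod g hfm
  have h2 : R f g 0 = g %ʷ f := rfl
  rw [h2]
  linear_combination h1

include hf0 hfm in
lemma X_pow_dvd_diff (J : ℕ) : ∀ g : A⟦X⟧, X ^ J ∣ g - Phi f g := by
  induction J with
  | zero => intro g; simp
  | succ J ih =>
    intro g
    rw [diff_eq f hf0 hfm g, pow_succ']
    exact mul_dvd_mul (X_dvd_iff.mpr hf0) (ih _)

include hf0 hfm in
theorem exists_rep (g : A⟦X⟧) : g = Phi f g := by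
  have h1 : g - Phi f g = 0 := by
    ext n
    have := (X_pow_dvd_iff.mp (X_pow_dvd_diff f hf0 hfm (n + 1) g)) n (by omega)
    rw [this, map_zero]
  exact sub_eq_zero.mp h1

include hf0 hfm in
theorem unique_rep : ∀ (j : ℕ) (d : Fin (hh f) → A⟦X⟧),
    (∑ i : Fin (hh f), PowerSeries.subst f (d i) * X ^ (i : ℕ) = 0) →
      ∀ i, coeff j (d i) = 0 := by
  have hs : HasSubst f := HasSubst.of_constantCoeff_zero' hf0
  have key : ∀ d : Fin (hh f) → A⟦X⟧,
      (∑ i : Fin (hh f), PowerSeries.subst f (d i) * X ^ (i : ℕ) = 0) →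
      (∀ i, coeff 0 (d i) = 0) ∧
        ∑ i : Fin (hh f), PowerSeries.subst f
          (PowerSeries.mk (fun j => coeff (j + 1) (d i))) * X ^ (i : ℕ) = 0 := by
    intro d hd
    have h1 : (0 : A⟦X⟧) = f * (∑ i : Fin (hh f), PowerSeries.subst f
          (PowerSeries.mk (fun j => coeff (j + 1) (d i))) * X ^ (i : ℕ)) +
        ((∑ i : Fin (hh f), Polynomial.C (coeff 0 (d i)) * Polynomial.X ^ (i : ℕ) :
          Polynomial A) : A⟦X⟧) := by
      rw [coe_sum_fin, ← hd, Finset.mul_sum, ← Finset.sum_add_distrib]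
      refine Finset.sum_congr rfl fun i _ => ?_
      conv_lhs => rw [subst_decomp f hs (d i)]
      ring
    have hW : IsWeierstrassDivision (0 : A⟦X⟧) f
        (∑ i : Fin (hh f), PowerSeries.subst f
          (PowerSeries.mk (fun j => coeff (j + 1) (d i))) * X ^ (i : ℕ))
        (∑ i : Fin (hh f), Polynomial.C (coeff 0 (d i)) * Polynomial.X ^ (i : ℕ)) :=
      ⟨Polynomial.degree_sum_fin_lt _, h1⟩
    obtain ⟨hq, hr⟩ := hW.eq_zero hfm
    refine ⟨fun i => ?_, hq⟩
    have := coeff_sum_fin (hh f) (fun i => coeff 0 (d i)) i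
    rw [hr, Polynomial.coeff_zero] at this
    exact this.symm
  intro j
  induction j with
  | zero => intro d hd; exact (key d hd).1
  | succ j ih =>
    intro d hd i
    have := ih _ (key d hd).2 i
    rwa [coeff_mk] at this

end Main

end Groth.Agent.Lib.Helper95.WeierBasis
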