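import Mathlib
import Groth.Agent.Lib.Helper95.FiltProj
import Groth.Agent.Lib.Helper95.WittComplete

set_option autoImplicit false

namespace Groth.Agent.Lib.Helper95.WittTruncProj

open Groth.Agent.Lib.Helper95.FiltProj Groth.Agent.Lib.Helper95.WittComplete

variable (p : ℕ) [hp : Fact p.Prime] (R : Type*) [CommRing R]

noncomputable def II (n : ℕ) : Ideal (WittVector p R) :=
  RingHom.ker (WittVector.truncate (p := p) (R := R) n)

lemma mem_II (n : ℕ) (x : WittVector p R) : x ∈ II p R n ↔ ∀ i < n, x.coeff i = 0 := by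
  rw [II, WittVector.mem_ker_truncate]

lemma II_antitone : Antitone (II p R) := by
  intro m n hmn x hx
  rw [mem_II] at hx ⊢
  exact fun i hi => hx i (lt_of_lt_of_le hi hmn)

lemma II_sep (w : WittVector p R) (h : ∀ n, w ∈ II p R n) : w = 0 := by
  ext i
  rw [WittVector.zero_coeff]
  exact (mem_II p R (i + 1) w).mp (h (i + 1)) i (Nat.lt_succ_self i)

lemma sub_mem_II (n : ℕ) (x y : WittVector p R) :
    x - y ∈ II p R n ↔ ∀ i < n, x.coeff i = y.coeff i := by
  rw [mem_II, WittVector.le_coeff_eq_iff_le_sub_coeff_eq_zero]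

lemma II_complete (w : ℕ → WittVector p R) (hw : ∀ n, w (n + 1) - w n ∈ II p R n) :
    ∃ L, ∀ n, L - w n ∈ II p R n := by
  have h1 : ∀ i m, i + 1 ≤ m → (w m).coeff i = (w (i + 1)).coeff i := by
    intro i m hm
    induction m, hm using Nat.le_induction with
    | base => rfl
    | succ m hm ih =>
      rw [← ih]
      exact (sub_mem_II p R m _ _).mp (hw m) i (by omega)
  refine ⟨WittVector.mk p (fun i => (w (i + 1)).coeff i), fun n => ?_⟩
  rw [sub_mem_II]
  intro i hi
  rw [WittVector.coeff_mk, h1 i n (by omega)]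

lemma II_one_eq : II p R 1 = JJ p R := by
  ext x
  rw [mem_II, JJ, RingHom.mem_ker, WittVector.constantCoeff_apply]
  constructor
  · intro h; exact h 0 (by omega)
  · intro h i hi
    have : i = 0 := by omega
    rw [this, h]

lemma II_nil (hpn : IsNilpotent (p : R)) (n : ℕ) : ∃ N, II p R 1 ^ N ≤ II p R n := by
  obtain ⟨M, hM⟩ := hpn
  refine ⟨n + M + 1, ?_⟩
  rw [II_one_eq, JJ_pow_succ]
  have h1 : (p : WittVector p R) ^ (n + M) ∈ II p R n := by
    rw [mem_II]
    intro i hi
    have h2 := coeff_p_pow p R (n + M) i (by omega)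
    have h3 : (p : R) ^ (n + M - i) = 0 := by
      have : n + M - i = M + (n - i) := by omega
      rw [this, pow_add, hM, zero_mul]
    rw [h3] at h2
    exact zero_dvd_iff.mp h2
  refine Ideal.mul_le_left.trans ?_
  rw [Ideal.span_singleton_le_iff_mem]
  exact h1

end Groth.Agent.Lib.Helper95.WittTruncProj
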