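import Mathlib
import Groth.Agent.Lib.Helper95.ProjLift
import Groth.Agent.Lib.Helper95.WittTruncProj

set_option autoImplicit false

universe u

namespace Groth.Agent.Lib.Helper95.WittProjLift

open Groth.Agent.Lib.Helper95.MatIdem Groth.Agent.Lib.Helper95.ProjLift
  Groth.Agent.Lib.Helper95.WittTruncProj Groth.Agent.Lib.Helper95.WittComplete

variable (p : ℕ) [hp : Fact p.Prime] {S R : Type u} [CommRing S] [CommRing R]

lemma isAdicComplete_of_isNilpotent (hpn : IsNilpotent (p : S)) :
    IsAdicComplete (Ideal.span {(p : S)}) S := by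
  obtain ⟨M, hM⟩ := hpn
  have hbot : ∀ n, M ≤ n → (Ideal.span {(p : S)} ^ n • ⊤ : Submodule S S) = ⊥ := by
    intro n hn
    rw [smul_eq_mul, Ideal.mul_top, Ideal.span_singleton_pow,
      show n = M + (n - M) by omega, pow_add, hM, zero_mul]
    simp
  refine { haus' := ?_, prec' := ?_ }
  · intro x hx
    have := hx M
    rw [hbot M le_rfl, SModEq.zero, Submodule.mem_bot] at this
    exact this
  · intro f hf
    refine ⟨f M, fun n => ?_⟩
    rcases le_total n M with h | h
    · exact hf h
    · have := hf h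
      rw [hbot M le_rfl, SModEq.bot] at this
      rw [this]

lemma ker_map_le_jacobson (φ : S →+* R) (hnil : ∀ a : S, φ a = 0 → IsNilpotent a)
    (hpn : IsNilpotent (p : S)) :
    RingHom.ker (WittVector.map (p := p) φ) ≤ Ideal.jacobson ⊥ := by
  have hc : IsAdicComplete (Ideal.span {(p : S)}) S := isAdicComplete_of_isNilpotent p hpn
  have hJ : IsAdicComplete (JJ p S) (WittVector p S) := isAdicComplete_JJ p S
  have hJjac : JJ p S ≤ Ideal.jacobson ⊥ := IsAdicComplete.le_jacobson_bot (JJ p S)
  intro x hx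
  rw [Ideal.mem_jacobson_bot]
  intro y
  set z := x * y + 1 with hz
  have hx0 : IsNilpotent (x.coeff 0) := by
    apply hnil
    have := congrArg (fun w => w.coeff 0) (RingHom.mem_ker.mp hx)
    simpa [WittVector.map_coeff] using this
  have hz0 : IsUnit (z.coeff 0) := by
    have h1 : z.coeff 0 = x.coeff 0 * y.coeff 0 + 1 := by
      rw [hz, WittVector.add_coeff_zero, WittVector.mul_coeff_zero, WittVector.one_coeff_zero]
    rw [h1]
    exact IsNilpotent.isUnit_add_one ((Commute.all _ _).isNilpotent_mul_right hx0)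
  obtain ⟨u, hu⟩ := hz0.exists_right_inv
  set w := WittVector.teichmuller p u with hw
  have h2 : z * w - 1 ∈ JJ p S := by
    rw [JJ, RingHom.mem_ker, map_sub, map_mul, map_one, WittVector.constantCoeff_apply,
      WittVector.constantCoeff_apply, hw, WittVector.teichmuller_coeff_zero, hu, sub_self]
  have h3 := (Ideal.mem_jacobson_bot.mp (hJjac h2)) 1
  rw [mul_one, sub_add_cancel] at h3
  exact isUnit_of_mul_isUnit_left h3


lemma map_mem_II (φ : S →+* R) (n : ℕ) (x : WittVector p S) (hx : x ∈ II p S n) :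
    WittVector.map φ x ∈ II p R n := by
  rw [mem_II] at hx ⊢
  intro i hi
  rw [WittVector.map_coeff, hx i hi, map_zero]

lemma ker_map_closed (φ : S →+* R) (x : WittVector p S)
    (hx : ∀ n, ∃ j ∈ RingHom.ker (WittVector.map (p := p) φ), x - j ∈ II p S n) :
    x ∈ RingHom.ker (WittVector.map (p := p) φ) := by
  rw [RingHom.mem_ker]
  apply II_sep p R
  intro n
  obtain ⟨j, hj, hxj⟩ := hx n
  have h1 := map_mem_II p φ n _ hxj
  rwa [map_sub, RingHom.mem_ker.mp hj, sub_zero] at h1

lemma top_nilpotent (φ : S →+* R) (hnil : ∀ a : S, φ a = 0 → IsNilpotent a)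
    (hpn : IsNilpotent (p : S)) {r : ℕ} (D : Matrix (Fin r) (Fin r) (WittVector p S))
    (hD : D ∈ matIdeal (RingHom.ker (WittVector.map (p := p) φ))) (n : ℕ) :
    ∃ N, D ^ N ∈ matIdeal (II p S n) := by
  set cc : WittVector p S →+* S := WittVector.constantCoeff with hcc
  have h1 : ∀ i j, IsNilpotent ((cc.mapMatrix D) i j) := by
    intro i j
    apply hnil
    have := congrArg (fun w => w.coeff 0) (RingHom.mem_ker.mp (hD i j))
    simpa [WittVector.map_coeff, hcc, RingHom.mapMatrix_apply] using this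
  obtain ⟨m, hm⟩ := exists_pow_eq_zero_of_nilpotent_entries _ h1
  have h2 : D ^ m ∈ matIdeal (II p S 1) := by
    intro i j
    rw [II_one_eq, JJ, RingHom.mem_ker]
    have h3 : cc.mapMatrix (D ^ m) = 0 := by rw [map_pow, hm]
    have := congrFun (congrFun h3 i) j
    simpa [RingHom.mapMatrix_apply, hcc] using this
  obtain ⟨N, hN⟩ := II_nil p S hpn n
  refine ⟨m * N, ?_⟩
  rw [pow_mul]
  exact matIdeal_mono hN _ (matIdeal_pow _ _ h2 N)

theorem witt_idem (φ : S →+* R) (hnil : ∀ a : S, φ a = 0 → IsNilpotent a)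
    (hpn : IsNilpotent (p : S)) (r : ℕ) (X₀ : Matrix (Fin r) (Fin r) (WittVector p S))
    (hd : X₀ ^ 2 - X₀ ∈ matIdeal (RingHom.ker (WittVector.map (p := p) φ))) :
    ∃ X : Matrix (Fin r) (Fin r) (WittVector p S),
      X * X = X ∧ X - X₀ ∈ matIdeal (RingHom.ker (WittVector.map (p := p) φ)) :=
  exists_idempotent_matrix (II p S) (II_sep p S) (II_complete p S) _ (ker_map_closed p φ) X₀ hd
    (top_nilpotent p φ hnil hpn _ hd)

theorem main (φ : S →+* R) (hφ : Function.Surjective φ)
    (hnil : ∀ a : S, φ a = 0 → IsNilpotent a) (hpn : IsNilpotent (p : S))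
    (P : Type u) [AddCommGroup P] [Module (WittVector p R) P]
    [Module.Finite (WittVector p R) P] [Module.Projective (WittVector p R) P] :
    (∃ (P' : Type u) (_ : AddCommGroup P') (_ : Module (WittVector p S) P'),
        Module.Finite (WittVector p S) P' ∧ Module.Projective (WittVector p S) P' ∧
          ∃ π : P' →ₛₗ[WittVector.map (p := p) φ] P, Function.Surjective π ∧
            LinearMap.ker π = RingHom.ker (WittVector.map (p := p) φ) •
              (⊤ : Submodule (WittVector p S) P')) ∧
      ∀ (P₁ : Type u) [AddCommGroup P₁] [Module (WittVector p S) P₁]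
        [Module.Finite (WittVector p S) P₁] [Module.Projective (WittVector p S) P₁]
        (P₂ : Type u) [AddCommGroup P₂] [Module (WittVector p S) P₂]
        [Module.Finite (WittVector p S) P₂] [Module.Projective (WittVector p S) P₂]
        (π₁ : P₁ →ₛₗ[WittVector.map (p := p) φ] P) (π₂ : P₂ →ₛₗ[WittVector.map (p := p) φ] P),
        Function.Surjective π₁ →
          LinearMap.ker π₁ = RingHom.ker (WittVector.map (p := p) φ) •
            (⊤ : Submodule (WittVector p S) P₁) →
        Function.Surjective π₂ →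
          LinearMap.ker π₂ = RingHom.ker (WittVector.map (p := p) φ) •
            (⊤ : Submodule (WittVector p S) P₂) →
        ∃ e : P₁ ≃ₗ[WittVector p S] P₂, ∀ x : P₁, π₂ (e x) = π₁ x := by
  refine ⟨exists_lift_projective _ (WittVector.map_surjective φ hφ)
    (witt_idem p φ hnil hpn) P, ?_⟩
  intro P₁ _ _ _ _ P₂ _ _ _ _ π₁ π₂ h1 h2 h3 h4
  exact lift_unique _ (ker_map_le_jacobson p φ hnil hpn) P P₁ P₂ π₁ π₂ h1 h2 h3 h4

end Groth.Agent.Lib.Helper95.WittProjLift
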